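import Mathlib
set_option autoImplicit false
universe u v
open scoped TensorProduct

namespace Groth.Agent.H91.MvPolyStdSmooth

/-- The tautological submersive presentation of a polynomial algebra: generators the variables, no relations. -/
noncomputable def subPres (R : Type u) [CommRing R] (ι : Type v) [Finite ι] :
    Algebra.SubmersivePresentation R (MvPolynomial ι R) ι PEmpty.{1} where
  toGenerators := Algebra.Generators.mvPolynomial R ι
  relation := PEmpty.elim
  span_range_relation_eq_ker := by
    have h1 : Set.range (PEmpty.elim : PEmpty.{1} → (Algebra.Generators.mvPolynomial R ι).Ring) = ∅ :=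
      Set.range_eq_empty _
    rw [h1, Ideal.span_empty]
    rw [Algebra.Generators.ker_eq_ker_aeval_val]
    symm
    rw [eq_bot_iff]
    intro x hx
    rw [RingHom.mem_ker] at hx
    simpa [Algebra.Generators.mvPolynomial] using hx
  map := PEmpty.elim
  map_inj := fun a => a.elim
  jacobian_isUnit := by
    classical
    rw [Algebra.PreSubmersivePresentation.jacobian_eq_jacobiMatrix_det]
    simp

instance (R : Type u) [CommRing R] (n : ℕ) :
    Algebra.IsStandardSmoothOfRelativeDimension n R (MvPolynomial (Fin n) R) :=
  (subPres R (Fin n)).isStandardSmoothOfRelativeDimension (by simp [Algebra.Presentation.dimension])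

end Groth.Agent.H91.MvPolyStdSmooth
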