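import Groth.Prelude.Def_EtGm
import Mathlib

/-!
Local surjectivity on the small étale site via standard étale covers.
-/

set_option autoImplicit false
universe u
open CategoryTheory CategoryTheory.Limits AlgebraicGeometry Opposite Polynomial

namespace Groth.Agent.H91

/-- Epi criterion on the small étale site: a morphism of abelian sheaves is an epimorphism as soon
as every section lifts étale-locally around every point. -/
lemma epi_of_forall_exists_lift {X : Scheme.{u}} {F G : EtCoh.Ab X} (φ : F ⟶ G)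
    (H : ∀ (U : X.Etale) (s : ToType (G.obj.obj (op U))) (x : U.left),
      ∃ (V : X.Etale) (g : V ⟶ U) (v : V.left), g.left v = x ∧
        ∃ t : ToType (F.obj.obj (op V)), φ.hom.app (op V) t = G.obj.map g.op s) : Epi φ := by
  have : Sheaf.IsLocallySurjective φ := by
    refine ⟨fun {U} s => ?_⟩
    have eX : X.smallEtaleTopology =
        (X.smallPretopology (P := @Etale) (Q := @Etale)).toGrothendieck :=
      Scheme.smallGrothendieckTopology_eq_toGrothendieck_smallPretopology X le_rfl
    have key : ∀ S : Sieve U, S ∈ (X.smallPretopology (P := @Etale) (Q := @Etale)).toGrothendieck U →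
        S ∈ X.smallEtaleTopology U := by
      intro S hS
      rw [eX]
      exact hS
    apply key
    refine (Scheme.mem_toGrothendieck_smallPretopology U _).2 ?_
    intro x
    obtain ⟨V, g, v, hv, t, ht⟩ := H U s x
    exact ⟨V, g, v, ⟨t, ht⟩, inferInstance, hv⟩
  infer_instance

/-- An affine chart around a point of an étale `X`-scheme. -/
lemma exists_affine_chart {X : Scheme.{u}} (U : X.Etale) (x : U.left) :
    ∃ (A : CommRingCat.{u}) (ι : Spec A ⟶ U.left) (_ : IsOpenImmersion ι) (x₀ : Spec A),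
      ι x₀ = x := by
  obtain ⟨i, x₀, hx₀⟩ := U.left.affineCover.exists_eq x
  exact ⟨_, U.left.affineCover.f i, U.left.affineCover.map_prop i, x₀, hx₀⟩

/-- A prime of a standard étale algebra `A[X]/(f)` (with `f` of positive degree) over any given
prime of `A`. -/
lemma exists_prime_standardEtalePair {A : Type u} [CommRing A] (P : StandardEtalePair A)
    (hg : P.g = 1) (hdeg : P.f.natDegree ≠ 0) (x₀ : PrimeSpectrum A) :
    ∃ v : PrimeSpectrum P.Ring, PrimeSpectrum.comap (algebraMap A P.Ring) v = x₀ := by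
  let κ := x₀.asIdeal.ResidueField
  let L := AlgebraicClosure κ
  have hmon : (P.f.map (algebraMap A L)).Monic := P.monic_f.map _
  have hdeg' : (P.f.map (algebraMap A L)).degree ≠ 0 := by
    rw [Polynomial.degree_eq_natDegree hmon.ne_zero, P.monic_f.natDegree_map]
    exact_mod_cast hdeg
  obtain ⟨r, hr⟩ := IsAlgClosed.exists_root _ hdeg'
  have hmap : P.HasMap r := by
    refine ⟨?_, ?_⟩
    · rw [Polynomial.aeval_def, Polynomial.eval₂_eq_eval_map]
      exact hr
    · rw [hg]
      simp
  let ψ : P.Ring →ₐ[A] L := P.lift r hmap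
  refine ⟨⟨RingHom.ker ψ.toRingHom, RingHom.ker_isPrime _⟩, ?_⟩
  apply PrimeSpectrum.ext
  ext a
  change ψ.toRingHom (algebraMap A P.Ring a) = 0 ↔ a ∈ x₀.asIdeal
  rw [AlgHom.toRingHom_eq_coe, RingHom.coe_coe, AlgHom.commutes,
    IsScalarTower.algebraMap_apply A κ L, map_eq_zero, Ideal.algebraMap_residueField_eq_zero]

/-- Standard étale neighbourhoods in the small étale site: given an affine chart `ι : Spec A ⟶ U`
and a standard étale pair `(f, 1)` over `A` with `f` of positive degree, the scheme
`Spec (A[X]/(f))` is an étale neighbourhood of every point in the chart. -/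
lemma exists_etale_nbhd_of_standardEtalePair {X : Scheme.{u}} (U : X.Etale) {A : CommRingCat.{u}}
    (ι : Spec A ⟶ U.left) [IsOpenImmersion ι] (x₀ : Spec A) (P : StandardEtalePair A)
    (hg : P.g = 1) (hdeg : P.f.natDegree ≠ 0) :
    ∃ (V : X.Etale) (g : V ⟶ U) (v : V.left) (e : Γ(V.left, ⊤) ≅ CommRingCat.of P.Ring),
      g.left v = ι x₀ ∧
      g.left.appTop ≫ e.hom =
        ι.appTop ≫ (Scheme.ΓSpecIso A).hom ≫ CommRingCat.ofHom (algebraMap A P.Ring) := by
  let φ : A ⟶ CommRingCat.of P.Ring := CommRingCat.ofHom (algebraMap A P.Ring)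
  have hφ : Etale (Spec.map φ) := by
    rw [HasRingHomProperty.Spec_iff (P := @Etale)]
    exact RingHom.etale_algebraMap.mpr inferInstance
  let V : X.Etale := Scheme.Etale.mk (Spec.map φ ≫ ι ≫ U.hom)
  let g : V ⟶ U := MorphismProperty.Over.homMk (Spec.map φ ≫ ι) (Category.assoc _ _ _)
  obtain ⟨v, hv⟩ := exists_prime_standardEtalePair P hg hdeg x₀
  refine ⟨V, g, v, Scheme.ΓSpecIso (CommRingCat.of P.Ring), ?_, ?_⟩
  · change (Spec.map φ ≫ ι) v = ι x₀
    rw [Scheme.Hom.comp_apply]
    congr 1
  · change (Spec.map φ ≫ ι).appTop ≫ _ = _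
    rw [Scheme.Hom.comp_appTop, Category.assoc, Scheme.ΓSpecIso_naturality]

/-- Sections of `n • 𝟙 F`. -/
lemma nsmul_id_app {X : Scheme.{u}} (F : EtCoh.Ab X) (n : ℕ) (W : X.Etaleᵒᵖ)
    (t : ToType (F.obj.obj W)) :
    (n • 𝟙 F : F ⟶ F).hom.app W t = n • t := by
  induction n with
  | zero =>
    rw [zero_smul, zero_smul]
    rfl
  | succ k ih =>
    rw [succ_nsmul, succ_nsmul, ← ih]
    rfl

end Groth.Agent.H91
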