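import Mathlib
import Groth.Prelude.Def_Smoothing
import Groth.Agent.H47.FSSep

/-!
# A formally smooth (= separable) field extension is ind-smooth (helper91)
-/

set_option autoImplicit false
universe u

namespace Groth.Agent.H91.SepInd

open Smoothing

theorem indSmooth_of_formallySmooth_field {k F : Type u} [Field k] [Field F] [Algebra k F]
    [Algebra.FormallySmooth k F] : Smoothing.IndSmooth k F := by
  intro A _ _ hfp f
  let p : Ideal A := RingHom.ker f.toRingHom
  haveI hp : p.IsPrime := RingHom.ker_isPrime f.toRingHom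
  let fD : (A ⧸ p) →ₐ[k] F := Ideal.Quotient.liftₐ p f (fun a ha => ha)
  have hfD : Function.Injective fD := by
    rw [injective_iff_map_eq_zero]
    intro z hz
    obtain ⟨a, rfl⟩ := Ideal.Quotient.mk_surjective z
    rw [Ideal.Quotient.eq_zero_iff_mem]
    exact hz
  haveI : Algebra.FinitePresentation k (A ⧸ p) :=
    Algebra.FinitePresentation.of_finiteType.mp inferInstance
  haveI hbot : (⊥ : Ideal (A ⧸ p)).IsPrime := Ideal.isPrime_bot
  haveI : IsFractionRing (A ⧸ p) (Localization.AtPrime (⊥ : Ideal (A ⧸ p))) := by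
    simpa [Ideal.primeCompl_bot] using
      Localization.isLocalization (M := (⊥ : Ideal (A ⧸ p)).primeCompl)
  letI : Field (Localization.AtPrime (⊥ : Ideal (A ⧸ p))) := IsFractionRing.toField (A ⧸ p)
  let g : Localization.AtPrime (⊥ : Ideal (A ⧸ p)) →ₐ[k] F := IsFractionRing.liftAlgHom (g := fD) hfD
  haveI : Algebra.IsGeometricallyReduced k F :=
    Groth.Agent.H47.formallySmooth_field_iff_isGeometricallyReduced.mp inferInstance
  haveI : Algebra.IsGeometricallyReduced k (Localization.AtPrime (⊥ : Ideal (A ⧸ p))) :=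
    Algebra.IsGeometricallyReduced.of_injective g g.toRingHom.injective
  haveI : Algebra.FormallySmooth k (Localization.AtPrime (⊥ : Ideal (A ⧸ p))) :=
    Groth.Agent.H47.formallySmooth_field_iff_isGeometricallyReduced.mpr inferInstance
  haveI : Algebra.IsSmoothAt k (⊥ : Ideal (A ⧸ p)) := ‹_›
  obtain ⟨f₀, hf₀, hsm⟩ := Algebra.IsSmoothAt.exists_notMem_smooth k (⊥ : Ideal (A ⧸ p))
  have hunit : ∀ y : Submonoid.powers f₀, IsUnit (fD y) := by
    rintro ⟨_, n, rfl⟩
    refine IsUnit.mk0 _ ?_
    simp only [map_pow]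
    refine pow_ne_zero n ?_
    intro h0
    apply hf₀
    rw [Ideal.mem_bot]
    exact hfD (by rw [h0, map_zero])
  let h : Localization.Away f₀ →ₐ[k] F := IsLocalization.liftAlgHom (M := Submonoid.powers f₀) hunit
  refine ⟨Localization.Away f₀, inferInstance, inferInstance, hsm,
    (IsScalarTower.toAlgHom k (A ⧸ p) (Localization.Away f₀)).comp (Ideal.Quotient.mkₐ k p), h, ?_⟩
  apply AlgHom.ext
  intro a
  simp only [AlgHom.comp_apply, h, IsScalarTower.coe_toAlgHom', Ideal.Quotient.mkₐ_eq_mk,
    IsLocalization.liftAlgHom_apply, IsLocalization.lift_eq]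
  rfl

end Groth.Agent.H91.SepInd
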