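import Mathlib

/-!
# Lift once: the core construction

Given `φ : A → Λ` with `A = R[x]/ker f`, a smooth `R`-algebra `B₁` with `χ : B₁ → Λ` and elements
`b i ∈ B₁` such that the relations of `A` hold for `b` modulo `I B₁` and `φ (x i) - χ (b i)` is an
explicit `I`-combination, produce `B = B₁[δ]` smooth, `J ≤ I B` f.g. and `A → B/J → Λ`.
-/

set_option autoImplicit false
universe u

open MvPolynomial

namespace Groth.Agent.H91.LiftOnce

variable {R Λ A B₁ : Type u} [CommRing R] [CommRing Λ] [CommRing A] [CommRing B₁]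
  [Algebra R Λ] [Algebra R A] [Algebra R B₁]

section core

variable (I : Ideal R) (φ : A →ₐ[R] Λ) (χ : B₁ →ₐ[R] Λ) {n : ℕ}
  (f : MvPolynomial (Fin n) R →ₐ[R] A) (b : Fin n → B₁)
  (S : Finset Λ) (ε : Fin n → Λ → R)

/-- the polynomial ring `B₁[δ]` -/
abbrev BB : Type u := MvPolynomial (Fin n × S) B₁

/-- the corrected elements -/
noncomputable def b' (i : Fin n) : BB (B₁ := B₁) (n := n) S :=
  C (b i) + ∑ s : S, C (algebraMap R B₁ (ε i s.1)) * X (i, s)

/-- the map `B₁[δ] → Λ` -/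
noncomputable def k' : BB (B₁ := B₁) (n := n) S →ₐ[R] Λ :=
  { MvPolynomial.eval₂Hom χ.toRingHom (fun p : Fin n × S => (p.2.1 : Λ)) with
    commutes' := fun r => by
      change MvPolynomial.eval₂Hom χ.toRingHom (fun p : Fin n × S => (p.2.1 : Λ))
        (algebraMap R (MvPolynomial (Fin n × S) B₁) r) = _
      rw [IsScalarTower.algebraMap_apply R B₁ (MvPolynomial (Fin n × S) B₁),
        MvPolynomial.algebraMap_eq, MvPolynomial.coe_eval₂Hom, MvPolynomial.eval₂_C]
      exact χ.commutes r }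

lemma k'_C (x : B₁) : k' (n := n) χ S (C x) = χ x := by
  change MvPolynomial.eval₂Hom χ.toRingHom (fun p : Fin n × S => (p.2.1 : Λ)) (C x) = _
  rw [MvPolynomial.coe_eval₂Hom, MvPolynomial.eval₂_C]
  rfl

lemma k'_X (p : Fin n × S) : k' (n := n) χ S (X p) = (p.2.1 : Λ) := by
  change MvPolynomial.eval₂Hom χ.toRingHom (fun p : Fin n × S => (p.2.1 : Λ)) (X p) = _
  rw [MvPolynomial.coe_eval₂Hom, MvPolynomial.eval₂_X]

lemma k'_b' (i : Fin n) :
    k' (n := n) χ S (b' b S ε i) = χ (b i) + ∑ s : S, algebraMap R Λ (ε i s.1) * s.1 := by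
  unfold b'
  rw [map_add, map_sum, k'_C]
  congr 1
  apply Finset.sum_congr rfl
  intro s _
  rw [map_mul, k'_C, k'_X, AlgHom.commutes]

variable (hφ : ∀ i, φ (f (X i)) = χ (b i) + ∑ s : S, algebraMap R Λ (ε i s.1) * s.1)

include hφ in
lemma k'_comp_aeval : (k' (n := n) χ S).comp (aeval (b' b S ε)) = φ.comp f := by
  apply MvPolynomial.algHom_ext
  intro i
  rw [AlgHom.comp_apply, aeval_X, k'_b', AlgHom.comp_apply, hφ]

/-- the ideal `J` -/
noncomputable def J : Ideal (BB (B₁ := B₁) (n := n) S) :=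
  (RingHom.ker f.toRingHom).map (aeval (R := R) (b' b S ε)).toRingHom

lemma J_fg (hfg : (RingHom.ker f.toRingHom).FG) : (J f b S ε).FG :=
  hfg.map _

include hφ in
lemma J_le_ker : J f b S ε ≤ RingHom.ker (k' (n := n) χ S).toRingHom := by
  unfold J
  rw [Ideal.map_le_iff_le_comap]
  intro q hq
  rw [Ideal.mem_comap, RingHom.mem_ker]
  change (k' (n := n) χ S).comp (aeval (b' b S ε)) q = 0
  rw [k'_comp_aeval φ χ f b S ε hφ, AlgHom.comp_apply]
  have : f q = 0 := hq
  rw [this, map_zero]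

variable (hε : ∀ i s, ε i s ∈ I)
  (hb : ∀ q ∈ RingHom.ker f.toRingHom, aeval b q ∈ I.map (algebraMap R B₁))

include hε in
lemma b'_sub_mem (i : Fin n) :
    b' b S ε i - C (b i) ∈ I.map (algebraMap R (BB (B₁ := B₁) (n := n) S)) := by
  unfold b'
  rw [add_sub_cancel_left]
  apply Ideal.sum_mem
  intro s _
  apply Ideal.mul_mem_right
  have : (C (algebraMap R B₁ (ε i s.1)) : BB (B₁ := B₁) (n := n) S) =
      algebraMap R (BB (B₁ := B₁) (n := n) S) (ε i s.1) := by
    rw [IsScalarTower.algebraMap_apply R B₁ (MvPolynomial (Fin n × S) B₁),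
      MvPolynomial.algebraMap_eq]
  rw [this]
  exact Ideal.mem_map_of_mem _ (hε i s.1)

include hε hb in
lemma J_le : J f b S ε ≤ I.map (algebraMap R (BB (B₁ := B₁) (n := n) S)) := by
  unfold J
  rw [Ideal.map_le_iff_le_comap]
  intro q hq
  rw [Ideal.mem_comap]
  set IB := I.map (algebraMap R (BB (B₁ := B₁) (n := n) S)) with hIB
  have h1 : (Ideal.Quotient.mkₐ R IB).comp (aeval (R := R) (b' b S ε)) =
      (Ideal.Quotient.mkₐ R IB).comp
        ((IsScalarTower.toAlgHom R B₁ (BB (B₁ := B₁) (n := n) S)).comp (aeval (R := R) b)) := by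
    apply MvPolynomial.algHom_ext
    intro i
    simp only [AlgHom.comp_apply, aeval_X]
    rw [Ideal.Quotient.mkₐ_eq_mk, Ideal.Quotient.eq]
    exact b'_sub_mem I b S ε hε i
  have h2 := congrArg (fun ψ => ψ q) h1
  simp only [AlgHom.comp_apply] at h2
  rw [Ideal.Quotient.mkₐ_eq_mk, Ideal.Quotient.eq] at h2
  have h3 : (IsScalarTower.toAlgHom R B₁ (BB (B₁ := B₁) (n := n) S)) (aeval (R := R) b q) ∈ IB := by
    have := Ideal.mem_map_of_mem (algebraMap B₁ (BB (B₁ := B₁) (n := n) S)) (hb q hq)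
    rw [Ideal.map_map, ← IsScalarTower.algebraMap_eq] at this
    exact this
  have h4 := IB.add_mem h2 h3
  rwa [sub_add_cancel] at h4

variable (hf : Function.Surjective f)

/-- the map `A → B/J` -/
noncomputable def gg : A →ₐ[R] (BB (B₁ := B₁) (n := n) S ⧸ J f b S ε) :=
  (Ideal.Quotient.liftₐ (RingHom.ker f.toRingHom)
    ((Ideal.Quotient.mkₐ R (J f b S ε)).comp (aeval (R := R) (b' b S ε)))
    (fun q hq => by
      rw [AlgHom.comp_apply, Ideal.Quotient.mkₐ_eq_mk, Ideal.Quotient.eq_zero_iff_mem]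
      exact Ideal.mem_map_of_mem _ hq)).comp
    (Ideal.quotientKerAlgEquivOfSurjective hf).symm.toAlgHom

lemma gg_f (q : MvPolynomial (Fin n) R) :
    gg f b S ε hf (f q) = Ideal.Quotient.mk (J f b S ε) (aeval (R := R) (b' b S ε) q) := by
  have h1 : (Ideal.quotientKerAlgEquivOfSurjective hf).symm (f q) =
      Ideal.Quotient.mk (RingHom.ker f.toRingHom) q := by
    rw [AlgEquiv.symm_apply_eq]
    rfl
  unfold gg
  rw [AlgHom.comp_apply]
  change (Ideal.Quotient.liftₐ (RingHom.ker f.toRingHom) _ _)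
      ((Ideal.quotientKerAlgEquivOfSurjective hf).symm (f q)) = _
  rw [h1]
  rfl

include hφ in
/-- the map `B/J → Λ` -/
noncomputable def kk : (BB (B₁ := B₁) (n := n) S ⧸ J f b S ε) →ₐ[R] Λ :=
  Ideal.Quotient.liftₐ (J f b S ε) (k' (n := n) χ S)
    (fun x hx => J_le_ker φ χ f b S ε hφ hx)

include hφ in
lemma kk_comp_gg : (kk φ χ f b S ε hφ).comp (gg f b S ε hf) = φ := by
  ext a
  obtain ⟨q, rfl⟩ := hf a
  rw [AlgHom.comp_apply, gg_f]
  change k' (n := n) χ S (aeval (R := R) (b' b S ε) q) = _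
  have := congrArg (fun ψ => ψ q) (k'_comp_aeval φ χ f b S ε hφ)
  simpa only [AlgHom.comp_apply] using this

end core

end Groth.Agent.H91.LiftOnce
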