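import Mathlib

/-!
# Lifting standard smooth algebras along a surjection with nilpotent kernel

`R → R₀` surjective with nilpotent kernel `I`, `B₀` standard smooth over `R₀`.  Lifting the relations
of a submersive presentation gives a standard smooth `R`-algebra `B₁` with a surjection `B₁ → B₀`
whose kernel is `I B₁`.
-/

set_option autoImplicit false
universe u

open MvPolynomial

namespace Groth.Agent.H91.LiftStd

variable {R R₀ B₀ : Type u} [CommRing R] [CommRing R₀] [CommRing B₀]
  [Algebra R R₀] [Algebra R₀ B₀] [Algebra R B₀] [IsScalarTower R R₀ B₀]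

section
variable {ι σ : Type} [Finite ι] [Finite σ] (P : Algebra.SubmersivePresentation R₀ B₀ ι σ)
  (f : σ → MvPolynomial ι R)

/-- the lifted algebra -/
abbrev B1 : Type u := MvPolynomial ι R ⧸ Ideal.span (Set.range f)

variable (hf : ∀ j, MvPolynomial.map (algebraMap R R₀) (f j) = P.relation j)

lemma aeval_val_eq (q : MvPolynomial ι R) :
    aeval P.val q = aeval (R := R₀) P.val (MvPolynomial.map (algebraMap R R₀) q) :=
  (MvPolynomial.aeval_map_algebraMap (R := R) (A := R₀) (B := B₀) P.val q).symm

include hf in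
lemma aeval_f (j : σ) : aeval (R := R) P.val (f j) = 0 := by
  rw [aeval_val_eq, hf]
  exact P.aeval_val_relation j

include hf in
/-- the map `B₁ → B₀` -/
noncomputable def toB0 : B1 f →ₐ[R] B₀ :=
  Ideal.Quotient.liftₐ _ (aeval (R := R) P.val) (by
    intro a ha
    have : Ideal.span (Set.range f) ≤ RingHom.ker (aeval (R := R) P.val).toRingHom := by
      rw [Ideal.span_le]
      rintro _ ⟨j, rfl⟩
      exact aeval_f P f hf j
    exact this ha)

lemma toB0_mk (q : MvPolynomial ι R) :
    toB0 P f hf (Ideal.Quotient.mk _ q) = aeval (R := R) P.val q := rfl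

lemma toB0_surjective (hsurj : Function.Surjective (algebraMap R R₀)) :
    Function.Surjective (toB0 P f hf) := by
  intro b
  obtain ⟨q, hq⟩ := MvPolynomial.map_surjective (algebraMap R R₀) hsurj (σ := ι) (P.σ b)
  refine ⟨Ideal.Quotient.mk _ q, ?_⟩
  rw [toB0_mk, aeval_val_eq, hq]
  exact P.aeval_val_σ b

lemma ker_toB0 (hsurj : Function.Surjective (algebraMap R R₀)) :
    RingHom.ker (toB0 P f hf).toRingHom =
      (RingHom.ker (algebraMap R R₀)).map (algebraMap R (B1 f)) := by
  classical
  cases nonempty_fintype σ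
  apply le_antisymm
  · intro z hz
    obtain ⟨q, rfl⟩ := Ideal.Quotient.mk_surjective z
    have hz' : aeval (R := R) P.val q = 0 := hz
    rw [aeval_val_eq] at hz'
    have hmem : MvPolynomial.map (algebraMap R R₀) q ∈ Ideal.span (Set.range P.relation) := by
      rw [P.span_range_relation_eq_ker, Algebra.Generators.ker_eq_ker_aeval_val]
      exact hz'
    obtain ⟨c, hc⟩ := (Ideal.mem_span_range_iff_exists_fun).1 hmem
    choose c' hc' using fun j => MvPolynomial.map_surjective (algebraMap R R₀) hsurj (σ := ι) (c j)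
    have h1 : MvPolynomial.map (algebraMap R R₀) (q - ∑ j, c' j * f j) = 0 := by
      rw [map_sub, map_sum, ← hc, sub_eq_zero]
      apply Finset.sum_congr rfl
      intro j _
      rw [map_mul, hc', hf]
    have h2 : q - ∑ j, c' j * f j ∈ (RingHom.ker (algebraMap R R₀)).map
        (C : R →+* MvPolynomial ι R) := by
      rw [← MvPolynomial.ker_map]
      exact h1
    have h3 : Ideal.Quotient.mk (Ideal.span (Set.range f)) q =
        Ideal.Quotient.mk (Ideal.span (Set.range f)) (q - ∑ j, c' j * f j) := by
      rw [map_sub, map_sum]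
      have : ∀ j, Ideal.Quotient.mk (Ideal.span (Set.range f)) (c' j * f j) = 0 := by
        intro j
        rw [Ideal.Quotient.eq_zero_iff_mem]
        exact Ideal.mul_mem_left _ _ (Ideal.subset_span ⟨j, rfl⟩)
      simp [this]
    rw [h3]
    have h4 := Ideal.mem_map_of_mem (Ideal.Quotient.mk (Ideal.span (Set.range f))) h2
    rw [Ideal.map_map] at h4
    exact h4
  · rw [Ideal.map_le_iff_le_comap]
    intro r hr
    rw [Ideal.mem_comap, RingHom.mem_ker]
    change toB0 P f hf (algebraMap R (B1 f) r) = 0
    rw [AlgHom.commutes, IsScalarTower.algebraMap_apply R R₀ B₀, (RingHom.mem_ker).1 hr, map_zero]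


/-- the naive pre-submersive presentation of the lift -/
noncomputable def preSub : Algebra.PreSubmersivePresentation R (B1 f) ι σ :=
  Algebra.PreSubmersivePresentation.naive (v := f) P.map P.map_inj

lemma toB0_jacobian : toB0 P f hf (preSub P f).jacobian = P.jacobian := by
  classical
  cases nonempty_fintype σ
  rw [(preSub P f).jacobian_eq_jacobiMatrix_det, P.jacobian_eq_jacobiMatrix_det]
  have hmk : ∀ x : MvPolynomial ι R,
      algebraMap (preSub P f).Ring (B1 f) x = Ideal.Quotient.mk _ x := fun x => rfl
  rw [hmk, toB0_mk, P.algebraMap_eq, RingHom.coe_coe, AlgHom.map_det, AlgHom.map_det]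
  congr 1
  ext i j
  simp only [AlgHom.mapMatrix_apply, Matrix.map_apply]
  rw [Algebra.PreSubmersivePresentation.jacobiMatrix_apply,
    Algebra.PreSubmersivePresentation.jacobiMatrix_apply]
  change aeval (R := R) P.val (pderiv (P.map i) (f j)) =
    aeval (R := R₀) P.val (pderiv (P.map i) (P.relation j))
  rw [aeval_val_eq, ← hf, MvPolynomial.pderiv_map]

include hf in
lemma isUnit_jacobian (hsurj : Function.Surjective (algebraMap R R₀))
    (hnil : IsNilpotent (RingHom.ker (algebraMap R R₀))) : IsUnit (preSub P f).jacobian := by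
  have h1 : IsUnit (toB0 P f hf (preSub P f).jacobian) := by
    rw [toB0_jacobian]
    exact P.jacobian_isUnit
  obtain ⟨u, hu⟩ := h1
  obtain ⟨y, hy⟩ := toB0_surjective P f hf hsurj (↑u⁻¹ : B₀)
  have h2 : (preSub P f).jacobian * y - 1 ∈ RingHom.ker (toB0 P f hf).toRingHom := by
    rw [RingHom.mem_ker]
    change toB0 P f hf ((preSub P f).jacobian * y - 1) = 0
    rw [map_sub, map_mul, map_one, hy, ← hu, Units.mul_inv, sub_self]
  have hnil' : IsNilpotent (RingHom.ker (toB0 P f hf).toRingHom) := by
    rw [ker_toB0 P f hf hsurj]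
    obtain ⟨n, hn⟩ := hnil
    refine ⟨n, ?_⟩
    rw [← Ideal.map_pow, hn]
    exact Ideal.map_bot
  have h3 : IsNilpotent ((preSub P f).jacobian * y - 1) := by
    obtain ⟨n, hn⟩ := hnil'
    refine ⟨n, ?_⟩
    have : ((preSub P f).jacobian * y - 1) ^ n ∈ RingHom.ker (toB0 P f hf).toRingHom ^ n :=
      Ideal.pow_mem_pow h2 n
    rw [hn] at this
    exact this
  have h4 : IsUnit ((preSub P f).jacobian * y) := by
    have := h3.isUnit_add_one
    rwa [sub_add_cancel] at this
  exact isUnit_of_mul_isUnit_left h4

include hf in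
/-- the submersive presentation of the lift -/
noncomputable def subPres (hsurj : Function.Surjective (algebraMap R R₀))
    (hnil : IsNilpotent (RingHom.ker (algebraMap R R₀))) :
    Algebra.SubmersivePresentation R (B1 f) ι σ :=
  { toPreSubmersivePresentation := preSub P f
    jacobian_isUnit := isUnit_jacobian P f hf hsurj hnil }

end

/-- Lifting a standard smooth algebra along a surjection with nilpotent kernel. -/
theorem exists_lift_standardSmooth [Algebra.IsStandardSmooth R₀ B₀]
    (hsurj : Function.Surjective (algebraMap R R₀))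
    (hnil : IsNilpotent (RingHom.ker (algebraMap R R₀))) :
    ∃ (B₁ : Type u) (_ : CommRing B₁) (_ : Algebra R B₁), Algebra.IsStandardSmooth R B₁ ∧
      ∃ p : B₁ →ₐ[R] B₀, Function.Surjective p ∧
        RingHom.ker p.toRingHom = (RingHom.ker (algebraMap R R₀)).map (algebraMap R B₁) := by
  obtain ⟨ι, σ, _, _, ⟨P⟩⟩ := (inferInstance : Algebra.IsStandardSmooth R₀ B₀).out
  choose f hf using fun j => MvPolynomial.map_surjective (algebraMap R R₀) hsurj (σ := ι)
    (P.relation j)
  exact ⟨B1 f, inferInstance, inferInstance, (subPres P f hf hsurj hnil).isStandardSmooth,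
    toB0 P f hf, toB0_surjective P f hf hsurj, ker_toB0 P f hf hsurj⟩

end Groth.Agent.H91.LiftStd
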