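import Groth.Agent.H91.StdRetractD

/-!
# A smooth algebra has a smooth retract-cover that is standard smooth (helper91)

`exists_standardSmooth_retract`: if `A` is smooth over `R` there is a smooth `A`-algebra `B` with an
`A`-algebra retraction `B → A` such that `B` is standard smooth over `R`.
-/

set_option autoImplicit false
set_option backward.isDefEq.respectTransparency.types true
universe u
open KaehlerDifferential

namespace Groth.Agent.H91.StdRetract

section Gen

variable {R A : Type u} [CommRing R] [CommRing A] [Algebra R A] {n : ℕ}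

/-- differentials of algebra generators span. -/
theorem span_D_generators (f : MvPolynomial (Fin n) R →ₐ[R] A) (hf : Function.Surjective f) :
    Submodule.span A (Set.range fun i => D R A (f (MvPolynomial.X i))) = ⊤ := by
  rw [eq_top_iff, ← KaehlerDifferential.span_range_derivation, Submodule.span_le]
  rintro _ ⟨x, rfl⟩
  obtain ⟨p, rfl⟩ := hf x
  induction p using MvPolynomial.induction_on with
  | C r =>
    rw [SetLike.mem_coe, ← MvPolynomial.algebraMap_eq, AlgHom.commutes, Derivation.map_algebraMap]
    exact zero_mem _
  | add p q hp hq =>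
    rw [SetLike.mem_coe, map_add, map_add]; exact add_mem hp hq
  | mul_X p i hp =>
    rw [SetLike.mem_coe, map_mul, Derivation.leibniz]
    exact add_mem (Submodule.smul_mem _ _ (Submodule.subset_span ⟨i, rfl⟩))
      (Submodule.smul_mem _ _ hp)

end Gen

section Main

variable {R A : Type u} [CommRing R] [CommRing A] [Algebra R A]

attribute [local instance] algBA

theorem exists_standardSmooth_retract [Algebra.Smooth R A] :
    ∃ (B : Type u) (_ : CommRing B) (_ : Algebra R B) (_ : Algebra A B) (_ : IsScalarTower R A B),
      Algebra.Smooth A B ∧ Nonempty (B →ₐ[A] A) ∧ Algebra.IsStandardSmooth R B := by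
  classical
  obtain ⟨n, f, hf⟩ := Algebra.FiniteType.iff_quotient_mvPolynomial''.mp
    (inferInstance : Algebra.FiniteType R A)
  let a : Fin n → A := fun i => f (MvPolynomial.X i)
  let π : (Fin n → A) →ₗ[A] Ω[A⁄R] := (Pi.basisFun A (Fin n)).constr A fun i => D R A (a i)
  have hπ : ∀ i, π (Pi.single i 1) = D R A (a i) := by
    intro i
    have := (Pi.basisFun A (Fin n)).constr_basis A (fun i => D R A (a i)) i
    rwa [Pi.basisFun_apply] at this
  have hπsurj : Function.Surjective π := by
    rw [← LinearMap.range_eq_top, eq_top_iff, ← span_D_generators f hf, Submodule.span_le]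
    rintro _ ⟨i, rfl⟩
    exact ⟨Pi.single i 1, hπ i⟩
  obtain ⟨s, hs⟩ := Module.projective_lifting_property π LinearMap.id hπsurj
  have hsmA : Algebra.Smooth A (BB π) := smooth_BB π s hs
  have hsmR : Algebra.Smooth R (BB π) := Algebra.Smooth.comp R A (BB π)
  have hfsR : Algebra.FormallySmooth R (BB π) := hsmR.formallySmooth
  have hfin : Module.Finite (BB π) Ω[BB π⁄R] := inferInstance
  obtain ⟨δ, hδ, b, hb⟩ := exists_basis_away (R := R) (B₀ := BB π) (A := A) (cc a π s hs)
    (surjective_BA π) (der π s) (der_cc a π s hs hπ) (top_le_SS a π s hs hπ)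
  let B := Localization.Away δ
  have hsmB : Algebra.Smooth (BB π) B := Algebra.Smooth.of_isLocalization_Away δ
  have hsmAB : Algebra.Smooth A B := Algebra.Smooth.comp A (BB π) B
  have hsmRB : Algebra.Smooth R B := Algebra.Smooth.comp R (BB π) B
  have hfsRB : Algebra.FormallySmooth R B := hsmRB.formallySmooth
  refine ⟨B, inferInstance, inferInstance, inferInstance, inferInstance, hsmAB, ?_, ?_⟩
  · have hu : ∀ y : Submonoid.powers δ, IsUnit (eps π (y : BB π)) := by
      rintro ⟨_, k, rfl⟩
      have : eps π δ = 1 := hδ
      rw [map_pow, this, one_pow]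
      exact isUnit_one
    exact ⟨IsLocalization.liftAlgHom (M := Submonoid.powers δ) (f := eps π) hu⟩
  · refine Algebra.IsStandardSmooth.of_basis_kaehlerDifferential b ?_
    rintro _ ⟨i, rfl⟩
    exact ⟨_, (hb i).symm⟩

end Main

end Groth.Agent.H91.StdRetract
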