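import Mathlib
import Groth.Prelude.Def_Smoothing
import Groth.Agent.H91.LiftStdA
import Groth.Agent.H91.StdRetractE
import Groth.Agent.H91.LiftOnceA

/-!
# Lift once, abstract form

`R → R₀`, `Λ → Λ₀` surjective with kernels `I`, `I Λ`, `I` nilpotent, `Λ₀` ind-smooth over `R₀`.
Any `A → Λ` with `A` f.p. over `R` factors through `B/J`, `B` smooth over `R`, `J ≤ I B` f.g.
-/

set_option autoImplicit false
universe u

open MvPolynomial TensorProduct

namespace Groth.Agent.H91.LiftOnce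

/-- elements of `I Λ` as explicit finite combinations -/
lemma exists_finsupp_of_mem_map {R Λ : Type u} [CommRing R] [CommRing Λ] [Algebra R Λ]
    (I : Ideal R) (x : Λ) (hx : x ∈ I.map (algebraMap R Λ)) :
    ∃ a : Λ →₀ R, (∀ l, a l ∈ I) ∧ (a.sum fun l c => algebraMap R Λ c * l) = x := by
  have h1 : x ∈ I • (⊤ : Submodule R Λ) := by
    rw [Ideal.smul_top_eq_map]
    exact hx
  have h2 : (⊤ : Submodule R Λ) = Submodule.span R (Set.range (id : Λ → Λ)) := by
    rw [Set.range_id, Submodule.span_univ]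
  rw [h2, Submodule.mem_ideal_smul_span_iff_exists_sum] at h1
  obtain ⟨a, ha, hsum⟩ := h1
  refine ⟨a, ha, ?_⟩
  rw [← hsum]
  apply Finsupp.sum_congr
  intro l _
  rw [Algebra.smul_def]
  rfl

/-- a uniform version for finitely many elements -/
lemma exists_uniform_of_mem_map {R Λ : Type u} [CommRing R] [CommRing Λ] [Algebra R Λ]
    (I : Ideal R) {n : ℕ} (x : Fin n → Λ) (hx : ∀ i, x i ∈ I.map (algebraMap R Λ)) :
    ∃ (S : Finset Λ) (ε : Fin n → Λ → R), (∀ i l, ε i l ∈ I) ∧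
      ∀ i, x i = ∑ s : S, algebraMap R Λ (ε i s.1) * s.1 := by
  classical
  choose a ha hsum using fun i => exists_finsupp_of_mem_map I (x i) (hx i)
  refine ⟨Finset.univ.biUnion fun i => (a i).support, fun i l => a i l, ha, ?_⟩
  intro i
  rw [← hsum i, Finsupp.sum]
  rw [Finset.sum_coe_sort (Finset.univ.biUnion fun i => (a i).support)
    (fun l => algebraMap R Λ (a i l) * l)]
  apply Finset.sum_subset
  · intro l hl
    exact Finset.mem_biUnion.2 ⟨i, Finset.mem_univ _, hl⟩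
  · intro l _ hl
    rw [Finsupp.notMem_support_iff.1 hl, map_zero, zero_mul]

variable {R Λ R₀ Λ₀ A : Type u} [CommRing R] [CommRing Λ] [CommRing R₀] [CommRing Λ₀] [CommRing A]
  [Algebra R Λ] [Algebra R R₀] [Algebra R₀ Λ₀] [Algebra Λ Λ₀] [Algebra R Λ₀]
  [IsScalarTower R R₀ Λ₀] [IsScalarTower R Λ Λ₀] [Algebra R A]

theorem exists_data
    (hR : Function.Surjective (algebraMap R R₀))
    (hΛ : Function.Surjective (algebraMap Λ Λ₀))
    (hker : RingHom.ker (algebraMap Λ Λ₀) =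
      (RingHom.ker (algebraMap R R₀)).map (algebraMap R Λ))
    (hnil : IsNilpotent (RingHom.ker (algebraMap R R₀)))
    (hind : Smoothing.IndSmooth R₀ Λ₀)
    [Algebra.FinitePresentation R A] (φ : A →ₐ[R] Λ) {n : ℕ}
    (f : MvPolynomial (Fin n) R →ₐ[R] A) :
    ∃ (B₁ : Type u) (_ : CommRing B₁) (_ : Algebra R B₁), Algebra.Smooth R B₁ ∧
      ∃ (χ : B₁ →ₐ[R] Λ) (b : Fin n → B₁),
        (∀ q ∈ RingHom.ker f.toRingHom,
          aeval b q ∈ (RingHom.ker (algebraMap R R₀)).map (algebraMap R B₁)) ∧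
        ∀ i, φ (f (X i)) - χ (b i) ∈ (RingHom.ker (algebraMap R R₀)).map (algebraMap R Λ) := by
  -- base change of `A`
  let φbar : R₀ ⊗[R] A →ₐ[R₀] Λ₀ :=
    Algebra.TensorProduct.lift (Algebra.ofId R₀ Λ₀) ((IsScalarTower.toAlgHom R Λ Λ₀).comp φ)
      (fun _ _ => Commute.all _ _)
  obtain ⟨Bb, _, _, hsm, gbar, hbar, hcomp⟩ := hind (R₀ ⊗[R] A) inferInstance φbar
  obtain ⟨Bb', _, _, _, _, hsm', ⟨ρ⟩, hstd⟩ :=
    Groth.Agent.H91.StdRetract.exists_standardSmooth_retract (R := R₀) (A := Bb)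
  letI : Algebra R Bb' := ((algebraMap R₀ Bb').comp (algebraMap R R₀)).toAlgebra
  haveI : IsScalarTower R R₀ Bb' := IsScalarTower.of_algebraMap_eq fun _ => rfl
  obtain ⟨B₁, _, _, hstd₁, p, hp, hkerp⟩ :=
    Groth.Agent.H91.LiftStd.exists_lift_standardSmooth (R := R) (R₀ := R₀) (B₀ := Bb') hR hnil
  -- the map `Bb' → Λ₀`
  let τ : Bb' →+* Λ₀ := hbar.toRingHom.comp ρ.toRingHom
  have hτ : ∀ x : R₀, τ (algebraMap R₀ Bb' x) = algebraMap R₀ Λ₀ x := by
    intro x
    change hbar (ρ (algebraMap R₀ Bb' x)) = _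
    rw [IsScalarTower.algebraMap_apply R₀ Bb Bb', AlgHom.commutes]
    change hbar (algebraMap R₀ Bb x) = _
    rw [AlgHom.commutes]
  let χbar : B₁ →ₐ[R] Λ₀ :=
    { τ.comp p.toRingHom with
      commutes' := fun r => by
        change τ (p (algebraMap R B₁ r)) = _
        rw [AlgHom.commutes]
        change τ (algebraMap R₀ Bb' (algebraMap R R₀ r)) = _
        rw [hτ, ← IsScalarTower.algebraMap_apply] }
  have hnilΛ : IsNilpotent (RingHom.ker
      ((IsScalarTower.toAlgHom R Λ Λ₀ : Λ →ₐ[R] Λ₀) : Λ →+* Λ₀)) := by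
    have : RingHom.ker ((IsScalarTower.toAlgHom R Λ Λ₀ : Λ →ₐ[R] Λ₀) : Λ →+* Λ₀) =
        RingHom.ker (algebraMap Λ Λ₀) := rfl
    rw [this, hker]
    obtain ⟨m, hm⟩ := hnil
    refine ⟨m, ?_⟩
    rw [← Ideal.map_pow, hm]
    exact Ideal.map_bot
  haveI : Algebra.Smooth R B₁ := inferInstance
  let χ : B₁ →ₐ[R] Λ := Algebra.FormallySmooth.liftOfSurjective χbar
    (IsScalarTower.toAlgHom R Λ Λ₀) hΛ hnilΛ
  have hχ : ∀ x, algebraMap Λ Λ₀ (χ x) = τ (p x) := fun x =>
    Algebra.FormallySmooth.liftOfSurjective_apply χbar (IsScalarTower.toAlgHom R Λ Λ₀) hΛ hnilΛ x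
  -- the map `A → Bb'`
  let ψ : A →ₐ[R] Bb' :=
    { (algebraMap Bb Bb').comp (gbar.toRingHom.comp
        (Algebra.TensorProduct.includeRight (R := R) (A := R₀) (B := A)).toRingHom) with
      commutes' := fun r => by
        change algebraMap Bb Bb' (gbar ((1 : R₀) ⊗ₜ[R] (algebraMap R A r))) = _
        have h1 : ((1 : R₀) ⊗ₜ[R] (algebraMap R A r) : R₀ ⊗[R] A) =
            algebraMap R₀ (R₀ ⊗[R] A) (algebraMap R R₀ r) := by
          rw [Algebra.TensorProduct.algebraMap_apply, Algebra.algebraMap_self, RingHom.id_apply,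
            Algebra.algebraMap_eq_smul_one r, Algebra.algebraMap_eq_smul_one r,
            TensorProduct.tmul_smul, TensorProduct.smul_tmul']
        rw [h1, AlgHom.commutes, ← IsScalarTower.algebraMap_apply R₀ Bb Bb']
        rfl }
  have hψ : ∀ a, ψ a = algebraMap Bb Bb' (gbar ((1 : R₀) ⊗ₜ[R] a)) := fun a => rfl
  choose b hb using fun i : Fin n => hp (ψ (f (X i)))
  refine ⟨B₁, inferInstance, inferInstance, inferInstance, χ, b, ?_, ?_⟩
  · intro q hq
    rw [← hkerp, RingHom.mem_ker]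
    change p (aeval b q) = 0
    have h1 : p.comp (aeval b) = ψ.comp f := by
      apply MvPolynomial.algHom_ext
      intro i
      rw [AlgHom.comp_apply, aeval_X, hb, AlgHom.comp_apply]
    have h2 := congrArg (fun θ => θ q) h1
    simp only [AlgHom.comp_apply] at h2
    rw [h2]
    have : f q = 0 := hq
    rw [this, map_zero]
  · intro i
    rw [← hker, RingHom.mem_ker, map_sub, hχ, hb, sub_eq_zero, hψ]
    change _ = hbar (ρ (algebraMap Bb Bb' (gbar ((1 : R₀) ⊗ₜ[R] f (X i)))))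
    rw [AlgHom.commutes]
    change _ = hbar (gbar ((1 : R₀) ⊗ₜ[R] f (X i)))
    have h3 := congrArg (fun θ => θ ((1 : R₀) ⊗ₜ[R] f (X i))) hcomp
    simp only [AlgHom.comp_apply] at h3
    rw [h3]
    change _ = Algebra.TensorProduct.lift (Algebra.ofId R₀ Λ₀)
      ((IsScalarTower.toAlgHom R Λ Λ₀).comp φ) _ ((1 : R₀) ⊗ₜ[R] f (X i))
    rw [Algebra.TensorProduct.lift_tmul, map_one, one_mul]
    rfl

/-- Lift once (abstract form). -/
theorem lift_once
    (hR : Function.Surjective (algebraMap R R₀))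
    (hΛ : Function.Surjective (algebraMap Λ Λ₀))
    (hker : RingHom.ker (algebraMap Λ Λ₀) =
      (RingHom.ker (algebraMap R R₀)).map (algebraMap R Λ))
    (hnil : IsNilpotent (RingHom.ker (algebraMap R R₀)))
    (hind : Smoothing.IndSmooth R₀ Λ₀)
    [Algebra.FinitePresentation R A] (φ : A →ₐ[R] Λ) :
    ∃ (B : Type u) (_ : CommRing B) (_ : Algebra R B), Algebra.Smooth R B ∧
      ∃ J : Ideal B, J ≤ (RingHom.ker (algebraMap R R₀)).map (algebraMap R B) ∧ J.FG ∧
        ∃ (g : A →ₐ[R] B ⧸ J) (k : (B ⧸ J) →ₐ[R] Λ), k.comp g = φ := by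
  obtain ⟨n, f, hf, hfg⟩ := Algebra.FinitePresentation.out (R := R) (A := A)
  obtain ⟨B₁, _, _, hsm, χ, b, hb, hx⟩ := exists_data hR hΛ hker hnil hind φ f
  obtain ⟨S, ε, hε, hsum⟩ := exists_uniform_of_mem_map (RingHom.ker (algebraMap R R₀))
    (fun i => φ (f (X i)) - χ (b i)) hx
  have hφ : ∀ i, φ (f (X i)) = χ (b i) + ∑ s : S, algebraMap R Λ (ε i s.1) * s.1 := by
    intro i
    rw [← hsum i]
    ring
  haveI : Algebra.Smooth B₁ (BB (B₁ := B₁) (n := n) S) := {}
  haveI : Algebra.Smooth R (BB (B₁ := B₁) (n := n) S) :=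
    Algebra.Smooth.comp R B₁ (BB (B₁ := B₁) (n := n) S)
  exact ⟨BB (B₁ := B₁) (n := n) S, inferInstance, inferInstance, inferInstance, J f b S ε,
    J_le (RingHom.ker (algebraMap R R₀)) f b S ε hε hb, J_fg f b S ε hfg,
    gg f b S ε hf, kk φ χ f b S ε hφ, kk_comp_gg φ χ f b S ε hφ hf⟩

end Groth.Agent.H91.LiftOnce
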