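import Mathlib
import Groth.Prelude.Def_Smoothing
import Groth.Agent.H91.LiftStdA
import Groth.Agent.H91.StdRetractE
import Groth.Agent.H91.LiftOnceB

/-!
# Lift once: structured data

A structured version of `exists_data`: a smooth `R`-algebra `B₁` with `χ : B₁ → Λ`, a surjection
`p : B₁ → C` with kernel `I B₁` and `θ : A → C` compatible with `φ` modulo `I Λ`.
-/

set_option autoImplicit false
universe u

open MvPolynomial TensorProduct

namespace Groth.Agent.H91.LiftOnce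

variable {R Λ R₀ Λ₀ A : Type u} [CommRing R] [CommRing Λ] [CommRing R₀] [CommRing Λ₀] [CommRing A]
  [Algebra R Λ] [Algebra R R₀] [Algebra R₀ Λ₀] [Algebra Λ Λ₀] [Algebra R Λ₀]
  [IsScalarTower R R₀ Λ₀] [IsScalarTower R Λ Λ₀] [Algebra R A]

theorem exists_data'
    (hR : Function.Surjective (algebraMap R R₀))
    (hΛ : Function.Surjective (algebraMap Λ Λ₀))
    (hker : RingHom.ker (algebraMap Λ Λ₀) =
      (RingHom.ker (algebraMap R R₀)).map (algebraMap R Λ))
    (hnil : IsNilpotent (RingHom.ker (algebraMap R R₀)))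
    (hind : Smoothing.IndSmooth R₀ Λ₀)
    [Algebra.FinitePresentation R A] (φ : A →ₐ[R] Λ) :
    ∃ (B₁ : Type u) (_ : CommRing B₁) (_ : Algebra R B₁), Algebra.Smooth R B₁ ∧
      ∃ (χ : B₁ →ₐ[R] Λ) (C : Type u) (_ : CommRing C) (_ : Algebra R C) (p : B₁ →ₐ[R] C)
        (θ : A →ₐ[R] C), Function.Surjective p ∧
        RingHom.ker p.toRingHom = (RingHom.ker (algebraMap R R₀)).map (algebraMap R B₁) ∧
        ∀ (a : A) (b : B₁), p b = θ a →
          φ a - χ b ∈ (RingHom.ker (algebraMap R R₀)).map (algebraMap R Λ) := by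
  -- base change of `A`
  let φbar : R₀ ⊗[R] A →ₐ[R₀] Λ₀ :=
    Algebra.TensorProduct.lift (Algebra.ofId R₀ Λ₀) ((IsScalarTower.toAlgHom R Λ Λ₀).comp φ)
      (fun _ _ => Commute.all _ _)
  obtain ⟨Bb, _, _, hsm, gbar, hbar, hcomp⟩ := hind (R₀ ⊗[R] A) inferInstance φbar
  obtain ⟨Bb', _, _, _, _, hsm', ⟨ρ⟩, hstd⟩ :=
    Groth.Agent.H91.StdRetract.exists_standardSmooth_retract (R := R₀) (A := Bb)
  letI : Algebra R Bb' := ((algebraMap R₀ Bb').comp (algebraMap R R₀)).toAlgebra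
  haveI : IsScalarTower R R₀ Bb' := IsScalarTower.of_algebraMap_eq fun _ => rfl
  obtain ⟨B₁, _, _, hstd₁, p, hp, hkerp⟩ :=
    Groth.Agent.H91.LiftStd.exists_lift_standardSmooth (R := R) (R₀ := R₀) (B₀ := Bb') hR hnil
  -- the map `Bb' → Λ₀`
  let τ : Bb' →+* Λ₀ := hbar.toRingHom.comp ρ.toRingHom
  have hτ : ∀ x : R₀, τ (algebraMap R₀ Bb' x) = algebraMap R₀ Λ₀ x := by
    intro x
    change hbar (ρ (algebraMap R₀ Bb' x)) = _
    rw [IsScalarTower.algebraMap_apply R₀ Bb Bb', AlgHom.commutes]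
    change hbar (algebraMap R₀ Bb x) = _
    rw [AlgHom.commutes]
  let χbar : B₁ →ₐ[R] Λ₀ :=
    { τ.comp p.toRingHom with
      commutes' := fun r => by
        change τ (p (algebraMap R B₁ r)) = _
        rw [AlgHom.commutes]
        change τ (algebraMap R₀ Bb' (algebraMap R R₀ r)) = _
        rw [hτ, ← IsScalarTower.algebraMap_apply] }
  have hnilΛ : IsNilpotent (RingHom.ker
      ((IsScalarTower.toAlgHom R Λ Λ₀ : Λ →ₐ[R] Λ₀) : Λ →+* Λ₀)) := by
    have : RingHom.ker ((IsScalarTower.toAlgHom R Λ Λ₀ : Λ →ₐ[R] Λ₀) : Λ →+* Λ₀) =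
        RingHom.ker (algebraMap Λ Λ₀) := rfl
    rw [this, hker]
    obtain ⟨m, hm⟩ := hnil
    refine ⟨m, ?_⟩
    rw [← Ideal.map_pow, hm]
    exact Ideal.map_bot
  haveI : Algebra.Smooth R B₁ := inferInstance
  let χ : B₁ →ₐ[R] Λ := Algebra.FormallySmooth.liftOfSurjective χbar
    (IsScalarTower.toAlgHom R Λ Λ₀) hΛ hnilΛ
  have hχ : ∀ x, algebraMap Λ Λ₀ (χ x) = τ (p x) := fun x =>
    Algebra.FormallySmooth.liftOfSurjective_apply χbar (IsScalarTower.toAlgHom R Λ Λ₀) hΛ hnilΛ x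
  -- the map `A → Bb'`
  let ψ : A →ₐ[R] Bb' :=
    { (algebraMap Bb Bb').comp (gbar.toRingHom.comp
        (Algebra.TensorProduct.includeRight (R := R) (A := R₀) (B := A)).toRingHom) with
      commutes' := fun r => by
        change algebraMap Bb Bb' (gbar ((1 : R₀) ⊗ₜ[R] (algebraMap R A r))) = _
        have h1 : ((1 : R₀) ⊗ₜ[R] (algebraMap R A r) : R₀ ⊗[R] A) =
            algebraMap R₀ (R₀ ⊗[R] A) (algebraMap R R₀ r) := by
          rw [Algebra.TensorProduct.algebraMap_apply, Algebra.algebraMap_self, RingHom.id_apply,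
            Algebra.algebraMap_eq_smul_one r, Algebra.algebraMap_eq_smul_one r,
            TensorProduct.tmul_smul, TensorProduct.smul_tmul']
        rw [h1, AlgHom.commutes, ← IsScalarTower.algebraMap_apply R₀ Bb Bb']
        rfl }
  have hψ : ∀ a, ψ a = algebraMap Bb Bb' (gbar ((1 : R₀) ⊗ₜ[R] a)) := fun a => rfl
  refine ⟨B₁, inferInstance, inferInstance, inferInstance, χ, Bb', inferInstance, inferInstance,
    p, ψ, hp, hkerp, ?_⟩
  intro a b hab
  rw [← hker, RingHom.mem_ker, map_sub, hχ, hab, sub_eq_zero, hψ]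
  change _ = hbar (ρ (algebraMap Bb Bb' (gbar ((1 : R₀) ⊗ₜ[R] a))))
  rw [AlgHom.commutes]
  change _ = hbar (gbar ((1 : R₀) ⊗ₜ[R] a))
  have h3 := congrArg (fun θ => θ ((1 : R₀) ⊗ₜ[R] a)) hcomp
  simp only [AlgHom.comp_apply] at h3
  rw [h3]
  change _ = Algebra.TensorProduct.lift (Algebra.ofId R₀ Λ₀)
    ((IsScalarTower.toAlgHom R Λ Λ₀).comp φ) _ ((1 : R₀) ⊗ₜ[R] a)
  rw [Algebra.TensorProduct.lift_tmul, map_one, one_mul]
  rfl

end Groth.Agent.H91.LiftOnce
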