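import Mathlib
import Groth.Prelude.Def_Smoothing
import Groth.Agent.H91.LiftOnceC

/-!
# Killing one element of `I B` (square-zero, flat case)
-/

set_option autoImplicit false
universe u

open MvPolynomial TensorProduct

namespace Groth.Agent.H91.LiftOnce

/-- products of two elements of `I S` vanish when `I ^ 2 = 0` -/
lemma mul_eq_zero_of_mem_map {R S : Type u} [CommRing R] [CommRing S] [Algebra R S] (I : Ideal R)
    (hsq : I ^ 2 = ⊥) {u v : S} (hu : u ∈ I.map (algebraMap R S))
    (hv : v ∈ I.map (algebraMap R S)) : u * v = 0 := by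
  have h1 : u * v ∈ I.map (algebraMap R S) * I.map (algebraMap R S) := Ideal.mul_mem_mul hu hv
  rw [← Ideal.map_mul, ← pow_two, hsq, Ideal.map_bot] at h1
  exact h1

/-- algebra maps send `I S` into `I S'` -/
lemma algHom_mem_map {R S S' : Type u} [CommRing R] [CommRing S] [CommRing S'] [Algebra R S]
    [Algebra R S'] (I : Ideal R) (g : S →ₐ[R] S') {x : S} (hx : x ∈ I.map (algebraMap R S)) :
    g x ∈ I.map (algebraMap R S') := by
  have h1 := Ideal.mem_map_of_mem g.toRingHom hx
  rw [Ideal.map_map] at h1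
  have h2 : g.toRingHom.comp (algebraMap R S) = algebraMap R S' := g.comp_algebraMap
  rw [h2] at h1
  exact h1

section evalHom

variable {R Λ B₁ : Type u} [CommRing R] [CommRing Λ] [CommRing B₁] [Algebra R Λ] [Algebra R B₁]
  {σ : Type} (χ : B₁ →ₐ[R] Λ) (v : σ → Λ)

/-- evaluation `B₁[σ] → Λ` as an `R`-algebra map -/
noncomputable def evalHom : MvPolynomial σ B₁ →ₐ[R] Λ :=
  { MvPolynomial.eval₂Hom χ.toRingHom v with
    commutes' := fun r => by
      change MvPolynomial.eval₂Hom χ.toRingHom v (algebraMap R (MvPolynomial σ B₁) r) = _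
      rw [IsScalarTower.algebraMap_apply R B₁ (MvPolynomial σ B₁),
        MvPolynomial.algebraMap_eq, MvPolynomial.coe_eval₂Hom, MvPolynomial.eval₂_C]
      exact χ.commutes r }

lemma evalHom_C (x : B₁) : evalHom χ v (C x) = χ x := by
  change MvPolynomial.eval₂Hom χ.toRingHom v (C x) = _
  rw [MvPolynomial.coe_eval₂Hom, MvPolynomial.eval₂_C]
  rfl

lemma evalHom_X (i : σ) : evalHom χ v (X i) = v i := by
  change MvPolynomial.eval₂Hom χ.toRingHom v (X i) = _
  rw [MvPolynomial.coe_eval₂Hom, MvPolynomial.eval₂_X]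

end evalHom

variable {R Λ R₀ Λ₀ : Type u} [CommRing R] [CommRing Λ] [CommRing R₀] [CommRing Λ₀]
  [Algebra R Λ] [Algebra R R₀] [Algebra R₀ Λ₀] [Algebra Λ Λ₀] [Algebra R Λ₀]
  [IsScalarTower R R₀ Λ₀] [IsScalarTower R Λ Λ₀]

theorem kill_one
    (hR : Function.Surjective (algebraMap R R₀))
    (hΛ : Function.Surjective (algebraMap Λ Λ₀))
    (hker : RingHom.ker (algebraMap Λ Λ₀) =
      (RingHom.ker (algebraMap R R₀)).map (algebraMap R Λ))
    (hsq : (RingHom.ker (algebraMap R R₀)) ^ 2 = ⊥)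
    (hind : Smoothing.IndSmooth R₀ Λ₀) [Module.Flat R Λ]
    {B : Type u} [CommRing B] [Algebra R B] [Algebra.Smooth R B] (ψ : B →ₐ[R] Λ) (j : B)
    (hj : j ∈ (RingHom.ker (algebraMap R R₀)).map (algebraMap R B)) (hψj : ψ j = 0) :
    ∃ (B'' : Type u) (_ : CommRing B'') (_ : Algebra R B''), Algebra.Smooth R B'' ∧
      ∃ (ψ'' : B →ₐ[R] B'') (χ'' : B'' →ₐ[R] Λ), χ''.comp ψ'' = ψ ∧ ψ'' j = 0 := by
  classical
  set I : Ideal R := RingHom.ker (algebraMap R R₀) with hIdef
  -- Step 1: the relation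
  obtain ⟨a, ha, hsum⟩ := exists_finsupp_of_mem_map I j hj
  have hrel : ∑ l : a.support, a l.1 • ψ l.1 = 0 := by
    rw [Finset.sum_coe_sort a.support (fun l => a l • ψ l)]
    rw [← hψj, ← hsum, Finsupp.sum, map_sum]
    apply Finset.sum_congr rfl
    intro l _
    rw [map_mul, AlgHom.commutes, Algebra.smul_def]
  obtain ⟨k, α, y, hxy, hα⟩ := Module.Flat.isTrivialRelation_of_sum_smul_eq_zero (R := R) (M := Λ)
    (f := fun l : a.support => a l.1) (x := fun l : a.support => ψ l.1) hrel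
  replace hxy : ∀ l : a.support, ψ l.1 = ∑ m, α l m • y m := hxy
  replace hα : ∀ m, ∑ l : a.support, a l.1 * α l m = 0 := hα
  -- Step 2: the algebra `A'`
  let rel : a.support → MvPolynomial (Fin k) B := fun l =>
    C (l.1 : B) - ∑ m, C (algebraMap R B (α l m)) * X m
  let A' := MvPolynomial (Fin k) B ⧸ Ideal.span (Set.range rel)
  haveI : Algebra.FinitePresentation R A' :=
    Algebra.FinitePresentation.quotient (Submodule.fg_span (Set.finite_range rel))
  let ιB : B →ₐ[R] A' := (Ideal.Quotient.mkₐ R (Ideal.span (Set.range rel))).comp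
    (IsScalarTower.toAlgHom R B (MvPolynomial (Fin k) B))
  have hιB : ∀ x, ιB x = Ideal.Quotient.mk (Ideal.span (Set.range rel)) (C x) := fun x => rfl
  have hrel0 : ∀ l, evalHom ψ y (rel l) = 0 := by
    intro l
    change evalHom ψ y (C (l.1 : B) - ∑ m, C (algebraMap R B (α l m)) * X m) = 0
    rw [map_sub, map_sum, evalHom_C, hxy l, sub_eq_zero]
    apply Finset.sum_congr rfl
    intro m _
    rw [map_mul, evalHom_C, evalHom_X, AlgHom.commutes, Algebra.smul_def]
  let φ' : A' →ₐ[R] Λ := Ideal.Quotient.liftₐ (Ideal.span (Set.range rel)) (evalHom ψ y) (by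
    intro x hx
    have : Ideal.span (Set.range rel) ≤ RingHom.ker (evalHom ψ y).toRingHom := by
      rw [Ideal.span_le]
      rintro _ ⟨l, rfl⟩
      exact hrel0 l
    exact this hx)
  have hφ'ι : ∀ x, φ' (ιB x) = ψ x := by
    intro x
    change evalHom ψ y (C x) = _
    exact evalHom_C ψ y x
  let y' : Fin k → A' := fun m => Ideal.Quotient.mk (Ideal.span (Set.range rel)) (X m)
  have hιl : ∀ l : a.support, ιB l.1 = ∑ m, algebraMap R A' (α l m) * y' m := by
    intro l
    have h1 : Ideal.Quotient.mk (Ideal.span (Set.range rel)) (rel l) = 0 := by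
      rw [Ideal.Quotient.eq_zero_iff_mem]
      exact Ideal.subset_span ⟨l, rfl⟩
    change Ideal.Quotient.mk (Ideal.span (Set.range rel))
      (C (l.1 : B) - ∑ m, C (algebraMap R B (α l m)) * X m) = 0 at h1
    rw [map_sub, sub_eq_zero, map_sum] at h1
    rw [hιB, h1]
    apply Finset.sum_congr rfl
    intro m _
    rw [map_mul]
    rfl
  -- Step 3
  obtain ⟨B₁, _, _, hsm₁, χ, Cc, _, _, p, θ, hp, hkerp, hcompat⟩ :=
    exists_data' hR hΛ hker ⟨2, hsq⟩ hind φ'
  -- Step 4
  have hnilp : IsNilpotent (RingHom.ker (p : B₁ →+* Cc)) := by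
    have : RingHom.ker (p : B₁ →+* Cc) = RingHom.ker p.toRingHom := rfl
    rw [this, hkerp]
    refine ⟨2, ?_⟩
    rw [← Ideal.map_pow, hsq, Ideal.map_bot]
    rfl
  let ψ' : B →ₐ[R] B₁ := Algebra.FormallySmooth.liftOfSurjective (θ.comp ιB) p hp hnilp
  have hψ' : ∀ x, p (ψ' x) = θ (ιB x) := fun x =>
    Algebra.FormallySmooth.liftOfSurjective_apply (θ.comp ιB) p hp hnilp x
  have hψ'j : ψ' j = 0 := by
    choose ytil hytil using fun m => hp (θ (y' m))
    have he : ∀ l : a.support,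
        ψ' l.1 - ∑ m, algebraMap R B₁ (α l m) * ytil m ∈ I.map (algebraMap R B₁) := by
      intro l
      rw [← hkerp, RingHom.mem_ker]
      change p (ψ' l.1 - ∑ m, algebraMap R B₁ (α l m) * ytil m) = 0
      rw [map_sub, hψ', hιl l, map_sum, map_sum, sub_eq_zero]
      apply Finset.sum_congr rfl
      intro m _
      rw [map_mul, map_mul, AlgHom.commutes, AlgHom.commutes, hytil]
    have h1 : ψ' j = ∑ l : a.support, algebraMap R B₁ (a l.1) * ψ' l.1 := by
      rw [Finset.sum_coe_sort a.support (fun l => algebraMap R B₁ (a l) * ψ' l)]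
      rw [← hsum, Finsupp.sum, map_sum]
      apply Finset.sum_congr rfl
      intro l _
      rw [map_mul, AlgHom.commutes]
    rw [h1]
    have h2 : ∀ l : a.support, algebraMap R B₁ (a l.1) * ψ' l.1 =
        ∑ m, algebraMap R B₁ (a l.1 * α l m) * ytil m := by
      intro l
      have h3 : algebraMap R B₁ (a l.1) *
          (ψ' l.1 - ∑ m, algebraMap R B₁ (α l m) * ytil m) = 0 :=
        mul_eq_zero_of_mem_map I hsq (Ideal.mem_map_of_mem _ (ha l.1)) (he l)
      rw [mul_sub, sub_eq_zero] at h3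
      rw [h3, Finset.mul_sum]
      apply Finset.sum_congr rfl
      intro m _
      rw [map_mul, mul_assoc]
    rw [Finset.sum_congr rfl (fun l _ => h2 l), Finset.sum_comm]
    apply Finset.sum_eq_zero
    intro m _
    rw [← Finset.sum_mul, ← map_sum, hα m, map_zero, zero_mul]
  -- Step 5
  obtain ⟨n, f, hf, hfg⟩ := Algebra.FinitePresentation.out (R := R) (A := B)
  let b : Fin n → B₁ := fun i => ψ' (f (X i))
  have hcompf : ψ'.comp f = aeval b := by
    apply MvPolynomial.algHom_ext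
    intro i
    rw [AlgHom.comp_apply, aeval_X]
  have hb : ∀ q ∈ RingHom.ker f.toRingHom, aeval b q ∈ I.map (algebraMap R B₁) := by
    intro q hq
    rw [← hcompf, AlgHom.comp_apply]
    have : f q = 0 := hq
    rw [this, map_zero]
    exact Ideal.zero_mem _
  have hx : ∀ i, ψ (f (X i)) - χ (b i) ∈ I.map (algebraMap R Λ) := by
    intro i
    have := hcompat (ιB (f (X i))) (b i) (hψ' _)
    rwa [hφ'ι] at this
  obtain ⟨S, ε, hε, hsum'⟩ := exists_uniform_of_mem_map I
    (fun i => ψ (f (X i)) - χ (b i)) hx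
  have hφ : ∀ i, ψ (f (X i)) = χ (b i) + ∑ s : S, algebraMap R Λ (ε i s.1) * s.1 := by
    intro i
    rw [← hsum' i]
    ring
  -- Step 6
  have hJ'le := J_le I f b S ε hε hb
  have hnilJ : IsNilpotent (J f b S ε) := by
    refine ⟨2, ?_⟩
    rw [pow_two, Ideal.zero_eq_bot, ← le_bot_iff, Ideal.mul_le]
    intro u hu v hv
    rw [Ideal.mem_bot]
    exact mul_eq_zero_of_mem_map I hsq (hJ'le hu) (hJ'le hv)
  haveI : Algebra.Smooth B₁ (BB (B₁ := B₁) (n := n) S) := {}
  haveI : Algebra.Smooth R (BB (B₁ := B₁) (n := n) S) :=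
    Algebra.Smooth.comp R B₁ (BB (B₁ := B₁) (n := n) S)
  let ψ'' : B →ₐ[R] BB (B₁ := B₁) (n := n) S :=
    Algebra.FormallySmooth.lift (J f b S ε) hnilJ (gg f b S ε hf)
  have hψ'' : ∀ x, Ideal.Quotient.mk (J f b S ε) (ψ'' x) = gg f b S ε hf x := fun x =>
    Algebra.FormallySmooth.mk_lift (J f b S ε) hnilJ (gg f b S ε hf) x
  have hcomp'' : (k' (n := n) χ S).comp ψ'' = ψ := by
    ext x
    rw [AlgHom.comp_apply]
    have h1 : k' (n := n) χ S (ψ'' x) =
        kk ψ χ f b S ε hφ (Ideal.Quotient.mk (J f b S ε) (ψ'' x)) := rfl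
    rw [h1, hψ'']
    exact congrArg (fun θ => θ x) (kk_comp_gg ψ χ f b S ε hφ hf)
  -- Step 7
  set IBB := I.map (algebraMap R (BB (B₁ := B₁) (n := n) S)) with hIBB
  have hdiff : ∀ c : B, ψ'' c - algebraMap B₁ (BB (B₁ := B₁) (n := n) S) (ψ' c) ∈ IBB := by
    have hF : ((Ideal.Quotient.mkₐ R IBB).comp ψ'').comp f =
        ((Ideal.Quotient.mkₐ R IBB).comp
          ((IsScalarTower.toAlgHom R B₁ (BB (B₁ := B₁) (n := n) S)).comp ψ')).comp f := by
      apply MvPolynomial.algHom_ext
      intro i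
      simp only [AlgHom.comp_apply]
      rw [Ideal.Quotient.mkₐ_eq_mk, Ideal.Quotient.eq]
      have h1 : ψ'' (f (X i)) - b' b S ε i ∈ J f b S ε := by
        rw [← Ideal.Quotient.eq, hψ'', gg_f, aeval_X]
      have h2 : b' b S ε i - C (b i) ∈ IBB := b'_sub_mem I b S ε hε i
      have h3 := IBB.add_mem (hJ'le h1) h2
      rw [sub_add_sub_cancel] at h3
      exact h3
    intro c
    obtain ⟨q, rfl⟩ := hf c
    have h4 := congrArg (fun θ => θ q) hF
    simp only [AlgHom.comp_apply] at h4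
    rw [Ideal.Quotient.mkₐ_eq_mk, Ideal.Quotient.eq] at h4
    exact h4
  have hclaim : ∀ x ∈ I.map (algebraMap R B),
      ψ'' x = algebraMap B₁ (BB (B₁ := B₁) (n := n) S) (ψ' x) := by
    intro x hx
    induction hx using Submodule.span_induction with
    | mem x hx =>
      obtain ⟨r, _, rfl⟩ := hx
      rw [AlgHom.commutes, AlgHom.commutes, ← IsScalarTower.algebraMap_apply]
    | zero => simp
    | add x y _ _ hx hy => rw [map_add, map_add, map_add, hx, hy]
    | smul c x hx ih =>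
      rw [smul_eq_mul, map_mul, map_mul, map_mul, ih]
      have h1 : (ψ'' c - algebraMap B₁ (BB (B₁ := B₁) (n := n) S) (ψ' c)) *
          algebraMap B₁ (BB (B₁ := B₁) (n := n) S) (ψ' x) = 0 := by
        apply mul_eq_zero_of_mem_map I hsq (hdiff c)
        exact algHom_mem_map I
          ((IsScalarTower.toAlgHom R B₁ (BB (B₁ := B₁) (n := n) S)).comp ψ') hx
      rw [sub_mul, sub_eq_zero] at h1
      exact h1
  refine ⟨BB (B₁ := B₁) (n := n) S, inferInstance, inferInstance, inferInstance, ψ'',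
    k' (n := n) χ S, hcomp'', ?_⟩
  rw [hclaim j hj, hψ'j, map_zero]

end Groth.Agent.H91.LiftOnce
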