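import Mathlib
import Groth.Prelude.Def_Smoothing
import Groth.Agent.H91.LiftOnceD

/-!
# Ind-smoothness lifts along square-zero flat deformations (abstract form)
-/

set_option autoImplicit false
universe u

open MvPolynomial TensorProduct

namespace Groth.Agent.H91.LiftOnce

variable {R Λ R₀ Λ₀ : Type u} [CommRing R] [CommRing Λ] [CommRing R₀] [CommRing Λ₀]
  [Algebra R Λ] [Algebra R R₀] [Algebra R₀ Λ₀] [Algebra Λ Λ₀] [Algebra R Λ₀]
  [IsScalarTower R R₀ Λ₀] [IsScalarTower R Λ Λ₀]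

theorem kill_fin
    (hR : Function.Surjective (algebraMap R R₀))
    (hΛ : Function.Surjective (algebraMap Λ Λ₀))
    (hker : RingHom.ker (algebraMap Λ Λ₀) =
      (RingHom.ker (algebraMap R R₀)).map (algebraMap R Λ))
    (hsq : (RingHom.ker (algebraMap R R₀)) ^ 2 = ⊥)
    (hind : Smoothing.IndSmooth R₀ Λ₀) [Module.Flat R Λ] :
    ∀ (s : ℕ) (B : Type u) [CommRing B] [Algebra R B] [Algebra.Smooth R B] (ψ : B →ₐ[R] Λ)
      (t : Fin s → B), (∀ i, t i ∈ (RingHom.ker (algebraMap R R₀)).map (algebraMap R B)) →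
      (∀ i, ψ (t i) = 0) →
      ∃ (B'' : Type u) (_ : CommRing B'') (_ : Algebra R B''), Algebra.Smooth R B'' ∧
        ∃ (ψ'' : B →ₐ[R] B'') (χ'' : B'' →ₐ[R] Λ), χ''.comp ψ'' = ψ ∧ ∀ i, ψ'' (t i) = 0 := by
  intro s
  induction s with
  | zero =>
    intro B _ _ _ ψ t _ _
    exact ⟨B, inferInstance, inferInstance, inferInstance, AlgHom.id R B, ψ, AlgHom.comp_id ψ,
      fun i => i.elim0⟩
  | succ s ih =>
    intro B _ _ _ ψ t ht hψt
    obtain ⟨B1, _, _, hsm1, ψ1, χ1, hc1, hk1⟩ := ih B ψ (fun i => t i.castSucc)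
      (fun i => ht _) (fun i => hψt _)
    have hj : ψ1 (t (Fin.last s)) ∈ (RingHom.ker (algebraMap R R₀)).map (algebraMap R B1) :=
      algHom_mem_map _ ψ1 (ht _)
    have hχj : χ1 (ψ1 (t (Fin.last s))) = 0 := by
      rw [← AlgHom.comp_apply, hc1]
      exact hψt _
    obtain ⟨B2, _, _, hsm2, ψ2, χ2, hc2, hk2⟩ :=
      kill_one hR hΛ hker hsq hind χ1 (ψ1 (t (Fin.last s))) hj hχj
    refine ⟨B2, inferInstance, inferInstance, hsm2, ψ2.comp ψ1, χ2, ?_, ?_⟩
    · rw [← AlgHom.comp_assoc, hc2, hc1]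
    · intro i
      refine Fin.lastCases ?_ (fun i' => ?_) i
      · exact hk2
      · rw [AlgHom.comp_apply, hk1 i', map_zero]

/-- Ind-smoothness lifts along a square-zero flat deformation (abstract form). -/
theorem indSmooth_of_sq_zero
    (hR : Function.Surjective (algebraMap R R₀))
    (hΛ : Function.Surjective (algebraMap Λ Λ₀))
    (hker : RingHom.ker (algebraMap Λ Λ₀) =
      (RingHom.ker (algebraMap R R₀)).map (algebraMap R Λ))
    (hsq : (RingHom.ker (algebraMap R R₀)) ^ 2 = ⊥)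
    (hind : Smoothing.IndSmooth R₀ Λ₀) [Module.Flat R Λ] :
    Smoothing.IndSmooth R Λ := by
  intro A _ _ hfp φ
  haveI := hfp
  obtain ⟨B, _, _, hsm, J, hJle, hJfg, g, k, hkg⟩ := lift_once hR hΛ hker ⟨2, hsq⟩ hind φ
  obtain ⟨s, t, ht⟩ := Submodule.fg_iff_exists_fin_generating_family.1 hJfg
  let ψ : B →ₐ[R] Λ := k.comp (Ideal.Quotient.mkₐ R J)
  have htJ : ∀ i, t i ∈ J := fun i => by
    rw [← ht]
    exact Submodule.subset_span ⟨i, rfl⟩
  obtain ⟨B'', _, _, hsm'', ψ'', χ'', hcomp, hkill⟩ := kill_fin hR hΛ hker hsq hind s B ψ t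
    (fun i => hJle (htJ i)) (fun i => by
      change k (Ideal.Quotient.mk J (t i)) = 0
      rw [Ideal.Quotient.eq_zero_iff_mem.2 (htJ i), map_zero])
  have hJker : J ≤ RingHom.ker ψ''.toRingHom := by
    rw [← ht]
    change Ideal.span (Set.range t) ≤ _
    rw [Ideal.span_le]
    rintro _ ⟨i, rfl⟩
    exact hkill i
  let ψbar : B ⧸ J →ₐ[R] B'' := Ideal.Quotient.liftₐ J ψ'' (fun x hx => hJker hx)
  have h1 : χ''.comp ψbar = k := by
    apply Ideal.Quotient.algHom_ext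
    ext x
    change χ'' (ψ'' x) = k (Ideal.Quotient.mk J x)
    rw [← AlgHom.comp_apply, hcomp]
    rfl
  refine ⟨B'', inferInstance, inferInstance, hsm'', ψbar.comp g, χ'', ?_⟩
  rw [← AlgHom.comp_assoc, h1, hkg]

end Groth.Agent.H91.LiftOnce
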