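import Mathlib
import Groth.Prelude.Def_Smoothing
import Groth.Agent.H91.LiftOnceE

/-!
# Ind-smoothness lifts along nilpotent flat deformations
-/

set_option autoImplicit false
universe u

open TensorProduct

namespace Groth.Agent.H91.LiftOnce

lemma ker_factor {A : Type u} [CommRing A] {S T : Ideal A} (hle : S ≤ T) :
    RingHom.ker (Ideal.Quotient.factor hle) = T.map (Ideal.Quotient.mk S) := by
  ext x
  obtain ⟨r, rfl⟩ := Ideal.Quotient.mk_surjective x
  rw [RingHom.mem_ker, Ideal.Quotient.factor_mk, Ideal.Quotient.eq_zero_iff_mem,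
    Ideal.mem_map_iff_of_surjective _ Ideal.Quotient.mk_surjective]
  constructor
  · intro hr
    exact ⟨r, hr, rfl⟩
  · rintro ⟨t, ht, htr⟩
    rw [Ideal.Quotient.eq] at htr
    have : r = t - (t - r) := by ring
    rw [this]
    exact T.sub_mem ht (hle htr)

variable {R Λ : Type u} [CommRing R] [CommRing Λ] [Algebra R Λ]

variable (Λ) in
/-- the property for the ideal `K` -/
def P (K : Ideal R) : Prop :=
  Smoothing.IndSmooth (R ⧸ K) (Λ ⧸ K.map (algebraMap R Λ))

instance flat_quotient [Module.Flat R Λ] (K : Ideal R) :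
    Module.Flat (R ⧸ K) (Λ ⧸ K.map (algebraMap R Λ)) :=
  Module.Flat.of_linearEquiv
    (Algebra.TensorProduct.quotIdealMapEquivQuotTensor Λ K).toLinearEquiv

theorem step [Module.Flat R Λ] {K K' : Ideal R} (hle : K' ≤ K) (hsq : K ^ 2 ≤ K')
    (h : P Λ K) : P Λ K' := by
  letI : Algebra (R ⧸ K') (R ⧸ K) := (Ideal.Quotient.factor hle).toAlgebra
  letI : Algebra (Λ ⧸ K'.map (algebraMap R Λ)) (Λ ⧸ K.map (algebraMap R Λ)) :=
    (Ideal.Quotient.factor (Ideal.map_mono hle)).toAlgebra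
  letI : Algebra (R ⧸ K') (Λ ⧸ K.map (algebraMap R Λ)) :=
    ((algebraMap (R ⧸ K) (Λ ⧸ K.map (algebraMap R Λ))).comp
      (algebraMap (R ⧸ K') (R ⧸ K))).toAlgebra
  haveI : IsScalarTower (R ⧸ K') (R ⧸ K) (Λ ⧸ K.map (algebraMap R Λ)) :=
    IsScalarTower.of_algebraMap_eq fun _ => rfl
  haveI : IsScalarTower (R ⧸ K') (Λ ⧸ K'.map (algebraMap R Λ)) (Λ ⧸ K.map (algebraMap R Λ)) :=
    IsScalarTower.of_algebraMap_eq fun x => by
      obtain ⟨r, rfl⟩ := Ideal.Quotient.mk_surjective x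
      rfl
  have hkR : RingHom.ker (algebraMap (R ⧸ K') (R ⧸ K)) = K.map (Ideal.Quotient.mk K') :=
    ker_factor hle
  have hkΛ : RingHom.ker (algebraMap (Λ ⧸ K'.map (algebraMap R Λ))
      (Λ ⧸ K.map (algebraMap R Λ))) =
      (RingHom.ker (algebraMap (R ⧸ K') (R ⧸ K))).map
        (algebraMap (R ⧸ K') (Λ ⧸ K'.map (algebraMap R Λ))) := by
    rw [hkR]
    have h1 : RingHom.ker (algebraMap (Λ ⧸ K'.map (algebraMap R Λ))
        (Λ ⧸ K.map (algebraMap R Λ))) =
        (K.map (algebraMap R Λ)).map (Ideal.Quotient.mk (K'.map (algebraMap R Λ))) :=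
      ker_factor (Ideal.map_mono hle)
    rw [h1, Ideal.map_map, Ideal.map_map]
    rfl
  have hsq' : (RingHom.ker (algebraMap (R ⧸ K') (R ⧸ K))) ^ 2 = ⊥ := by
    rw [hkR, ← Ideal.map_pow, Ideal.map_eq_bot_iff_le_ker, Ideal.mk_ker]
    exact hsq
  exact indSmooth_of_sq_zero (R := R ⧸ K') (Λ := Λ ⧸ K'.map (algebraMap R Λ)) (R₀ := R ⧸ K)
    (Λ₀ := Λ ⧸ K.map (algebraMap R Λ)) (Ideal.Quotient.factor_surjective hle)
    (Ideal.Quotient.factor_surjective (Ideal.map_mono hle)) hkΛ hsq' h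

theorem indSmooth_of_P_bot [Module.Flat R Λ] {K : Ideal R} (hK : K = ⊥) (h : P Λ K) :
    Smoothing.IndSmooth R Λ := by
  have hkR : RingHom.ker (algebraMap R (R ⧸ K)) = K := Ideal.mk_ker
  have hkΛ : RingHom.ker (algebraMap Λ (Λ ⧸ K.map (algebraMap R Λ))) =
      (RingHom.ker (algebraMap R (R ⧸ K))).map (algebraMap R Λ) := by
    rw [hkR]
    exact Ideal.mk_ker
  refine indSmooth_of_sq_zero (R := R) (Λ := Λ) (R₀ := R ⧸ K)
    (Λ₀ := Λ ⧸ K.map (algebraMap R Λ)) Ideal.Quotient.mk_surjective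
    Ideal.Quotient.mk_surjective hkΛ ?_ h
  rw [hkR, hK, pow_two]
  exact Ideal.bot_mul ⊥

theorem indSmooth_of_nilpotent [Module.Flat R Λ] (I : Ideal R) (hI : IsNilpotent I)
    (h : P Λ I) : Smoothing.IndSmooth R Λ := by
  obtain ⟨n, hn⟩ := hI
  have hall : ∀ k, 1 ≤ k → P Λ (I ^ k) := by
    intro k hk
    induction k, hk using Nat.le_induction with
    | base =>
      rw [pow_one]
      exact h
    | succ k hk ih =>
      refine step (Ideal.pow_le_pow_right (Nat.le_succ k)) ?_ ih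
      rw [← pow_mul]
      exact Ideal.pow_le_pow_right (by omega)
  have hbot : I ^ (n + 1) = ⊥ := by
    rw [pow_succ, hn]
    exact zero_mul I
  exact indSmooth_of_P_bot hbot (hall (n + 1) (by omega))

end Groth.Agent.H91.LiftOnce
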