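import Mathlib
import Groth.Prelude.Def_Smoothing
import Groth.Agent.H11.StdSing

/-!
# Elementary standard elements, smoothness and the singular ideal
-/

set_option autoImplicit false
universe u

namespace Groth.Agent.H91.Deloc

variable {R B : Type u} [CommRing R] [CommRing B] [Algebra R B]

theorem finitePresentation_of_isElementaryStandard {b : B}
    (hb : Smoothing.IsElementaryStandard R B b) : Algebra.FinitePresentation R B := by
  obtain ⟨P, -, -⟩ := hb
  refine Algebra.FinitePresentation.of_surjective (f := P.hom) P.surj ?_
  rw [P.ker_eq]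
  exact Submodule.fg_span (Set.finite_range _)

theorem basicOpen_subset_smoothLocus_of_isElementaryStandard {b : B}
    (hb : Smoothing.IsElementaryStandard R B b) :
    (PrimeSpectrum.basicOpen b : Set (PrimeSpectrum B)) ⊆ Algebra.smoothLocus R B := by
  intro q hq
  exact Groth.Agent.H11.StdSing.isSmoothAt_of_isStrictlyStandard b
    (Groth.Agent.H11.StdSing.isStrictlyStandard_of_isElementaryStandard b hb) q.asIdeal hq

theorem smooth_away_of_isElementaryStandard {b : B}
    (hb : Smoothing.IsElementaryStandard R B b) : Algebra.Smooth R (Localization.Away b) := by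
  haveI := finitePresentation_of_isElementaryStandard hb
  exact Algebra.basicOpen_subset_smoothLocus_iff_smooth.1
    (basicOpen_subset_smoothLocus_of_isElementaryStandard hb)

theorem mem_singularIdeal_of_basicOpen_subset {b : B}
    (hb : (PrimeSpectrum.basicOpen b : Set (PrimeSpectrum B)) ⊆ Algebra.smoothLocus R B) :
    b ∈ Smoothing.singularIdeal R B := by
  unfold Smoothing.singularIdeal
  rw [PrimeSpectrum.mem_vanishingIdeal]
  intro q hq
  by_contra hbq
  exact hq (hb hbq)

theorem basicOpen_subset_of_mem_singularIdeal {b : B} (hb : b ∈ Smoothing.singularIdeal R B) :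
    (PrimeSpectrum.basicOpen b : Set (PrimeSpectrum B)) ⊆ Algebra.smoothLocus R B := by
  intro q hq
  by_contra hns
  unfold Smoothing.singularIdeal at hb
  rw [PrimeSpectrum.mem_vanishingIdeal] at hb
  exact hq (hb q hns)

end Groth.Agent.H91.Deloc
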