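import Mathlib

/-!
# Helper lemmas for gluing constructions (S2034)

* `formallySmooth_away_of_surjective`: if `f : B → S` is surjective and `w · ker f = 0`,
  then `B_w ≅ S_{f w}`; in particular formal smoothness over `R` transfers.
* `formallySmooth_away_mul`: if `S` is formally smooth over `A` and `A_a` is formally smooth over
  `R`, then `S_{a s}` is formally smooth over `R`.
-/

set_option autoImplicit false

namespace Groth.Agent.H91.Glue

universe u v w

section Surj

variable {R : Type*} {B : Type*} {S : Type*} [CommRing R] [CommRing B] [CommRing S]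
  [Algebra R B] [Algebra R S]

/-- If `f : B → S` is a surjective `R`-algebra map and `w` kills `ker f`, then `S_{f w}` is a
localization of `B` away from `w`. -/
theorem isLocalization_away_of_surjective (f : B →ₐ[R] S) (hf : Function.Surjective f) (w : B)
    (hw : ∀ x, f x = 0 → w * x = 0) (T : Type*) [CommRing T] [Algebra S T]
    [IsLocalization.Away (f w) T] :
    @IsLocalization.Away B _ w T _ ((algebraMap S T).comp f.toRingHom).toAlgebra := by
  letI : Algebra B T := ((algebraMap S T).comp f.toRingHom).toAlgebra
  have hmap : ∀ b : B, algebraMap B T b = algebraMap S T (f b) := fun b => rfl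
  refine IsLocalization.Away.mk _ ?_ (fun z => ?_) (fun a b h => ?_)
  · rw [hmap]
    exact IsLocalization.Away.algebraMap_isUnit (f w)
  · obtain ⟨n, p, hp⟩ := IsLocalization.Away.surj (f w) z
    obtain ⟨b, rfl⟩ := hf p
    exact ⟨n, b, by rw [hmap, hmap, hp]⟩
  · rw [hmap, hmap] at h
    obtain ⟨n, hn⟩ := IsLocalization.Away.exists_of_eq (f w) h
    refine ⟨n + 1, ?_⟩
    have h0 : f (w ^ n * (a - b)) = 0 := by
      rw [map_mul, map_pow, map_sub, mul_sub, hn, sub_self]
    have h1 := hw _ h0
    have : w ^ (n + 1) * a - w ^ (n + 1) * b = 0 := by
      have : w ^ (n + 1) * a - w ^ (n + 1) * b = w * (w ^ n * (a - b)) := by ring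
      rw [this, h1]
    exact sub_eq_zero.1 this

theorem formallySmooth_away_of_surjective (f : B →ₐ[R] S) (hf : Function.Surjective f) (w : B)
    (hw : ∀ x, f x = 0 → w * x = 0)
    (hsm : Algebra.FormallySmooth R (Localization.Away (f w))) :
    Algebra.FormallySmooth R (Localization.Away w) := by
  let T := Localization.Away (f w)
  letI : Algebra B T := ((algebraMap S T).comp f.toRingHom).toAlgebra
  haveI : IsScalarTower R B T := IsScalarTower.of_algebraMap_eq fun r => by
    change algebraMap R T r = algebraMap S T (f (algebraMap R B r))
    rw [f.commutes, ← IsScalarTower.algebraMap_apply]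
  haveI : IsLocalization.Away w T := isLocalization_away_of_surjective f hf w hw T
  let e : Localization.Away w ≃ₐ[B] T := IsLocalization.algEquiv (Submonoid.powers w) _ _
  exact Algebra.FormallySmooth.of_equiv (e.restrictScalars R).symm

end Surj

section Mul

variable {R : Type*} {A : Type*} {S : Type*} [CommRing R] [CommRing A] [CommRing S]
  [Algebra R A] [Algebra A S] [Algebra R S] [IsScalarTower R A S]

theorem formallySmooth_away_mul [Algebra.FormallySmooth A S] (a : A)
    (hsm : Algebra.FormallySmooth R (Localization.Away a)) (s : S) :
    Algebra.FormallySmooth R (Localization.Away (algebraMap A S a * s)) := by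
  let a' : S := algebraMap A S a
  let T₁ := Localization.Away a'
  let T₃ := Localization.Away (algebraMap S T₁ s)
  -- `T₁` is an `A_a`-algebra
  have hunit : IsUnit (algebraMap A T₁ a) := by
    rw [IsScalarTower.algebraMap_apply A S T₁]
    exact IsLocalization.Away.algebraMap_isUnit a'
  letI : Algebra (Localization.Away a) T₁ :=
    (IsLocalization.Away.lift a (g := algebraMap A T₁) hunit).toAlgebra
  haveI : IsScalarTower A (Localization.Away a) T₁ := IsScalarTower.of_algebraMap_eq fun x => by
    change _ = IsLocalization.Away.lift a (g := algebraMap A T₁) hunit (algebraMap A _ x)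
    rw [IsLocalization.Away.lift_eq]
  haveI : IsScalarTower R (Localization.Away a) T₁ := IsScalarTower.of_algebraMap_eq fun x => by
    rw [IsScalarTower.algebraMap_apply R A (Localization.Away a),
      ← IsScalarTower.algebraMap_apply A (Localization.Away a) T₁,
      ← IsScalarTower.algebraMap_apply R A T₁]
  haveI : IsLocalization ((Submonoid.powers a).map (algebraMap A S)) T₁ := by
    rw [Submonoid.map_powers]
    infer_instance
  haveI : Algebra.FormallySmooth (Localization.Away a) T₁ :=
    Algebra.FormallySmooth.localization_map (R := A) (A := S) (Submonoid.powers a)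
  haveI : Algebra.FormallySmooth R T₁ := Algebra.FormallySmooth.comp R (Localization.Away a) T₁
  haveI : Algebra.FormallySmooth R T₃ := inferInstance
  haveI : IsLocalization.Away (a' * s) T₃ := inferInstance
  let e : Localization.Away (a' * s) ≃ₐ[S] T₃ :=
    IsLocalization.algEquiv (Submonoid.powers (a' * s)) _ _
  exact Algebra.FormallySmooth.of_equiv (e.restrictScalars R).symm

end Mul

end Groth.Agent.H91.Glue
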