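import Mathlib
import Groth.Prelude.Def_Smoothing
import Groth.Agent.H91.GlueA
import Groth.Agent.H91.DelocA

/-!
# The gluing construction `B = P[z]/(z K)` (Stacks 07F9), used for S2034
-/

set_option autoImplicit false

namespace Groth.Agent.H91.Glue

universe u

open Smoothing

section

variable {R A C Λ : Type u} [CommRing R] [CommRing A] [Algebra R A]
  [Algebra.FinitePresentation R A]
  [CommRing C] [Algebra R C] [Algebra.FinitePresentation R C] [CommRing Λ] [Algebra R Λ]

theorem formallySmooth_away_of_mem_singularIdeal {c : C} (hc : c ∈ singularIdeal R C) :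
    Algebra.FormallySmooth R (Localization.Away c) :=
  Algebra.basicOpen_subset_smoothLocus_iff.1
    (Groth.Agent.H91.Deloc.basicOpen_subset_of_mem_singularIdeal hc)

theorem mem_singularIdeal_of_formallySmooth_away {c : C}
    (hc : Algebra.FormallySmooth R (Localization.Away c)) : c ∈ singularIdeal R C :=
  Groth.Agent.H91.Deloc.mem_singularIdeal_of_basicOpen_subset
    (Algebra.basicOpen_subset_smoothLocus_iff.2 hc)

theorem glue (φ : A →ₐ[R] Λ) (g : A →ₐ[R] C) (h : C →ₐ[R] Λ) (hgh : h.comp g = φ)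
    {r : ℕ} (a : Fin r → A) (N : ℕ) (lam : Λ) (hlam : ∀ i, lam * φ (a i) ^ N = 0) :
    ∃ (B : Type u) (_ : CommRing B) (_ : Algebra R B), Algebra.FinitePresentation R B ∧
      ∃ (α : A →ₐ[R] B) (β : B →ₐ[R] Λ), β.comp α = φ ∧
        (∀ i, a i ∈ singularIdeal R A → ∃ b ∈ singularIdeal R B, β b = φ (a i) ^ (N + 1)) ∧
        (∀ c ∈ singularIdeal R C, ∃ b ∈ singularIdeal R B, β b = lam * h c) := by
  classical
  obtain ⟨n, πR, hπR⟩ := Algebra.FiniteType.iff_quotient_mvPolynomial''.1
    (inferInstance : Algebra.FiniteType R C)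
  have hg : ∀ x, h (g x) = φ x := fun x => by rw [← hgh]; rfl
  -- the polynomial ring `P'`
  let P' := MvPolynomial (Fin r ⊕ Fin n) A
  let π' : P' →ₐ[R] C :=
    MvPolynomial.aevalTower g (Sum.elim (fun _ => 0) (fun k => πR (MvPolynomial.X k)))
  have hπ'C : ∀ x : A, π' (MvPolynomial.C x) = g x := fun x => MvPolynomial.aevalTower_C _ _ _
  have hπ'l : ∀ i : Fin r, π' (MvPolynomial.X (Sum.inl i)) = 0 := fun i =>
    MvPolynomial.aevalTower_X _ _ _
  have hπ'r : ∀ k : Fin n, π' (MvPolynomial.X (Sum.inr k)) = πR (MvPolynomial.X k) := fun k =>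
    MvPolynomial.aevalTower_X _ _ _
  have hπ'surj : Function.Surjective π' := by
    let ι : MvPolynomial (Fin n) R →ₐ[R] P' :=
      MvPolynomial.aeval (fun k => (MvPolynomial.X (Sum.inr k) : P'))
    have hcomp : π'.comp ι = πR := by
      apply MvPolynomial.algHom_ext
      intro k
      simp only [AlgHom.comp_apply, ι, MvPolynomial.aeval_X, hπ'r]
    intro c
    obtain ⟨p, rfl⟩ := hπR c
    exact ⟨ι p, by rw [← hcomp]; rfl⟩
  haveI hfpP' : Algebra.FinitePresentation R P' :=
    Algebra.FinitePresentation.trans R A P'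
  let K : Ideal P' := RingHom.ker π'.toRingHom
  have hK : K.FG := Algebra.FinitePresentation.ker_fG_of_surjective π' hπ'surj
  have hKmem : ∀ p : P', p ∈ K ↔ π' p = 0 := fun p => Iff.rfl
  -- the map `ψ : P' → Λ`
  let ψ : P' →ₐ[R] Λ :=
    MvPolynomial.aevalTower φ
      (Sum.elim (fun i => φ (a i) ^ N) (fun k => h (πR (MvPolynomial.X k))))
  have hψC : ∀ x : A, ψ (MvPolynomial.C x) = φ x := fun x => MvPolynomial.aevalTower_C _ _ _
  have hψl : ∀ i : Fin r, ψ (MvPolynomial.X (Sum.inl i)) = φ (a i) ^ N := fun i =>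
    MvPolynomial.aevalTower_X _ _ _
  have hψr : ∀ k : Fin n, ψ (MvPolynomial.X (Sum.inr k)) = h (πR (MvPolynomial.X k)) :=
    fun k => MvPolynomial.aevalTower_X _ _ _
  have hkey : ∀ p : P', lam * ψ p = lam * h (π' p) := by
    intro p
    induction p using MvPolynomial.induction_on with
    | C x => rw [hψC, hπ'C, hg]
    | add p q hp hq => rw [map_add, map_add, map_add, mul_add, mul_add, hp, hq]
    | mul_X p i hp =>
      rw [map_mul, map_mul, map_mul]
      rcases i with i | k
      · rw [hψl, hπ'l, map_zero, mul_zero, mul_zero, mul_comm (ψ p), ← mul_assoc, hlam, zero_mul]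
      · rw [hψr, hπ'r, ← mul_assoc, hp, mul_assoc]
  have hψK : ∀ p ∈ K, lam * ψ p = 0 := fun p hp => by
    rw [hkey, (hKmem p).1 hp, map_zero, mul_zero]
  -- the ring `B`
  let PZ := Polynomial P'
  haveI hfpPZ : Algebra.FinitePresentation R PZ := Algebra.FinitePresentation.trans R P' PZ
  let J : Ideal PZ := Ideal.span {Polynomial.X} * Ideal.map Polynomial.C K
  have hJfg : J.FG := Ideal.FG.mul (Submodule.fg_span_singleton _) (hK.map _)
  let B := PZ ⧸ J
  haveI hfpB : Algebra.FinitePresentation R B := Algebra.FinitePresentation.quotient hJfg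
  have hXmem : ∀ p : PZ, p ∈ Ideal.map Polynomial.C K → Polynomial.X * p ∈ J := fun p hp =>
    Ideal.mul_mem_mul (Ideal.mem_span_singleton_self _) hp
  -- the map `β₀ : P'[z] → Λ`
  let β₀ : PZ →ₐ[R] Λ := Polynomial.aevalTower ψ lam
  have hβ₀C : ∀ p : P', β₀ (Polynomial.C p) = ψ p := fun p => Polynomial.aevalTower_C _ _ _
  have hβ₀X : β₀ Polynomial.X = lam := Polynomial.aevalTower_X _ _
  let Ann : Ideal Λ := (Ideal.span {lam}).annihilator
  have hAnn : ∀ x : Λ, x ∈ Ann ↔ lam * x = 0 := fun x => by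
    rw [Submodule.mem_annihilator_span_singleton, smul_eq_mul, mul_comm]
  have hβ₀J : ∀ p ∈ J, β₀ p = 0 := by
    have h1 : Ideal.map Polynomial.C K ≤ Ideal.comap β₀.toRingHom Ann := by
      rw [Ideal.map_le_iff_le_comap]
      intro u hu
      rw [Ideal.mem_comap, Ideal.mem_comap]
      change β₀ (Polynomial.C u) ∈ Ann
      rw [hβ₀C, hAnn]
      exact hψK u hu
    have h2 : J ≤ RingHom.ker β₀.toRingHom := by
      rw [Ideal.mul_le]
      intro x hx y hy
      obtain ⟨q, rfl⟩ := Ideal.mem_span_singleton'.1 hx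
      have hy' : lam * β₀ y = 0 := (hAnn _).1 (h1 hy)
      rw [RingHom.mem_ker]
      change β₀ (q * Polynomial.X * y) = 0
      rw [map_mul, map_mul, hβ₀X, mul_assoc, hy', mul_zero]
    intro p hp
    exact h2 hp
  let β : B →ₐ[R] Λ := Ideal.Quotient.liftₐ J β₀ hβ₀J
  have hβmk : ∀ p : PZ, β (Ideal.Quotient.mk J p) = β₀ p := fun p => rfl
  let α : A →ₐ[R] B := IsScalarTower.toAlgHom R A B
  have hαmk : ∀ x : A, α x = Ideal.Quotient.mk J (Polynomial.C (MvPolynomial.C x)) := fun x => rfl
  -- the map `f₁ : B → C[z]`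
  let F₁ : PZ →ₐ[R] Polynomial C := Polynomial.mapAlgHom π'
  have hF₁ker : ∀ p : PZ, F₁ p = 0 → p ∈ Ideal.map Polynomial.C K := by
    intro p hp
    have : p ∈ RingHom.ker (Polynomial.mapRingHom π'.toRingHom) := by
      rw [RingHom.mem_ker]
      exact hp
    rwa [Polynomial.ker_mapRingHom] at this
  have hF₁ker' : ∀ p : PZ, p ∈ Ideal.map Polynomial.C K → F₁ p = 0 := by
    intro p hp
    have : p ∈ RingHom.ker (Polynomial.mapRingHom π'.toRingHom) := by
      rwa [Polynomial.ker_mapRingHom]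
    exact this
  have hF₁J : ∀ p ∈ J, F₁ p = 0 := by
    have h2 : J ≤ RingHom.ker F₁.toRingHom := by
      rw [Ideal.mul_le]
      intro x _ y hy
      rw [RingHom.mem_ker]
      change F₁ (x * y) = 0
      rw [map_mul, hF₁ker' y hy, mul_zero]
    intro p hp
    exact h2 hp
  let f₁ : B →ₐ[R] Polynomial C := Ideal.Quotient.liftₐ J F₁ hF₁J
  have hf₁mk : ∀ p : PZ, f₁ (Ideal.Quotient.mk J p) = F₁ p := fun p => rfl
  have hf₁surj : Function.Surjective f₁ := by
    intro q
    obtain ⟨p, hp⟩ := Polynomial.map_surjective π'.toRingHom hπ'surj q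
    exact ⟨Ideal.Quotient.mk J p, hp⟩
  -- the map `f₂ : B → P'`
  let F₂ : PZ →ₐ[R] P' := Polynomial.aevalTower (AlgHom.id R P') 0
  have hF₂ : ∀ p : PZ, F₂ p = p.coeff 0 := fun p => by
    rw [Polynomial.coeff_zero_eq_eval_zero]
    rfl
  have hF₂J : ∀ p ∈ J, F₂ p = 0 := by
    have h2 : J ≤ RingHom.ker F₂.toRingHom := by
      rw [Ideal.mul_le]
      intro x hx y _
      obtain ⟨q, rfl⟩ := Ideal.mem_span_singleton'.1 hx
      rw [RingHom.mem_ker]
      change F₂ (q * Polynomial.X * y) = 0
      rw [hF₂, mul_assoc, mul_comm Polynomial.X, ← mul_assoc, Polynomial.coeff_mul_X_zero]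
    intro p hp
    exact h2 hp
  let f₂ : B →ₐ[R] P' := Ideal.Quotient.liftₐ J F₂ hF₂J
  have hf₂mk : ∀ p : PZ, f₂ (Ideal.Quotient.mk J p) = p.coeff 0 := fun p => hF₂ p
  have hf₂surj : Function.Surjective f₂ := by
    intro q
    exact ⟨Ideal.Quotient.mk J (Polynomial.C q), by rw [hf₂mk, Polynomial.coeff_C_zero]⟩
  refine ⟨B, inferInstance, inferInstance, hfpB, α, β, ?_, ?_, ?_⟩
  · ext x
    rw [AlgHom.comp_apply, hαmk, hβmk, hβ₀C, hψC]
  · intro i hai
    -- `w₂ = C (C (a i) * X (inl i))`
    let w₂ : B := Ideal.Quotient.mk J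
      (Polynomial.C (algebraMap A P' (a i) * MvPolynomial.X (Sum.inl i)))
    refine ⟨w₂, ?_, ?_⟩
    · apply mem_singularIdeal_of_formallySmooth_away
      apply formallySmooth_away_of_surjective f₂ hf₂surj w₂
      · intro x hx
        obtain ⟨p, rfl⟩ := Ideal.Quotient.mk_surjective x
        rw [hf₂mk] at hx
        obtain ⟨q, rfl⟩ := Polynomial.X_dvd_iff.2 hx
        change Ideal.Quotient.mk J _ * Ideal.Quotient.mk J _ = 0
        rw [← map_mul, Ideal.Quotient.eq_zero_iff_mem]
        have hmem : Polynomial.C (MvPolynomial.X (Sum.inl i) : P') ∈ Ideal.map Polynomial.C K :=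
          Ideal.mem_map_of_mem _ ((hKmem _).2 (hπ'l i))
        have := hXmem _ hmem
        have h3 : Polynomial.C (algebraMap A P' (a i) * MvPolynomial.X (Sum.inl i)) *
            (Polynomial.X * q) = (Polynomial.X * Polynomial.C (MvPolynomial.X (Sum.inl i) : P')) *
              (Polynomial.C (algebraMap A P' (a i)) * q) := by
          rw [map_mul]; ring
        rw [h3]
        exact J.mul_mem_right _ this
      · have : f₂ w₂ = algebraMap A P' (a i) * MvPolynomial.X (Sum.inl i) := by
          rw [hf₂mk, Polynomial.coeff_C_zero]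
        rw [this]
        exact formallySmooth_away_mul (a i) (formallySmooth_away_of_mem_singularIdeal hai) _
    · rw [hβmk, hβ₀C, map_mul, hψl, MvPolynomial.algebraMap_eq, hψC, pow_succ']
  · intro c hc
    obtain ⟨ct, hct⟩ := hπ'surj c
    let w₁ : B := Ideal.Quotient.mk J (Polynomial.C ct * Polynomial.X)
    refine ⟨w₁, ?_, ?_⟩
    · apply mem_singularIdeal_of_formallySmooth_away
      apply formallySmooth_away_of_surjective f₁ hf₁surj w₁
      · intro x hx
        obtain ⟨p, rfl⟩ := Ideal.Quotient.mk_surjective x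
        rw [hf₁mk] at hx
        have hp := hF₁ker p hx
        change Ideal.Quotient.mk J _ * Ideal.Quotient.mk J _ = 0
        rw [← map_mul, Ideal.Quotient.eq_zero_iff_mem]
        have h3 : Polynomial.C ct * Polynomial.X * p = (Polynomial.X * p) * Polynomial.C ct := by
          ring
        rw [h3]
        exact J.mul_mem_right _ (hXmem p hp)
      · have : f₁ w₁ = algebraMap C (Polynomial C) c * Polynomial.X := by
          rw [hf₁mk]
          change Polynomial.map _ _ = _
          rw [Polynomial.map_mul, Polynomial.map_C, Polynomial.map_X, Polynomial.algebraMap_apply,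
            Algebra.algebraMap_self, RingHom.id_apply]
          congr 2
        rw [this]
        exact formallySmooth_away_mul c (formallySmooth_away_of_mem_singularIdeal hc) _
    · rw [hβmk, map_mul, hβ₀C, hβ₀X, mul_comm, hkey, hct]

end

end Groth.Agent.H91.Glue
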