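import Mathlib

/-!
# Rescaling the generators of a submersive presentation
-/

set_option autoImplicit false
universe u

open MvPolynomial

namespace Groth.Agent.H91.ElemStdLoc

section scale

variable {K : Type u} [CommRing K] {ι : Type}

/-- the substitution `x_i ↦ c x_i` -/
noncomputable def theta (c : K) : MvPolynomial ι K →ₐ[K] MvPolynomial ι K :=
  aeval (fun i => C c * X i)

lemma theta_X (c : K) (i : ι) : theta c (X i : MvPolynomial ι K) = C c * X i := by
  unfold theta
  rw [aeval_X]

lemma theta_C (c a : K) : theta (ι := ι) c (C a) = C a := by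
  unfold theta
  rw [aeval_C]
  rfl

lemma theta_comp (c d : K) (h : c * d = 1) :
    (theta (ι := ι) c).comp (theta d) = AlgHom.id K _ := by
  apply MvPolynomial.algHom_ext
  intro i
  rw [AlgHom.comp_apply, theta_X, map_mul, theta_X, AlgHom.id_apply, ← mul_assoc]
  have : theta (ι := ι) c (C d) = C d := theta_C c d
  rw [this, ← C_mul, mul_comm d c, h, C_1, one_mul]

lemma theta_theta (c d : K) (h : c * d = 1) (p : MvPolynomial ι K) :
    theta c (theta d p) = p := by
  have := congrArg (fun ψ => ψ p) (theta_comp (ι := ι) c d h)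
  simpa using this

lemma pderiv_theta (c : K) (i : ι) (p : MvPolynomial ι K) :
    pderiv i (theta c p) = C c * theta c (pderiv i p) := by
  classical
  induction p using MvPolynomial.induction_on with
  | C a => rw [theta_C, pderiv_C, map_zero, mul_zero]
  | add p q hp hq => rw [map_add, map_add, hp, hq, map_add, map_add, mul_add]
  | mul_X p k hp =>
    rw [map_mul, theta_X, Derivation.leibniz, Derivation.leibniz, Derivation.leibniz, hp,
      pderiv_C, smul_zero, add_zero]
    by_cases hik : i = k
    · subst hik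
      rw [pderiv_X_self]
      simp only [smul_eq_mul, map_add, map_mul, theta_X, map_one]
      ring
    · rw [pderiv_X_of_ne (Ne.symm hik)]
      simp only [smul_eq_mul, map_add, map_mul, theta_X, map_zero, mul_zero, smul_zero]
      ring

end scale

section pres

variable {K B : Type u} [CommRing K] [CommRing B] [Algebra K B] {ι κ : Type} [Finite ι]
  [Fintype κ] [DecidableEq κ]
  (P : Algebra.SubmersivePresentation K B ι κ) (u : Kˣ)

lemma aeval_scaled : (aeval (R := K) (fun i => (u : K) • P.val i) : MvPolynomial ι K →ₐ[K] B) =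
    (aeval (R := K) P.val).comp (theta (u : K)) := by
  apply MvPolynomial.algHom_ext
  intro i
  rw [aeval_X, AlgHom.comp_apply, theta_X, map_mul, aeval_C, aeval_X, Algebra.smul_def]

theorem exists_scaled :
    ∃ ρ : κ → MvPolynomial ι K,
      (∀ j, aeval (R := K) (fun i => (u : K) • P.val i) (ρ j) = 0) ∧
      RingHom.ker (aeval (R := K) (fun i => (u : K) • P.val i)).toRingHom =
        Ideal.span (Set.range ρ) ∧
      Function.Surjective (aeval (R := K) (fun i => (u : K) • P.val i)) ∧
      IsUnit (aeval (R := K) (fun i => (u : K) • P.val i)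
        (Matrix.det (Matrix.of fun j k : κ => pderiv (P.map k) (ρ j)))) := by
  have huu : (u : K) * ((u⁻¹ : Kˣ) : K) = 1 := u.mul_inv
  have huu' : ((u⁻¹ : Kˣ) : K) * (u : K) = 1 := u.inv_mul
  let ρ : κ → MvPolynomial ι K := fun j => theta ((u⁻¹ : Kˣ) : K) (P.relation j)
  have h1 : ∀ j, aeval (R := K) (fun i => (u : K) • P.val i) (ρ j) = 0 := by
    intro j
    rw [aeval_scaled, AlgHom.comp_apply, theta_theta _ _ huu]
    exact P.aeval_val_relation j
  refine ⟨ρ, h1, ?_, ?_, ?_⟩
  · apply le_antisymm
    · intro p hp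
      have hp' : aeval (R := K) (fun i => (u : K) • P.val i) p = 0 := hp
      rw [aeval_scaled, AlgHom.comp_apply] at hp'
      have h2 : theta (u : K) p ∈ Ideal.span (Set.range P.relation) := by
        rw [P.span_range_relation_eq_ker, Algebra.Generators.ker_eq_ker_aeval_val]
        exact hp'
      have h3 := Ideal.mem_map_of_mem (theta ((u⁻¹ : Kˣ) : K)).toRingHom h2
      rw [Ideal.map_span] at h3
      change theta ((u⁻¹ : Kˣ) : K) (theta (u : K) p) ∈ _ at h3
      rw [theta_theta _ _ huu'] at h3
      have h4 : (theta ((u⁻¹ : Kˣ) : K)).toRingHom '' Set.range P.relation = Set.range ρ := by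
        ext x
        constructor
        · rintro ⟨_, ⟨j, rfl⟩, rfl⟩
          exact ⟨j, rfl⟩
        · rintro ⟨j, rfl⟩
          exact ⟨_, ⟨j, rfl⟩, rfl⟩
      rw [h4] at h3
      exact h3
    · rw [Ideal.span_le]
      rintro _ ⟨j, rfl⟩
      exact h1 j
  · intro b
    refine ⟨theta ((u⁻¹ : Kˣ) : K) (P.σ b), ?_⟩
    rw [aeval_scaled, AlgHom.comp_apply, theta_theta _ _ huu]
    exact P.aeval_val_σ b
  · have hM : (Matrix.of fun j k : κ => pderiv (P.map k) (ρ j)) =
        (C ((u⁻¹ : Kˣ) : K) : MvPolynomial ι K) • (theta ((u⁻¹ : Kˣ) : K)).mapMatrix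
          (Matrix.of fun j k : κ => pderiv (P.map k) (P.relation j)) := by
      refine Matrix.ext fun j k => ?_
      simp only [Matrix.of_apply, Matrix.smul_apply, AlgHom.mapMatrix_apply, Matrix.map_apply,
        smul_eq_mul]
      exact pderiv_theta (K := K) (ι := ι) ((u⁻¹ : Kˣ) : K) (P.map k) (P.relation j)
    have hdet : ((theta ((u⁻¹ : Kˣ) : K)).mapMatrix
        (Matrix.of fun j k : κ => pderiv (P.map k) (P.relation j))).det =
        theta ((u⁻¹ : Kˣ) : K)
          (Matrix.of fun j k : κ => pderiv (P.map k) (P.relation j)).det :=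
      (AlgHom.map_det _ _).symm
    rw [hM, Matrix.det_smul, hdet, map_mul, map_pow, aeval_C, aeval_scaled,
      AlgHom.comp_apply, theta_theta _ _ huu]
    refine IsUnit.mul (IsUnit.pow _ ((u⁻¹).isUnit.map (algebraMap K B))) ?_
    have hjac := P.jacobian_isUnit
    rw [P.jacobian_eq_jacobiMatrix_det, P.algebraMap_eq] at hjac
    have hT : P.jacobiMatrix =
        (Matrix.of fun j k : κ => pderiv (P.map k) (P.relation j)).transpose := by
      ext i j
      rw [Algebra.PreSubmersivePresentation.jacobiMatrix_apply]
      rfl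
    rw [hT, Matrix.det_transpose] at hjac
    exact hjac

end pres

end Groth.Agent.H91.ElemStdLoc
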