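import Mathlib

/-!
# Clearing denominators in polynomial rings over a localization
-/

set_option autoImplicit false
universe u

open MvPolynomial

namespace Groth.Agent.H91.ElemStdLoc

section generic

variable {P T : Type*} [CommRing P] [CommRing T] [Algebra P T] (M : Submonoid P)
  [IsLocalization M T]

lemma exists_mul_mem_of_map_mem (I : Ideal P) (z : P)
    (h : algebraMap P T z ∈ I.map (algebraMap P T)) : ∃ m ∈ M, m * z ∈ I := by
  obtain ⟨⟨i, m⟩, hx⟩ := (IsLocalization.mem_map_algebraMap_iff M T).1 h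
  have h1 : algebraMap P T (z * m - i) = 0 := by
    rw [map_sub, map_mul, sub_eq_zero]
    exact hx
  obtain ⟨m', hm'⟩ := (IsLocalization.map_eq_zero_iff M T _).1 h1
  refine ⟨m' * m, M.mul_mem m'.2 m.2, ?_⟩
  have h2 : (m' : P) * (m : P) * z = m' * (z * m - i) + m' * i := by ring
  rw [h2, hm', zero_add]
  exact I.mul_mem_left _ i.2

end generic

section poly

variable {R Rₛ : Type u} [CommRing R] [CommRing Rₛ] [Algebra R Rₛ] (S : Submonoid R)
  [IsLocalization S Rₛ] {σ : Type*}

attribute [local instance] MvPolynomial.algebraMvPolynomial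

lemma exists_clear_fin {k : ℕ} (p : Fin k → MvPolynomial σ Rₛ) :
    ∃ s ∈ S, ∃ q : Fin k → MvPolynomial σ R,
      ∀ i, MvPolynomial.map (algebraMap R Rₛ) (q i) = C (algebraMap R Rₛ s) * p i := by
  obtain ⟨b, hb⟩ := IsLocalization.exist_integer_multiples (S.map (C (σ := σ)))
    (Finset.univ : Finset (Fin k)) p
  obtain ⟨s, hs, hsb⟩ := b.2
  choose q hq using fun i => hb i (Finset.mem_univ i)
  refine ⟨s, hs, q, fun i => ?_⟩
  have h1 := hq i
  rw [Algebra.smul_def] at h1
  change MvPolynomial.map (algebraMap R Rₛ) (q i) = _ at h1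
  rw [h1, ← hsb]
  change MvPolynomial.map (algebraMap R Rₛ) (C s) * p i = _
  rw [MvPolynomial.map_C]

lemma exists_C_mul_mem (I : Ideal (MvPolynomial σ R)) (z : MvPolynomial σ R)
    (h : MvPolynomial.map (algebraMap R Rₛ) z ∈ I.map (MvPolynomial.map (algebraMap R Rₛ))) :
    ∃ s ∈ S, C s * z ∈ I := by
  obtain ⟨m, hm, hmz⟩ := exists_mul_mem_of_map_mem (T := MvPolynomial σ Rₛ)
    (S.map (C (σ := σ))) I z h
  obtain ⟨s, hs, rfl⟩ := hm
  exact ⟨s, hs, hmz⟩

end poly

section modules

variable {R : Type u} [CommRing R] (S : Submonoid R) {M M' : Type*} [AddCommGroup M]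
  [AddCommGroup M'] [Module R M] [Module R M'] (f : M →ₗ[R] M') [IsLocalizedModule S f]

lemma exists_common_denom {k : ℕ} (y : Fin k → M') :
    ∃ s ∈ S, ∃ x : Fin k → M, ∀ i, s • y i = f (x i) := by
  classical
  choose d hd using fun i => IsLocalizedModule.surj S f (y i)
  refine ⟨∏ i, ((d i).2 : R), Submonoid.prod_mem S fun i _ => (d i).2.2,
    fun i => (∏ j ∈ Finset.univ.erase i, ((d j).2 : R)) • (d i).1, fun i => ?_⟩
  rw [← Finset.mul_prod_erase Finset.univ (fun j => ((d j).2 : R)) (Finset.mem_univ i),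
    mul_comm, mul_smul, map_smul, ← hd i]
  rfl

lemma exists_common_kill {k : ℕ} (x : Fin k → M) (hx : ∀ i, f (x i) = 0) :
    ∃ s ∈ S, ∀ i, s • x i = 0 := by
  classical
  have h0 : ∀ i, f (x i) = f 0 := fun i => by rw [hx i, map_zero]
  choose c hc using fun i => IsLocalizedModule.exists_of_eq (S := S) (f := f) (h0 i)
  refine ⟨∏ i, (c i : R), Submonoid.prod_mem S fun i _ => (c i).2, fun i => ?_⟩
  rw [← Finset.mul_prod_erase Finset.univ (fun j => (c j : R)) (Finset.mem_univ i),
    mul_comm, mul_smul]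
  have := hc i
  rw [smul_zero] at this
  rw [show (c i : R) • x i = c i • x i from rfl, this, smul_zero]

end modules

end Groth.Agent.H91.ElemStdLoc
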