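import Mathlib
import Groth.Prelude.Def_Smoothing
import Groth.Agent.H11.StdReindex
import Groth.Agent.H91.ElemStdLocA

/-!
# Auxiliary lemmas for delocalizing a smooth factorization

* finite-type versions of the denominator-clearing lemmas;
* the elimination lemma `p ≡ ev p` modulo the graph relations `X_k - Q_k`;
* a version of `isElementaryStandard_of_rows_cols` for arbitrary finite index types;
* compatibility of `aeval` with base change.
-/

set_option autoImplicit false
universe u

open MvPolynomial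

namespace Groth.Agent.H91.ElemStdLoc

section poly

variable {R Rₛ : Type u} [CommRing R] [CommRing Rₛ] [Algebra R Rₛ] (S : Submonoid R)
  [IsLocalization S Rₛ] {σ : Type*}

lemma exists_clear {κ : Type*} [Finite κ] (p : κ → MvPolynomial σ Rₛ) :
    ∃ s ∈ S, ∃ q : κ → MvPolynomial σ R,
      ∀ i, MvPolynomial.map (algebraMap R Rₛ) (q i) = C (algebraMap R Rₛ s) * p i := by
  obtain ⟨s, hs, q, hq⟩ := exists_clear_fin S (fun i => p ((Finite.equivFin κ).symm i))
  refine ⟨s, hs, fun i => q (Finite.equivFin κ i), fun i => ?_⟩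
  rw [hq, Equiv.symm_apply_apply]

lemma exists_common_C_mul_mem {κ : Type*} [Finite κ] (I : Ideal (MvPolynomial σ R))
    (z : κ → MvPolynomial σ R) (h : ∀ l, ∃ s ∈ S, C s * z l ∈ I) :
    ∃ s ∈ S, ∀ l, C s * z l ∈ I := by
  classical
  have := Fintype.ofFinite κ
  choose c hc hcz using h
  refine ⟨∏ l, c l, Submonoid.prod_mem S fun l _ => hc l, fun l => ?_⟩
  rw [← Finset.mul_prod_erase Finset.univ c (Finset.mem_univ l), mul_comm (c l), C_mul, mul_assoc]
  exact I.mul_mem_left _ (hcz l)

end poly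

section modules

variable {R : Type u} [CommRing R] (S : Submonoid R) {M M' : Type*} [AddCommGroup M]
  [AddCommGroup M'] [Module R M] [Module R M'] (f : M →ₗ[R] M') [IsLocalizedModule S f]

lemma exists_common_denom' {κ : Type*} [Finite κ] (y : κ → M') :
    ∃ s ∈ S, ∃ x : κ → M, ∀ i, s • y i = f (x i) := by
  obtain ⟨s, hs, x, hx⟩ := exists_common_denom S f (fun i => y ((Finite.equivFin κ).symm i))
  refine ⟨s, hs, fun i => x (Finite.equivFin κ i), fun i => ?_⟩
  rw [← hx, Equiv.symm_apply_apply]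

lemma exists_common_kill' {κ : Type*} [Finite κ] (x : κ → M) (hx : ∀ i, f (x i) = 0) :
    ∃ s ∈ S, ∀ i, s • x i = 0 := by
  obtain ⟨s, hs, h⟩ := exists_common_kill S f (fun i => x ((Finite.equivFin κ).symm i))
    (fun i => hx _)
  refine ⟨s, hs, fun i => ?_⟩
  have := h (Finite.equivFin κ i)
  rwa [Equiv.symm_apply_apply] at this

end modules

section elim

variable {K : Type u} [CommRing K] {ι τ : Type*} (Q : τ → MvPolynomial ι K)

/-- substitute `Q k` for the variables `inr k` -/
noncomputable def ev : MvPolynomial (ι ⊕ τ) K →ₐ[K] MvPolynomial ι K := aeval (Sum.elim X Q)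

lemma ev_X_inl (i : ι) : ev Q (X (Sum.inl i)) = X i := by
  unfold ev
  rw [aeval_X, Sum.elim_inl]

lemma ev_X_inr (k : τ) : ev Q (X (Sum.inr k)) = Q k := by
  unfold ev
  rw [aeval_X, Sum.elim_inr]

lemma sub_rename_ev_mem (p : MvPolynomial (ι ⊕ τ) K) :
    p - rename Sum.inl (ev Q p) ∈
      Ideal.span (Set.range fun k => (X (Sum.inr k) : MvPolynomial (ι ⊕ τ) K) -
        rename Sum.inl (Q k)) := by
  induction p using MvPolynomial.induction_on with
  | C a =>
    have : ev Q (C a) = C a := by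
      unfold ev
      rw [aeval_C]
      rfl
    rw [this, rename_C, sub_self]
    exact Ideal.zero_mem _
  | add p q hp hq =>
    have : (p + q) - rename Sum.inl (ev Q (p + q)) =
        (p - rename Sum.inl (ev Q p)) + (q - rename Sum.inl (ev Q q)) := by
      rw [map_add, map_add]; ring
    rw [this]
    exact Ideal.add_mem _ hp hq
  | mul_X p i hp =>
    have : p * X i - rename Sum.inl (ev Q (p * X i)) =
        (p - rename Sum.inl (ev Q p)) * X i +
          rename Sum.inl (ev Q p) * (X i - rename Sum.inl (ev Q (X i))) := by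
      rw [map_mul, map_mul]; ring
    rw [this]
    refine Ideal.add_mem _ (Ideal.mul_mem_right _ _ hp) (Ideal.mul_mem_left _ _ ?_)
    cases i with
    | inl i =>
      rw [ev_X_inl, rename_X, sub_self]
      exact Ideal.zero_mem _
    | inr k =>
      rw [ev_X_inr]
      exact Ideal.subset_span ⟨k, rfl⟩

end elim

section reindex

variable {R A : Type u} [CommRing R] [CommRing A] [Algebra R A]

theorem isElementaryStandard_of_fintype {ι κ γ : Type} [Finite ι] [Finite κ] [Fintype γ]
    [DecidableEq γ] (f : κ → MvPolynomial ι R) (φ : MvPolynomial ι R →ₐ[R] A)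
    (hφ : Function.Surjective φ)
    (hker : RingHom.ker φ.toRingHom = Ideal.span (Set.range f))
    (rows : γ ↪ κ) (cols : γ ↪ ι) (a a' : A)
    (ha : a = a' * φ (Matrix.det (Matrix.of fun j k : γ => pderiv (cols k) (f (rows j)))))
    (hkill : ∀ a₁ : MvPolynomial ι R, φ a₁ = a → ∀ ℓ : κ,
      a₁ * f ℓ ∈ Ideal.span (Set.range (f ∘ rows)) ⊔ Ideal.span (Set.range f) ^ 2) :
    Smoothing.IsElementaryStandard R A a := by
  classical
  obtain ⟨n, ⟨eι⟩⟩ := Finite.exists_equiv_fin ι
  obtain ⟨m, ⟨eκ⟩⟩ := Finite.exists_equiv_fin κ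
  let eγ : γ ≃ Fin (Fintype.card γ) := Fintype.equivFin γ
  let E : MvPolynomial ι R ≃ₐ[R] MvPolynomial (Fin n) R := renameEquiv R eι
  have hE : ∀ p, E p = rename eι p := fun p => rfl
  let f' : Fin m → MvPolynomial (Fin n) R := fun j => E (f (eκ.symm j))
  let φ' : MvPolynomial (Fin n) R →ₐ[R] A := φ.comp E.symm.toAlgHom
  have hφ' : ∀ p, φ' p = φ (E.symm p) := fun p => rfl
  have hmemker : ∀ p, φ p = 0 ↔ p ∈ Ideal.span (Set.range f) := by
    intro p
    rw [← hker]; rfl
  have hmap : ∀ p, p ∈ Ideal.span (Set.range f) → E p ∈ Ideal.span (Set.range f') := by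
    intro p hp
    have h1 : E p ∈ (Ideal.span (Set.range f)).map (E : MvPolynomial ι R →+* _) :=
      Ideal.mem_map_of_mem _ hp
    rw [Ideal.map_span] at h1
    refine Ideal.span_mono ?_ h1
    rintro _ ⟨_, ⟨j, rfl⟩, rfl⟩
    exact ⟨eκ j, by simp [f']⟩
  have hmap' : ∀ p, p ∈ Ideal.span (Set.range f') → E.symm p ∈ Ideal.span (Set.range f) := by
    intro p hp
    have h1 : E.symm p ∈ (Ideal.span (Set.range f')).map
        (E.symm : MvPolynomial (Fin n) R →+* _) := Ideal.mem_map_of_mem _ hp
    rw [Ideal.map_span] at h1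
    refine Ideal.span_mono ?_ h1
    rintro _ ⟨_, ⟨j, rfl⟩, rfl⟩
    exact ⟨eκ.symm j, by simp [f']⟩
  let rows' : Fin (Fintype.card γ) ↪ Fin m :=
    (eγ.symm.toEmbedding.trans rows).trans eκ.toEmbedding
  let cols' : Fin (Fintype.card γ) ↪ Fin n :=
    (eγ.symm.toEmbedding.trans cols).trans eι.toEmbedding
  have hrows' : ∀ j, rows' j = eκ (rows (eγ.symm j)) := fun j => rfl
  have hcols' : ∀ j, cols' j = eι (cols (eγ.symm j)) := fun j => rfl
  have hminor : Smoothing.jacobianMinor f' rows' cols' =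
      E (Matrix.det (Matrix.of fun j k : γ => pderiv (cols k) (f (rows j)))) := by
    unfold Smoothing.jacobianMinor
    rw [← Matrix.det_submatrix_equiv_self eγ.symm
      (Matrix.of fun j k : γ => pderiv (cols k) (f (rows j))), hE, AlgHom.map_det]
    congr 1
    refine Matrix.ext fun j k => ?_
    simp only [Matrix.of_apply, AlgHom.mapMatrix_apply, Matrix.map_apply,
      Matrix.submatrix_apply]
    rw [hcols', hrows']
    change pderiv (eι (cols (eγ.symm k))) (E (f (eκ.symm (eκ (rows (eγ.symm j)))))) = _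
    rw [Equiv.symm_apply_apply, hE]
    exact pderiv_rename eι.injective _ _
  refine Groth.Agent.H11.StdReindex.isElementaryStandard_of_rows_cols f' φ'
    (hφ.comp E.symm.surjective) ?_ rows' cols' a a' ?_ ?_
  · ext p
    rw [RingHom.mem_ker]
    change φ (E.symm p) = 0 ↔ _
    rw [hmemker]
    constructor
    · intro h
      have := hmap _ h
      rwa [AlgEquiv.apply_symm_apply] at this
    · exact hmap' p
  · rw [hminor, hφ', AlgEquiv.symm_apply_apply]
    exact ha
  · intro a₁ ha₁ ℓ
    have h1 : φ (E.symm a₁) = a := ha₁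
    have h2 := hkill _ h1 (eκ.symm ℓ)
    have h3 : E (E.symm a₁ * f (eκ.symm ℓ)) ∈
        (Ideal.span (Set.range (f ∘ rows)) ⊔ Ideal.span (Set.range f) ^ 2).map
          (E : MvPolynomial ι R →+* _) := Ideal.mem_map_of_mem _ h2
    rw [map_mul, AlgEquiv.apply_symm_apply, Ideal.map_sup, Ideal.map_pow, Ideal.map_span,
      Ideal.map_span] at h3
    change a₁ * E (f (eκ.symm ℓ)) ∈ _
    refine SetLike.le_def.mp ?_ h3
    apply sup_le_sup
    · apply Ideal.span_mono
      rintro _ ⟨_, ⟨i, rfl⟩, rfl⟩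
      refine ⟨eγ i, ?_⟩
      simp [f', rows']
    · apply Ideal.pow_right_mono
      apply Ideal.span_mono
      rintro _ ⟨_, ⟨i, rfl⟩, rfl⟩
      exact ⟨eκ i, by simp [f']⟩

end reindex

section tensor

open TensorProduct

variable {R K Λ : Type u} [CommRing R] [CommRing K] [Algebra R K] [CommRing Λ] [Algebra R Λ]
  {ι : Type*}

lemma aeval_map_tmul (lam : ι → Λ) (G : MvPolynomial ι R) :
    aeval (R := K) (fun i => (1 : K) ⊗ₜ[R] lam i) (MvPolynomial.map (algebraMap R K) G) =
      (1 : K) ⊗ₜ[R] (aeval lam G) := by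
  rw [MvPolynomial.aeval_map_algebraMap]
  exact (MvPolynomial.comp_aeval_apply lam
    (Algebra.TensorProduct.includeRight : Λ →ₐ[R] K ⊗[R] Λ) G).symm

end tensor

end Groth.Agent.H91.ElemStdLoc
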