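import Mathlib
import Groth.Prelude.Def_Smoothing
import Groth.Agent.H91.ElemStdLocC

/-!
# Delocalizing: the core polynomial computation
-/

set_option autoImplicit false
universe u

open MvPolynomial

namespace Groth.Agent.H91.ElemStdLoc

section aux

variable {K : Type u} [CommRing K] {σ τ : Type*}

lemma mem_of_C_mul_mem {I : Ideal (MvPolynomial σ K)} {x : MvPolynomial σ K} {a : K}
    (ha : IsUnit a) (h : C a * x ∈ I) : x ∈ I := by
  obtain ⟨b, hb⟩ := ha.exists_left_inv
  have : x = C b * (C a * x) := by rw [← mul_assoc, ← C_mul, hb, C_1, one_mul]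
  rw [this]
  exact I.mul_mem_left _ h

lemma pderiv_inr_rename_inl (k : τ) (p : MvPolynomial σ K) :
    pderiv (Sum.inr k) (rename Sum.inl p : MvPolynomial (σ ⊕ τ) K) = 0 := by
  classical
  refine pderiv_eq_zero_of_notMem_vars (fun hmem => ?_)
  apply MvPolynomial.vars_rename at hmem
  simp at hmem

end aux

section core

variable {R K : Type u} [CommRing R] [CommRing K] [Algebra R K] (S : Submonoid R)
  [IsLocalization S K]
  {ι κ : Type} [Finite ι] [Fintype κ] [DecidableEq κ] {t u : ℕ}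
  (colmap : κ ↪ ι)
  (G : κ → MvPolynomial ι R) (q : Fin t → MvPolynomial ι R)
  (r : Fin u → MvPolynomial (Fin t) R) (c₁ : R)

/-- the relations -/
noncomputable def rel : (κ ⊕ Fin t) ⊕ Fin u → MvPolynomial (ι ⊕ Fin t) R :=
  Sum.elim (Sum.elim (fun j => rename Sum.inl (G j))
    (fun k => C c₁ * X (Sum.inr k) - rename Sum.inl (q k)))
    (fun l => rename Sum.inr (r l))

lemma rel_inl_inl (j : κ) : rel G q r c₁ (Sum.inl (Sum.inl j)) = rename Sum.inl (G j) := rfl

lemma rel_inl_inr (k : Fin t) : rel G q r c₁ (Sum.inl (Sum.inr k)) =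
    C c₁ * X (Sum.inr k) - rename Sum.inl (q k) := rfl

lemma rel_inr (l : Fin u) : rel G q r c₁ (Sum.inr l) = rename Sum.inr (r l) := rfl

lemma det_minor :
    Matrix.det (Matrix.of fun j k : κ ⊕ Fin t =>
      pderiv (Sum.map colmap id k) (rel G q r c₁ (Sum.inl j))) =
    rename Sum.inl (Matrix.det (Matrix.of fun j k : κ => pderiv (colmap k) (G j))) *
      C c₁ ^ t := by
  have hM : (Matrix.of fun j k : κ ⊕ Fin t =>
      pderiv (Sum.map colmap id k) (rel G q r c₁ (Sum.inl j))) =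
      Matrix.fromBlocks
        ((rename Sum.inl : MvPolynomial ι R →ₐ[R] MvPolynomial (ι ⊕ Fin t) R).mapMatrix
          (Matrix.of fun j k : κ => pderiv (colmap k) (G j))) 0
        (Matrix.of fun (j : Fin t) (k : κ) =>
          pderiv (Sum.inl (colmap k)) (rel G q r c₁ (Sum.inl (Sum.inr j))))
        ((C c₁ : MvPolynomial (ι ⊕ Fin t) R) • (1 : Matrix (Fin t) (Fin t) _)) := by
    refine Matrix.ext fun j k => ?_
    rcases j with j | j <;> rcases k with k | k
    · simp only [Matrix.of_apply, Matrix.fromBlocks_apply₁₁, AlgHom.mapMatrix_apply,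
        Matrix.map_apply, Sum.map_inl, rel_inl_inl]
      exact pderiv_rename Sum.inl_injective _ _
    · simp only [Matrix.of_apply, Matrix.fromBlocks_apply₁₂, Sum.map_inr, rel_inl_inl,
        Matrix.zero_apply, id_eq]
      exact pderiv_inr_rename_inl k _
    · simp only [Matrix.of_apply, Matrix.fromBlocks_apply₂₁, Sum.map_inl]
    · simp only [Matrix.of_apply, Matrix.fromBlocks_apply₂₂, Sum.map_inr, rel_inl_inr, id_eq,
        Matrix.smul_apply, smul_eq_mul, map_sub, pderiv_inr_rename_inl, sub_zero, pderiv_C_mul]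
      by_cases hjk : j = k
      · subst hjk
        rw [pderiv_X_self, Matrix.one_apply_eq]
      · rw [pderiv_X_of_ne (fun h => hjk (Sum.inr_injective h)), Matrix.one_apply_ne hjk]
  rw [hM, Matrix.det_fromBlocks_zero₁₂, ← AlgHom.map_det, Matrix.det_smul, Matrix.det_one,
    mul_one, Fintype.card_fin]

section loc

variable {B' : Type u} [CommRing B'] [Algebra K B'] (v : ι → B') (ρ : κ → MvPolynomial ι K)
  (hker : ∀ p, aeval (R := K) v p = 0 → p ∈ Ideal.span (Set.range ρ))
  (s : R) (hs : s ∈ S)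
  (hG : ∀ j, MvPolynomial.map (algebraMap R K) (G j) = C (algebraMap R K s) * ρ j)

include hs hG in
lemma span_rho_le : Ideal.span (Set.range ρ) ≤
    (Ideal.span (Set.range G)).map (MvPolynomial.map (algebraMap R K)) := by
  rw [Ideal.span_le]
  rintro _ ⟨j, rfl⟩
  apply mem_of_C_mul_mem (IsLocalization.map_units K (⟨s, hs⟩ : S))
  change C (algebraMap R K s) * ρ j ∈ _
  rw [← hG j]
  exact Ideal.mem_map_of_mem _ (Ideal.subset_span ⟨j, rfl⟩)

include hG in
lemma map_det_G :
    MvPolynomial.map (algebraMap R K)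
      (Matrix.det (Matrix.of fun j k : κ => pderiv (colmap k) (G j))) =
    C (algebraMap R K s) ^ Fintype.card κ *
      Matrix.det (Matrix.of fun j k : κ => pderiv (colmap k) (ρ j)) := by
  rw [RingHom.map_det, ← Matrix.det_smul]
  congr 1
  refine Matrix.ext fun j k => ?_
  simp only [RingHom.mapMatrix_apply, Matrix.map_apply, Matrix.of_apply, Matrix.smul_apply,
    smul_eq_mul]
  rw [← pderiv_map, hG j, pderiv_C_mul]

include hker hs hG in
lemma exists_det_inverse (hsurj : Function.Surjective (aeval (R := K) v))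
    (hunit : IsUnit (aeval (R := K) v
      (Matrix.det (Matrix.of fun j k : κ => pderiv (colmap k) (ρ j))))) :
    ∃ s₁ ∈ S, ∃ D : MvPolynomial ι R,
      C s₁ - D * Matrix.det (Matrix.of fun j k : κ => pderiv (colmap k) (G j)) ∈
        Ideal.span (Set.range G) := by
  set Δρ := Matrix.det (Matrix.of fun j k : κ => pderiv (colmap k) (ρ j)) with hΔρ
  set ΔG := Matrix.det (Matrix.of fun j k : κ => pderiv (colmap k) (G j)) with hΔG
  obtain ⟨e, he⟩ := hunit.exists_left_inv
  obtain ⟨E, rfl⟩ := hsurj e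
  have h1 : 1 - E * Δρ ∈ Ideal.span (Set.range ρ) := by
    apply hker
    rw [map_sub, map_mul, he, map_one, sub_self]
  obtain ⟨s₂, hs₂, E', hE'⟩ := exists_clear S (fun _ : Unit => E)
  have hΔ := map_det_G colmap G ρ s hG
  rw [← hΔρ, ← hΔG] at hΔ
  set c := Fintype.card κ
  let z : MvPolynomial ι R := C (s₂ * s ^ c) - E' () * ΔG
  have hz : MvPolynomial.map (algebraMap R K) z =
      C (algebraMap R K (s₂ * s ^ c)) * (1 - E * Δρ) := by
    have e1 : MvPolynomial.map (algebraMap R K) (E' () * ΔG) =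
        (C (algebraMap R K s₂) * E) * (C (algebraMap R K s) ^ c * Δρ) := by
      rw [map_mul, hE' (), hΔ]
    rw [map_sub, map_C, e1, map_mul, map_pow, C_mul, C_pow]
    ring
  have hmem : MvPolynomial.map (algebraMap R K) z ∈
      (Ideal.span (Set.range G)).map (MvPolynomial.map (algebraMap R K)) := by
    rw [hz]
    exact Ideal.mul_mem_left _ _ (span_rho_le S G ρ s hs hG h1)
  obtain ⟨s₃, hs₃, h3⟩ := exists_C_mul_mem S _ z hmem
  refine ⟨s₃ * (s₂ * s ^ c), S.mul_mem hs₃ (S.mul_mem hs₂ (S.pow_mem hs c)), C s₃ * E' (), ?_⟩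
  have : C (s₃ * (s₂ * s ^ c)) - C s₃ * E' () * ΔG = C s₃ * z := by
    rw [C_mul (a := s₃)]
    ring
  rw [this]
  exact h3

variable (Q : Fin t → MvPolynomial ι K) (hc₁ : c₁ ∈ S)
  (hq : ∀ k, MvPolynomial.map (algebraMap R K) (q k) = C (algebraMap R K c₁) * Q k)
  (hr : ∀ l, aeval (R := K) (fun k => aeval (R := K) v (Q k))
    (MvPolynomial.map (algebraMap R K) (r l)) = 0)

include hker hs hG hc₁ hq hr in
lemma exists_C_mul_tail (l : Fin u) :
    ∃ sl ∈ S, C sl * rename Sum.inr (r l) ∈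
      Ideal.span (Set.range (rel G q r c₁ ∘ Sum.inl)) := by
  set L : MvPolynomial (ι ⊕ Fin t) R →+* MvPolynomial (ι ⊕ Fin t) K :=
    MvPolynomial.map (algebraMap R K) with hL
  set IK := (Ideal.span (Set.range (rel G q r c₁ ∘ Sum.inl))).map L with hIK
  have hmemL : ∀ j, L (rel G q r c₁ (Sum.inl j)) ∈ IK := fun j =>
    Ideal.mem_map_of_mem _ (Ideal.subset_span ⟨j, rfl⟩)
  have h1 : ∀ j, rename Sum.inl (ρ j) ∈ IK := by
    intro j
    apply mem_of_C_mul_mem (IsLocalization.map_units K (⟨s, hs⟩ : S))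
    have : C (algebraMap R K s) * rename Sum.inl (ρ j) = L (rel G q r c₁ (Sum.inl (Sum.inl j))) := by
      rw [rel_inl_inl, hL, map_rename, hG j, map_mul, rename_C]
    change C (algebraMap R K s) * rename Sum.inl (ρ j) ∈ IK
    rw [this]
    exact hmemL _
  have h2 : ∀ k, (X (Sum.inr k) : MvPolynomial (ι ⊕ Fin t) K) - rename Sum.inl (Q k) ∈ IK := by
    intro k
    apply mem_of_C_mul_mem (IsLocalization.map_units K (⟨c₁, hc₁⟩ : S))
    have : C (algebraMap R K c₁) * ((X (Sum.inr k) : MvPolynomial (ι ⊕ Fin t) K) -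
        rename Sum.inl (Q k)) = L (rel G q r c₁ (Sum.inl (Sum.inr k))) := by
      rw [rel_inl_inr, hL, map_sub, map_mul, map_C, map_X, map_rename, hq k, map_mul, rename_C]
      ring
    change C (algebraMap R K c₁) * _ ∈ IK
    rw [this]
    exact hmemL _
  let Γ : MvPolynomial (ι ⊕ Fin t) K →ₐ[K] B' :=
    aeval (Sum.elim v (fun k => aeval (R := K) v (Q k)))
  have hΓ : ∀ p, Γ p = aeval (R := K) v (ev Q p) := by
    intro p
    have : Γ = (aeval (R := K) v).comp (ev Q) := by
      apply MvPolynomial.algHom_ext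
      intro i
      rcases i with i | k
      · rw [AlgHom.comp_apply, ev_X_inl, aeval_X, aeval_X, Sum.elim_inl]
      · rw [AlgHom.comp_apply, ev_X_inr, aeval_X, Sum.elim_inr]
    rw [this, AlgHom.comp_apply]
  have hkerΓ : ∀ p, Γ p = 0 → p ∈ IK := by
    intro p hp
    have h3 := sub_rename_ev_mem Q p
    have h4 : p = (p - rename Sum.inl (ev Q p)) + rename Sum.inl (ev Q p) := by ring
    rw [h4]
    refine Ideal.add_mem _ ?_ ?_
    · refine SetLike.le_def.mp ?_ h3
      rw [Ideal.span_le]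
      rintro _ ⟨k, rfl⟩
      exact h2 k
    · rw [hΓ] at hp
      have h5 := hker _ hp
      have h6 : rename Sum.inl (ev Q p) ∈ (Ideal.span (Set.range ρ)).map
          (rename Sum.inl : MvPolynomial ι K →ₐ[K] MvPolynomial (ι ⊕ Fin t) K).toRingHom :=
        Ideal.mem_map_of_mem _ h5
      rw [Ideal.map_span] at h6
      refine SetLike.le_def.mp ?_ h6
      rw [Ideal.span_le]
      rintro _ ⟨_, ⟨j, rfl⟩, rfl⟩
      exact h1 j
  apply exists_C_mul_mem (Rₛ := K) S
  apply hkerΓ
  rw [map_rename]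
  change aeval _ (rename Sum.inr _) = 0
  rw [aeval_rename]
  exact hr l

include hker hs hG hc₁ hq hr in
theorem isElementaryStandard_core (hcol : Function.Injective colmap)
    (hsurj : Function.Surjective (aeval (R := K) v))
    (hunit : IsUnit (aeval (R := K) v
      (Matrix.det (Matrix.of fun j k : κ => pderiv (colmap k) (ρ j))))) :
    ∃ s' ∈ S, Smoothing.IsElementaryStandard R
      (MvPolynomial (ι ⊕ Fin t) R ⧸ Ideal.span (Set.range (rel G q r c₁)))
      (algebraMap R _ s') := by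
  obtain ⟨s₁, hs₁, D, hD⟩ := exists_det_inverse S colmap G v ρ hker s hs hG hsurj hunit
  obtain ⟨sP, hsP, hP⟩ := exists_common_C_mul_mem S
    (Ideal.span (Set.range (rel G q r c₁ ∘ Sum.inl))) (fun l => rename Sum.inr (r l))
    (exists_C_mul_tail S G q r c₁ v ρ hker s hs hG Q hc₁ hq hr)
  set I := Ideal.span (Set.range (rel G q r c₁)) with hI
  set ΔG := Matrix.det (Matrix.of fun j k : κ => pderiv (colmap k) (G j)) with hΔG
  have hlead_le : Ideal.span (Set.range (rel G q r c₁ ∘ Sum.inl)) ≤ I := by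
    apply Ideal.span_mono
    rintro _ ⟨j, rfl⟩
    exact ⟨Sum.inl j, rfl⟩
  refine ⟨sP * s₁ * c₁ ^ t, S.mul_mem (S.mul_mem hsP hs₁) (S.pow_mem hc₁ t), ?_⟩
  refine isElementaryStandard_of_fintype (rel G q r c₁) (Ideal.Quotient.mkₐ R I)
    (Ideal.Quotient.mkₐ_surjective R I) ?_ ⟨Sum.inl, Sum.inl_injective⟩
    ⟨Sum.map colmap id, Function.Injective.sumMap hcol Function.injective_id⟩ _
    (Ideal.Quotient.mkₐ R I (C sP * rename Sum.inl D)) ?_ ?_
  · ext p
    rw [RingHom.mem_ker]
    change Ideal.Quotient.mk I p = 0 ↔ _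
    rw [Ideal.Quotient.eq_zero_iff_mem]
  · change _ = _ * Ideal.Quotient.mkₐ R I (Matrix.det (Matrix.of fun j k : κ ⊕ Fin t =>
      pderiv (Sum.map colmap id k) (rel G q r c₁ (Sum.inl j))))
    rw [det_minor, ← hΔG, ← map_mul]
    have h1 : algebraMap R (MvPolynomial (ι ⊕ Fin t) R ⧸ I) (sP * s₁ * c₁ ^ t) =
        Ideal.Quotient.mkₐ R I (C (sP * s₁ * c₁ ^ t)) := rfl
    rw [h1]
    change Ideal.Quotient.mk I _ = Ideal.Quotient.mk I _
    rw [Ideal.Quotient.eq]
    have h2 : (C (sP * s₁ * c₁ ^ t) - C sP * rename Sum.inl D * (rename Sum.inl ΔG * C c₁ ^ t) :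
        MvPolynomial (ι ⊕ Fin t) R) =
        C sP * C c₁ ^ t * rename Sum.inl (C s₁ - D * ΔG) := by
      simp only [map_sub, map_mul, rename_C, C_mul, C_pow, map_pow]
      ring
    rw [h2]
    refine I.mul_mem_left _ ?_
    have h3 : rename Sum.inl (C s₁ - D * ΔG) ∈ (Ideal.span (Set.range G)).map
        (rename Sum.inl : MvPolynomial ι R →ₐ[R] MvPolynomial (ι ⊕ Fin t) R).toRingHom :=
      Ideal.mem_map_of_mem _ hD
    rw [Ideal.map_span] at h3
    refine SetLike.le_def.mp ?_ h3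
    rw [Ideal.span_le]
    rintro _ ⟨_, ⟨j, rfl⟩, rfl⟩
    exact Ideal.subset_span ⟨Sum.inl (Sum.inl j), rfl⟩
  · intro a₁ ha₁ ℓ
    have hk : a₁ - C (sP * s₁ * c₁ ^ t) ∈ I := by
      rw [← Ideal.Quotient.eq]
      exact ha₁
    have h4 : a₁ * rel G q r c₁ ℓ = (a₁ - C (sP * s₁ * c₁ ^ t)) * rel G q r c₁ ℓ +
        C (sP * s₁ * c₁ ^ t) * rel G q r c₁ ℓ := by ring
    rw [h4]
    refine Ideal.add_mem _ (Ideal.mem_sup_right ?_) (Ideal.mem_sup_left ?_)
    · rw [sq]
      exact Ideal.mul_mem_mul hk (Ideal.subset_span ⟨ℓ, rfl⟩)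
    · rcases ℓ with ℓ | l
      · exact Ideal.mul_mem_left _ _ (Ideal.subset_span ⟨ℓ, rfl⟩)
      · rw [rel_inr]
        have h5 : (C (sP * s₁ * c₁ ^ t) * rename Sum.inr (r l) : MvPolynomial (ι ⊕ Fin t) R) =
            C (s₁ * c₁ ^ t) * (C sP * rename Sum.inr (r l)) := by
          rw [← mul_assoc, ← C_mul]
          congr 2
          ring
        rw [h5]
        exact Ideal.mul_mem_left _ _ (hP l)

end loc

end core

end Groth.Agent.H91.ElemStdLoc
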