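import Mathlib
import Groth.Prelude.Def_Smoothing
import Groth.Agent.H91.ElemStdLocF
import Groth.Agent.H91.DelocA

/-!
# From a local resolution to a factorization through `Λ_𝔮` with an elementary standard element
-/

set_option autoImplicit false
universe u

open TensorProduct

namespace Groth.Agent.H91.Deloc

theorem stage1 {R A Λ Rₚ Λq : Type u} [CommRing R] [CommRing A]
    [Algebra R A] [Algebra.FinitePresentation R A] [CommRing Λ] [Algebra R Λ] (φ : A →ₐ[R] Λ)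
    (𝔮 : Ideal Λ) [𝔮.IsPrime]
    [CommRing Rₚ] [Algebra R Rₚ] [IsLocalization.AtPrime Rₚ (𝔮.comap (algebraMap R Λ))]
    [CommRing Λq] [Algebra Λ Λq] [IsLocalization.AtPrime Λq 𝔮] [Algebra R Λq] [IsScalarTower R Λ Λq]
    [Algebra Rₚ Λq] [IsScalarTower R Rₚ Λq]
    (hres : Smoothing.Resolvable Rₚ
      (Algebra.TensorProduct.lift (Algebra.ofId Rₚ Λq) ((IsScalarTower.toAlgHom R Λ Λq).comp φ)
        (fun _ _ => Commute.all _ _) : Rₚ ⊗[R] A →ₐ[Rₚ] Λq) (𝔮.map (algebraMap Λ Λq))) :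
    ∃ (B : Type u) (_ : CommRing B) (_ : Algebra R B) (α : A →ₐ[R] B) (β : B →ₐ[R] Λq),
      β.comp α = (IsScalarTower.toAlgHom R Λ Λq).comp φ ∧
      ∃ s ∈ (𝔮.comap (algebraMap R Λ)).primeCompl,
        Smoothing.IsElementaryStandard R B (algebraMap R B s) := by
  classical
  obtain ⟨B₀, _, _, hfp, g₀, h₀, hgh₀, -, hnot⟩ := hres
  haveI : IsLocalRing Λq := IsLocalization.AtPrime.isLocalRing Λq 𝔮
  have hmax : 𝔮.map (algebraMap Λ Λq) = IsLocalRing.maximalIdeal Λq :=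
    IsLocalization.AtPrime.map_eq_maximalIdeal 𝔮 Λq
  obtain ⟨b₀, hb₀, hb₀q⟩ : ∃ b₀ ∈ Smoothing.singularIdeal Rₚ B₀,
      h₀ b₀ ∉ 𝔮.map (algebraMap Λ Λq) := by
    by_contra hcon
    push Not at hcon
    apply hnot
    unfold Smoothing.singRad
    have hprime : (𝔮.map (algebraMap Λ Λq)).IsPrime := by
      rw [hmax]
      infer_instance
    rw [hprime.radical_le_iff, Ideal.map_le_iff_le_comap]
    intro b hb
    exact hcon b hb
  have hunit : IsUnit (h₀ b₀) := by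
    rw [hmax] at hb₀q
    by_contra hnu
    exact hb₀q ((IsLocalRing.mem_maximalIdeal _).2 hnu)
  haveI : Algebra.Smooth Rₚ (Localization.Away b₀) :=
    Algebra.basicOpen_subset_smoothLocus_iff_smooth.1 (basicOpen_subset_of_mem_singularIdeal hb₀)
  let h₁ : Localization.Away b₀ →ₐ[Rₚ] Λq :=
    IsLocalization.liftAlgHom (M := Submonoid.powers b₀) (f := h₀) (by
      rintro ⟨_, n, rfl⟩
      rw [map_pow]
      exact hunit.pow n)
  have hh₁ : ∀ y, h₁ (algebraMap B₀ (Localization.Away b₀) y) = h₀ y := by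
    intro y
    simp only [h₁]
    rw [IsLocalization.liftAlgHom_apply, IsLocalization.lift_eq]
    rfl
  let g₁ : A →+* Localization.Away b₀ :=
    (algebraMap B₀ (Localization.Away b₀)).comp (g₀.toRingHom.comp
      (Algebra.TensorProduct.includeRight : A →ₐ[R] Rₚ ⊗[R] A).toRingHom)
  have hg₁a : ∀ a, g₁ a = algebraMap B₀ (Localization.Away b₀) (g₀ ((1 : Rₚ) ⊗ₜ[R] a)) :=
    fun a => rfl
  have hg₁ : ∀ r, g₁ (algebraMap R A r) =
      algebraMap Rₚ (Localization.Away b₀) (algebraMap R Rₚ r) := by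
    intro r
    rw [hg₁a]
    have e0 : ((1 : Rₚ) ⊗ₜ[R] algebraMap R A r : Rₚ ⊗[R] A) =
        (algebraMap R Rₚ r) ⊗ₜ[R] (1 : A) := by
      rw [Algebra.algebraMap_eq_smul_one, Algebra.algebraMap_eq_smul_one]
      exact (TensorProduct.smul_tmul r 1 1).symm
    have e1 : ((1 : Rₚ) ⊗ₜ[R] algebraMap R A r : Rₚ ⊗[R] A) =
        algebraMap Rₚ (Rₚ ⊗[R] A) (algebraMap R Rₚ r) := by
      rw [e0, Algebra.TensorProduct.algebraMap_apply]
      rfl
    rw [e1, g₀.commutes, ← IsScalarTower.algebraMap_apply]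
  have hgh₁ : ∀ a, h₁ (g₁ a) = (RingHom.id Λq) (((IsScalarTower.toAlgHom R Λ Λq).comp φ) a) := by
    intro a
    rw [hg₁a, hh₁]
    have := congrArg (fun ψ => ψ ((1 : Rₚ) ⊗ₜ[R] a)) hgh₀
    simp only [AlgHom.comp_apply, Algebra.TensorProduct.lift_tmul, map_one, one_mul] at this
    rw [this]
    rfl
  exact Groth.Agent.H91.ElemStdLoc.delocalize_general (Λ := Λq) (Λₛ := Λq)
    (𝔮.comap (algebraMap R Λ)).primeCompl (RingHom.id Λq)
    (fun r => IsScalarTower.algebraMap_apply R Rₚ Λq r)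
    (fun y => ⟨1, Submonoid.one_mem _, y, by simp⟩)
    (fun z hz => ⟨1, Submonoid.one_mem _, by simpa using hz⟩)
    ((IsScalarTower.toAlgHom R Λ Λq).comp φ) g₁ hg₁ h₁ hgh₁

end Groth.Agent.H91.Deloc
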