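import Mathlib

/-!
# Maps from finitely presented algebras into a localization factor through `Λ[1/t]`
-/

set_option autoImplicit false
universe u

open MvPolynomial

namespace Groth.Agent.H91.Deloc

section kill

variable {Λ Λq : Type u} [CommRing Λ] [CommRing Λq] (T : Submonoid Λ) [Algebra Λ Λq]
  [IsLocalization T Λq]

/-- An element of `Λ[1/t₀]` dying in `T⁻¹Λ` is killed by an element of `T`. -/
lemma exists_kill_away (t₀ : Λ) (ν : Localization.Away t₀ →+* Λq)
    (hν : ∀ l, ν (algebraMap Λ (Localization.Away t₀) l) = algebraMap Λ Λq l)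
    (x : Localization.Away t₀) (hx : ν x = 0) :
    ∃ w ∈ T, algebraMap Λ (Localization.Away t₀) w * x = 0 := by
  obtain ⟨⟨l, m⟩, hlm⟩ := IsLocalization.surj (Submonoid.powers t₀) x
  have h1 : algebraMap Λ Λq l = 0 := by
    rw [← hν, ← hlm, map_mul, hx, zero_mul]
  obtain ⟨w, hw⟩ := (IsLocalization.map_eq_zero_iff T Λq l).1 h1
  refine ⟨w, w.2, ?_⟩
  have hu : IsUnit (algebraMap Λ (Localization.Away t₀) (m : Λ)) :=
    IsLocalization.map_units _ m
  have h2 : algebraMap Λ (Localization.Away t₀) w * x *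
      algebraMap Λ (Localization.Away t₀) (m : Λ) = 0 := by
    rw [mul_assoc, hlm, ← map_mul, hw, map_zero]
  exact (hu.mul_left_eq_zero).1 h2

lemma exists_common_kill_away {κ : Type*} [Finite κ] (t₀ : Λ) (ν : Localization.Away t₀ →+* Λq)
    (hν : ∀ l, ν (algebraMap Λ (Localization.Away t₀) l) = algebraMap Λ Λq l)
    (x : κ → Localization.Away t₀) (hx : ∀ i, ν (x i) = 0) :
    ∃ w ∈ T, ∀ i, algebraMap Λ (Localization.Away t₀) w * x i = 0 := by
  classical
  have := Fintype.ofFinite κ
  choose c hc hcx using fun i => exists_kill_away T t₀ ν hν (x i) (hx i)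
  refine ⟨∏ i, c i, Submonoid.prod_mem T fun i _ => hc i, fun i => ?_⟩
  rw [← Finset.mul_prod_erase Finset.univ c (Finset.mem_univ i), map_mul,
    mul_comm (algebraMap Λ _ (c i)), mul_assoc, hcx i, mul_zero]

end kill

section main

variable {R A B Λ Λq : Type u} [CommRing R] [CommRing A] [Algebra R A] [CommRing B] [Algebra R B]
  [Algebra.FinitePresentation R B] [Algebra.FiniteType R A] [CommRing Λ] [Algebra R Λ]
  [CommRing Λq] [Algebra Λ Λq] [Algebra R Λq] [IsScalarTower R Λ Λq]

theorem exists_factor_away (φ : A →ₐ[R] Λ) (α : A →ₐ[R] B) (T : Submonoid Λ)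
    [IsLocalization T Λq] (β : B →ₐ[R] Λq)
    (hβ : β.comp α = (IsScalarTower.toAlgHom R Λ Λq).comp φ) (t₁ : Λ) (ht₁ : t₁ ∈ T) :
    ∃ t ∈ T, t₁ ∣ t ∧ ∃ βt : B →ₐ[R] Localization.Away t,
      βt.comp α = (IsScalarTower.toAlgHom R Λ (Localization.Away t)).comp φ := by
  classical
  obtain ⟨N, πB, hπB, hfg⟩ := Algebra.FinitePresentation.out (R := R) (A := B)
  obtain ⟨M, F, hF⟩ := Submodule.fg_iff_exists_fin_generating_family.1 hfg
  have hFker : ∀ j, πB (F j) = 0 := by
    intro j
    have : F j ∈ RingHom.ker πB.toRingHom := by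
      rw [← hF]
      exact Submodule.subset_span ⟨j, rfl⟩
    exact this
  obtain ⟨n, f, hf⟩ := Algebra.FiniteType.iff_quotient_mvPolynomial''.1
    (inferInstance : Algebra.FiniteType R A)
  let z : Fin N → B := fun i => πB (X i)
  have haeval_z : ∀ p, aeval z p = πB p := by
    intro p
    have : πB = aeval z := MvPolynomial.aeval_unique πB
    rw [this]
  let a : Fin n → A := fun k => f (X k)
  choose p hp using fun k => hπB (α (a k))
  obtain ⟨t₀, ht₀⟩ := IsLocalization.exist_integer_multiples_of_finite T (fun i => β (z i))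
  choose μ hμ using ht₀
  -- the first localization
  have hunit₀ : IsUnit (algebraMap Λ Λq (t₀ : Λ)) := IsLocalization.map_units Λq t₀
  let ν : Localization.Away (t₀ : Λ) →ₐ[R] Λq :=
    IsLocalization.liftAlgHom (M := Submonoid.powers (t₀ : Λ)) (f := IsScalarTower.toAlgHom R Λ Λq)
      (by
        rintro ⟨_, m, rfl⟩
        change IsUnit (algebraMap Λ Λq ((t₀ : Λ) ^ m))
        rw [map_pow]
        exact hunit₀.pow m)
  have hν : ∀ l, ν (algebraMap Λ (Localization.Away (t₀ : Λ)) l) = algebraMap Λ Λq l := by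
    intro l
    simp only [ν]
    rw [IsLocalization.liftAlgHom_apply, IsLocalization.lift_eq]
    rfl
  let e : Fin N → Localization.Away (t₀ : Λ) := fun i =>
    IsLocalization.mk' (Localization.Away (t₀ : Λ)) (μ i)
      (⟨(t₀ : Λ), Submonoid.mem_powers _⟩ : Submonoid.powers (t₀ : Λ))
  have hνe : ∀ i, ν (e i) = β (z i) := by
    intro i
    have h1 : e i * algebraMap Λ (Localization.Away (t₀ : Λ)) (t₀ : Λ) =
        algebraMap Λ (Localization.Away (t₀ : Λ)) (μ i) := IsLocalization.mk'_spec _ _ _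
    have h2 := congrArg ν h1
    rw [map_mul, hν, hν, hμ i, Algebra.smul_def, mul_comm] at h2
    exact hunit₀.mul_left_cancel h2
  have hνaeval : ∀ q : MvPolynomial (Fin N) R, ν (aeval e q) = β (πB q) := by
    intro q
    rw [MvPolynomial.comp_aeval_apply, ← haeval_z, MvPolynomial.comp_aeval_apply]
    have : (fun i => ν (e i)) = fun i => β (z i) := funext hνe
    rw [this]
  -- the defects
  let D : Fin M ⊕ Fin n → Localization.Away (t₀ : Λ) :=
    Sum.elim (fun j => aeval e (F j))
      (fun k => aeval e (p k) - algebraMap Λ (Localization.Away (t₀ : Λ)) (φ (a k)))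
  have hD : ∀ i, (ν : Localization.Away (t₀ : Λ) →+* Λq) (D i) = 0 := by
    rintro (j | k)
    · change ν (aeval e (F j)) = 0
      rw [hνaeval, hFker j, map_zero]
    · change ν (aeval e (p k) - algebraMap Λ _ (φ (a k))) = 0
      rw [map_sub, hνaeval, hp k, hν, sub_eq_zero]
      exact congrArg (fun ψ => ψ (a k)) hβ
  obtain ⟨w, hw, hwD⟩ := exists_common_kill_away T (t₀ : Λ) (ν : _ →+* Λq) hν D hD
  -- the second localization
  set t : Λ := (t₀ : Λ) * w * t₁ with ht
  have htT : t ∈ T := T.mul_mem (T.mul_mem t₀.2 hw) ht₁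
  have hut : IsUnit (algebraMap Λ (Localization.Away t) t) :=
    IsLocalization.map_units _ (⟨t, Submonoid.mem_powers _⟩ : Submonoid.powers t)
  have hut₀ : IsUnit (algebraMap Λ (Localization.Away t) (t₀ : Λ)) := by
    rw [ht, map_mul, map_mul] at hut
    exact isUnit_of_mul_isUnit_left (isUnit_of_mul_isUnit_left hut)
  have huw : IsUnit (algebraMap Λ (Localization.Away t) w) := by
    rw [ht, map_mul, map_mul] at hut
    exact isUnit_of_mul_isUnit_right (isUnit_of_mul_isUnit_left hut)
  let τ : Localization.Away (t₀ : Λ) →ₐ[R] Localization.Away t :=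
    IsLocalization.liftAlgHom (M := Submonoid.powers (t₀ : Λ))
      (f := IsScalarTower.toAlgHom R Λ (Localization.Away t))
      (by
        rintro ⟨_, m, rfl⟩
        change IsUnit (algebraMap Λ (Localization.Away t) ((t₀ : Λ) ^ m))
        rw [map_pow]
        exact hut₀.pow m)
  have hτ : ∀ l, τ (algebraMap Λ (Localization.Away (t₀ : Λ)) l) =
      algebraMap Λ (Localization.Away t) l := by
    intro l
    simp only [τ]
    rw [IsLocalization.liftAlgHom_apply, IsLocalization.lift_eq]
    rfl
  have hτD : ∀ i, τ (D i) = 0 := by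
    intro i
    have h1 := congrArg τ (hwD i)
    rw [map_mul, hτ, map_zero] at h1
    exact (huw.mul_right_eq_zero).1 h1
  let βt' : MvPolynomial (Fin N) R →ₐ[R] Localization.Away t := aeval (fun i => τ (e i))
  have hβt' : ∀ q, βt' q = τ (aeval e q) := by
    intro q
    simp only [βt']
    rw [MvPolynomial.comp_aeval_apply]
  have hker : RingHom.ker πB.toRingHom ≤ RingHom.ker βt'.toRingHom := by
    rw [← hF]
    change Ideal.span (Set.range F) ≤ _
    rw [Ideal.span_le]
    rintro _ ⟨j, rfl⟩
    change βt' (F j) = 0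
    rw [hβt']
    exact hτD (Sum.inl j)
  let βt : B →ₐ[R] Localization.Away t := AlgHom.liftOfSurjective πB hπB βt' hker
  refine ⟨t, htT, ⟨(t₀ : Λ) * w, by rw [ht, mul_comm]⟩, βt, ?_⟩
  have h1 : (βt.comp α).comp f =
      ((IsScalarTower.toAlgHom R Λ (Localization.Away t)).comp φ).comp f := by
    apply MvPolynomial.algHom_ext
    intro k
    change βt (α (a k)) = algebraMap Λ (Localization.Away t) (φ (a k))
    rw [← hp k]
    simp only [βt]
    rw [AlgHom.liftOfSurjective_apply, hβt']
    have h2 := hτD (Sum.inr k)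
    change τ (aeval e (p k) - algebraMap Λ _ (φ (a k))) = 0 at h2
    rw [map_sub, hτ, sub_eq_zero] at h2
    exact h2
  apply AlgHom.ext
  intro x
  obtain ⟨q, rfl⟩ := hf x
  exact congrArg (fun ψ => ψ q) h1

end main

end Groth.Agent.H91.Deloc
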