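import Mathlib
import Groth.Prelude.Def_Smoothing
import Groth.Agent.H91.ElemStdLocF
import Groth.Agent.H91.DelocA

/-!
# Descending a factorization through `Λ[1/t]` to a factorization through `Λ`
-/

set_option autoImplicit false
universe u

open TensorProduct Polynomial

namespace Groth.Agent.H91.Deloc

theorem stage2 {R A B Λ : Type u} [CommRing R] [CommRing A] [Algebra R A]
    [Algebra.FinitePresentation R A] [CommRing B] [Algebra R B] [CommRing Λ] [Algebra R Λ]
    (φ : A →ₐ[R] Λ) (α : A →ₐ[R] B) (s : R)
    [Algebra.Smooth R (Localization.Away (algebraMap R B s))] (t : Λ)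
    (hst : algebraMap R Λ s ∣ t) (βt : B →ₐ[R] Localization.Away t)
    (hβt : βt.comp α = (IsScalarTower.toAlgHom R Λ (Localization.Away t)).comp φ) :
    ∃ (C : Type u) (_ : CommRing C) (_ : Algebra R C), Algebra.FinitePresentation R C ∧
      ∃ (g : A →ₐ[R] C) (h : C →ₐ[R] Λ), h.comp g = φ ∧
        ∃ c ∈ Smoothing.singularIdeal R C, ∃ m : ℕ, h c = t ^ m := by
  classical
  letI algΛ : Algebra R[X] Λ := (Polynomial.aeval t : R[X] →ₐ[R] Λ).toRingHom.toAlgebra
  have halgΛ : ∀ p : R[X], algebraMap R[X] Λ p = Polynomial.aeval t p := fun p => rfl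
  haveI towerΛ : IsScalarTower R R[X] Λ := IsScalarTower.of_algebraMap_eq (fun r => by
    rw [halgΛ, Polynomial.algebraMap_apply, Polynomial.aeval_C]
    rfl)
  have hΛt : ∀ p : R[X], algebraMap R[X] (Localization.Away t) p =
      algebraMap Λ (Localization.Away t) (algebraMap R[X] Λ p) :=
    fun p => IsScalarTower.algebraMap_apply R[X] Λ (Localization.Away t) p
  have hunit_t : IsUnit (algebraMap Λ (Localization.Away t) t) :=
    IsLocalization.map_units _ (⟨t, Submonoid.mem_powers _⟩ : Submonoid.powers t)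
  have hX : IsUnit (algebraMap R[X] (Localization.Away t) X) := by
    rw [hΛt, halgΛ, Polynomial.aeval_X]
    exact hunit_t
  letI algK : Algebra (Localization.Away (X : R[X])) (Localization.Away t) :=
    (IsLocalization.Away.lift (X : R[X]) (g := algebraMap R[X] (Localization.Away t)) hX).toAlgebra
  have halgK : ∀ p : R[X], algebraMap (Localization.Away (X : R[X])) (Localization.Away t)
      (algebraMap R[X] (Localization.Away (X : R[X])) p) =
      algebraMap R[X] (Localization.Away t) p := by
    intro p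
    change IsLocalization.Away.lift (X : R[X]) hX _ = _
    rw [IsLocalization.Away.lift_eq]
  haveI towerK : IsScalarTower R (Localization.Away (X : R[X])) (Localization.Away t) :=
    IsScalarTower.of_algebraMap_eq (fun r => by
      rw [IsScalarTower.algebraMap_apply R R[X] (Localization.Away (X : R[X])), halgK,
        ← IsScalarTower.algebraMap_apply])
  let ι : Λ →+* Localization.Away t := algebraMap Λ (Localization.Away t)
  have hι : ∀ p : R[X], ι (algebraMap R[X] Λ p) =
      algebraMap (Localization.Away (X : R[X])) (Localization.Away t)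
        (algebraMap R[X] (Localization.Away (X : R[X])) p) := by
    intro p
    rw [halgK, hΛt]
  have hXpow : ∀ m : ℕ, algebraMap R[X] Λ ((X : R[X]) ^ m) = t ^ m := by
    intro m
    rw [halgΛ, map_pow, Polynomial.aeval_X]
  have hden : ∀ y : Localization.Away t, ∃ σ ∈ Submonoid.powers (X : R[X]), ∃ l : Λ,
      algebraMap (Localization.Away (X : R[X])) (Localization.Away t)
        (algebraMap R[X] (Localization.Away (X : R[X])) σ) * y = ι l := by
    intro y
    obtain ⟨⟨l, ⟨_, m, rfl⟩⟩, hl⟩ := IsLocalization.surj (Submonoid.powers t) y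
    refine ⟨X ^ m, ⟨m, rfl⟩, l, ?_⟩
    rw [← hι, hXpow, mul_comm]
    exact hl
  have hkill : ∀ z : Λ, ι z = 0 → ∃ w ∈ Submonoid.powers (X : R[X]),
      algebraMap R[X] Λ w * z = 0 := by
    intro z hz
    obtain ⟨⟨_, m, rfl⟩, hc⟩ := (IsLocalization.map_eq_zero_iff (Submonoid.powers t) _ z).1 hz
    exact ⟨X ^ m, ⟨m, rfl⟩, by rw [hXpow]; exact hc⟩
  -- the source
  let φ' : R[X] ⊗[R] A →ₐ[R[X]] Λ :=
    Algebra.TensorProduct.lift (Algebra.ofId R[X] Λ) φ (fun _ _ => Commute.all _ _)
  have hφ' : ∀ (p : R[X]) (a : A), φ' (p ⊗ₜ[R] a) = algebraMap R[X] Λ p * φ a := by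
    intro p a
    simp only [φ']
    rw [Algebra.TensorProduct.lift_tmul]
    rfl
  -- the smooth algebra
  let toBs : B →ₐ[R] Localization.Away (algebraMap R B s) :=
    IsScalarTower.toAlgHom R B (Localization.Away (algebraMap R B s))
  let g'₀ : R[X] ⊗[R] A →ₐ[R] Localization.Away (X : R[X]) ⊗[R]
      Localization.Away (algebraMap R B s) :=
    Algebra.TensorProduct.map (IsScalarTower.toAlgHom R R[X] (Localization.Away (X : R[X])))
      (toBs.comp α)
  have hg'₀ : ∀ (p : R[X]) (a : A), g'₀ (p ⊗ₜ[R] a) =
      (algebraMap R[X] (Localization.Away (X : R[X])) p) ⊗ₜ[R] (toBs (α a)) := by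
    intro p a
    simp only [g'₀]
    rw [Algebra.TensorProduct.map_tmul]
    rfl
  have hg' : ∀ p : R[X], g'₀.toRingHom (algebraMap R[X] (R[X] ⊗[R] A) p) =
      algebraMap (Localization.Away (X : R[X])) (Localization.Away (X : R[X]) ⊗[R]
        Localization.Away (algebraMap R B s)) (algebraMap R[X] (Localization.Away (X : R[X])) p) := by
    intro p
    rw [Algebra.TensorProduct.algebraMap_apply, Algebra.TensorProduct.algebraMap_apply]
    change g'₀ (p ⊗ₜ[R] (1 : A)) = _
    rw [hg'₀, map_one, map_one]
    rfl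
  have hsunit : IsUnit (βt (algebraMap R B s)) := by
    rw [AlgHom.commutes, IsScalarTower.algebraMap_apply R Λ (Localization.Away t)]
    obtain ⟨c, hc⟩ := hst
    have h2 := congrArg (algebraMap Λ (Localization.Away t)) hc
    rw [map_mul] at h2
    rw [h2] at hunit_t
    exact isUnit_of_mul_isUnit_left hunit_t
  let βs : Localization.Away (algebraMap R B s) →ₐ[R] Localization.Away t :=
    IsLocalization.liftAlgHom (M := Submonoid.powers (algebraMap R B s)) (f := βt) (by
      rintro ⟨_, m, rfl⟩
      rw [map_pow]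
      exact hsunit.pow m)
  have hβs : ∀ b, βs (toBs b) = βt b := by
    intro b
    simp only [βs]
    rw [IsLocalization.liftAlgHom_apply]
    exact IsLocalization.lift_eq _ _
  let h' : Localization.Away (X : R[X]) ⊗[R] Localization.Away (algebraMap R B s)
      →ₐ[Localization.Away (X : R[X])] Localization.Away t :=
    Algebra.TensorProduct.lift (Algebra.ofId _ _) βs (fun _ _ => Commute.all _ _)
  have hh' : ∀ (k : Localization.Away (X : R[X])) (b : Localization.Away (algebraMap R B s)),
      h' (k ⊗ₜ[R] b) = algebraMap _ (Localization.Away t) k * βs b := by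
    intro k b
    simp only [h']
    rw [Algebra.TensorProduct.lift_tmul]
    rfl
  have hgh' : ∀ x, h' (g'₀.toRingHom x) = ι (φ' x) := by
    intro x
    induction x using TensorProduct.induction_on with
    | zero => simp
    | tmul p a =>
      change h' (g'₀ (p ⊗ₜ[R] a)) = _
      rw [hg'₀, hh', hβs, hφ', map_mul, ← hι]
      congr 1
      exact congrArg (fun ψ => ψ a) hβt
    | add x y hx hy =>
      rw [map_add, map_add, hx, hy, map_add, map_add]
  obtain ⟨C, _, _, α', β', hαβ, s', hs', hstd⟩ :=
    Groth.Agent.H91.ElemStdLoc.delocalize_general (R := R[X]) (A := R[X] ⊗[R] A) (Λ := Λ)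
      (Rₛ := Localization.Away (X : R[X])) (Λₛ := Localization.Away t)
      (Submonoid.powers (X : R[X])) ι hι hden hkill φ' g'₀.toRingHom hg' h' hgh'
  letI algRC : Algebra R C := ((algebraMap R[X] C).comp (algebraMap R R[X])).toAlgebra
  haveI towerC : IsScalarTower R R[X] C := IsScalarTower.of_algebraMap_eq (fun _ => rfl)
  haveI hfpC : Algebra.FinitePresentation R[X] C := finitePresentation_of_isElementaryStandard hstd
  have hfp : Algebra.FinitePresentation R C := Algebra.FinitePresentation.trans R R[X] C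
  refine ⟨C, inferInstance, algRC, hfp,
    (α'.restrictScalars R).comp (Algebra.TensorProduct.includeRight : A →ₐ[R] R[X] ⊗[R] A),
    β'.restrictScalars R, ?_, algebraMap R[X] C s', ?_, ?_⟩
  · apply AlgHom.ext
    intro a
    change β' (α' ((1 : R[X]) ⊗ₜ[R] a)) = φ a
    have := congrArg (fun ψ => ψ ((1 : R[X]) ⊗ₜ[R] a)) hαβ
    change β' (α' ((1 : R[X]) ⊗ₜ[R] a)) = φ' ((1 : R[X]) ⊗ₜ[R] a) at this
    rw [this, hφ', map_one, one_mul]
  · apply mem_singularIdeal_of_basicOpen_subset
    intro q hq
    have h1 : Algebra.FormallySmooth R[X] (Localization.AtPrime q.asIdeal) :=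
      basicOpen_subset_smoothLocus_of_isElementaryStandard hstd hq
    change Algebra.FormallySmooth R (Localization.AtPrime q.asIdeal)
    exact Algebra.FormallySmooth.comp R R[X] (Localization.AtPrime q.asIdeal)
  · obtain ⟨m, rfl⟩ := hs'
    refine ⟨m, ?_⟩
    change β' (algebraMap R[X] C (X ^ m)) = t ^ m
    rw [AlgHom.commutes, hXpow]

end Groth.Agent.H91.Deloc
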