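import Mathlib
import Groth.Prelude.Def_Smoothing
import Groth.Agent.S2034
import Groth.Agent.S2022
import Groth.Agent.H91.SepInd

/-!
# The local step for Stacks 07F3 (helper91)

* `resolvable_of_indSmooth`: if the base `R₁` is already local at the contraction of `𝔮₁`,
  `Λ₁_𝔮₁` has dimension zero and is ind-smooth over `R₁`, then the problem can be resolved.
* `indSmooth_of_flat_of_residue`: a flat algebra over a ring with nilpotent maximal ideal `I` whose
  fibre is a formally smooth field extension is ind-smooth.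
-/

set_option autoImplicit false
universe u
open TensorProduct Smoothing

namespace Groth.Agent.H91.LocStep

theorem singularIdeal_eq_top_of_smooth {R B : Type u} [CommRing R] [CommRing B] [Algebra R B]
    [Algebra.Smooth R B] : singularIdeal R B = ⊤ := by
  unfold singularIdeal
  have : Algebra.smoothLocus R B = Set.univ := Algebra.smoothLocus_eq_univ_iff.mpr inferInstance
  rw [this, Set.compl_univ, PrimeSpectrum.vanishingIdeal_empty]

theorem resolvable_of_indSmooth {R₁ C₁ Λ₁ Λq : Type u} [CommRing R₁] [IsNoetherianRing R₁]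
    [CommRing C₁] [Algebra R₁ C₁] [Algebra.FinitePresentation R₁ C₁] [CommRing Λ₁] [Algebra R₁ Λ₁]
    (φ₁ : C₁ →ₐ[R₁] Λ₁) (𝔮₁ : Ideal Λ₁) [𝔮₁.IsPrime]
    [CommRing Λq] [Algebra Λ₁ Λq] [IsLocalization.AtPrime Λq 𝔮₁] [Algebra R₁ Λq]
    [IsScalarTower R₁ Λ₁ Λq]
    (hloc : IsLocalization.AtPrime R₁ (𝔮₁.comap (algebraMap R₁ Λ₁)))
    (hdim : ringKrullDim Λq = 0) (hind : IndSmooth R₁ Λq) : Resolvable R₁ φ₁ 𝔮₁ := by
  classical
  by_cases hle : singRad R₁ φ₁ ≤ 𝔮₁
  · -- `𝔮₁` is a minimal prime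
    haveI : Ring.KrullDimLE 0 Λq := ⟨le_of_eq hdim⟩
    haveI : IsLocalRing Λq := IsLocalization.AtPrime.isLocalRing Λq 𝔮₁
    have hmin : 𝔮₁ ∈ (singRad R₁ φ₁).minimalPrimes := by
      refine ⟨⟨inferInstance, hle⟩, fun p' ⟨hp', _⟩ hp'q => ?_⟩
      have hdisj : Disjoint (𝔮₁.primeCompl : Set Λ₁) (p' : Set Λ₁) := by
        rw [Set.disjoint_left]
        intro z hz hz'
        exact hz (hp'q hz')
      haveI hp'' : (p'.map (algebraMap Λ₁ Λq)).IsPrime :=
        IsLocalization.isPrime_of_isPrime_disjoint 𝔮₁.primeCompl Λq p' hp' hdisj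
      have hmax : (p'.map (algebraMap Λ₁ Λq)).IsMaximal := Ideal.isMaximal_of_isPrime _
      have h1 : p'.map (algebraMap Λ₁ Λq) = IsLocalRing.maximalIdeal Λq :=
        IsLocalRing.eq_maximalIdeal hmax
      have h2 : 𝔮₁.map (algebraMap Λ₁ Λq) = IsLocalRing.maximalIdeal Λq :=
        IsLocalization.AtPrime.map_eq_maximalIdeal 𝔮₁ Λq
      have h3 : (p'.map (algebraMap Λ₁ Λq)).comap (algebraMap Λ₁ Λq) = p' :=
        IsLocalization.comap_map_of_isPrime_disjoint 𝔮₁.primeCompl Λq hp' hdisj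
      have h4 : (𝔮₁.map (algebraMap Λ₁ Λq)).comap (algebraMap Λ₁ Λq) = 𝔮₁ := by
        rw [h2]
        exact IsLocalization.AtPrime.comap_maximalIdeal Λq 𝔮₁
      rw [← h3, h1, ← h2, h4]
    haveI := hloc
    refine Groth.Agent.S2034.result (Rₚ := R₁) (Λq := Λq) φ₁ 𝔮₁ hmin hdim ?_
    obtain ⟨B, _, _, hB, g, h, hgh⟩ := hind (R₁ ⊗[R₁] C₁) inferInstance
      (Algebra.TensorProduct.lift (Algebra.ofId R₁ Λq) ((IsScalarTower.toAlgHom R₁ Λ₁ Λq).comp φ₁)
        (fun _ _ => Commute.all _ _))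
    haveI := hB
    have htop : singRad R₁ h = ⊤ := by
      unfold singRad
      rw [singularIdeal_eq_top_of_smooth, Ideal.map_top, Ideal.radical_top]
    refine ⟨B, inferInstance, inferInstance, inferInstance, g, h, hgh, ?_, ?_⟩
    · rw [htop]; exact le_top
    · rw [htop]
      intro hcon
      have h2 : 𝔮₁.map (algebraMap Λ₁ Λq) = IsLocalRing.maximalIdeal Λq :=
        IsLocalization.AtPrime.map_eq_maximalIdeal 𝔮₁ Λq
      rw [h2] at hcon
      exact (IsLocalRing.maximalIdeal.isMaximal Λq).ne_top (top_le_iff.mp hcon)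
  · exact ⟨C₁, inferInstance, inferInstance, inferInstance, AlgHom.id R₁ C₁, φ₁,
      AlgHom.comp_id φ₁, le_rfl, hle⟩

theorem indSmooth_of_flat_of_residue {k R₁ Λq : Type u} [Field k] [CommRing R₁] [Algebra k R₁]
    [CommRing Λq] [Algebra R₁ Λq] [Algebra k Λq] [IsScalarTower k R₁ Λq] (I : Ideal R₁)
    (hI : IsNilpotent I) (hsurj : Function.Surjective (algebraMap k (R₁ ⧸ I)))
    [hmax : I.IsMaximal] [Module.Flat R₁ Λq] [hmax' : (I.map (algebraMap R₁ Λq)).IsMaximal]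
    [Algebra.FormallySmooth k (Λq ⧸ I.map (algebraMap R₁ Λq))] : IndSmooth R₁ Λq := by
  haveI : Algebra.FormallyUnramified k (R₁ ⧸ I) := Algebra.FormallyUnramified.of_surjective
    (Algebra.ofId k (R₁ ⧸ I)) hsurj
  haveI : IsScalarTower k (R₁ ⧸ I) (Λq ⧸ I.map (algebraMap R₁ Λq)) := by
    refine IsScalarTower.of_algebraMap_eq fun c => ?_
    rw [IsScalarTower.algebraMap_apply k R₁ (R₁ ⧸ I),
      IsScalarTower.algebraMap_apply k Λq (Λq ⧸ I.map (algebraMap R₁ Λq)),
      IsScalarTower.algebraMap_apply k R₁ Λq]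
    rfl
  haveI : Algebra.FormallySmooth (R₁ ⧸ I) (Λq ⧸ I.map (algebraMap R₁ Λq)) :=
    Algebra.FormallySmooth.of_restrictScalars k (R₁ ⧸ I) (Λq ⧸ I.map (algebraMap R₁ Λq))
  letI : Field (R₁ ⧸ I) := Ideal.Quotient.field I
  letI : Field (Λq ⧸ I.map (algebraMap R₁ Λq)) := Ideal.Quotient.field _
  exact Groth.Agent.S2022.result I hI
    (Groth.Agent.H91.SepInd.indSmooth_of_formallySmooth_field)

end Groth.Agent.H91.LocStep
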