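import Groth.Agent.H91.SepTools

/-!
# The algebra `B = T[z]/(x_i^n - ∑_j z_ij t_j)` over `R` (helper91)

Stacks 07F3, first step (there `R = k[x₁..x_d]`, `T = A[x₁..x_d]`, `t_j = a_j ∈ H_{A/k}`).
If the `t_j` lie in the singular ideal of `T` over `R`, then the images of the `t_j` and of the `x_i`
lie in the singular ideal of `B` over `R`.
-/

set_option autoImplicit false
universe u
open MvPolynomial Smoothing

namespace Groth.Agent.H91.SepB

section Defs

variable (R T : Type u) [CommRing R] [CommRing T] [Algebra R T] (d r n : ℕ) (x : Fin d → R)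
  (t : Fin r → T)

/-- the variable `z_ij` -/
noncomputable def zz (i : Fin d) (j : Fin r) : MvPolynomial (Fin (d * r)) T :=
  X (finProdFinEquiv (i, j))

/-- the relation `∑_j z_ij t_j - x_i^n` -/
noncomputable def FF (i : Fin d) : MvPolynomial (Fin (d * r)) T :=
  ∑ j, zz T d r i j * C (t j) - C (algebraMap R T (x i) ^ n)

/-- `B` -/
abbrev BBq := MvPolynomial (Fin (d * r)) T ⧸ Ideal.span (Set.range (FF R T d r n x t))

end Defs

section Props

variable {R T : Type u} [CommRing R] [CommRing T] [Algebra R T] {d r n : ℕ} {x : Fin d → R}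
  {t : Fin r → T}

theorem pderiv_FF (i i' : Fin d) (j₀ : Fin r) :
    pderiv (finProdFinEquiv (i', j₀)) (FF R T d r n x t i) =
      if i' = i then C (t j₀) else 0 := by
  classical
  unfold FF zz
  rw [map_sub, pderiv_C, map_sum, sub_zero]
  have h : ∀ j : Fin r, pderiv (finProdFinEquiv (i', j₀))
      ((X (finProdFinEquiv (i, j)) : MvPolynomial (Fin (d * r)) T) * C (t j)) =
      if (i', j₀) = (i, j) then C (t j) else 0 := by
    intro j
    rw [pderiv_mul, pderiv_C, mul_zero, add_zero, pderiv_X, Pi.single_apply]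
    by_cases h : (i', j₀) = (i, j)
    · rw [if_pos h, if_pos (by rw [h]), one_mul]
    · rw [if_neg h, if_neg (fun h' => h (finProdFinEquiv.injective h'.symm)), zero_mul]
  simp only [h]
  by_cases hi : i' = i
  · subst hi
    rw [if_pos rfl, Finset.sum_eq_single j₀]
    · rw [if_pos rfl]
    · intro j _ hj
      rw [if_neg]
      intro h
      exact hj (Prod.ext_iff.mp h).2.symm
    · intro h; exact absurd (Finset.mem_univ _) h
  · rw [if_neg hi]
    rw [Finset.sum_eq_zero]
    intro j _
    rw [if_neg]
    intro h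
    exact hi (Prod.ext_iff.mp h).1

instance finitePresentation_TB : Algebra.FinitePresentation T (BBq R T d r n x t) :=
  Algebra.FinitePresentation.quotient (Submodule.fg_span (Set.finite_range _))

theorem finitePresentation_B [Algebra.FinitePresentation R T] :
    Algebra.FinitePresentation R (BBq R T d r n x t) :=
  Algebra.FinitePresentation.trans R T (BBq R T d r n x t)

/-- `t_j^d` is strictly standard in `B` over `T` -/
theorem isStrictlyStandard_tt (hr : 0 < r) (j₀ : Fin r) :
    IsStrictlyStandard T (BBq R T d r n x t) (algebraMap T (BBq R T d r n x t) (t j₀) ^ d) := by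
  classical
  let P : MarkedPresentation T (BBq R T d r n x t) :=
    { n := d * r, m := d, c := d
      hcn := Nat.le_mul_of_pos_right d hr
      hcm := le_rfl
      rel := FF R T d r n x t
      hom := Ideal.Quotient.mkₐ T _
      surj := Ideal.Quotient.mkₐ_surjective _ _
      ker_eq := by
        ext y
        rw [RingHom.mem_ker]
        exact Ideal.Quotient.eq_zero_iff_mem }
  refine ⟨P, ?_, ?_⟩
  · have hminor : P.hom (jacobianMinor P.rel (Fin.castLE P.hcm)
        (fun i => finProdFinEquiv (i, j₀))) =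
        algebraMap T (BBq R T d r n x t) (t j₀) ^ d := by
      have hmat : (Matrix.of fun i i' : Fin d =>
          pderiv (finProdFinEquiv (i', j₀)) (P.rel (Fin.castLE P.hcm i))) =
          Matrix.diagonal (fun _ : Fin d => (C (t j₀) : MvPolynomial (Fin (d * r)) T)) := by
        apply Matrix.ext
        intro i i'
        rw [Matrix.of_apply, Matrix.diagonal_apply]
        have : Fin.castLE P.hcm i = i := Fin.ext rfl
        rw [this]
        change pderiv (finProdFinEquiv (i', j₀)) (FF R T d r n x t i) = _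
        rw [pderiv_FF]
        by_cases h : i' = i
        · rw [if_pos h, if_pos h.symm]
        · rw [if_neg h, if_neg (fun h' => h h'.symm)]
      unfold jacobianMinor
      rw [hmat, Matrix.det_diagonal, Finset.prod_const, Finset.card_univ, Fintype.card_fin,
        map_pow]
      rfl
    have hmem : P.hom (jacobianMinor P.rel (Fin.castLE P.hcm)
        (fun i => finProdFinEquiv (i, j₀))) ∈ Ideal.span (Set.range fun cols : Fin P.c → Fin P.n =>
          P.hom (jacobianMinor P.rel (Fin.castLE P.hcm) cols)) :=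
      Ideal.subset_span ⟨fun i => finProdFinEquiv (i, j₀), rfl⟩
    rw [← hminor]
    exact hmem
  · intro a' _ j hj
    exact absurd hj (not_le.mpr j.2)

theorem tt_mem_singularIdeal [Algebra.FinitePresentation R T] (hr : 0 < r) (j₀ : Fin r)
    (ht : t j₀ ∈ singularIdeal R T) :
    algebraMap T (BBq R T d r n x t) (t j₀) ∈ singularIdeal R (BBq R T d r n x t) := by
  have : Algebra.FinitePresentation R (BBq R T d r n x t) := finitePresentation_B
  have h2 : algebraMap T (BBq R T d r n x t) (t j₀) ∈ singularIdeal T (BBq R T d r n x t) :=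
    Groth.Agent.H91.SepTools.singularIdeal_isRadical ⟨d,
      Groth.Agent.H91.LiftLem.mem_singularIdeal_of_isStrictlyStandard
        (isStrictlyStandard_tt hr j₀)⟩
  exact Groth.Agent.H91.SepTools.mem_singularIdeal_tower _ ht h2

theorem algebraMap_x_pow (i : Fin d) :
    algebraMap R (BBq R T d r n x t) (x i) ^ n =
      ∑ j, Ideal.Quotient.mk _ (zz T d r i j) * algebraMap T (BBq R T d r n x t) (t j) := by
  have h0 : Ideal.Quotient.mk (Ideal.span (Set.range (FF R T d r n x t))) (FF R T d r n x t i) = 0 :=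
    Ideal.Quotient.eq_zero_iff_mem.mpr (Ideal.subset_span ⟨i, rfl⟩)
  have hFF : FF R T d r n x t i =
      ∑ j, zz T d r i j * C (t j) - C (algebraMap R T (x i) ^ n) := rfl
  rw [hFF, map_sub, sub_eq_zero, map_sum] at h0
  have h1 : algebraMap R (BBq R T d r n x t) (x i) ^ n =
      Ideal.Quotient.mk _ (C (algebraMap R T (x i) ^ n) : MvPolynomial (Fin (d * r)) T) := by
    rw [← map_pow, ← map_pow]
    rfl
  rw [h1, ← h0]
  refine Finset.sum_congr rfl fun j _ => ?_
  rw [map_mul]
  rfl

theorem x_mem_singularIdeal [Algebra.FinitePresentation R T] (hr : 0 < r)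
    (ht : ∀ j, t j ∈ singularIdeal R T) (i : Fin d) :
    algebraMap R (BBq R T d r n x t) (x i) ∈ singularIdeal R (BBq R T d r n x t) := by
  refine Groth.Agent.H91.SepTools.singularIdeal_isRadical ⟨n, ?_⟩
  rw [algebraMap_x_pow]
  exact Ideal.sum_mem _ fun j _ => Ideal.mul_mem_left _ _ (tt_mem_singularIdeal hr j (ht j))

end Props

section Map

variable {R T : Type u} [CommRing R] [CommRing T] [Algebra R T] {d r n : ℕ} {x : Fin d → R}
  {t : Fin r → T}

variable {Λ : Type u} [CommRing Λ] [Algebra R Λ] (ψ : T →ₐ[R] Λ) (lam : Fin d → Fin r → Λ)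

/-- `T[z] → Λ` -/
noncomputable def ψP : MvPolynomial (Fin (d * r)) T →ₐ[R] Λ :=
  { MvPolynomial.eval₂Hom ψ.toRingHom
      (fun idx => lam (finProdFinEquiv.symm idx).1 (finProdFinEquiv.symm idx).2) with
    commutes' := fun y => by
      change MvPolynomial.eval₂Hom _ _ (C (algebraMap R T y)) = _
      rw [MvPolynomial.eval₂Hom_C]
      exact ψ.commutes y }

theorem ψP_C (y : T) : ψP ψ lam (C y : MvPolynomial (Fin (d * r)) T) = ψ y := by
  change MvPolynomial.eval₂Hom _ _ (C y) = _
  rw [MvPolynomial.eval₂Hom_C]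
  rfl

theorem ψP_zz (i : Fin d) (j : Fin r) : ψP ψ lam (zz T d r i j) = lam i j := by
  change MvPolynomial.eval₂Hom _ _ (X _) = _
  rw [MvPolynomial.eval₂Hom_X', Equiv.symm_apply_apply]

variable (hlam : ∀ i, algebraMap R Λ (x i) ^ n = ∑ j, lam i j * ψ (t j))

include hlam in
theorem ψP_FF (i : Fin d) : ψP ψ lam (FF R T d r n x t i) = 0 := by
  unfold FF
  rw [map_sub, map_sum, ψP_C, sub_eq_zero, map_pow, AlgHom.commutes, hlam i]
  refine Finset.sum_congr rfl fun j _ => ?_
  rw [map_mul, ψP_zz, ψP_C]

/-- `B → Λ` -/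
noncomputable def φB : BBq R T d r n x t →ₐ[R] Λ :=
  Ideal.Quotient.liftₐ _ (ψP ψ lam) (fun y hy => by
    have hle : Ideal.span (Set.range (FF R T d r n x t)) ≤ RingHom.ker (ψP ψ lam).toRingHom := by
      rw [Ideal.span_le]
      rintro _ ⟨i, rfl⟩
      exact ψP_FF ψ lam hlam i
    exact hle hy)

theorem φB_algebraMap (y : T) :
    φB ψ lam hlam (algebraMap T (BBq R T d r n x t) y) = ψ y := by
  change φB ψ lam hlam (Ideal.Quotient.mk _ (C y)) = _
  unfold φB
  rw [Ideal.Quotient.liftₐ_apply, Ideal.Quotient.lift_mk]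
  exact ψP_C ψ lam y

end Map

end Groth.Agent.H91.SepB
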