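import Mathlib

/-!
# The lifting lemma (Stacks 07CP), part A: the substitution `θ` and Taylor expansion
-/

set_option autoImplicit false

namespace Groth.Agent.H91.LiftLem

open MvPolynomial

variable {R : Type*} [CommRing R] {n c : ℕ} (π : R) (r : Fin n → R) (N : Fin n → Fin c → R)

/-- The variable `Z_i`. -/
noncomputable def Z (R : Type*) [CommRing R] (n c : ℕ) (i : Fin n) :
    MvPolynomial (Fin (n + c)) R := X (Fin.castAdd c i)

/-- The variable `Y_k`. -/
noncomputable def Y (R : Type*) [CommRing R] (n c : ℕ) (k : Fin c) :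
    MvPolynomial (Fin (n + c)) R := X (Fin.natAdd n k)

/-- The direction vector `v_i = Σ_k N_{ik} Y_k + π Z_i`. -/
noncomputable def v (i : Fin n) : MvPolynomial (Fin (n + c)) R :=
  ∑ k, C (N i k) * Y R n c k + C π * Z R n c i

/-- The substitution `x_i ↦ r_i + π² v_i`. -/
noncomputable def θ : MvPolynomial (Fin n) R →ₐ[R] MvPolynomial (Fin (n + c)) R :=
  aeval (fun i => C (r i) + C (π ^ 2) * v π N i)

@[simp] theorem θ_X (i : Fin n) : θ π r N (X i) = C (r i) + C (π ^ 2) * v π N i := by
  simp [θ]

@[simp] theorem θ_C (a : R) : θ π r N (C a) = C a := by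
  simp [θ]

theorem castAdd_ne_natAdd (i : Fin n) (k : Fin c) : Fin.castAdd c i ≠ Fin.natAdd n k := by
  intro h
  have := congrArg Fin.val h
  simp only [Fin.val_castAdd, Fin.val_natAdd] at this
  omega

theorem pderiv_Z_Z (i l : Fin n) :
    pderiv (Fin.castAdd c i) (Z R n c l) = if l = i then 1 else 0 := by
  unfold Z
  rw [pderiv_X, Pi.single_apply]
  by_cases h : l = i
  · subst h; simp
  · rw [if_neg h, if_neg]
    intro h'
    exact h (Fin.castAdd_injective _ _ h')

theorem pderiv_Z_Y (i : Fin n) (k : Fin c) : pderiv (Fin.castAdd c i) (Y R n c k) = 0 := by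
  unfold Y
  rw [pderiv_X, Pi.single_apply, if_neg]
  exact fun h => castAdd_ne_natAdd i k h.symm

theorem pderiv_Y_Z (k : Fin c) (i : Fin n) : pderiv (Fin.natAdd n k) (Z R n c i) = 0 := by
  unfold Z
  rw [pderiv_X, Pi.single_apply, if_neg]
  exact fun h => castAdd_ne_natAdd i k h

theorem pderiv_Y_Y (k l : Fin c) :
    pderiv (Fin.natAdd n k) (Y R n c l) = if l = k then 1 else 0 := by
  unfold Y
  rw [pderiv_X, Pi.single_apply]
  by_cases h : l = k
  · subst h; simp
  · rw [if_neg h, if_neg]
    intro h'
    exact h (Fin.natAdd_injective _ _ h')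

theorem pderiv_Z_v (i l : Fin n) :
    pderiv (Fin.castAdd c i) (v π N l) = if l = i then C π else 0 := by
  unfold v
  rw [map_add, map_sum]
  have h1 : ∀ k ∈ Finset.univ, pderiv (Fin.castAdd c i) (C (N l k) * Y R n c k) = 0 := by
    intro k _
    rw [Derivation.leibniz, pderiv_Z_Y, pderiv_C, smul_zero, smul_zero, add_zero]
  rw [Finset.sum_eq_zero h1, zero_add, Derivation.leibniz, pderiv_C, smul_zero, add_zero,
    pderiv_Z_Z, smul_eq_mul]
  split_ifs <;> simp

/-- Second-order Taylor expansion of `θ F` around `r`. -/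
theorem taylor (F : MvPolynomial (Fin n) R) : ∃ G : MvPolynomial (Fin (n + c)) R,
    θ π r N F = C (eval r F) + C (π ^ 2) * ∑ i, C (eval r (pderiv i F)) * v π N i +
      C (π ^ 4) * G := by
  induction F using MvPolynomial.induction_on with
  | C a =>
    refine ⟨0, ?_⟩
    simp
  | add p q hp hq =>
    obtain ⟨G₁, h₁⟩ := hp
    obtain ⟨G₂, h₂⟩ := hq
    refine ⟨G₁ + G₂, ?_⟩
    rw [map_add, h₁, h₂]
    simp only [map_add, add_mul, Finset.sum_add_distrib, mul_add]
    ring
  | mul_X p i hp =>
    obtain ⟨G, hG⟩ := hp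
    have hsum : ∑ k, C (eval r (pderiv k (p * X i))) * v π N k =
        (∑ k, C (eval r (pderiv k p)) * v π N k) * C (r i) + C (eval r p) * v π N i := by
      have h1 : ∀ k, C (eval r (pderiv k (p * X i))) * v π N k =
          C (eval r (pderiv k p)) * v π N k * C (r i) +
            (if k = i then C (eval r p) * v π N k else 0) := by
        intro k
        rw [Derivation.leibniz, pderiv_X, smul_eq_mul, smul_eq_mul, map_add, map_mul, map_mul,
          eval_X, Pi.single_apply]
        by_cases h : i = k
        · subst h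
          simp only [if_true, map_one, mul_one, map_add, map_mul]
          ring
        · rw [if_neg h, if_neg (fun h' => h h'.symm)]
          simp only [map_zero, mul_zero, zero_add, add_zero, map_mul]
          ring
      simp_rw [h1]
      rw [Finset.sum_add_distrib, Finset.sum_ite_eq' Finset.univ i, if_pos (Finset.mem_univ _),
        Finset.sum_mul]
    refine ⟨(∑ k, C (eval r (pderiv k p)) * v π N k) * v π N i + G * C (r i) +
      C (π ^ 2) * G * v π N i, ?_⟩
    rw [map_mul, hG, θ_X, hsum, eval_mul, eval_X, map_mul]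
    simp only [map_pow]
    ring

/-- Chain rule for the `Z`-derivatives of `θ F`. -/
theorem pderiv_Z_θ (i : Fin n) (F : MvPolynomial (Fin n) R) :
    pderiv (Fin.castAdd c i) (θ π r N F) = C (π ^ 3) * θ π r N (pderiv i F) := by
  induction F using MvPolynomial.induction_on with
  | C a => simp
  | add p q hp hq => rw [map_add, map_add, hp, hq, map_add, map_add, mul_add]
  | mul_X p l hp =>
    rw [map_mul, Derivation.leibniz, hp, θ_X, Derivation.leibniz (pderiv i), map_add, map_add,
      pderiv_C, zero_add, Derivation.leibniz, pderiv_C, smul_zero, add_zero, pderiv_Z_v, pderiv_X,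
      Pi.single_apply]
    simp only [smul_eq_mul, map_mul, θ_X, map_pow]
    by_cases h : l = i
    · subst h
      simp only [if_true, map_one]
      ring
    · simp only [if_neg h, map_zero]
      ring

end Groth.Agent.H91.LiftLem
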