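import Mathlib
import Groth.Agent.H91.LiftLemA

/-!
# The lifting lemma (Stacks 07CP), part B: the matrix `N`, and the polynomials `g_j`, `s_j`
-/

set_option autoImplicit false

namespace Groth.Agent.H91.LiftLem

open MvPolynomial

section MatrixN

variable {R : Type*} [CommRing R] {n c : ℕ}

/-- Given a `c × n` matrix `J` and coefficients `a cols`, there is an `n × c` matrix `N` with
`J N = (Σ_cols a_cols det(J_cols)) · Id`. -/
theorem exists_N (J : Fin c → Fin n → R) (a : (Fin c → Fin n) → R) :
    ∃ N : Fin n → Fin c → R, ∀ j k : Fin c, ∑ i, J j i * N i k =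
      if j = k then ∑ cols : Fin c → Fin n, a cols * Matrix.det (Matrix.of fun j k => J j (cols k))
      else 0 := by
  classical
  let M : (Fin c → Fin n) → Matrix (Fin c) (Fin c) R := fun cols => Matrix.of fun j k => J j (cols k)
  refine ⟨fun i k' => ∑ cols : Fin c → Fin n, a cols *
    ∑ k, (if i = cols k then Matrix.adjugate (M cols) k k' else 0), ?_⟩
  intro j k'
  have h1 : ∀ cols : Fin c → Fin n, ∑ i, J j i *
      ∑ k, (if i = cols k then Matrix.adjugate (M cols) k k' else 0) =
      (M cols * Matrix.adjugate (M cols)) j k' := by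
    intro cols
    rw [Matrix.mul_apply]
    simp_rw [Finset.mul_sum]
    rw [Finset.sum_comm]
    refine Finset.sum_congr rfl fun k _ => ?_
    simp_rw [mul_ite, mul_zero]
    rw [Finset.sum_ite_eq' Finset.univ (cols k), if_pos (Finset.mem_univ _)]
    rfl
  calc ∑ i, J j i * ∑ cols : Fin c → Fin n, a cols *
        ∑ k, (if i = cols k then Matrix.adjugate (M cols) k k' else 0)
      = ∑ cols : Fin c → Fin n, a cols * ∑ i, J j i *
        ∑ k, (if i = cols k then Matrix.adjugate (M cols) k k' else 0) := by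
        simp_rw [Finset.mul_sum]
        rw [Finset.sum_comm]
        refine Finset.sum_congr rfl fun cols _ => Finset.sum_congr rfl fun i _ => ?_
        ring
    _ = ∑ cols : Fin c → Fin n, a cols * (M cols * Matrix.adjugate (M cols)) j k' := by
        simp_rw [h1]
    _ = _ := by
        simp_rw [Matrix.mul_adjugate, Matrix.smul_apply, Matrix.one_apply, smul_eq_mul]
        by_cases h : j = k'
        · simp only [if_pos h, mul_one]
          rfl
        · simp only [if_neg h, mul_zero, Finset.sum_const_zero]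

end MatrixN

section G

variable {R : Type*} [CommRing R] {n m c : ℕ} (π : R) (r : Fin n → R) (N : Fin n → Fin c → R)
  (f : Fin m → MvPolynomial (Fin n) R) (hcm : c ≤ m)

/-- The polynomials `g_j`: `θ f_j = π³ g_j` with `g_j = (1 + π³ r₁) Y_j + Σ J_{ji} Z_i + π H_j`. -/
theorem exists_g (r₀ : Fin m → R) (hf0 : ∀ j, eval r (f j) = π ^ 4 * r₀ j) (r₁ : R)
    (hJN : ∀ j k : Fin c, ∑ i, eval r (pderiv i (f (Fin.castLE hcm j))) * N i k =
      if j = k then π + π ^ 4 * r₁ else 0) :
    ∃ g H : Fin c → MvPolynomial (Fin (n + c)) R,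
      (∀ j, θ π r N (f (Fin.castLE hcm j)) = C (π ^ 3) * g j) ∧
      (∀ j, g j = C (1 + π ^ 3 * r₁) * Y R n c j +
        ∑ i, C (eval r (pderiv i (f (Fin.castLE hcm j)))) * Z R n c i + C π * H j) := by
  classical
  choose G hG using fun j : Fin c => taylor π r N (f (Fin.castLE hcm j))
  refine ⟨fun j => C (1 + π ^ 3 * r₁) * Y R n c j +
        ∑ i, C (eval r (pderiv i (f (Fin.castLE hcm j)))) * Z R n c i +
        C π * (C (r₀ (Fin.castLE hcm j)) + G j), fun j => C (r₀ (Fin.castLE hcm j)) + G j,
        ?_, fun j => rfl⟩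
  intro j
  have hsum : ∑ i, C (eval r (pderiv i (f (Fin.castLE hcm j)))) * v π N i =
      C (π + π ^ 4 * r₁) * Y R n c j +
        C π * ∑ i, C (eval r (pderiv i (f (Fin.castLE hcm j)))) * Z R n c i := by
    unfold v
    simp_rw [mul_add, Finset.sum_add_distrib, Finset.mul_sum]
    rw [Finset.sum_comm]
    congr 1
    · have h2 : ∀ k : Fin c, ∑ i, C (eval r (pderiv i (f (Fin.castLE hcm j)))) *
          (C (N i k) * Y R n c k) = (if j = k then C (π + π ^ 4 * r₁) else 0) * Y R n c k := by
        intro k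
        have := hJN j k
        simp_rw [← mul_assoc, ← map_mul]
        rw [← Finset.sum_mul, ← map_sum, this]
        split_ifs <;> simp
      simp_rw [h2, ite_mul, zero_mul]
      rw [Finset.sum_ite_eq Finset.univ j, if_pos (Finset.mem_univ _)]
    · refine Finset.sum_congr rfl fun i _ => ?_
      ring
  rw [hG j, hf0, hsum]
  simp only [map_add, map_mul, map_pow, map_one]
  ring

/-- The polynomials `s_j`: `θ f_j = π² s_j`. -/
theorem exists_s (r₀ : Fin m → R) (hf0 : ∀ j, eval r (f j) = π ^ 4 * r₀ j) :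
    ∃ s : Fin m → MvPolynomial (Fin (n + c)) R, ∀ j, θ π r N (f j) = C (π ^ 2) * s j := by
  choose G hG using fun j : Fin m => taylor π r N (f j)
  refine ⟨fun j => C (π ^ 2 * r₀ j) + ∑ i, C (eval r (pderiv i (f j))) * v π N i +
    C (π ^ 2) * G j, fun j => ?_⟩
  rw [hG j, hf0]
  simp only [map_mul, map_pow]
  ring

end G

end Groth.Agent.H91.LiftLem
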