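import Mathlib
import Groth.Prelude.Def_Smoothing
import Groth.Agent.H91.LiftLemB

/-!
# The lifting lemma (Stacks 07CP), part C: the presentation of `B` and strict standardness
-/

set_option autoImplicit false

namespace Groth.Agent.H91.LiftLem

open MvPolynomial Smoothing

universe u

variable {R : Type u} [CommRing R] {n m c : ℕ} (π : R) (r : Fin n → R) (N : Fin n → Fin c → R)
  (f : Fin m → MvPolynomial (Fin n) R) (hcm : c ≤ m)
  (g : Fin c → MvPolynomial (Fin (n + c)) R)

/-- The relations of `B`: the `g_j` for `j < c` and `θ f_j` for `j ≥ c`. -/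
noncomputable def relB (j : Fin m) : MvPolynomial (Fin (n + c)) R :=
  if h : (j : ℕ) < c then g ⟨j, h⟩ else θ π r N (f j)

theorem relB_castLE (j : Fin c) : relB π r N f g (Fin.castLE hcm j) = g j := by
  unfold relB
  rw [dif_pos (by simp)]
  congr 1

theorem relB_of_le (j : Fin m) (h : c ≤ (j : ℕ)) : relB π r N f g j = θ π r N (f j) := by
  unfold relB
  rw [dif_neg (by omega)]

/-- The ideal `𝔟` of relations of `B`. -/
noncomputable def idB : Ideal (MvPolynomial (Fin (n + c)) R) :=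
  Ideal.span (Set.range (relB π r N f g))

/-- The ideal `𝔤` generated by the `g_j`. -/
noncomputable def idG : Ideal (MvPolynomial (Fin (n + c)) R) := Ideal.span (Set.range g)

include hcm in
theorem idG_le_lead :
    idG g ≤ Ideal.span (relB π r N f g '' {j' : Fin m | (j' : ℕ) < c}) := by
  unfold idG
  rw [Ideal.span_le]
  rintro _ ⟨j, rfl⟩
  apply Ideal.subset_span
  exact ⟨Fin.castLE hcm j, by simp, relB_castLE π r N f hcm g j⟩

include hcm in
theorem idG_le_idB : idG g ≤ idB π r N f g := by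
  refine (idG_le_lead π r N f hcm g).trans ?_
  exact Ideal.span_mono (Set.image_subset_range _ _)

variable (hg : ∀ j, θ π r N (f (Fin.castLE hcm j)) = C (π ^ 3) * g j)

include hg in
theorem θ_lead_mem (j : Fin m) (h : (j : ℕ) < c) : θ π r N (f j) ∈ idG g := by
  have : j = Fin.castLE hcm ⟨j, h⟩ := by ext; simp
  rw [this, hg]
  exact Ideal.mul_mem_left _ _ (Ideal.subset_span ⟨_, rfl⟩)

include hg in
theorem θ_mem_idB (j : Fin m) : θ π r N (f j) ∈ idB π r N f g := by
  by_cases h : (j : ℕ) < c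
  · exact idG_le_idB π r N f hcm g (θ_lead_mem π r N f hcm g hg j h)
  · rw [← relB_of_le π r N f g j (by omega)]
    exact Ideal.subset_span ⟨j, rfl⟩

include hg in
theorem map_θ_le_idB :
    Ideal.map (θ π r N) (Ideal.span (Set.range f)) ≤ idB π r N f g := by
  rw [Ideal.map_span, Ideal.span_le]
  rintro _ ⟨_, ⟨j, rfl⟩, rfl⟩
  exact θ_mem_idB π r N f hcm g hg j

include hg in
theorem map_θ_lead_le_idG :
    Ideal.map (θ π r N) (Ideal.span (f '' {j' : Fin m | (j' : ℕ) < c})) ≤ idG g := by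
  rw [Ideal.map_span, Ideal.span_le]
  rintro _ ⟨_, ⟨j, hj, rfl⟩, rfl⟩
  exact θ_lead_mem π r N f hcm g hg j hj

/-- The ideal `𝔗` generated by all `θ f_j`. -/
noncomputable def idT : Ideal (MvPolynomial (Fin (n + c)) R) :=
  Ideal.span (Set.range fun j => θ π r N (f j))

theorem map_θ_eq_idT : Ideal.map (θ π r N) (Ideal.span (Set.range f)) = idT π r N f := by
  unfold idT
  rw [Ideal.map_span]
  congr 1
  ext x
  constructor
  · rintro ⟨_, ⟨j, rfl⟩, rfl⟩
    exact ⟨j, rfl⟩
  · rintro ⟨j, rfl⟩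
    exact ⟨_, ⟨j, rfl⟩, rfl⟩

include hg in
theorem idT_le_idB : idT π r N f ≤ idB π r N f g := by
  rw [← map_θ_eq_idT]
  exact map_θ_le_idB π r N f hcm g hg

variable (hkill : ∀ j : Fin m, c ≤ (j : ℕ) → C π * f j ∈
  Ideal.span (f '' {j' : Fin m | (j' : ℕ) < c}) ⊔ Ideal.span (Set.range f) ^ 2)

include hg hkill in
theorem pi_mul_θ_mem (j : Fin m) (h : c ≤ (j : ℕ)) :
    C π * θ π r N (f j) ∈ idG g ⊔ idT π r N f ^ 2 := by
  have h1 := Ideal.mem_map_of_mem (θ π r N) (hkill j h)
  rw [Ideal.map_sup, Ideal.map_pow, map_θ_eq_idT] at h1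
  have h2 : (θ π r N) (C π * f j) = C π * θ π r N (f j) := by
    rw [map_mul, θ_C]
  rw [← h2]
  exact sup_le_sup_right (map_θ_lead_le_idG π r N f hcm g hg) _ h1

/-- The marked presentation of `B = R[Z, Y] / 𝔟`. -/
noncomputable def presB :
    MarkedPresentation R (MvPolynomial (Fin (n + c)) R ⧸ idB π r N f g) where
  n := n + c
  m := m
  c := c
  hcn := Nat.le_add_left c n
  hcm := hcm
  rel := relB π r N f g
  hom := Ideal.Quotient.mkₐ R (idB π r N f g)
  surj := Ideal.Quotient.mkₐ_surjective R _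
  ker_eq := by
    ext x
    rw [RingHom.mem_ker]
    change Ideal.Quotient.mk (idB π r N f g) x = 0 ↔ _
    rw [Ideal.Quotient.eq_zero_iff_mem]
    rfl

include hcm in
theorem killsTail_aux (w : MvPolynomial (Fin (n + c)) R)
    (hw : ∀ j : Fin m, c ≤ (j : ℕ) → w * θ π r N (f j) ∈ idG g ⊔ idB π r N f g ^ 2)
    (a' : MvPolynomial (Fin (n + c)) R)
    (ha' : Ideal.Quotient.mk (idB π r N f g) a' = Ideal.Quotient.mk (idB π r N f g) w)
    (j : Fin m) (hj' : c ≤ (j : ℕ)) :
    a' * relB π r N f g j ∈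
    Ideal.span (relB π r N f g '' {j' : Fin m | (j' : ℕ) < c}) ⊔
      Ideal.span (Set.range (relB π r N f g)) ^ 2 := by
  rw [relB_of_le π r N f g j hj']
  have hdiff : a' - w ∈ idB π r N f g := Ideal.Quotient.eq.1 ha'
  have hθ : θ π r N (f j) ∈ idB π r N f g := by
    rw [← relB_of_le π r N f g j hj']
    exact Ideal.subset_span ⟨j, rfl⟩
  have h1 : a' * θ π r N (f j) = w * θ π r N (f j) + (a' - w) * θ π r N (f j) := by ring
  rw [h1]
  refine Ideal.add_mem _ ?_ ?_
  · exact sup_le_sup_right (idG_le_lead π r N f hcm g) _ (hw j hj')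
  · refine Ideal.mem_sup_right ?_
    rw [pow_two]
    exact Ideal.mul_mem_mul hdiff hθ

/-- Tail-killing for an element of `B` given by a lift `w` with `w * θ f_j ∈ 𝔤 + 𝔟²`. -/
theorem killsTail_of_mul_mem (w : MvPolynomial (Fin (n + c)) R)
    (hw : ∀ j : Fin m, c ≤ (j : ℕ) → w * θ π r N (f j) ∈ idG g ⊔ idB π r N f g ^ 2) :
    KillsTail (presB π r N f hcm g) (Ideal.Quotient.mk (idB π r N f g) w) :=
  fun a' ha' j hj => killsTail_aux π r N f hcm g w hw a' ha' j hj

/-- The `Y`-columns. -/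
def colsY (n c : ℕ) : Fin c → Fin (n + c) := fun k => Fin.natAdd n k

/-- The Jacobian determinant of the `g_j` with respect to the `Y_k`. -/
noncomputable def ΔY : MvPolynomial (Fin (n + c)) R :=
  Matrix.det (Matrix.of fun j k : Fin c => pderiv (Fin.natAdd n k) (g j))

theorem jacobianMinor_colsY :
    jacobianMinor (relB π r N f g) (Fin.castLE hcm) (colsY n c) = ΔY g := by
  unfold jacobianMinor ΔY colsY
  congr 1
  ext j k
  simp only [Matrix.of_apply]
  rw [relB_castLE]

include hcm in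
/-- Strict standardness from the `Y`-minor. -/
theorem isStrictlyStandard_of_ΔY (w₀ : MvPolynomial (Fin (n + c)) R)
    (hw : ∀ j : Fin m, c ≤ (j : ℕ) → w₀ * ΔY g * θ π r N (f j) ∈ idG g ⊔ idB π r N f g ^ 2) :
    IsStrictlyStandard R (MvPolynomial (Fin (n + c)) R ⧸ idB π r N f g)
      (Ideal.Quotient.mk (idB π r N f g) (w₀ * ΔY g)) := by
  refine ⟨presB π r N f hcm g, ?_, killsTail_of_mul_mem π r N f hcm g _ hw⟩
  rw [map_mul]
  refine Ideal.mul_mem_left _ _ (Ideal.subset_span ⟨colsY n c, ?_⟩)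
  change Ideal.Quotient.mk _ (jacobianMinor (relB π r N f g) (Fin.castLE hcm) (colsY n c)) = _
  rw [jacobianMinor_colsY]

end Groth.Agent.H91.LiftLem
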