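import Mathlib
import Groth.Prelude.Def_Smoothing
import Groth.Agent.H91.LiftLemC
import Groth.Agent.H11.StdSing

/-!
# The lifting lemma (Stacks 07CP), part D: `π^(3c+1)` is strictly standard in `B`
-/

set_option autoImplicit false

namespace Groth.Agent.H91.LiftLem

open MvPolynomial Smoothing

universe u

/-- If all entries of `M - 1` lie in an ideal, so does `det M - 1`. -/
theorem det_sub_one_mem {S : Type*} [CommRing S] {ι : Type*} [Fintype ι] [DecidableEq ι]
    (M : Matrix ι ι S) (𝔞 : Ideal S) (h : ∀ j k, M j k - (1 : Matrix ι ι S) j k ∈ 𝔞) :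
    M.det - 1 ∈ 𝔞 := by
  have h1 : (Ideal.Quotient.mk 𝔞).mapMatrix M = 1 := by
    ext j k
    rw [RingHom.mapMatrix_apply, Matrix.map_apply]
    have := Ideal.Quotient.eq.2 (h j k)
    rw [this]
    by_cases hjk : j = k
    · subst hjk; simp
    · simp [Matrix.one_apply_ne hjk]
  have h2 : Ideal.Quotient.mk 𝔞 M.det = 1 := by
    rw [RingHom.map_det, h1, Matrix.det_one]
  apply Ideal.Quotient.eq.1
  rw [h2, map_one]

variable {R : Type u} [CommRing R] {n m c : ℕ} (π : R) (r : Fin n → R) (N : Fin n → Fin c → R)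
  (f : Fin m → MvPolynomial (Fin n) R) (hcm : c ≤ m)
  (g : Fin c → MvPolynomial (Fin (n + c)) R)
  (hg : ∀ j, θ π r N (f (Fin.castLE hcm j)) = C (π ^ 3) * g j)

/-- The `Z`-columns attached to a choice of columns of the original presentation. -/
def colsZ (c : ℕ) {n : ℕ} (cols : Fin c → Fin n) : Fin c → Fin (n + c) :=
  fun k => Fin.castAdd c (cols k)

include hg in
theorem minor_colsZ (cols : Fin c → Fin n) :
    C (π ^ 3) ^ c * jacobianMinor (relB π r N f g) (Fin.castLE hcm) (colsZ c cols) =
      C (π ^ 3) ^ c * θ π r N (jacobianMinor f (Fin.castLE hcm) cols) := by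
  unfold jacobianMinor colsZ
  have h1 : (C (π ^ 3) : MvPolynomial (Fin (n + c)) R) •
      (Matrix.of fun j k : Fin c => pderiv (Fin.castAdd c (cols k))
        (relB π r N f g (Fin.castLE hcm j))) =
      (C (π ^ 3) : MvPolynomial (Fin (n + c)) R) • (θ π r N).mapMatrix
        (Matrix.of fun j k : Fin c => pderiv (cols k) (f (Fin.castLE hcm j))) := by
    ext j k
    simp only [Matrix.smul_apply, Matrix.of_apply, smul_eq_mul, AlgHom.mapMatrix_apply,
      Matrix.map_apply]
    rw [relB_castLE, ← pderiv_Z_θ, hg, Derivation.leibniz, pderiv_C, smul_zero, add_zero,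
      smul_eq_mul]
  have h2 := congrArg Matrix.det h1
  rw [Matrix.det_smul, Matrix.det_smul, Fintype.card_fin, ← AlgHom.map_det] at h2
  exact h2

variable (hkill : ∀ j : Fin m, c ≤ (j : ℕ) → C π * f j ∈
  Ideal.span (f '' {j' : Fin m | (j' : ℕ) < c}) ⊔ Ideal.span (Set.range f) ^ 2)

include hg hkill in
/-- `π^(3c+1)` is strictly standard in `B`. -/
theorem isStrictlyStandard_pi_pow (a : (Fin c → Fin n) → MvPolynomial (Fin n) R)
    (hspan : C π - ∑ cols : Fin c → Fin n, a cols * jacobianMinor f (Fin.castLE hcm) cols ∈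
      Ideal.span (Set.range f)) :
    IsStrictlyStandard R (MvPolynomial (Fin (n + c)) R ⧸ idB π r N f g)
      (Ideal.Quotient.mk (idB π r N f g) (C (π ^ (3 * c + 1)))) := by
  refine ⟨presB π r N f hcm g, ?_, killsTail_of_mul_mem π r N f hcm g _ ?_⟩
  · -- membership in the span of the minors
    have h1 : Ideal.Quotient.mk (idB π r N f g) (C π) =
        ∑ cols : Fin c → Fin n, Ideal.Quotient.mk (idB π r N f g) (θ π r N (a cols)) *
          Ideal.Quotient.mk (idB π r N f g) (θ π r N (jacobianMinor f (Fin.castLE hcm) cols)) := by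
      have h2 : θ π r N (C π - ∑ cols : Fin c → Fin n,
          a cols * jacobianMinor f (Fin.castLE hcm) cols) ∈ idB π r N f g :=
        map_θ_le_idB π r N f hcm g hg (Ideal.mem_map_of_mem _ hspan)
      rw [map_sub, θ_C, map_sum] at h2
      have h3 := Ideal.Quotient.eq.2 h2
      rw [h3, map_sum]
      refine Finset.sum_congr rfl fun cols _ => ?_
      rw [map_mul, map_mul]
    have h4 : Ideal.Quotient.mk (idB π r N f g) (C (π ^ (3 * c + 1))) =
        ∑ cols : Fin c → Fin n, Ideal.Quotient.mk (idB π r N f g) (θ π r N (a cols)) *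
          (Ideal.Quotient.mk (idB π r N f g) (C (π ^ 3) ^ c) *
          Ideal.Quotient.mk (idB π r N f g)
            (jacobianMinor (relB π r N f g) (Fin.castLE hcm) (colsZ c cols))) := by
      have h5 : (C (π ^ (3 * c + 1)) : MvPolynomial (Fin (n + c)) R) = C (π ^ 3) ^ c * C π := by
        rw [← map_pow, ← map_mul]
        congr 1
        ring
      rw [h5, map_mul, h1, Finset.mul_sum]
      refine Finset.sum_congr rfl fun cols _ => ?_
      rw [← map_mul (Ideal.Quotient.mk (idB π r N f g)) (C (π ^ 3) ^ c)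
        (jacobianMinor (relB π r N f g) (Fin.castLE hcm) (colsZ c cols)),
        minor_colsZ π r N f hcm g hg cols, map_mul]
      ring
    rw [h4]
    refine Ideal.sum_mem _ fun cols _ => ?_
    refine Ideal.mul_mem_left _ _ (Ideal.mul_mem_left _ _ (Ideal.subset_span ⟨colsZ c cols, ?_⟩))
    rfl
  · intro j hj
    have h1 := pi_mul_θ_mem π r N f hcm g hg hkill j hj
    have h2 : (C (π ^ (3 * c + 1)) : MvPolynomial (Fin (n + c)) R) * θ π r N (f j) =
        C (π ^ (3 * c)) * (C π * θ π r N (f j)) := by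
      rw [← mul_assoc, ← map_mul, pow_succ]
    rw [h2]
    refine Ideal.mul_mem_left _ _ ?_
    exact sup_le_sup_left (Ideal.pow_right_mono (idT_le_idB π r N f hcm g hg) 2) _ h1

end Groth.Agent.H91.LiftLem
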