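import Mathlib
import Groth.Prelude.Def_Smoothing
import Groth.Agent.H91.LiftLemD
import Groth.Agent.H11.StdSing

/-!
# The lifting lemma (Stacks 07CP), part E: an element `w ≡ r² mod π` strictly standard in `B`
-/

set_option autoImplicit false

namespace Groth.Agent.H91.LiftLem

open MvPolynomial Smoothing

universe u

variable {R : Type u} [CommRing R] {n m c : ℕ} (π : R) (r : Fin n → R) (N : Fin n → Fin c → R)
  (f : Fin m → MvPolynomial (Fin n) R) (hcm : c ≤ m)
  (g : Fin c → MvPolynomial (Fin (n + c)) R)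

section Form

variable (H : Fin c → MvPolynomial (Fin (n + c)) R) (r₁ : R) (J : Fin c → Fin n → R)
  (hgform : ∀ j, g j = C (1 + π ^ 3 * r₁) * Y R n c j + ∑ i, C (J j i) * Z R n c i + C π * H j)

include hgform in
theorem ΔY_sub_one_mem : ΔY g - 1 ∈ Ideal.span {(C π : MvPolynomial (Fin (n + c)) R)} := by
  classical
  unfold ΔY
  apply det_sub_one_mem
  intro j k
  rw [Matrix.of_apply, hgform j, map_add, map_add, Derivation.leibniz, pderiv_C, smul_zero,
    add_zero, pderiv_Y_Y, map_sum, Derivation.leibniz, pderiv_C, smul_zero, add_zero, smul_eq_mul,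
    smul_eq_mul]
  have h1 : ∀ i ∈ Finset.univ, pderiv (Fin.natAdd n k) (C (J j i) * Z R n c i) = 0 := by
    intro i _
    rw [Derivation.leibniz, pderiv_C, smul_zero, add_zero, pderiv_Y_Z, smul_zero]
  rw [Finset.sum_eq_zero h1, add_zero]
  by_cases hjk : j = k
  · subst hjk
    rw [if_pos rfl, Matrix.one_apply_eq, mul_one]
    have : C (1 + π ^ 3 * r₁) + C π * pderiv (Fin.natAdd n j) (H j) - 1 =
        C π * (C (π ^ 2 * r₁) + pderiv (Fin.natAdd n j) (H j)) := by
      simp only [map_add, map_mul, map_pow, map_one]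
      ring
    rw [this]
    exact Ideal.mul_mem_right _ _ (Ideal.subset_span rfl)
  · rw [if_neg hjk, Matrix.one_apply_ne hjk, mul_zero, zero_add, sub_zero]
    exact Ideal.mul_mem_right _ _ (Ideal.subset_span rfl)

end Form

/-- The marked presentation of `B₀ = R[Z, Y] / 𝔤`. -/
noncomputable def presB₀ :
    MarkedPresentation R (MvPolynomial (Fin (n + c)) R ⧸ idG g) where
  n := n + c
  m := c
  c := c
  hcn := Nat.le_add_left c n
  hcm := le_rfl
  rel := g
  hom := Ideal.Quotient.mkₐ R (idG g)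
  surj := Ideal.Quotient.mkₐ_surjective R _
  ker_eq := by
    ext x
    rw [RingHom.mem_ker]
    change Ideal.Quotient.mk (idG g) x = 0 ↔ _
    rw [Ideal.Quotient.eq_zero_iff_mem]
    rfl

theorem isStrictlyStandard_ΔY₀ :
    IsStrictlyStandard R (MvPolynomial (Fin (n + c)) R ⧸ idG g)
      (Ideal.Quotient.mk (idG g) (ΔY g)) := by
  refine ⟨presB₀ g, Ideal.subset_span ⟨colsY n c, ?_⟩, ?_⟩
  · change Ideal.Quotient.mk _ (jacobianMinor g (Fin.castLE le_rfl) (colsY n c)) = _
    rfl
  · intro a' _ j hj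
    exact absurd j.2 (not_lt.2 hj)

instance : Algebra.FinitePresentation R (MvPolynomial (Fin (n + c)) R ⧸ idG g) :=
  Algebra.FinitePresentation.quotient (Submodule.fg_span (Set.finite_range g))

theorem smooth_away_ΔY₀ :
    Algebra.Smooth R (Localization.Away (Ideal.Quotient.mk (idG g) (ΔY g))) := by
  apply Algebra.basicOpen_subset_smoothLocus_iff_smooth.1
  intro q hq
  exact Groth.Agent.H11.StdSing.isSmoothAt_of_isStrictlyStandard _ (isStrictlyStandard_ΔY₀ g)
    q.asIdeal hq

/-- Flatness step: if `π³ ε ∈ 𝔤` then `ΔY^M π r'² ε ∈ 𝔤` for some `M`. -/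
theorem exists_pow_mul_mem (r' : R) (hr : ∀ x : R, π ^ 2 * x = 0 → π * (r' * x) = 0)
    (ε : MvPolynomial (Fin (n + c)) R) (hε : C (π ^ 3) * ε ∈ idG g) :
    ∃ M : ℕ, ΔY g ^ M * (C (π * r' ^ 2) * ε) ∈ idG g := by
  haveI := smooth_away_ΔY₀ (R := R) g
  let B₀ := MvPolynomial (Fin (n + c)) R ⧸ idG g
  let L := Localization.Away (Ideal.Quotient.mk (idG g) (ΔY g))
  let x : L := algebraMap B₀ L (Ideal.Quotient.mk (idG g) ε)
  have hmk : ∀ (a : R) (p : MvPolynomial (Fin (n + c)) R),
      algebraMap B₀ L (Ideal.Quotient.mk (idG g) (C a * p)) =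
        algebraMap R L a * algebraMap B₀ L (Ideal.Quotient.mk (idG g) p) := by
    intro a p
    rw [map_mul, map_mul, IsScalarTower.algebraMap_apply R B₀ L]
    rfl
  have hx : algebraMap R L (π ^ 3) * x = 0 := by
    rw [← hmk, Ideal.Quotient.eq_zero_iff_mem.2 hε, map_zero]
  have hr3 : ∀ a : R, π ^ 3 * a = 0 → π * r' ^ 2 * a = 0 := by
    intro a ha
    have h1 : π * (r' * (π * a)) = 0 := hr (π * a) (by rw [← ha]; ring)
    have h2 : π * (r' * (r' * a)) = 0 := hr (r' * a) (by rw [← h1]; ring)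
    rw [← h2]; ring
  obtain ⟨k, a, y, hxy, ha⟩ := Module.Flat.isTrivialRelation_of_sum_smul_eq_zero (R := R) (M := L)
    (ι := Unit) (f := fun _ => π ^ 3) (x := fun _ => x) (by
      rw [Finset.univ_unique, Finset.sum_singleton, Algebra.smul_def]
      exact hx)
  have hx2 : algebraMap R L (π * r' ^ 2) * x = 0 := by
    have h1 := hxy ()
    simp only at h1
    rw [h1, Finset.mul_sum]
    refine Finset.sum_eq_zero fun j _ => ?_
    have haj := ha j
    simp only [Finset.univ_unique, Finset.sum_singleton] at haj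
    rw [Algebra.smul_def, ← mul_assoc, ← map_mul, hr3 _ haj, map_zero, zero_mul]
  rw [← hmk] at hx2
  have hx3 : algebraMap B₀ L (Ideal.Quotient.mk (idG g) (C (π * r' ^ 2) * ε)) =
      algebraMap B₀ L 0 := by rw [hx2, map_zero]
  obtain ⟨M, hM⟩ := IsLocalization.Away.exists_of_eq (Ideal.Quotient.mk (idG g) (ΔY g)) hx3
  refine ⟨M, ?_⟩
  rw [mul_zero, ← map_pow, ← map_mul] at hM
  exact Ideal.Quotient.eq_zero_iff_mem.1 hM

end Groth.Agent.H91.LiftLem
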