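import Mathlib
import Groth.Prelude.Def_Smoothing
import Groth.Agent.H91.LiftLemE

/-!
# The lifting lemma (Stacks 07CP), part F: existence of `w ≡ r'² mod π` strictly standard in `B`
-/

set_option autoImplicit false

namespace Groth.Agent.H91.LiftLem

open MvPolynomial Smoothing

universe u

variable {R : Type u} [CommRing R] {n m c : ℕ} (π : R) (r : Fin n → R) (N : Fin n → Fin c → R)
  (f : Fin m → MvPolynomial (Fin n) R) (hcm : c ≤ m)
  (g : Fin c → MvPolynomial (Fin (n + c)) R)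
  (hg : ∀ j, θ π r N (f (Fin.castLE hcm j)) = C (π ^ 3) * g j)
  (hkill : ∀ j : Fin m, c ≤ (j : ℕ) → C π * f j ∈
    Ideal.span (f '' {j' : Fin m | (j' : ℕ) < c}) ⊔ Ideal.span (Set.range f) ^ 2)
  (H : Fin c → MvPolynomial (Fin (n + c)) R) (r₁ : R) (J : Fin c → Fin n → R)
  (hgform : ∀ j, g j = C (1 + π ^ 3 * r₁) * Y R n c j + ∑ i, C (J j i) * Z R n c i + C π * H j)
  (s : Fin m → MvPolynomial (Fin (n + c)) R) (hs : ∀ j, θ π r N (f j) = C (π ^ 2) * s j)

include hg hkill hs in
theorem exists_γ (j : Fin m) : ∃ γ : Fin m → MvPolynomial (Fin (n + c)) R,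
    C π * θ π r N (f j) - C (π ^ 2) * ∑ k, γ k * θ π r N (f k) ∈ idG g := by
  by_cases h : (j : ℕ) < c
  · refine ⟨fun _ => 0, ?_⟩
    simp only [zero_mul, Finset.sum_const_zero, mul_zero, sub_zero]
    exact Ideal.mul_mem_left _ _ (θ_lead_mem π r N f hcm g hg j h)
  · have h1 := pi_mul_θ_mem π r N f hcm g hg hkill j (by omega)
    have h2 : idT π r N f ^ 2 ≤ Ideal.span {C (π ^ 2)} * idT π r N f := by
      rw [pow_two]
      refine Ideal.mul_mono_left ?_
      unfold idT
      rw [Ideal.span_le]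
      rintro _ ⟨k, rfl⟩
      simp only
      rw [hs k]
      exact Ideal.mul_mem_right _ _ (Ideal.subset_span rfl)
    obtain ⟨y, hy, z, hz, hyz⟩ := Submodule.mem_sup.1 (sup_le_sup_left h2 _ h1)
    obtain ⟨z', hz', rfl⟩ := Ideal.mem_span_singleton_mul.1 hz
    obtain ⟨γ, hγ⟩ := (Ideal.mem_span_range_iff_exists_fun).1 hz'
    refine ⟨γ, ?_⟩
    rw [hγ, ← hyz, add_sub_cancel_right]
    exact hy

include hg hkill hgform hs in
theorem exists_w (r' : R) (hr : ∀ x : R, π ^ 2 * x = 0 → π * (r' * x) = 0) :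
    ∃ w : MvPolynomial (Fin (n + c)) R,
      w - C (r' ^ 2) ∈ Ideal.span {(C π : MvPolynomial (Fin (n + c)) R)} ∧
      IsStrictlyStandard R (MvPolynomial (Fin (n + c)) R ⧸ idB π r N f g)
        (Ideal.Quotient.mk (idB π r N f g) w) := by
  classical
  choose γ hγ using exists_γ π r N f hcm g hg hkill s hs
  -- the elements `ε_j`
  let ε : Fin m → MvPolynomial (Fin (n + c)) R := fun j => s j - C π * ∑ k, γ j k * s k
  have hε1 : ∀ j, θ π r N (f j) - C π * ∑ k, γ j k * θ π r N (f k) = C (π ^ 2) * ε j := by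
    intro j
    simp only [ε, hs, mul_sub, Finset.mul_sum]
    congr 1
    refine Finset.sum_congr rfl fun k _ => ?_
    ring
  have hε : ∀ j, C (π ^ 3) * ε j ∈ idG g := by
    intro j
    have h1 : C (π ^ 3) * ε j =
        C π * θ π r N (f j) - C (π ^ 2) * ∑ k, γ j k * θ π r N (f k) := by
      have : (C (π ^ 3) : MvPolynomial (Fin (n + c)) R) = C π * C (π ^ 2) := by
        rw [← map_mul]; congr 1; ring
      rw [this, mul_assoc, ← hε1, mul_sub]
      congr 1
      simp only [map_pow]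
      ring
    rw [h1]
    exact hγ j
  -- the flatness step
  choose M₀ hM₀ using fun j => exists_pow_mul_mem π g r' hr (ε j) (hε j)
  let M : ℕ := ∑ j, M₀ j
  have hM : ∀ j, ΔY g ^ M * (C (π * r' ^ 2) * ε j) ∈ idG g := by
    intro j
    have hle : M₀ j ≤ M := Finset.single_le_sum (f := M₀) (fun _ _ => Nat.zero_le _)
      (Finset.mem_univ j)
    obtain ⟨d, hd⟩ := Nat.exists_eq_add_of_le hle
    rw [hd, pow_add, mul_comm (ΔY g ^ M₀ j), mul_assoc]
    exact Ideal.mul_mem_left _ _ (hM₀ j)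
  -- the vector `τ`
  let τ : Fin m → MvPolynomial (Fin (n + c)) R := fun j => ΔY g ^ M * C (r' ^ 2) * θ π r N (f j)
  have hτ : ∀ j, τ j - C π * ∑ k, γ j k * τ k ∈ idG g := by
    intro j
    have h1 : τ j - C π * ∑ k, γ j k * τ k =
        C π * (ΔY g ^ M * (C (π * r' ^ 2) * ε j)) := by
      have h2 : τ j - C π * ∑ k, γ j k * τ k = ΔY g ^ M * C (r' ^ 2) *
          (θ π r N (f j) - C π * ∑ k, γ j k * θ π r N (f k)) := by
        simp only [τ, mul_sub, Finset.mul_sum]
        congr 1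
        refine Finset.sum_congr rfl fun k _ => ?_
        ring
      rw [h2, hε1]
      simp only [map_mul, map_pow]
      ring
    rw [h1]
    exact Ideal.mul_mem_left _ _ (hM j)
  -- the matrix trick
  let Γ : Matrix (Fin m) (Fin m) (MvPolynomial (Fin (n + c)) R) := Matrix.of fun j k => γ j k
  let Mx : Matrix (Fin m) (Fin m) (MvPolynomial (Fin (n + c)) R) :=
    1 - (C π : MvPolynomial (Fin (n + c)) R) • Γ
  have hMxτ : ∀ j, (Mx.mulVec τ) j ∈ idG g := by
    intro j
    have : (Mx.mulVec τ) j = τ j - C π * ∑ k, γ j k * τ k := by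
      simp only [Mx, Γ, Matrix.sub_mulVec, Matrix.one_mulVec, Matrix.smul_mulVec, Pi.sub_apply,
        Pi.smul_apply, smul_eq_mul]
      rfl
    rw [this]
    exact hτ j
  have hdet : ∀ l, Mx.det * τ l ∈ idG g := by
    intro l
    have h1 : (Mx.adjugate * Mx).mulVec τ = Mx.det • τ := by
      rw [Matrix.adjugate_mul, Matrix.smul_mulVec, Matrix.one_mulVec]
    have h2 : (Mx.det • τ) l = ∑ j, Mx.adjugate l j * (Mx.mulVec τ) j := by
      rw [← h1, ← Matrix.mulVec_mulVec]
      rfl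
    have h3 : Mx.det * τ l = (Mx.det • τ) l := rfl
    rw [h3, h2]
    exact Ideal.sum_mem _ fun j _ => Ideal.mul_mem_left _ _ (hMxτ j)
  have hdet1 : Mx.det - 1 ∈ Ideal.span {(C π : MvPolynomial (Fin (n + c)) R)} := by
    apply det_sub_one_mem
    intro j k
    have : Mx j k - (1 : Matrix (Fin m) (Fin m) _) j k = C π * (- γ j k) := by
      simp only [Mx, Γ, Matrix.sub_apply, Matrix.smul_apply, Matrix.of_apply, smul_eq_mul]
      ring
    rw [this]
    exact Ideal.mul_mem_right _ _ (Ideal.subset_span rfl)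
  have hΔ1 := ΔY_sub_one_mem π g H r₁ J hgform
  -- the element `w`
  refine ⟨Mx.det * ΔY g ^ M * C (r' ^ 2) * ΔY g, ?_, ?_⟩
  · apply Ideal.Quotient.eq.1
    have e1 : Ideal.Quotient.mk (Ideal.span {(C π : MvPolynomial (Fin (n + c)) R)}) Mx.det = 1 := by
      rw [← map_one (Ideal.Quotient.mk _)]
      exact Ideal.Quotient.eq.2 hdet1
    have e2 : Ideal.Quotient.mk (Ideal.span {(C π : MvPolynomial (Fin (n + c)) R)}) (ΔY g) = 1 := by
      rw [← map_one (Ideal.Quotient.mk _)]
      exact Ideal.Quotient.eq.2 hΔ1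
    rw [map_mul, map_mul, map_mul, map_pow, e1, e2, one_pow, one_mul, one_mul, mul_one]
  · apply isStrictlyStandard_of_ΔY π r N f hcm g
    intro j _
    refine Ideal.mem_sup_left ?_
    have : Mx.det * ΔY g ^ M * C (r' ^ 2) * ΔY g * θ π r N (f j) = ΔY g * (Mx.det * τ j) := by
      simp only [τ]
      ring
    rw [this]
    exact Ideal.mul_mem_left _ _ (hdet j)

end Groth.Agent.H91.LiftLem
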