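import Mathlib
import Groth.Prelude.Def_Smoothing
import Groth.Agent.H91.LiftLemF
import Groth.Agent.H91.DelocA

/-!
# The lifting lemma (Stacks 07CP), part G: assembly
-/

set_option autoImplicit false

namespace Groth.Agent.H91.LiftLem

open MvPolynomial Smoothing

universe u

theorem mem_singularIdeal_of_isStrictlyStandard {R A : Type u} [CommRing R] [CommRing A]
    [Algebra R A] {a : A} (ha : IsStrictlyStandard R A a) : a ∈ singularIdeal R A :=
  Groth.Agent.H91.Deloc.mem_singularIdeal_of_basicOpen_subset fun q hq =>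
    Groth.Agent.H11.StdSing.isSmoothAt_of_isStrictlyStandard a ha q.asIdeal hq

theorem main {R Λ A : Type u} [CommRing R] [CommRing Λ]
    [Algebra R Λ] (π : R) (hΛ : ∀ x : Λ, π ^ 2 • x = 0 → π • x = 0) [CommRing A] [Algebra R A]
    (φ : A →ₐ[R] Λ)
    (hπ : Smoothing.IsStrictlyStandard R A (algebraMap R A π))
    (ρ : A →ₐ[R] R ⧸ Ideal.span {π ^ 4})
    (hρ : ∀ (a : A) (r : R), Ideal.Quotient.mk (Ideal.span {π ^ 4}) r = ρ a →
      algebraMap R Λ r - φ a ∈ Ideal.span {algebraMap R Λ (π ^ 4)}) :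
    ∃ (B : Type u) (_ : CommRing B) (_ : Algebra R B), Algebra.FinitePresentation R B ∧
      ∃ (α : A →ₐ[R] B) (β : B →ₐ[R] Λ), β.comp α = φ ∧
        ∀ r : R, (∀ x : R, π ^ 2 * x = 0 → π * (r * x) = 0) →
          algebraMap R B r ∈ Smoothing.singularIdeal R B := by
  classical
  obtain ⟨P, hspanA, hKT⟩ := hπ
  -- notation
  obtain ⟨n, m, c, hcn, hcm, f, hom, hsurj, hker⟩ := P
  simp only at hspanA hKT
  have hkerf : ∀ F : MvPolynomial (Fin n) R, hom F = 0 ↔ F ∈ Ideal.span (Set.range f) := by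
    intro F
    rw [← hker, RingHom.mem_ker]
    rfl
  have hfker : ∀ j, hom (f j) = 0 := fun j => (hkerf _).2 (Ideal.subset_span ⟨j, rfl⟩)
  -- tail condition
  have hkill : ∀ j : Fin m, c ≤ (j : ℕ) → C π * f j ∈
      Ideal.span (f '' {j' : Fin m | (j' : ℕ) < c}) ⊔ Ideal.span (Set.range f) ^ 2 := by
    intro j hj
    exact hKT (C π) (by rw [← algebraMap_eq, AlgHom.commutes]) j hj
  -- coefficients of the minors
  obtain ⟨aA, haA⟩ := (Ideal.mem_span_range_iff_exists_fun).1 hspanA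
  choose a ha using fun cols => hsurj (aA cols)
  have hspan : C π - ∑ cols : Fin c → Fin n, a cols * jacobianMinor f (Fin.castLE hcm) cols ∈
      Ideal.span (Set.range f) := by
    rw [← hkerf, map_sub, map_sum, ← algebraMap_eq, AlgHom.commutes, ← haA, sub_eq_zero]
    refine Finset.sum_congr rfl fun cols _ => ?_
    rw [map_mul, ha]
  -- the point `r`
  choose r hr using fun i => Ideal.Quotient.mk_surjective (ρ (hom (X i)))
  have hevρ : ∀ F : MvPolynomial (Fin n) R,
      Ideal.Quotient.mk (Ideal.span {π ^ 4}) (eval r F) = ρ (hom F) := by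
    have : (Ideal.Quotient.mkₐ R (Ideal.span {π ^ 4})).comp (aeval r) = ρ.comp hom := by
      apply MvPolynomial.algHom_ext
      intro i
      simp only [AlgHom.comp_apply, aeval_X, Ideal.Quotient.mkₐ_eq_mk, hr]
    intro F
    have h1 := DFunLike.congr_fun this F
    simp only [AlgHom.comp_apply, Ideal.Quotient.mkₐ_eq_mk, coe_aeval_eq_eval] at h1
    exact h1
  have hev0 : ∀ F : MvPolynomial (Fin n) R, F ∈ Ideal.span (Set.range f) →
      ∃ r₀ : R, eval r F = π ^ 4 * r₀ := by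
    intro F hF
    have h1 : Ideal.Quotient.mk (Ideal.span {π ^ 4}) (eval r F) = 0 := by
      rw [hevρ, (hkerf F).2 hF, map_zero]
    obtain ⟨r₀, h2⟩ := Ideal.mem_span_singleton'.1 (Ideal.Quotient.eq_zero_iff_mem.1 h1)
    exact ⟨r₀, by rw [← h2, mul_comm]⟩
  choose r₀ hf0 using fun j => hev0 (f j) (Ideal.subset_span ⟨j, rfl⟩)
  -- the Jacobian at `r`
  let J : Fin c → Fin n → R := fun j i => eval r (pderiv i (f (Fin.castLE hcm j)))
  obtain ⟨r₁', hr₁'⟩ := hev0 _ hspan
  have hD : ∑ cols : Fin c → Fin n, eval r (a cols) *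
      Matrix.det (Matrix.of fun j k => J j (cols k)) = π + π ^ 4 * (-r₁') := by
    have h1 : ∀ cols : Fin c → Fin n, eval r (jacobianMinor f (Fin.castLE hcm) cols) =
        Matrix.det (Matrix.of fun j k => J j (cols k)) := by
      intro cols
      unfold jacobianMinor
      rw [RingHom.map_det]
      congr 1
    rw [map_sub, eval_C, map_sum] at hr₁'
    simp_rw [map_mul, h1] at hr₁'
    linear_combination -hr₁'
  obtain ⟨N, hN⟩ := exists_N J (fun cols => eval r (a cols))
  have hJN : ∀ j k : Fin c, ∑ i, eval r (pderiv i (f (Fin.castLE hcm j))) * N i k =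
      if j = k then π + π ^ 4 * (-r₁') else 0 := by
    intro j k
    rw [← hD]
    exact hN j k
  obtain ⟨g, H, hg, hgform⟩ := exists_g π r N f hcm r₀ hf0 (-r₁') hJN
  obtain ⟨s, hs⟩ := exists_s π r N f r₀ hf0
  -- the algebra `B`
  let S := MvPolynomial (Fin (n + c)) R
  let 𝔟 : Ideal S := idB π r N f g
  let B := S ⧸ 𝔟
  haveI hfpB : Algebra.FinitePresentation R B :=
    Algebra.FinitePresentation.quotient (Submodule.fg_span (Set.finite_range _))
  -- the `Λ`-point
  have hlam : ∀ i, ∃ l : Λ, φ (hom (X i)) = algebraMap R Λ (r i) + algebraMap R Λ (π ^ 4) * l := by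
    intro i
    obtain ⟨μ, hμ⟩ := Ideal.mem_span_singleton'.1 (hρ (hom (X i)) (r i) (hr i))
    refine ⟨-μ, ?_⟩
    linear_combination hμ
  choose lam hlam using hlam
  let β₀ : S →ₐ[R] Λ := aeval (Fin.addCases (fun i => algebraMap R Λ π * lam i) (fun _ => 0))
  have hβ₀Z : ∀ i, β₀ (Z R n c i) = algebraMap R Λ π * lam i := by
    intro i
    exact (aeval_X _ _).trans (Fin.addCases_left _)
  have hβ₀Y : ∀ k, β₀ (Y R n c k) = 0 := by
    intro k
    exact (aeval_X _ _).trans (Fin.addCases_right _)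
  have hβ₀C : ∀ x : R, β₀ (C x) = algebraMap R Λ x := fun x => aeval_C _ _
  have hβ₀θ : β₀.comp (θ π r N) = φ.comp hom := by
    apply MvPolynomial.algHom_ext
    intro i
    rw [AlgHom.comp_apply, AlgHom.comp_apply, θ_X, hlam]
    unfold v
    rw [map_add, map_mul, map_add, map_sum, hβ₀C, hβ₀C, map_mul, hβ₀C, hβ₀Z]
    have h0 : ∀ k ∈ Finset.univ, β₀ (C (N i k) * Y R n c k) = 0 := fun k _ => by
      rw [map_mul, hβ₀Y, mul_zero]
    rw [Finset.sum_eq_zero h0, zero_add, map_pow, map_pow]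
    ring
  have hβ₀θ' : ∀ F, β₀ (θ π r N F) = φ (hom F) := fun F => DFunLike.congr_fun hβ₀θ F
  have hΛ4 : ∀ u : Λ, algebraMap R Λ π ^ 4 * u = 0 → algebraMap R Λ π * u = 0 := by
    intro u hu
    have hΛ' : ∀ x : Λ, algebraMap R Λ π ^ 2 * x = 0 → algebraMap R Λ π * x = 0 := by
      intro x hx
      have := hΛ x (by rw [Algebra.smul_def, map_pow]; exact hx)
      rwa [Algebra.smul_def] at this
    have h1 : algebraMap R Λ π * (algebraMap R Λ π ^ 2 * u) = 0 :=
      hΛ' _ (by rw [← hu]; ring)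
    have h2 : algebraMap R Λ π * (algebraMap R Λ π * u) = 0 :=
      hΛ' _ (by rw [← h1]; ring)
    exact hΛ' _ (by rw [← h2]; ring)
  have hβ₀g : ∀ j, β₀ (g j) = 0 := by
    intro j
    have h1 : β₀ (g j) = algebraMap R Λ π *
        (∑ i, algebraMap R Λ (eval r (pderiv i (f (Fin.castLE hcm j)))) * lam i + β₀ (H j)) := by
      rw [hgform j]
      simp only [map_add, map_mul, map_sum, hβ₀C, hβ₀Y, hβ₀Z, mul_zero, zero_add, mul_add,
        Finset.mul_sum]
      congr 1
      refine Finset.sum_congr rfl fun i _ => ?_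
      ring
    have h2 : algebraMap R Λ (π ^ 3) * β₀ (g j) = 0 := by
      rw [← hβ₀C, ← map_mul, ← hg, hβ₀θ', hfker, map_zero]
    rw [h1]
    apply hΛ4
    rw [h1, map_pow] at h2
    rw [← h2]
    ring
  have hβ₀𝔟 : ∀ p ∈ 𝔟, β₀ p = 0 := by
    have hle : 𝔟 ≤ RingHom.ker β₀.toRingHom := by
      change idB π r N f g ≤ _
      unfold idB
      rw [Ideal.span_le]
      rintro _ ⟨j, rfl⟩
      rw [SetLike.mem_coe, RingHom.mem_ker]
      change β₀ (relB π r N f g j) = 0
      by_cases hj : (j : ℕ) < c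
      · unfold relB
        rw [dif_pos hj]
        exact hβ₀g _
      · rw [relB_of_le π r N f g j (by omega), hβ₀θ', hfker, map_zero]
    intro p hp
    exact hle hp
  let β : B →ₐ[R] Λ := Ideal.Quotient.liftₐ 𝔟 β₀ hβ₀𝔟
  have hβmk : ∀ p : S, β (Ideal.Quotient.mk 𝔟 p) = β₀ p := fun p => rfl
  -- the map `α`
  let homB : MvPolynomial (Fin n) R →ₐ[R] B := (Ideal.Quotient.mkₐ R 𝔟).comp (θ π r N)
  have hhomB : RingHom.ker hom.toRingHom ≤ RingHom.ker homB.toRingHom := by
    rw [hker, Ideal.span_le]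
    rintro _ ⟨j, rfl⟩
    rw [SetLike.mem_coe, RingHom.mem_ker]
    change Ideal.Quotient.mk 𝔟 (θ π r N (f j)) = 0
    rw [Ideal.Quotient.eq_zero_iff_mem]
    exact θ_mem_idB π r N f hcm g hg j
  let α : A →ₐ[R] B := AlgHom.liftOfSurjective hom hsurj homB hhomB
  have hα : ∀ F, α (hom F) = Ideal.Quotient.mk 𝔟 (θ π r N F) := fun F =>
    AlgHom.liftOfSurjective_apply hom hsurj homB hhomB F
  refine ⟨B, inferInstance, inferInstance, hfpB, α, β, ?_, ?_⟩
  · ext x
    obtain ⟨F, rfl⟩ := hsurj x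
    rw [AlgHom.comp_apply, hα, hβmk, hβ₀θ']
  · intro r' hr'
    have h1 : Ideal.Quotient.mk 𝔟 (C (π ^ (3 * c + 1))) ∈ singularIdeal R B :=
      mem_singularIdeal_of_isStrictlyStandard
        (isStrictlyStandard_pi_pow π r N f hcm g hg hkill a hspan)
    obtain ⟨w, hw1, hw2⟩ := exists_w π r N f hcm g hg hkill H (-r₁') J hgform s hs r' hr'
    have h2 : Ideal.Quotient.mk 𝔟 w ∈ singularIdeal R B :=
      mem_singularIdeal_of_isStrictlyStandard hw2
    unfold singularIdeal at h1 h2 ⊢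
    rw [PrimeSpectrum.mem_vanishingIdeal] at h1 h2 ⊢
    intro q hq
    have hq1 := h1 q hq
    have hq2 := h2 q hq
    have hπq : Ideal.Quotient.mk 𝔟 (C π) ∈ q.asIdeal := by
      rw [map_pow, map_pow] at hq1
      exact q.isPrime.mem_of_pow_mem _ hq1
    obtain ⟨d, hd⟩ := Ideal.mem_span_singleton'.1 hw1
    have h3 : Ideal.Quotient.mk 𝔟 (C (r' ^ 2)) ∈ q.asIdeal := by
      have : (C (r' ^ 2) : S) = w - d * C π := by rw [hd]; ring
      rw [this, map_sub, map_mul]
      exact Ideal.sub_mem _ hq2 (Ideal.mul_mem_left _ _ hπq)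
    rw [map_pow, map_pow] at h3
    exact q.isPrime.mem_of_pow_mem _ h3

end Groth.Agent.H91.LiftLem
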