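import Mathlib
import Groth.Prelude.Def_Smoothing

/-!
# Base change of strictly standard elements
-/

set_option autoImplicit false

namespace Groth.Agent.H91.StdBC

open MvPolynomial Smoothing TensorProduct

universe u

/-- Tail-killing for one lift implies tail-killing. -/
theorem killsTail_of_lift {R A : Type u} [CommRing R] [CommRing A] [Algebra R A]
    (P : MarkedPresentation R A) (a : A) (a₀ : MvPolynomial (Fin P.n) R) (h₀ : P.hom a₀ = a)
    (h : ∀ j : Fin P.m, P.c ≤ (j : ℕ) → a₀ * P.rel j ∈
      Ideal.span (P.rel '' {j' : Fin P.m | (j' : ℕ) < P.c}) ⊔ Ideal.span (Set.range P.rel) ^ 2) :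
    KillsTail P a := by
  intro a' ha' j hj
  have hdiff : a' - a₀ ∈ Ideal.span (Set.range P.rel) := by
    rw [← P.ker_eq, RingHom.mem_ker]
    change P.hom (a' - a₀) = 0
    rw [map_sub, ha', h₀, sub_self]
  have h1 : a' * P.rel j = a₀ * P.rel j + (a' - a₀) * P.rel j := by ring
  rw [h1]
  refine Ideal.add_mem _ (h j hj) (Ideal.mem_sup_right ?_)
  rw [pow_two]
  exact Ideal.mul_mem_mul hdiff (Ideal.subset_span ⟨j, rfl⟩)

variable {R A : Type u} [CommRing R] [CommRing A] [Algebra R A]
  (D : Type u) [CommRing D] [Algebra R D]

theorem jacobianMinor_map {n m c : ℕ} (f : Fin m → MvPolynomial (Fin n) R)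
    (rows : Fin c → Fin m) (cols : Fin c → Fin n) :
    jacobianMinor (fun j => MvPolynomial.map (algebraMap R D) (f j)) rows cols =
      MvPolynomial.map (algebraMap R D) (jacobianMinor f rows cols) := by
  unfold jacobianMinor
  rw [RingHom.map_det]
  congr 1
  ext j k
  simp only [Matrix.of_apply, RingHom.mapMatrix_apply, Matrix.map_apply]
  rw [pderiv_map]

/-- Base change of a marked presentation. -/
noncomputable def presBC (P : MarkedPresentation R A) : MarkedPresentation D (D ⊗[R] A) := by
  classical
  have hsurj : Function.Surjective (aeval (R := R) fun i => P.hom (X i)) := by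
    have : aeval (R := R) (fun i => P.hom (X i)) = P.hom := by
      apply MvPolynomial.algHom_ext
      intro i
      simp
    rw [this]
    exact P.surj
  let G : Algebra.Generators R A (Fin P.n) := Algebra.Generators.ofSurjective _ hsurj
  let Q : Algebra.Presentation R A (Fin P.n) (Fin P.m) :=
    { toGenerators := G
      relation := P.rel
      span_range_relation_eq_ker := by
        rw [Algebra.Generators.ker_eq_ker_aeval_val, ← P.ker_eq]
        have : aeval (R := R) (fun i => P.hom (X i)) = P.hom := by
          apply MvPolynomial.algHom_ext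
          intro i
          simp
        change _ = RingHom.ker (aeval (R := R) fun i => P.hom (X i))
        rw [this]
        rfl }
  exact
    { n := P.n
      m := P.m
      c := P.c
      hcn := P.hcn
      hcm := P.hcm
      rel := fun j => MvPolynomial.map (algebraMap R D) (P.rel j)
      hom := aeval (fun i => (1 : D) ⊗ₜ[R] P.hom (X i))
      surj := by
        intro x
        obtain ⟨y, hy⟩ := (Q.baseChange D).algebraMap_surjective x
        refine ⟨y, ?_⟩
        rw [← hy, Algebra.Generators.algebraMap_apply]
        rfl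
      ker_eq := by
        have := Q.span_range_relation_eq_ker_baseChange D
        rw [this]
        rfl }

@[simp] theorem presBC_n (P : MarkedPresentation R A) : (presBC D P).n = P.n := rfl
@[simp] theorem presBC_m (P : MarkedPresentation R A) : (presBC D P).m = P.m := rfl
@[simp] theorem presBC_c (P : MarkedPresentation R A) : (presBC D P).c = P.c := rfl

theorem presBC_rel (P : MarkedPresentation R A) (j : Fin P.m) :
    (presBC D P).rel j = MvPolynomial.map (algebraMap R D) (P.rel j) := rfl

theorem presBC_hom_map (P : MarkedPresentation R A) (F : MvPolynomial (Fin P.n) R) :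
    (presBC D P).hom (MvPolynomial.map (algebraMap R D) F) = (1 : D) ⊗ₜ[R] P.hom F := by
  change aeval (fun i => (1 : D) ⊗ₜ[R] P.hom (X i)) (MvPolynomial.map (algebraMap R D) F) = _
  rw [aeval_map_algebraMap]
  have : (aeval (R := R) fun i => (1 : D) ⊗ₜ[R] P.hom (X i)) =
      (Algebra.TensorProduct.includeRight (R := R) (A := D) (B := A)).comp P.hom := by
    apply MvPolynomial.algHom_ext
    intro i
    simp
  rw [this]
  rfl

/-- Strict standardness is stable under base change. -/
theorem isStrictlyStandard_baseChange (a : A) (ha : IsStrictlyStandard R A a) :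
    IsStrictlyStandard D (D ⊗[R] A) ((1 : D) ⊗ₜ[R] a) := by
  classical
  obtain ⟨P, hspan, hKT⟩ := ha
  refine ⟨presBC D P, ?_, ?_⟩
  · obtain ⟨aA, haA⟩ := (Ideal.mem_span_range_iff_exists_fun).1 hspan
    have h1 : (1 : D) ⊗ₜ[R] a = ∑ cols : Fin P.c → Fin P.n, ((1 : D) ⊗ₜ[R] aA cols) *
        (presBC D P).hom (jacobianMinor (presBC D P).rel (Fin.castLE (presBC D P).hcm) cols) := by
      rw [← haA, TensorProduct.tmul_sum]
      refine Finset.sum_congr rfl fun cols _ => ?_
      have : jacobianMinor (presBC D P).rel (Fin.castLE (presBC D P).hcm) cols =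
          MvPolynomial.map (algebraMap R D) (jacobianMinor P.rel (Fin.castLE P.hcm) cols) :=
        jacobianMinor_map D P.rel (Fin.castLE P.hcm) cols
      have h2 : (presBC D P).hom
          (jacobianMinor (presBC D P).rel (Fin.castLE (presBC D P).hcm) cols) =
          (1 : D) ⊗ₜ[R] P.hom (jacobianMinor P.rel (Fin.castLE P.hcm) cols) := by
        rw [this]
        exact presBC_hom_map D P _
      rw [h2, Algebra.TensorProduct.tmul_mul_tmul, one_mul]
    rw [h1]
    refine Ideal.sum_mem _ fun cols _ => Ideal.mul_mem_left _ _ (Ideal.subset_span ⟨cols, rfl⟩)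
  · obtain ⟨a₀, ha₀⟩ := P.surj a
    apply killsTail_of_lift (presBC D P) _ (MvPolynomial.map (algebraMap R D) a₀)
      (by rw [presBC_hom_map, ha₀])
    intro j hj
    have h1 := Ideal.mem_map_of_mem (MvPolynomial.map (algebraMap R D)) (hKT a₀ ha₀ j hj)
    rw [map_mul, Ideal.map_sup, Ideal.map_pow, Ideal.map_span, Ideal.map_span] at h1
    have h2 : (MvPolynomial.map (algebraMap R D)) '' (P.rel '' {j' : Fin P.m | (j' : ℕ) < P.c}) =
        (presBC D P).rel '' {j' : Fin (presBC D P).m | (j' : ℕ) < (presBC D P).c} := by
      rw [Set.image_image]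
      rfl
    have h3 : (MvPolynomial.map (algebraMap R D)) '' (Set.range P.rel) =
        Set.range (presBC D P).rel := by
      rw [← Set.range_comp]
      rfl
    rw [h2, h3] at h1
    exact h1

end Groth.Agent.H91.StdBC
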