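import Mathlib
import Groth.Prelude.Def_Smoothing
import Groth.Agent.H91.LiftLemG
import Groth.Agent.H91.StdBC
import Groth.Agent.H91.GlueB

/-!
# The desingularization lemma (Stacks 07CR), used for S2028
-/

set_option autoImplicit false

namespace Groth.Agent.H91.Desing

open Smoothing TensorProduct

universe u

/-- Transitivity of formal smoothness for localizations in a tower `R → D → B`. -/
theorem formallySmooth_away_of_tower {R D B : Type*} [CommRing R] [CommRing D] [CommRing B]
    [Algebra R D] [Algebra D B] [Algebra R B] [IsScalarTower R D B] (d : D)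
    (h₁ : Algebra.FormallySmooth R (Localization.Away d))
    (h₂ : Algebra.FormallySmooth D (Localization.Away (algebraMap D B d))) :
    Algebra.FormallySmooth R (Localization.Away (algebraMap D B d)) := by
  let T := Localization.Away (algebraMap D B d)
  have hunit : IsUnit (algebraMap D T d) := by
    rw [IsScalarTower.algebraMap_apply D B T]
    exact IsLocalization.Away.algebraMap_isUnit (algebraMap D B d)
  letI : Algebra (Localization.Away d) T :=
    (IsLocalization.Away.lift d (g := algebraMap D T) hunit).toAlgebra
  haveI : IsScalarTower D (Localization.Away d) T := IsScalarTower.of_algebraMap_eq fun x => by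
    change _ = IsLocalization.Away.lift d (g := algebraMap D T) hunit (algebraMap D _ x)
    rw [IsLocalization.Away.lift_eq]
  haveI : IsScalarTower R (Localization.Away d) T := IsScalarTower.of_algebraMap_eq fun x => by
    rw [IsScalarTower.algebraMap_apply R D (Localization.Away d),
      ← IsScalarTower.algebraMap_apply D (Localization.Away d) T,
      ← IsScalarTower.algebraMap_apply R D T]
  haveI : Algebra.FormallySmooth (Localization.Away d) T :=
    Algebra.FormallySmooth.localization_base (R := D) (Submonoid.powers d)
  exact Algebra.FormallySmooth.comp R (Localization.Away d) T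

/-- On the smooth locus of `D` over `R`, the annihilators of `π²` and `π` in `D` agree up to a
power of the function. -/
theorem exists_pow_kill {R D : Type u} [CommRing R] [IsNoetherianRing R] [CommRing D] [Algebra R D]
    [Algebra.FinitePresentation R D] (π : R) (hR : ∀ r : R, π ^ 2 * r = 0 → π * r = 0)
    (d : D) (hd : d ∈ singularIdeal R D) :
    ∃ K : ℕ, ∀ x : D, algebraMap R D π ^ 2 * x = 0 → algebraMap R D π * (d ^ K * x) = 0 := by
  classical
  haveI : IsNoetherianRing D := Algebra.FiniteType.isNoetherianRing R D
  let L := Localization.Away d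
  haveI : Algebra.Smooth R L := Algebra.basicOpen_subset_smoothLocus_iff_smooth.1
    (Groth.Agent.H91.Deloc.basicOpen_subset_of_mem_singularIdeal hd)
  -- pointwise statement
  have hpt : ∀ x : D, algebraMap R D π ^ 2 * x = 0 → ∃ K : ℕ, d ^ K * (algebraMap R D π * x) = 0 := by
    intro x hx
    have h1 : algebraMap R L (π ^ 2) * algebraMap D L x = 0 := by
      rw [IsScalarTower.algebraMap_apply R D L, ← map_mul, map_pow, hx, map_zero]
    obtain ⟨k, a, y, hxy, ha⟩ := Module.Flat.isTrivialRelation_of_sum_smul_eq_zero (R := R) (M := L)
      (ι := Unit) (f := fun _ => π ^ 2) (x := fun _ => algebraMap D L x) (by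
        rw [Finset.univ_unique, Finset.sum_singleton, Algebra.smul_def]
        exact h1)
    have h2 : algebraMap R L π * algebraMap D L x = 0 := by
      have h3 := hxy ()
      simp only at h3
      rw [h3, Finset.mul_sum]
      refine Finset.sum_eq_zero fun j _ => ?_
      have haj := ha j
      simp only [Finset.univ_unique, Finset.sum_singleton] at haj
      rw [Algebra.smul_def, ← mul_assoc, ← map_mul, hR _ haj, map_zero, zero_mul]
    have h4 : algebraMap D L (algebraMap R D π * x) = algebraMap D L 0 := by
      rw [map_mul, ← IsScalarTower.algebraMap_apply R D L, h2, map_zero]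
    obtain ⟨K, hK⟩ := IsLocalization.Away.exists_of_eq d h4
    exact ⟨K, by rw [hK, mul_zero]⟩
  -- the annihilator of `π²`
  let Ann : Ideal D := (Ideal.span {algebraMap R D π ^ 2}).annihilator
  have hAnn : ∀ x : D, x ∈ Ann ↔ algebraMap R D π ^ 2 * x = 0 := fun x => by
    rw [Submodule.mem_annihilator_span_singleton, smul_eq_mul, mul_comm]
  obtain ⟨s, hs⟩ := (isNoetherianRing_iff_ideal_fg D).1 inferInstance Ann
  have hsmem : ∀ x ∈ s, algebraMap R D π ^ 2 * x = 0 := fun x hx => by
    rw [← hAnn, ← hs]; exact Ideal.subset_span hx
  choose! K₀ hK₀ using fun x (hx : x ∈ s) => hpt x (hsmem x hx)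
  let K : ℕ := ∑ x ∈ s, K₀ x
  refine ⟨K, fun x hx => ?_⟩
  have hxs : x ∈ Ideal.span (s : Set D) := by rw [hs, hAnn]; exact hx
  have hgoal : d ^ K * (algebraMap R D π * x) = 0 := by
    refine Submodule.span_induction (p := fun x _ => d ^ K * (algebraMap R D π * x) = 0)
      ?_ ?_ ?_ ?_ hxs
    · intro y hy
      have hle : K₀ y ≤ K := Finset.single_le_sum (f := K₀) (fun _ _ => Nat.zero_le _) hy
      obtain ⟨e, he⟩ := Nat.exists_eq_add_of_le hle
      rw [he, pow_add, mul_comm (d ^ K₀ y), mul_assoc, hK₀ y hy, mul_zero]
    · simp
    · intro y z _ _ hy hz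
      rw [mul_add, mul_add, hy, hz, add_zero]
    · intro a y _ hy
      rw [smul_eq_mul]
      have : d ^ K * (algebraMap R D π * (a * y)) = a * (d ^ K * (algebraMap R D π * y)) := by ring
      rw [this, hy, mul_zero]
  rw [← hgoal]
  ring

end Groth.Agent.H91.Desing
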