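import Mathlib
import Groth.Prelude.Def_Smoothing
import Groth.Agent.H91.DesingA
import Groth.Agent.H11.StdSing

/-!
# Tools on the singular ideal (helper91)
-/

set_option autoImplicit false
universe u
open TensorProduct Smoothing

namespace Groth.Agent.H91.SepTools

variable {R A : Type u} [CommRing R] [CommRing A] [Algebra R A]

theorem singularIdeal_isRadical : (singularIdeal R A).IsRadical := by
  unfold singularIdeal
  exact PrimeSpectrum.isRadical_vanishingIdeal _

theorem mem_singularIdeal_iff [Algebra.FinitePresentation R A] (f : A) :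
    f ∈ singularIdeal R A ↔ Algebra.FormallySmooth R (Localization.Away f) :=
  ⟨fun h => Algebra.basicOpen_subset_smoothLocus_iff.1
      (Groth.Agent.H91.Deloc.basicOpen_subset_of_mem_singularIdeal h),
   fun h => Groth.Agent.H91.Deloc.mem_singularIdeal_of_basicOpen_subset
      (Algebra.basicOpen_subset_smoothLocus_iff.2 h)⟩

/-- transitivity in a tower `R → D → B` -/
theorem mem_singularIdeal_tower {D B : Type u} [CommRing D] [CommRing B] [Algebra R D]
    [Algebra D B] [Algebra R B] [IsScalarTower R D B] [Algebra.FinitePresentation R D]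
    [Algebra.FinitePresentation D B] [Algebra.FinitePresentation R B] (d : D)
    (h₁ : d ∈ singularIdeal R D) (h₂ : algebraMap D B d ∈ singularIdeal D B) :
    algebraMap D B d ∈ singularIdeal R B := by
  rw [mem_singularIdeal_iff] at h₁ h₂ ⊢
  exact Groth.Agent.H91.Desing.formallySmooth_away_of_tower d h₁ h₂

/-- base change -/
theorem mem_singularIdeal_baseChange (D : Type u) [CommRing D] [Algebra R D]
    [Algebra.FinitePresentation R A] (a : A) (ha : a ∈ singularIdeal R A) :
    ((1 : D) ⊗ₜ[R] a) ∈ singularIdeal D (D ⊗[R] A) := by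
  rw [(Groth.Agent.H11.StdSing.main (R := R) (A := A)).1] at ha
  obtain ⟨N, hN⟩ := ha
  have h1 : (Algebra.TensorProduct.includeRight : A →ₐ[R] D ⊗[R] A) (a ^ N) ∈
      (Ideal.span {a : A | IsStrictlyStandard R A a}).map
        (Algebra.TensorProduct.includeRight : A →ₐ[R] D ⊗[R] A) :=
    Ideal.mem_map_of_mem _ hN
  have h2 : (Ideal.span {a : A | IsStrictlyStandard R A a}).map
      (Algebra.TensorProduct.includeRight : A →ₐ[R] D ⊗[R] A) ≤ singularIdeal D (D ⊗[R] A) := by
    rw [Ideal.map_span, Ideal.span_le]
    rintro _ ⟨s, hs, rfl⟩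
    exact Groth.Agent.H91.LiftLem.mem_singularIdeal_of_isStrictlyStandard
      (Groth.Agent.H91.StdBC.isStrictlyStandard_baseChange D s hs)
  have h3 := h2 h1
  rw [map_pow] at h3
  exact singularIdeal_isRadical ⟨N, h3⟩

/-- the singular ideal over a smaller base is smaller, when the intermediate ring is formally smooth -/
theorem singularIdeal_le_of_tower {k : Type u} [CommRing k] [Algebra k R] [Algebra k A]
    [IsScalarTower k R A] [Algebra.FormallySmooth k R] :
    singularIdeal R A ≤ singularIdeal k A := by
  unfold singularIdeal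
  apply PrimeSpectrum.vanishingIdeal_anti_mono
  rw [Set.compl_subset_compl]
  intro p hp
  have hp' : Algebra.FormallySmooth R (Localization.AtPrime p.asIdeal) := hp
  exact Algebra.FormallySmooth.comp k R (Localization.AtPrime p.asIdeal)

end Groth.Agent.H91.SepTools
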