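import Groth.Agent.H91.StdStabC

/-!
# Stably free differentials ⇒ powers are strictly standard: enlarging the presentation (helper91)

`main`: `A` finitely presented over `R`, `A_a` smooth over `R` with `Ω ⊕ S^p ≃ S^q` ⟹ `a ^ n` is
strictly standard for all large `n`.
-/

set_option autoImplicit false
universe u
open TensorProduct MvPolynomial KaehlerDifferential Smoothing

namespace Groth.Agent.H91.StdStab

variable {R A : Type u} [CommRing R] [CommRing A] [Algebra R A]

section Enlarge

variable {n : ℕ} (q : ℕ) (v : Fin n → A)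

/-- enlarged family of generators: add `q` zeros -/
def vE : Fin (n + q) → A := Fin.append v (fun _ => 0)

theorem vE_left (i : Fin n) : vE q v (Fin.castAdd q i) = v i := Fin.append_left _ _ i

theorem vE_right (k : Fin q) : vE q v (Fin.natAdd n k) = 0 := Fin.append_right _ _ k

theorem aeval_vE_rename (p : MvPolynomial (Fin n) R) :
    aeval (R := R) (vE q v) (rename (Fin.castAdd q) p) = aeval (R := R) v p := by
  rw [aeval_rename]
  congr 2
  funext i
  exact vE_left q v i

/-- kill the new variables -/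
noncomputable def sE : MvPolynomial (Fin (n + q)) R →ₐ[R] MvPolynomial (Fin n) R :=
  aeval (Fin.append (fun i => (X i : MvPolynomial (Fin n) R)) (fun _ => 0))

theorem aeval_sE (p : MvPolynomial (Fin (n + q)) R) :
    aeval (R := R) v (sE (R := R) q p) = aeval (R := R) (vE q v) p := by
  have : (aeval (R := R) v).comp (sE (R := R) (n := n) q) = aeval (R := R) (vE q v) := by
    apply MvPolynomial.algHom_ext
    intro i
    rw [AlgHom.comp_apply, sE, aeval_X, aeval_X]
    induction i using Fin.addCases with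
    | left i => rw [Fin.append_left, aeval_X, vE_left]
    | right k => rw [Fin.append_right, map_zero, vE_right]
  exact DFunLike.congr_fun this p

theorem surjective_vE (hv : Function.Surjective (aeval (R := R) v)) :
    Function.Surjective (aeval (R := R) (vE q v)) := by
  intro x
  obtain ⟨p, rfl⟩ := hv x
  exact ⟨rename (Fin.castAdd q) p, aeval_vE_rename q v p⟩

/-- the relations of the enlarged presentation -/
noncomputable def relE {m : ℕ} (rel : Fin m → MvPolynomial (Fin n) R) :
    Fin (m + q) → MvPolynomial (Fin (n + q)) R :=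
  Fin.append (fun j => rename (Fin.castAdd q) (rel j)) (fun k => X (Fin.natAdd n k))

theorem ker_vE {m : ℕ} (rel : Fin m → MvPolynomial (Fin n) R)
    (hker : RingHom.ker (aeval (R := R) v : MvPolynomial (Fin n) R →ₐ[R] A) =
      Ideal.span (Set.range rel)) :
    RingHom.ker (aeval (R := R) (vE q v) : MvPolynomial (Fin (n + q)) R →ₐ[R] A) =
      Ideal.span (Set.range (relE q rel)) := by
  set J := Ideal.span (Set.range (relE q rel)) with hJ
  have hJl : ∀ j, rename (Fin.castAdd q) (rel j) ∈ J := fun j =>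
    Ideal.subset_span ⟨Fin.castAdd q j, Fin.append_left _ _ j⟩
  have hJr : ∀ k, (X (Fin.natAdd n k) : MvPolynomial (Fin (n + q)) R) ∈ J := fun k =>
    Ideal.subset_span ⟨Fin.natAdd m k, Fin.append_right _ _ k⟩
  apply le_antisymm
  · intro p hp
    have hp' : aeval (R := R) (vE q v) p = 0 := hp
    have h1 : sE (R := R) q p ∈ Ideal.span (Set.range rel) := by
      rw [← hker, RingHom.mem_ker, aeval_sE, hp']
    have h2 : rename (Fin.castAdd q) (sE (R := R) q p) ∈ J := by
      have : Ideal.span (Set.range rel) ≤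
          Ideal.comap (rename (Fin.castAdd q) : MvPolynomial (Fin n) R →ₐ[R] _) J := by
        rw [Ideal.span_le]
        rintro _ ⟨j, rfl⟩
        exact hJl j
      exact this h1
    have h3 : (Ideal.Quotient.mkₐ R J).comp
        ((rename (Fin.castAdd q) : MvPolynomial (Fin n) R →ₐ[R] _).comp (sE (R := R) q)) =
        Ideal.Quotient.mkₐ R J := by
      apply MvPolynomial.algHom_ext
      intro i
      rw [AlgHom.comp_apply, AlgHom.comp_apply, sE, aeval_X]
      induction i using Fin.addCases with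
      | left i => rw [Fin.append_left, rename_X]
      | right k =>
        rw [Fin.append_right, map_zero, map_zero]
        exact ((Ideal.Quotient.mkₐ_eq_mk R J ▸ Ideal.Quotient.eq_zero_iff_mem).mpr (hJr k)).symm
    have h4 := DFunLike.congr_fun h3 p
    rw [AlgHom.comp_apply, AlgHom.comp_apply, Ideal.Quotient.mkₐ_eq_mk, Ideal.Quotient.eq] at h4
    have : p = rename (Fin.castAdd q) (sE (R := R) q p) -
        (rename (Fin.castAdd q) (sE (R := R) q p) - p) := by ring
    rw [this]
    exact J.sub_mem h2 h4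
  · rw [hJ, Ideal.span_le]
    rintro _ ⟨j, rfl⟩
    rw [SetLike.mem_coe, RingHom.mem_ker, relE]
    induction j using Fin.addCases with
    | left j =>
      rw [Fin.append_left, aeval_vE_rename]
      have : rel j ∈ RingHom.ker (aeval (R := R) v : MvPolynomial (Fin n) R →ₐ[R] A) := by
        rw [hker]; exact Ideal.subset_span ⟨j, rfl⟩
      exact this
    | right k => rw [Fin.append_right, aeval_X, vE_right]

theorem piD_vE (w : Fin (n + q) → A) :
    piD (R := R) (vE q v) w = piD (R := R) v (fun i => w (Fin.castAdd q i)) := by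
  rw [piD_apply, piD_apply, Fin.sum_univ_add]
  have : ∑ k : Fin q, w (Fin.natAdd n k) • D R A (vE q v (Fin.natAdd n k)) = 0 := by
    refine Finset.sum_eq_zero fun k _ => ?_
    rw [vE_right, map_zero, smul_zero]
  rw [this, add_zero]
  refine Finset.sum_congr rfl fun i _ => ?_
  rw [vE_left]

/-- `ker π' ≃ ker π × A^q` -/
noncomputable def kerEquiv :
    LinearMap.ker (piD (R := R) (vE q v)) ≃ₗ[A] LinearMap.ker (piD (R := R) v) × (Fin q → A) where
  toFun w := (⟨fun i => w.1 (Fin.castAdd q i), by
    rw [LinearMap.mem_ker, ← piD_vE]; exact w.2⟩, fun k => w.1 (Fin.natAdd n k))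
  invFun p := ⟨Fin.append p.1.1 p.2, by
    rw [LinearMap.mem_ker, piD_vE]
    have : (fun i => Fin.append p.1.1 p.2 (Fin.castAdd q i)) = p.1.1 := by
      funext i; exact Fin.append_left _ _ i
    rw [this]
    exact p.1.2⟩
  map_add' w₁ w₂ := rfl
  map_smul' r w := rfl
  left_inv w := by
    apply Subtype.ext
    funext i
    induction i using Fin.addCases with
    | left i => exact Fin.append_left _ _ i
    | right k => exact Fin.append_right _ _ k
  right_inv p := by
    apply Prod.ext
    · apply Subtype.ext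
      funext i
      exact Fin.append_left _ _ i
    · funext k
      exact Fin.append_right _ _ k

end Enlarge

section Free

variable {n : ℕ} (q : ℕ) (v : Fin n → A) (a : A)
  [Algebra.FormallySmooth R (Localization.Away a)]

local notation "Sa" => Localization.Away a

theorem exists_equiv (hv : Function.Surjective (aeval (R := R) v)) (p : ℕ)
    (e : (Ω[Sa⁄R] × (Fin p → Sa)) ≃ₗ[Sa] (Fin q → Sa)) :
    Nonempty ((Sa ⊗[A] LinearMap.ker (piD (R := R) (vE q v))) ≃ₗ[Sa]
      ((Fin n → Sa) × (Fin p → Sa))) := by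
  have hπ := piD_surjective (R := R) v hv
  obtain ⟨es, -⟩ := SymAway.exists_split (piD (R := R) v) hπ a
  have hfe : Algebra.FormallyEtale A Sa :=
    Algebra.FormallyEtale.of_isLocalization (Submonoid.powers a)
  let e1 : Sa ⊗[A] LinearMap.ker (piD (R := R) (vE q v)) ≃ₗ[Sa]
      Sa ⊗[A] (LinearMap.ker (piD (R := R) v) × (Fin q → A)) :=
    LinearEquiv.baseChange A Sa _ _ (kerEquiv (R := R) q v)
  let e2 := TensorProduct.prodRight A Sa Sa (LinearMap.ker (piD (R := R) v)) (Fin q → A)
  let e3 : Sa ⊗[A] (Fin q → A) ≃ₗ[Sa] (Fin q → Sa) := TensorProduct.piScalarRight A Sa Sa (Fin q)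
  let e4 : Sa ⊗[A] Ω[A⁄R] ≃ₗ[Sa] Ω[Sa⁄R] :=
    KaehlerDifferential.tensorKaehlerEquivOfFormallyEtale R A Sa
  let e5 : Sa ⊗[A] (Fin n → A) ≃ₗ[Sa] (Fin n → Sa) := TensorProduct.piScalarRight A Sa Sa (Fin n)
  -- (Sa ⊗ K) × (Fin q → Sa) ≃ (Sa ⊗ K) × (Ω × S^p) ≃ ((Sa ⊗ K) × Sa ⊗ Ω_A) × S^p
  let e6 : ((Sa ⊗[A] LinearMap.ker (piD (R := R) v)) × (Fin q → Sa)) ≃ₗ[Sa]
      ((Sa ⊗[A] LinearMap.ker (piD (R := R) v)) × (Sa ⊗[A] Ω[A⁄R])) × (Fin p → Sa) :=
    (LinearEquiv.prodCongr (LinearEquiv.refl Sa (Sa ⊗[A] LinearMap.ker (piD (R := R) v)))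
      (e.symm ≪≫ₗ LinearEquiv.prodCongr e4.symm (LinearEquiv.refl Sa (Fin p → Sa)))) ≪≫ₗ
      (LinearEquiv.prodAssoc Sa (Sa ⊗[A] LinearMap.ker (piD (R := R) v)) (Sa ⊗[A] Ω[A⁄R])
        (Fin p → Sa)).symm
  exact ⟨e1 ≪≫ₗ e2 ≪≫ₗ LinearEquiv.prodCongr (LinearEquiv.refl Sa _) e3 ≪≫ₗ e6 ≪≫ₗ
    LinearEquiv.prodCongr (es.symm ≪≫ₗ e5) (LinearEquiv.refl Sa _)⟩

end Free

section Main

theorem main [Algebra.FinitePresentation R A] (a : A) [Algebra.Smooth R (Localization.Away a)]
    (p q : ℕ) (e : (Ω[Localization.Away a⁄R] × (Fin p → Localization.Away a)) ≃ₗ[Localization.Away a]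
      (Fin q → Localization.Away a)) :
    ∃ e₀ : ℕ, ∀ n : ℕ, e₀ ≤ n → Smoothing.IsStrictlyStandard R A (a ^ n) := by
  classical
  have hfs : Algebra.FormallySmooth R (Localization.Away a) := Algebra.Smooth.formallySmooth
  obtain ⟨n, f, hf, hfg⟩ := Algebra.FinitePresentation.out (R := R) (A := A)
  obtain ⟨m, rel, hrel⟩ := Submodule.fg_iff_exists_fin_generating_family.1 hfg
  let v : Fin n → A := fun i => f (X i)
  have hfv : (aeval (R := R) v : MvPolynomial (Fin n) R →ₐ[R] A) = f := by
    apply MvPolynomial.algHom_ext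
    intro i
    rw [aeval_X]
  have hv : Function.Surjective (aeval (R := R) v) := by rw [hfv]; exact hf
  have hker : RingHom.ker (aeval (R := R) v : MvPolynomial (Fin n) R →ₐ[R] A) =
      Ideal.span (Set.range rel) := by
    rw [hfv]
    exact hrel.symm
  obtain ⟨Φ⟩ := exists_equiv (R := R) q v a hv p e
  let b₀ : Module.Basis (Fin n ⊕ Fin p) (Localization.Away a)
      ((Fin n → Localization.Away a) × (Fin p → Localization.Away a)) :=
    (Pi.basisFun (Localization.Away a) (Fin n)).prod (Pi.basisFun (Localization.Away a) (Fin p))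
  let b : Module.Basis (Fin (n + p)) (Localization.Away a)
      (Localization.Away a ⊗[A] LinearMap.ker (piD (R := R) (vE q v))) :=
    (b₀.map Φ.symm).reindex finSumFinEquiv
  exact partI a (vE q v) (surjective_vE q v hv) (relE q rel) (ker_vE q v rel hker) b

end Main

end Groth.Agent.H91.StdStab
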