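import Groth.Agent.H91.SymAwayF
import Groth.Agent.H91.DesingA

/-!
# Retract-cover with free differentials and smoothness (helper91)

Strengthening of `exists_retract_free_kaehler`: also `C_a` is formally smooth over `R`.
-/

set_option autoImplicit false
set_option backward.isDefEq.respectTransparency.types true
universe u
open KaehlerDifferential TensorProduct

namespace Groth.Agent.H91.SymAway

variable {R A : Type u} [CommRing R] [CommRing A] [Algebra R A]

theorem exists_retract_full [Algebra.FinitePresentation R A] :
    ∃ (C : Type u) (_ : CommRing C) (_ : Algebra A C) (_ : Algebra R C) (_ : IsScalarTower R A C),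
      Algebra.FiniteType A C ∧ Nonempty (C →ₐ[A] A) ∧
      ∀ a : A, Algebra.Smooth R (Localization.Away a) →
        Module.Free (Localization.Away (algebraMap A C a)) Ω[Localization.Away (algebraMap A C a)⁄R] ∧
        Algebra.FormallySmooth R (Localization.Away (algebraMap A C a)) := by
  classical
  obtain ⟨n, f, hf⟩ := Algebra.FiniteType.iff_quotient_mvPolynomial''.mp
    (inferInstance : Algebra.FiniteType R A)
  let π : (Fin n → A) →ₗ[A] Ω[A⁄R] :=
    (Pi.basisFun A (Fin n)).constr A fun i => D R A (f (MvPolynomial.X i))
  have hπ : ∀ i, π (Pi.single i 1) = D R A (f (MvPolynomial.X i)) := by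
    intro i
    have := (Pi.basisFun A (Fin n)).constr_basis A (fun i => D R A (f (MvPolynomial.X i))) i
    rwa [Pi.basisFun_apply] at this
  have hπsurj : Function.Surjective π := by
    rw [← LinearMap.range_eq_top, eq_top_iff, ← StdRetract.span_D_generators f hf,
      Submodule.span_le]
    rintro _ ⟨i, rfl⟩
    exact ⟨Pi.single i 1, hπ i⟩
  have hKfg : (LinearMap.ker π).FG := Module.FinitePresentation.fg_ker π hπsurj
  have hKfin : Module.Finite A (LinearMap.ker π) := Module.Finite.iff_fg.mpr hKfg
  refine ⟨SymmetricAlgebra A (LinearMap.ker π), inferInstance, inferInstance, inferInstance,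
    inferInstance, finiteType_symmetricAlgebra, ⟨SymmetricAlgebra.algebraMapInv⟩, ?_⟩
  intro a ha
  have hfs : Algebra.FormallySmooth R (Localization.Away a) := ha.formallySmooth
  refine ⟨free_kaehler π hπsurj a, ?_⟩
  have hprojK := projective_ker π hπsurj a
  have h2 : Algebra.FormallySmooth A (BB A (LinearMap.ker π) a) := formallySmooth_BB hprojK
  exact Groth.Agent.H91.Desing.formallySmooth_away_of_tower a hfs h2

end Groth.Agent.H91.SymAway
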