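import Mathlib
import Groth.Agent.H91.SepB
import Groth.Agent.H91.SepTools
import Groth.Agent.H91.SymAwayG
import Groth.Agent.H91.StdStabD

/-!
# Phase 1 of the separable-residue-field resolution (Stacks 07F3)

Construction of the auxiliary algebra `C` over the polynomial ring.
-/

set_option autoImplicit false
universe u

open TensorProduct MvPolynomial Smoothing

namespace Groth.Agent.H91.SepC

/-- a finitely presented algebra `C` with an element `c'` such that `C_{c'}` is formally smooth
with free module of differentials: powers of `c'` are eventually strictly standard -/
theorem exists_pow_isStrictlyStandard {R C : Type u} [CommRing R] [CommRing C] [Algebra R C]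
    [Algebra.FinitePresentation R C] (c' : C)
    (hfree : Module.Free (Localization.Away c') Ω[Localization.Away c'⁄R])
    (hfs : Algebra.FormallySmooth R (Localization.Away c')) :
    ∃ e₀ : ℕ, ∀ n : ℕ, e₀ ≤ n → IsStrictlyStandard R C (c' ^ n) := by
  classical
  have hfp : Algebra.FinitePresentation R (Localization.Away c') :=
    Algebra.FinitePresentation.trans R C (Localization.Away c')
  have hsm : Algebra.Smooth R (Localization.Away c') := ⟨hfs, hfp⟩
  by_cases hnt : Nontrivial (Localization.Away c')
  · have hfin : Module.Finite (Localization.Away c') Ω[Localization.Away c'⁄R] := inferInstance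
    let b := Module.Free.chooseBasis (Localization.Away c') Ω[Localization.Away c'⁄R]
    have hfinι : Finite (Module.Free.ChooseBasisIndex (Localization.Away c')
        Ω[Localization.Away c'⁄R]) := Module.Finite.finite_basis b
    have := Fintype.ofFinite (Module.Free.ChooseBasisIndex (Localization.Away c')
        Ω[Localization.Away c'⁄R])
    let b' := b.reindex (Fintype.equivFin _)
    exact Groth.Agent.H91.StdStab.main c' 0 _
      ((LinearEquiv.prodUnique (R := Localization.Away c') (M := Ω[Localization.Away c'⁄R])
        (M₂ := Fin 0 → Localization.Away c')).trans b'.equivFun)
  · rw [not_nontrivial_iff_subsingleton] at hnt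
    have h1 : Subsingleton (Ω[Localization.Away c'⁄R] × (Fin 0 → Localization.Away c')) :=
      ⟨fun x y => by
        have hx : x = (1 : Localization.Away c') • x := (one_smul _ x).symm
        have hy : y = (1 : Localization.Away c') • y := (one_smul _ y).symm
        rw [hx, hy, Subsingleton.elim (1 : Localization.Away c') 0, zero_smul, zero_smul]⟩
    exact Groth.Agent.H91.StdStab.main c' 0 0
      { toFun := fun _ => 0
        map_add' := fun _ _ => Subsingleton.elim _ _
        map_smul' := fun _ _ => Subsingleton.elim _ _
        invFun := fun _ => 0
        left_inv := fun _ => Subsingleton.elim _ _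
        right_inv := fun _ => Subsingleton.elim _ _ }

end Groth.Agent.H91.SepC
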