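import Mathlib
import Groth.Agent.H91.SepC

/-!
# Néron desingularization, part A: the auxiliary algebra `C` over a general Noetherian base
-/

set_option autoImplicit false
universe u

open MvPolynomial Smoothing

namespace Groth.Agent.H91.Neron

/-- General form of the construction of Stacks 07F3: given `x_i ∈ R` whose `n`-th powers are to
become combinations of the elements `a_j` of the singular ideal, there is a finitely presented
`R`-algebra `C` under `A` in which high powers of the `x_i` are strictly standard. -/
theorem phase1 {R A : Type u} [CommRing R] [IsNoetherianRing R] [CommRing A] [Algebra R A]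
    [Algebra.FinitePresentation R A]
    (d n r : ℕ) (hr : 0 < r) (x : Fin d → R) (a : Fin r → A)
    (ha : ∀ j, a j ∈ singularIdeal R A) :
    ∃ (C : Type u) (_ : CommRing C) (_ : Algebra R C),
      Algebra.FinitePresentation R C ∧
      ∃ ι : A →ₐ[R] C,
        (∀ j, ι (a j) ∈ singularIdeal R C) ∧
        (∀ i, algebraMap R C (x i) ∈ singularIdeal R C) ∧
        (∃ c : ℕ, 0 < c ∧ ∀ i : Fin d, IsStrictlyStandard R C (algebraMap R C (x i ^ c))) ∧
        ∀ (Λ : Type u) [CommRing Λ] [Algebra R Λ] (φ : A →ₐ[R] Λ) (lam : Fin d → Fin r → Λ),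
          (∀ i, algebraMap R Λ (x i) ^ n = ∑ j, lam i j * φ (a j)) →
          ∃ φC : C →ₐ[R] Λ, ∀ y, φC (ι y) = φ y := by
  classical
  let B := Groth.Agent.H91.SepB.BBq R A d r n x a
  have hfpB : Algebra.FinitePresentation R B := Groth.Agent.H91.SepB.finitePresentation_B
  obtain ⟨C, _, _, _, _, hft, ⟨ρ⟩, hC⟩ :=
    Groth.Agent.H91.SymAway.exists_retract_full (R := R) (A := B)
  have hftRC : Algebra.FiniteType R C := Algebra.FiniteType.trans (S := B) inferInstance hft
  have hfpC : Algebra.FinitePresentation R C := Algebra.FinitePresentation.of_finiteType.1 hftRC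
  have key : ∀ b : B, b ∈ singularIdeal R B →
      Module.Free (Localization.Away (algebraMap B C b))
        Ω[Localization.Away (algebraMap B C b)⁄R] ∧
      Algebra.FormallySmooth R (Localization.Away (algebraMap B C b)) := by
    intro b hb
    have h1 : Algebra.FormallySmooth R (Localization.Away b) :=
      (Groth.Agent.H91.SepTools.mem_singularIdeal_iff b).1 hb
    have h2 : Algebra.FinitePresentation R (Localization.Away b) :=
      Algebra.FinitePresentation.trans R B (Localization.Away b)
    exact hC b ⟨h1, h2⟩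
  let ι : A →ₐ[R] C := (IsScalarTower.toAlgHom R B C).comp (IsScalarTower.toAlgHom R A B)
  have hι : ∀ y : A, ι y = algebraMap B C (algebraMap A B y) := fun y => rfl
  refine ⟨C, inferInstance, inferInstance, hfpC, ι, ?_, ?_, ?_, ?_⟩
  · intro j
    rw [hι]
    have h1 := Groth.Agent.H91.SepB.tt_mem_singularIdeal (R := R) (T := A) (d := d) (n := n)
      (x := x) (t := a) hr j (ha j)
    exact (Groth.Agent.H91.SepTools.mem_singularIdeal_iff _).2 (key _ h1).2
  · intro i
    have h1 := Groth.Agent.H91.SepB.x_mem_singularIdeal (R := R) (T := A) (d := d) (n := n)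
      (x := x) (t := a) hr ha i
    have h2 := key _ h1
    rw [← IsScalarTower.algebraMap_apply R B C] at h2
    exact (Groth.Agent.H91.SepTools.mem_singularIdeal_iff _).2 h2.2
  · have hx : ∀ i : Fin d, ∃ e₀ : ℕ, ∀ m : ℕ, e₀ ≤ m →
        IsStrictlyStandard R C (algebraMap R C (x i) ^ m) := by
      intro i
      have h1 := Groth.Agent.H91.SepB.x_mem_singularIdeal (R := R) (T := A) (d := d) (n := n)
        (x := x) (t := a) hr ha i
      have h2 := key _ h1
      rw [← IsScalarTower.algebraMap_apply R B C] at h2
      exact Groth.Agent.H91.SepC.exists_pow_isStrictlyStandard _ h2.1 h2.2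
    choose e₀ he₀ using hx
    refine ⟨Finset.univ.sup e₀ + 1, Nat.succ_pos _, fun i => ?_⟩
    rw [map_pow]
    exact he₀ i _ (le_trans (Finset.le_sup (Finset.mem_univ i)) (Nat.le_succ _))
  · intro Λ _ _ φ lam hlam
    let φB := Groth.Agent.H91.SepB.φB (R := R) (T := A) (d := d) (r := r) (n := n) (x := x)
      (t := a) φ lam hlam
    refine ⟨φB.comp (ρ.restrictScalars R), fun y => ?_⟩
    rw [hι, AlgHom.comp_apply, AlgHom.restrictScalars_apply, AlgHom.commutes,
      Algebra.algebraMap_self_apply, Groth.Agent.H91.SepB.φB_algebraMap]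

end Groth.Agent.H91.Neron
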