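import Mathlib
import Groth.Agent.H91.NeronA
import Groth.Agent.H91.LocStep

/-!
# Néron desingularization, part B: resolving all local problems gives ind-smoothness
-/

set_option autoImplicit false
universe u

open MvPolynomial Smoothing

namespace Groth.Agent.H91.Neron

theorem smooth_of_singularIdeal_eq_top {R B : Type u} [CommRing R] [CommRing B] [Algebra R B]
    [Algebra.FinitePresentation R B] (h : singularIdeal R B = ⊤) : Algebra.Smooth R B := by
  have h1 : (Algebra.smoothLocus R B)ᶜ ⊆ ∅ := by
    have := PrimeSpectrum.subset_zeroLocus_vanishingIdeal (Algebra.smoothLocus R B)ᶜ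
    have h2 : PrimeSpectrum.vanishingIdeal (Algebra.smoothLocus R B)ᶜ = ⊤ := h
    rw [h2, PrimeSpectrum.zeroLocus_empty_iff_eq_top.mpr rfl] at this
    exact this
  have h2 : Algebra.smoothLocus R B = Set.univ := by
    rw [← Set.compl_empty_iff]
    exact Set.subset_empty_iff.mp h1
  exact ⟨Algebra.smoothLocus_eq_univ_iff.mp h2, inferInstance⟩

/-- if the singular ideal extends to the unit ideal, the map factors through a smooth algebra -/
theorem exists_smooth_of_map_eq_top {R A Λ : Type u} [CommRing R] [IsNoetherianRing R]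
    [CommRing A] [Algebra R A] [Algebra.FinitePresentation R A] [CommRing Λ] [Algebra R Λ]
    (φ : A →ₐ[R] Λ) (htop : (singularIdeal R A).map φ = ⊤) :
    ∃ (B : Type u) (_ : CommRing B) (_ : Algebra R B),
      Algebra.Smooth R B ∧ ∃ (g : A →ₐ[R] B) (h : B →ₐ[R] Λ), h.comp g = φ := by
  classical
  haveI : IsNoetherianRing A := Algebra.FiniteType.isNoetherianRing R A
  obtain ⟨r', a', ha'⟩ := Submodule.fg_iff_exists_fin_generating_family.1
    (IsNoetherian.noetherian (singularIdeal R A))
  let a : Fin (r' + 1) → A := Fin.cons 0 a'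
  have hspan : Ideal.span (Set.range a) = singularIdeal R A := by
    change Ideal.span (Set.range (Fin.cons 0 a' : Fin (r' + 1) → A)) = _
    rw [Fin.range_cons, Ideal.span_insert_zero]
    exact ha'
  have ha : ∀ j, a j ∈ singularIdeal R A := fun j => by
    rw [← hspan]; exact Ideal.subset_span ⟨j, rfl⟩
  have hmapspan : (singularIdeal R A).map φ = Ideal.span (Set.range fun j => φ (a j)) := by
    rw [← hspan, Ideal.map_span, ← Set.range_comp]
    rfl
  have h1 : (1 : Λ) ∈ Ideal.span (Set.range fun j => φ (a j)) := by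
    rw [← hmapspan, htop]; trivial
  obtain ⟨l, hl⟩ := Ideal.mem_span_range_iff_exists_fun.mp h1
  let x : Fin 1 → R := fun _ => 1
  let B := Groth.Agent.H91.SepB.BBq R A 1 (r' + 1) 1 x a
  have hfpB : Algebra.FinitePresentation R B := Groth.Agent.H91.SepB.finitePresentation_B
  have h2 := Groth.Agent.H91.SepB.x_mem_singularIdeal (R := R) (T := A) (d := 1) (n := 1)
    (x := x) (t := a) (Nat.succ_pos r') ha 0
  have h3 : singularIdeal R B = ⊤ := by
    rw [Ideal.eq_top_iff_one]
    have : algebraMap R B (x 0) = 1 := map_one _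
    rw [← this]
    exact h2
  have hlam : ∀ i : Fin 1, algebraMap R Λ (x i) ^ 1 = ∑ j, (fun _ => l) i j * φ (a j) := by
    intro i
    rw [pow_one, hl]
    exact map_one _
  refine ⟨B, inferInstance, inferInstance, smooth_of_singularIdeal_eq_top h3,
    IsScalarTower.toAlgHom R A B,
    Groth.Agent.H91.SepB.φB (R := R) (T := A) (d := 1) (r := r' + 1) (n := 1) (x := x)
      (t := a) φ (fun _ => l) hlam, ?_⟩
  ext y
  exact Groth.Agent.H91.SepB.φB_algebraMap (R := R) (T := A) φ (fun _ => l) hlam y

theorem indSmooth_of_resolvable {R Λ : Type u} [CommRing R] [IsNoetherianRing R] [CommRing Λ]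
    [Algebra R Λ] [IsNoetherianRing Λ]
    (H : ∀ (A : Type u) [CommRing A] [Algebra R A] [Algebra.FinitePresentation R A]
      (φ : A →ₐ[R] Λ) (𝔮 : Ideal Λ) [𝔮.IsPrime], 𝔮 ∈ (singRad R φ).minimalPrimes →
        Resolvable R φ 𝔮) : IndSmooth R Λ := by
  have key : ∀ J : Ideal Λ, ∀ (A : Type u) [CommRing A] [Algebra R A]
      [Algebra.FinitePresentation R A] (φ : A →ₐ[R] Λ), singRad R φ = J →
      ∃ (B : Type u) (_ : CommRing B) (_ : Algebra R B),
        Algebra.Smooth R B ∧ ∃ (g : A →ₐ[R] B) (h : B →ₐ[R] Λ), h.comp g = φ := by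
    intro J
    induction J using IsNoetherian.induction with
    | hgt J ih =>
      intro A _ _ _ φ hJ
      by_cases htop : J = ⊤
      · apply exists_smooth_of_map_eq_top φ
        rw [← Ideal.radical_eq_top]
        exact hJ.trans htop
      · obtain ⟨M, hM, hJM⟩ := Ideal.exists_le_maximal J htop
        obtain ⟨𝔮, h𝔮, -⟩ := Ideal.exists_minimalPrimes_le (I := J) (J := M) hJM
        haveI : 𝔮.IsPrime := h𝔮.1.1
        obtain ⟨B, _, _, hfpB, g, h, hgh, hle, hnle⟩ := H A φ 𝔮 (hJ ▸ h𝔮)
        haveI := hfpB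
        have hlt : J < singRad R h := by
          rw [← hJ]
          refine lt_of_le_of_ne hle ?_
          intro heq
          apply hnle
          rw [← heq, hJ]
          exact h𝔮.1.2
        obtain ⟨B', _, _, hB', g', h', hgh'⟩ := ih (singRad R h) hlt B h rfl
        refine ⟨B', inferInstance, inferInstance, hB', g'.comp g, h', ?_⟩
        rw [← AlgHom.comp_assoc, hgh', hgh]
  intro A _ _ hfp f
  haveI := hfp
  exact key _ A f rfl

end Groth.Agent.H91.Neron
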