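import Mathlib

/-!
# Extending a derivation from a subfield, up to a finite-dimensional defect

(step in the proof of Stacks 07F6? on Artinian local algebras in characteristic `p`)
-/

set_option autoImplicit false
universe u

open TensorProduct KaehlerDifferential

namespace Groth.Agent.H91.ArtSub

/-- over a field, a linear map vanishing on the kernel of another factors through it -/
theorem exists_comp_eq_of_ker_le {K V W M : Type*} [Field K] [AddCommGroup V] [Module K V]
    [AddCommGroup W] [Module K W] [AddCommGroup M] [Module K M] (g : V →ₗ[K] W) (l : V →ₗ[K] M)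
    (h : LinearMap.ker g ≤ LinearMap.ker l) : ∃ l' : W →ₗ[K] M, l' ∘ₗ g = l := by
  let gbar : (V ⧸ LinearMap.ker g) →ₗ[K] W := (LinearMap.ker g).liftQ g le_rfl
  have hgbar : LinearMap.ker gbar = ⊥ := Submodule.ker_liftQ_eq_bot' _ _ rfl
  obtain ⟨s, hs⟩ := gbar.exists_leftInverse_of_injective hgbar
  let lbar : (V ⧸ LinearMap.ker g) →ₗ[K] M := (LinearMap.ker g).liftQ l h
  refine ⟨lbar ∘ₗ s, ?_⟩
  ext v
  have h1 : g v = gbar (Submodule.Quotient.mk v) := rfl
  have h2 : s (gbar (Submodule.Quotient.mk v)) = Submodule.Quotient.mk v :=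
    LinearMap.congr_fun hs _
  rw [LinearMap.comp_apply, LinearMap.comp_apply, h1, h2]
  rfl

/-- every element of `K ⊗ Ω` lies in the `K`-span of `1 ⊗ ω` for finitely many `ω` -/
theorem exists_finset_mem_span {k K Ω : Type*} [CommRing k] [CommRing K] [Algebra k K]
    [AddCommGroup Ω] [Module k Ω] (h : K ⊗[k] Ω) :
    ∃ W : Finset Ω, h ∈ Submodule.span K ((fun ω => (1 : K) ⊗ₜ[k] ω) '' (W : Set Ω)) := by
  classical
  induction h using TensorProduct.induction_on with
  | zero => exact ⟨∅, Submodule.zero_mem _⟩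
  | tmul c ω =>
    refine ⟨{ω}, ?_⟩
    have : c ⊗ₜ[k] ω = c • ((1 : K) ⊗ₜ[k] ω) := by
      rw [TensorProduct.smul_tmul', smul_eq_mul, mul_one]
    rw [this]
    exact Submodule.smul_mem _ _ (Submodule.subset_span ⟨ω, by simp, rfl⟩)
  | add x y hx hy =>
    obtain ⟨W₁, h₁⟩ := hx
    obtain ⟨W₂, h₂⟩ := hy
    refine ⟨W₁ ∪ W₂, Submodule.add_mem _ ?_ ?_⟩
    · refine Submodule.span_mono (Set.image_mono ?_) h₁
      intro x hx; exact Finset.mem_union_left _ hx
    · refine Submodule.span_mono (Set.image_mono ?_) h₂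
      intro x hx; exact Finset.mem_union_right _ hx

theorem derExt {k₀ k K M : Type*} [CommRing k₀] [Field k] [Field K] [Algebra k₀ k] [Algebra k₀ K]
    [Algebra k K] [IsScalarTower k₀ k K] [AddCommGroup M] [Module k₀ M] [Module k M] [Module K M]
    [IsScalarTower k₀ k M] [IsScalarTower k K M] [IsScalarTower k₀ K M]
    (hfin : (LinearMap.ker (KaehlerDifferential.mapBaseChange k₀ k K)).FG)
    (θ : Derivation k₀ k M) :
    ∃ (D : Derivation k₀ K M) (s : Finset M),
      ∀ a : k, θ a - D (algebraMap k K a) ∈ Submodule.span k (s : Set M) := by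
  classical
  let θ' : Ω[k⁄k₀] →ₗ[k] M := θ.liftKaehlerDifferential
  have hθ' : ∀ a, θ' (D k₀ k a) = θ a := fun a => θ.liftKaehlerDifferential_comp_D a
  let g := KaehlerDifferential.mapBaseChange k₀ k K
  obtain ⟨T, hT⟩ := hfin
  -- a finite set of differentials carrying the kernel
  have hW : ∃ W : Finset Ω[k⁄k₀], LinearMap.ker g ≤
      Submodule.span K ((fun ω => (1 : K) ⊗ₜ[k] ω) '' (W : Set Ω[k⁄k₀])) := by
    have hchoose : ∀ h : K ⊗[k] Ω[k⁄k₀], ∃ W : Finset Ω[k⁄k₀],
        h ∈ Submodule.span K ((fun ω => (1 : K) ⊗ₜ[k] ω) '' (W : Set Ω[k⁄k₀])) :=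
      exists_finset_mem_span
    choose Wf hWf using hchoose
    refine ⟨T.biUnion Wf, ?_⟩
    rw [← hT, Submodule.span_le]
    intro h hh
    refine Submodule.span_mono (Set.image_mono ?_) (hWf h)
    intro x hx
    exact Finset.mem_biUnion.mpr ⟨h, hh, hx⟩
  obtain ⟨W, hW⟩ := hW
  let Ω' : Submodule k Ω[k⁄k₀] := Submodule.span k (W : Set Ω[k⁄k₀])
  obtain ⟨Ω'', hc⟩ := Submodule.exists_isCompl Ω'
  let π'' : Ω[k⁄k₀] →ₗ[k] Ω[k⁄k₀] := Ω''.projection Ω' hc.symm
  have hπ''0 : ∀ ω ∈ Ω', π'' ω = 0 := by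
    intro ω hω
    change ((Ω''.projectionOnto Ω' hc.symm ω : Ω'') : Ω[k⁄k₀]) = 0
    rw [(Submodule.projectionOnto_apply_eq_zero_iff hc.symm).mpr hω]
    rfl
  have hπ''1 : ∀ ω, ω - π'' ω ∈ Ω' := by
    intro ω
    have h1 := Submodule.projection_add_projection_eq_self hc ω
    have h2 : ω - π'' ω = Ω'.projection Ω'' hc ω := by
      rw [sub_eq_iff_eq_add]
      exact h1.symm
    rw [h2]
    exact Submodule.projection_apply_mem hc ω
  -- the derivation on `k` to be extended
  let δ' : Ω[k⁄k₀] →ₗ[k] M := θ' ∘ₗ π''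
  let δt : K ⊗[k] Ω[k⁄k₀] →ₗ[K] M := δ'.liftBaseChange K
  have hker : LinearMap.ker g ≤ LinearMap.ker δt := by
    refine le_trans hW ?_
    rw [Submodule.span_le]
    rintro _ ⟨ω, hω, rfl⟩
    rw [SetLike.mem_coe, LinearMap.mem_ker, LinearMap.liftBaseChange_tmul, one_smul]
    change θ' (π'' ω) = 0
    rw [hπ''0 ω (Submodule.subset_span hω), map_zero]
  obtain ⟨l', hl'⟩ := exists_comp_eq_of_ker_le g δt hker
  let Dd : Derivation k₀ K M := l'.compDer (KaehlerDifferential.D k₀ K)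
  refine ⟨Dd, W.image θ', fun a => ?_⟩
  have h1 : Dd (algebraMap k K a) = θ' (π'' (D k₀ k a)) := by
    change l' (D k₀ K (algebraMap k K a)) = _
    have h2 : g ((1 : K) ⊗ₜ[k] D k₀ k a) = D k₀ K (algebraMap k K a) := by
      rw [KaehlerDifferential.mapBaseChange_tmul, one_smul, KaehlerDifferential.map_D]
    rw [← h2]
    have h3 := LinearMap.congr_fun hl' ((1 : K) ⊗ₜ[k] D k₀ k a)
    rw [LinearMap.comp_apply] at h3
    rw [h3, LinearMap.liftBaseChange_tmul, one_smul]
    rfl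
  rw [h1, ← hθ' a, ← map_sub]
  have h4 := hπ''1 (D k₀ k a)
  have h5 : Submodule.map θ' Ω' = Submodule.span k ((W.image θ' : Finset M) : Set M) := by
    rw [Submodule.map_span, Finset.coe_image]
  rw [← h5]
  exact Submodule.mem_map_of_mem h4

end Groth.Agent.H91.ArtSub
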