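import Mathlib

/-!
# The evaluation maps `Ψ_σ : F[x_1, …, x_d] → Λ` attached to a coefficient field

(step in the proof of Stacks 07F6? on Artinian local algebras in characteristic `p`)
-/

set_option autoImplicit false
universe u v

open MvPolynomial

namespace Groth.Agent.H91.ArtSub

section Psi

variable {k₀ : Type v} {k K Λ : Type u} [CommRing k₀] [Field k] [Field K] [Algebra k₀ k] [Algebra k₀ K]
  [Algebra k K] [IsScalarTower k₀ k K] [CommRing Λ] [Algebra k₀ Λ] {d : ℕ}

/-- evaluation of polynomials with coefficients in `K` -/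
noncomputable def PsiK (σ : K →ₐ[k₀] Λ) (lam : Fin d → Λ) : MvPolynomial (Fin d) K →ₐ[k₀] Λ :=
  ((aeval lam : MvPolynomial (Fin d) Λ →ₐ[Λ] Λ).restrictScalars k₀).comp (mapAlgHom σ)

theorem PsiK_apply (σ : K →ₐ[k₀] Λ) (lam : Fin d → Λ) (P : MvPolynomial (Fin d) K) :
    PsiK σ lam P = eval₂ (σ : K →+* Λ) lam P := by
  change aeval lam (map (σ : K →+* Λ) P) = _
  rw [aeval_def, eval₂_map]
  congr 1

@[simp] theorem PsiK_C (σ : K →ₐ[k₀] Λ) (lam : Fin d → Λ) (c : K) : PsiK σ lam (C c) = σ c := by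
  rw [PsiK_apply, eval₂_C]; rfl

@[simp] theorem PsiK_X (σ : K →ₐ[k₀] Λ) (lam : Fin d → Λ) (i : Fin d) :
    PsiK σ lam (X i) = lam i := by
  rw [PsiK_apply, eval₂_X]

instance isScalarTower_intermediate (F : IntermediateField k K) : IsScalarTower k₀ F K :=
  IsScalarTower.of_algebraMap_eq (fun _ => rfl)

/-- evaluation of polynomials with coefficients in an intermediate field `F` -/
noncomputable def Psi (σ : K →ₐ[k₀] Λ) (lam : Fin d → Λ) (F : IntermediateField k K) :
    MvPolynomial (Fin d) F →ₐ[k₀] Λ :=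
  (PsiK σ lam).comp (mapAlgHom (IsScalarTower.toAlgHom k₀ F K))

theorem Psi_apply (σ : K →ₐ[k₀] Λ) (lam : Fin d → Λ) (F : IntermediateField k K)
    (P : MvPolynomial (Fin d) F) :
    Psi σ lam F P = PsiK σ lam (map (algebraMap F K) P) := rfl

@[simp] theorem Psi_C (σ : K →ₐ[k₀] Λ) (lam : Fin d → Λ) (F : IntermediateField k K) (c : F) :
    Psi σ lam F (C c) = σ (c : K) := by
  rw [Psi_apply, map_C, PsiK_C]; rfl

@[simp] theorem Psi_X (σ : K →ₐ[k₀] Λ) (lam : Fin d → Λ) (F : IntermediateField k K) (i : Fin d) :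
    Psi σ lam F (X i) = lam i := by
  rw [Psi_apply, map_X, PsiK_X]

theorem mem_range_Psi_iff (σ : K →ₐ[k₀] Λ) (lam : Fin d → Λ) (F : IntermediateField k K) (y : Λ) :
    y ∈ (Psi σ lam F).range ↔ ∃ Q : MvPolynomial (Fin d) K,
      (∀ c ∈ Q.coeffs, c ∈ F) ∧ PsiK σ lam Q = y := by
  constructor
  · rintro ⟨P, rfl⟩
    refine ⟨map (algebraMap F K) P, ?_, rfl⟩
    intro c hc
    have h1 := coe_coeffs_map (algebraMap F K) P (Finset.mem_coe.mpr hc)
    obtain ⟨c', -, rfl⟩ := h1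
    exact c'.2
  · rintro ⟨Q, hQ, rfl⟩
    have h1 : Q ∈ Set.range (map (algebraMap F K) : MvPolynomial (Fin d) F → _) := by
      rw [mem_range_map_iff_coeffs_subset]
      intro c hc
      exact ⟨⟨c, hQ c (Finset.mem_coe.mp hc)⟩, rfl⟩
    obtain ⟨P, rfl⟩ := h1
    exact ⟨P, rfl⟩

theorem range_Psi_mono (σ : K →ₐ[k₀] Λ) (lam : Fin d → Λ) {F F' : IntermediateField k K}
    (h : F ≤ F') : (Psi σ lam F).range ≤ (Psi σ lam F').range := by
  intro y hy
  rw [mem_range_Psi_iff] at hy ⊢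
  obtain ⟨Q, hQ, rfl⟩ := hy
  exact ⟨Q, fun c hc => h (hQ c hc), rfl⟩

/-- every polynomial over `K` has coefficients in a finitely generated extension of a given
finitely generated subfield -/
theorem exists_fg_coeffs (F₀ : IntermediateField k K) (hF₀ : F₀.FG) (T : Finset (MvPolynomial (Fin d) K)) :
    ∃ F : IntermediateField k K, F.FG ∧ F₀ ≤ F ∧ ∀ Q ∈ T, ∀ c ∈ Q.coeffs, c ∈ F := by
  classical
  obtain ⟨S₀, hS₀⟩ := hF₀
  let S : Finset K := S₀ ∪ T.biUnion fun Q => Q.coeffs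
  refine ⟨IntermediateField.adjoin k (S : Set K), ⟨S, rfl⟩, ?_, ?_⟩
  · rw [← hS₀]
    apply IntermediateField.adjoin.mono
    intro x hx
    exact Finset.mem_coe.mpr (Finset.mem_union_left _ hx)
  · intro Q hQ c hc
    apply IntermediateField.subset_adjoin
    exact Finset.mem_coe.mpr (Finset.mem_union_right _ (Finset.mem_biUnion.mpr ⟨Q, hQ, hc⟩))

section Rho

variable (σ σ' : K →ₐ[k₀] Λ) (lam : Fin d → Λ) (ρ : Λ →+* K)

theorem rho_PsiK (hρσ : ∀ c, ρ (σ c) = c) (hlam : ∀ i, ρ (lam i) = 0)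
    (Q : MvPolynomial (Fin d) K) : ρ (PsiK σ lam Q) = constantCoeff Q := by
  induction Q using MvPolynomial.induction_on with
  | C c => rw [PsiK_C, hρσ, constantCoeff_C]
  | add P Q hP hQ => rw [map_add, map_add, hP, hQ, map_add]
  | mul_X P i _ =>
    rw [map_mul, map_mul, PsiK_X, hlam, mul_zero, map_mul, constantCoeff_X, mul_zero]

theorem lam_mul_PsiK_eq (h : ∀ c i, lam i * σ c = lam i * σ' c) (Q : MvPolynomial (Fin d) K)
    (i : Fin d) : lam i * PsiK σ lam Q = lam i * PsiK σ' lam Q := by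
  induction Q using MvPolynomial.induction_on with
  | C c => rw [PsiK_C, PsiK_C, h]
  | add P Q hP hQ => rw [map_add, map_add, mul_add, mul_add, hP, hQ]
  | mul_X P j hP =>
    rw [map_mul, map_mul, PsiK_X, PsiK_X, ← mul_assoc, ← mul_assoc, hP]

theorem PsiK_sub_eq (h : ∀ c i, lam i * σ c = lam i * σ' c) (Q : MvPolynomial (Fin d) K) :
    PsiK σ lam Q - σ (constantCoeff Q) = PsiK σ' lam Q - σ' (constantCoeff Q) := by
  induction Q using MvPolynomial.induction_on with
  | C c => rw [PsiK_C, PsiK_C, constantCoeff_C, sub_self, sub_self]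
  | add P Q hP hQ =>
    rw [map_add, map_add, map_add, map_add, map_add, add_sub_add_comm, hP, hQ,
      add_sub_add_comm]
  | mul_X P j _ =>
    have h0 : constantCoeff (P * X j) = 0 := by
      rw [map_mul, constantCoeff_X, mul_zero]
    rw [h0, map_zero, map_zero, sub_zero, sub_zero, map_mul, map_mul, PsiK_X, PsiK_X, mul_comm,
      mul_comm (PsiK σ' lam P)]
    exact lam_mul_PsiK_eq σ σ' lam h P j

theorem PsiK_surjective (hρσ : ∀ c, ρ (σ c) = c)
    (hker : RingHom.ker ρ = Ideal.span (Set.range lam)) (N : ℕ)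
    (hN : RingHom.ker ρ ^ N = ⊥) : Function.Surjective (PsiK σ lam) := by
  -- graded statement
  have hgr : ∀ j : ℕ, ∀ y ∈ RingHom.ker ρ ^ j, ∃ Q, y - PsiK σ lam Q ∈ RingHom.ker ρ ^ (j + 1) := by
    intro j
    induction j with
    | zero =>
      intro y _
      refine ⟨C (ρ y), ?_⟩
      rw [PsiK_C, zero_add, pow_one, RingHom.mem_ker, map_sub, hρσ, sub_self]
    | succ j ih =>
      intro y hy
      rw [pow_succ'] at hy
      refine Submodule.mul_induction_on hy ?_ ?_
      · intro u hu v hv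
        rw [hker] at hu
        obtain ⟨r, rfl⟩ := Ideal.mem_span_range_iff_exists_fun.mp hu
        have hch : ∀ i, ∃ Q, r i * v - PsiK σ lam Q ∈ RingHom.ker ρ ^ (j + 1) :=
          fun i => ih _ (Ideal.mul_mem_left _ _ hv)
        choose Qf hQf using hch
        refine ⟨∑ i, X i * Qf i, ?_⟩
        have h1 : (∑ i, r i * lam i) * v - PsiK σ lam (∑ i, X i * Qf i) =
            ∑ i, lam i * (r i * v - PsiK σ lam (Qf i)) := by
          rw [map_sum, Finset.sum_mul, ← Finset.sum_sub_distrib]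
          refine Finset.sum_congr rfl fun i _ => ?_
          rw [map_mul, PsiK_X]
          ring
        rw [h1, pow_succ' _ (j + 1)]
        refine Ideal.sum_mem _ fun i _ => Ideal.mul_mem_mul ?_ (hQf i)
        rw [hker]
        exact Ideal.subset_span ⟨i, rfl⟩
      · intro a b ha hb
        obtain ⟨Qa, hQa⟩ := ha
        obtain ⟨Qb, hQb⟩ := hb
        refine ⟨Qa + Qb, ?_⟩
        rw [map_add, add_sub_add_comm]
        exact Ideal.add_mem _ hQa hQb
  have hall : ∀ j : ℕ, ∀ y : Λ, ∃ Q, y - PsiK σ lam Q ∈ RingHom.ker ρ ^ j := by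
    intro j
    induction j with
    | zero =>
      intro y
      exact ⟨0, by rw [pow_zero, Ideal.one_eq_top]; trivial⟩
    | succ j ih =>
      intro y
      obtain ⟨Q, hQ⟩ := ih y
      obtain ⟨Q', hQ'⟩ := hgr j _ hQ
      refine ⟨Q + Q', ?_⟩
      rw [map_add, ← sub_sub]
      exact hQ'
  intro y
  obtain ⟨Q, hQ⟩ := hall N y
  rw [hN, Ideal.mem_bot, sub_eq_zero] at hQ
  exact ⟨Q, hQ.symm⟩

end Rho

end Psi

end Groth.Agent.H91.ArtSub
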