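import Mathlib
import Groth.Agent.H91.ArtSubA
import Groth.Agent.H91.ArtSubB

/-!
# The coefficient field can be chosen so that the base field lands in a finitely generated piece

(the Claim in the proof of Stacks 07F6? on Artinian local algebras in characteristic `p`)
-/

set_option autoImplicit false
universe u v

open MvPolynomial

namespace Groth.Agent.H91.ArtSub

section Helpers

variable {k₀ : Type v} {K Λ : Type u} [CommRing k₀] [Field K] [Algebra k₀ K] [CommRing Λ] [Algebra k₀ Λ]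

/-- adding a derivation with values in a square-zero ideal to an algebra map -/
theorem exists_add_der (σ₀ : K →ₐ[k₀] Λ) (I : Ideal Λ) (hI : I ^ 2 = ⊥) (Dd : K →ₗ[k₀] Λ)
    (hDI : ∀ c, Dd c ∈ I) (hD1 : Dd 1 = 0)
    (hleib : ∀ a b, Dd (a * b) = σ₀ a * Dd b + σ₀ b * Dd a) :
    ∃ σ : K →ₐ[k₀] Λ, ∀ c, σ c = σ₀ c + Dd c := by
  have hsq : ∀ x ∈ I, ∀ y ∈ I, x * y = 0 := by
    intro x hx y hy
    have : x * y ∈ I ^ 2 := by
      rw [pow_two]; exact Ideal.mul_mem_mul hx hy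
    rwa [hI, Ideal.mem_bot] at this
  refine ⟨AlgHom.ofLinearMap (σ₀.toLinearMap + Dd) ?_ ?_, fun c => rfl⟩
  · change σ₀ 1 + Dd 1 = 1
    rw [map_one, hD1, add_zero]
  · intro a b
    change σ₀ (a * b) + Dd (a * b) = (σ₀ a + Dd a) * (σ₀ b + Dd b)
    rw [map_mul, hleib, add_mul, mul_add, mul_add, hsq _ (hDI a) _ (hDI b)]
    ring

end Helpers

section Claim

variable (k₀ : Type v) (k K : Type u) [CommRing k₀] [Field k] [Field K] [Algebra k₀ k] [Algebra k₀ K]
  [Algebra k K] [IsScalarTower k₀ k K]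

/-- the claim, for algebras whose augmentation ideal has vanishing `(N+1)`-st power -/
def Claim (N : ℕ) : Prop :=
  ∀ (Λ : Type u) [CommRing Λ] [Algebra k₀ Λ] [Algebra k Λ] [IsScalarTower k₀ k Λ]
    (ρ : Λ →ₐ[k] K), Function.Surjective ρ → RingHom.ker ρ ^ (N + 1) = ⊥ →
    ∀ (d : ℕ) (lam : Fin d → Λ), Ideal.span (Set.range lam) = RingHom.ker ρ →
      ∃ σ : K →ₐ[k₀] Λ, (∀ c, ρ (σ c) = c) ∧ ∃ F : IntermediateField k K, F.FG ∧
        ∀ a : k, algebraMap k Λ a ∈ (Psi σ lam F).range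

theorem claim_zero : Claim k₀ k K 0 := by
  intro Λ _ _ _ _ ρ hsurj hN d lam hlam
  rw [zero_add, pow_one] at hN
  have hinj : Function.Injective ρ := (RingHom.injective_iff_ker_eq_bot _).mpr hN
  let e : Λ ≃ₐ[k] K := AlgEquiv.ofBijective ρ ⟨hinj, hsurj⟩
  refine ⟨(e.symm : K →ₐ[k] Λ).restrictScalars k₀, fun c => e.apply_symm_apply c, ⊥,
    ⟨∅, by simp⟩, fun a => ?_⟩
  refine ⟨C (algebraMap k (⊥ : IntermediateField k K) a), ?_⟩
  have h1 := Psi_C ((e.symm : K →ₐ[k] Λ).restrictScalars k₀) lam ⊥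
    (algebraMap k (⊥ : IntermediateField k K) a)
  refine h1.trans ?_
  change e.symm (algebraMap k K a) = _
  rw [AlgEquiv.commutes]

end Claim

end Groth.Agent.H91.ArtSub
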