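import Mathlib
import Groth.Agent.H91.ArtSubC

/-!
# The inductive step of the Claim
-/

set_option autoImplicit false
universe u v

open MvPolynomial

namespace Groth.Agent.H91.ArtSub

section Step

variable {k₀ : Type v} {k K : Type u} [CommRing k₀] [Field k] [Field K] [Algebra k₀ k] [Algebra k₀ K]
  [Algebra k K] [IsScalarTower k₀ k K] [Algebra.FormallySmooth k₀ k] [Algebra.FormallySmooth k₀ K]

theorem claim_succ (hfin : (LinearMap.ker (KaehlerDifferential.mapBaseChange k₀ k K)).FG) (N : ℕ)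
    (ih : Claim k₀ k K N) : Claim k₀ k K (N + 1) := by
  classical
  intro Λ _ _ _ _ ρ hsurj hN d lam hlam
  set m : Ideal Λ := RingHom.ker ρ with hm
  set I : Ideal Λ := m ^ (N + 1) with hIdef
  have hI2 : I ^ 2 = ⊥ := by
    rw [eq_bot_iff, ← hN, hIdef, ← pow_mul]
    exact Ideal.pow_le_pow_right (by omega)
  have hmI : m * I = ⊥ := by
    rw [hIdef, ← pow_succ', ← hN]
  have hIm : I ≤ m := Ideal.pow_le_self (Nat.succ_ne_zero N)
  have hkill : ∀ u ∈ m, ∀ y ∈ I, u * y = 0 := by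
    intro u hu y hy
    have : u * y ∈ m * I := Ideal.mul_mem_mul hu hy
    rwa [hmI, Ideal.mem_bot] at this
  have hsq : ∀ x ∈ I, ∀ y ∈ I, x * y = 0 := fun x hx y hy => hkill x (hIm hx) y hy
  have hlamm : ∀ i, lam i ∈ m := fun i => by
    rw [← hlam]; exact Ideal.subset_span ⟨i, rfl⟩
  -- the quotient
  let ρ' : (Λ ⧸ I) →ₐ[k] K := Ideal.Quotient.liftₐ I ρ (fun x hx => hIm hx)
  have hρ' : ∀ x, ρ' (Ideal.Quotient.mk I x) = ρ x := fun x => rfl
  have hρ'surj : Function.Surjective ρ' := fun c => by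
    obtain ⟨x, rfl⟩ := hsurj c
    exact ⟨Ideal.Quotient.mk I x, rfl⟩
  have hker' : RingHom.ker ρ' = m.map (Ideal.Quotient.mk I) := by
    apply le_antisymm
    · intro x hx
      obtain ⟨x, rfl⟩ := Ideal.Quotient.mk_surjective x
      rw [RingHom.mem_ker, hρ'] at hx
      exact Ideal.mem_map_of_mem _ hx
    · rw [Ideal.map_le_iff_le_comap]
      intro x hx
      rw [Ideal.mem_comap, RingHom.mem_ker, hρ']
      exact hx
  have hN' : RingHom.ker ρ' ^ (N + 1) = ⊥ := by
    rw [hker', ← Ideal.map_pow, Ideal.map_quotient_self]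
  let lam' : Fin d → Λ ⧸ I := fun i => Ideal.Quotient.mk I (lam i)
  have hlam' : Ideal.span (Set.range lam') = RingHom.ker ρ' := by
    rw [hker', ← hlam, Ideal.map_span, ← Set.range_comp]
    rfl
  obtain ⟨σ', hσ', F', hF'fg, hmem'⟩ := ih (Λ ⧸ I) ρ' hρ'surj hN' d lam' hlam'
  -- lift the coefficient field
  let σ₀ : K →ₐ[k₀] Λ := Algebra.FormallySmooth.lift I ⟨2, hI2⟩ σ'
  have hσ₀ : ∀ c, Ideal.Quotient.mk I (σ₀ c) = σ' c :=
    fun c => Algebra.FormallySmooth.mk_lift I ⟨2, hI2⟩ σ' c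
  have hρσ₀ : ∀ c, ρ (σ₀ c) = c := fun c => by
    rw [← hρ', hσ₀, hσ']
  have hmkPsi : ∀ Q : MvPolynomial (Fin d) K,
      Ideal.Quotient.mk I (PsiK σ₀ lam Q) = PsiK σ' lam' Q := by
    intro Q
    induction Q using MvPolynomial.induction_on with
    | C c => rw [PsiK_C, PsiK_C, hσ₀]
    | add P Q hP hQ => rw [map_add, map_add, map_add, hP, hQ]
    | mul_X P i hP => rw [map_mul, map_mul, map_mul, hP, PsiK_X, PsiK_X]
  -- the subalgebras
  let A₀ : Subalgebra k₀ Λ := (Psi σ₀ lam F').range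
  let A' : Subalgebra k₀ (Λ ⧸ I) := (Psi σ' lam' F').range
  have hA₀A' : ∀ x : A₀, Ideal.Quotient.mkₐ k₀ I (x : Λ) ∈ A' := by
    rintro ⟨x, P, rfl⟩
    refine ⟨P, ?_⟩
    change Psi σ' lam' F' P = Ideal.Quotient.mk I (Psi σ₀ lam F' P)
    rw [Psi_apply, Psi_apply, hmkPsi]
  let π₀ : A₀ →ₐ[k₀] A' := ((Ideal.Quotient.mkₐ k₀ I).comp A₀.val).codRestrict A' hA₀A'
  have hπ₀ : ∀ x : A₀, (π₀ x : Λ ⧸ I) = Ideal.Quotient.mk I (x : Λ) := fun x => rfl
  have hπ₀surj : Function.Surjective π₀ := by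
    rintro ⟨y, P, rfl⟩
    refine ⟨⟨Psi σ₀ lam F' P, P, rfl⟩, ?_⟩
    apply Subtype.ext
    rw [hπ₀]
    change Ideal.Quotient.mk I (Psi σ₀ lam F' P) = Psi σ' lam' F' P
    rw [Psi_apply, Psi_apply, hmkPsi]
  have hπ₀nil : IsNilpotent (RingHom.ker (π₀ : A₀ →+* A')) := by
    refine ⟨2, ?_⟩
    rw [Ideal.zero_eq_bot, eq_bot_iff, pow_two, Ideal.mul_le]
    intro x hx y hy
    rw [RingHom.mem_ker] at hx hy
    have hx' : (x : Λ) ∈ I := by
      have := congrArg Subtype.val hx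
      rw [RingHom.coe_coe, hπ₀] at this
      exact Ideal.Quotient.eq_zero_iff_mem.mp this
    have hy' : (y : Λ) ∈ I := by
      have := congrArg Subtype.val hy
      rw [RingHom.coe_coe, hπ₀] at this
      exact Ideal.Quotient.eq_zero_iff_mem.mp this
    rw [Ideal.mem_bot]
    apply Subtype.ext
    change (x : Λ) * (y : Λ) = 0
    exact hsq _ hx' _ hy'
  let τ' : k →ₐ[k₀] A' := (IsScalarTower.toAlgHom k₀ k (Λ ⧸ I)).codRestrict A' hmem'
  let α : k →ₐ[k₀] A₀ := Algebra.FormallySmooth.liftOfSurjective τ' π₀ hπ₀surj hπ₀nil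
  have hα : ∀ a, π₀ (α a) = τ' a :=
    fun a => Algebra.FormallySmooth.liftOfSurjective_apply τ' π₀ hπ₀surj hπ₀nil a
  have hαI : ∀ a : k, algebraMap k Λ a - (α a : Λ) ∈ I := by
    intro a
    have h1 := congrArg Subtype.val (hα a)
    rw [hπ₀] at h1
    rw [← Ideal.Quotient.eq]
    exact h1.symm
  -- the derivation
  let θlin : k →ₗ[k₀] I :=
    { toFun := fun a => ⟨algebraMap k Λ a - (α a : Λ), hαI a⟩
      map_add' := fun a b => by
        apply Subtype.ext
        change algebraMap k Λ (a + b) - ((α (a + b) : A₀) : Λ) =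
          (algebraMap k Λ a - (α a : Λ)) + (algebraMap k Λ b - (α b : Λ))
        rw [map_add, map_add]
        change _ - ((α a : Λ) + (α b : Λ)) = _
        ring
      map_smul' := fun c a => by
        apply Subtype.ext
        change algebraMap k Λ (c • a) - ((α (c • a) : A₀) : Λ) =
          c • (algebraMap k Λ a - (α a : Λ))
        have h1 : algebraMap k Λ (c • a) = c • algebraMap k Λ a := by
          rw [Algebra.smul_def, map_mul, ← IsScalarTower.algebraMap_apply k₀ k Λ,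
            ← Algebra.smul_def]
        have h2 : ((α (c • a) : A₀) : Λ) = c • (α a : Λ) := by
          rw [map_smul]
          rfl
        rw [h1, h2, smul_sub] }
  have hθlin : ∀ a, (θlin a : Λ) = algebraMap k Λ a - (α a : Λ) := fun a => rfl
  let θ : Derivation k₀ k I := Derivation.mk' θlin (by
    intro a b
    apply Subtype.ext
    have h1 : ((a • θlin b + b • θlin a : I) : Λ) =
        algebraMap k Λ a * (θlin b : Λ) + algebraMap k Λ b * (θlin a : Λ) := by
      change a • (θlin b : Λ) + b • (θlin a : Λ) = _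
      rw [Algebra.smul_def, Algebra.smul_def]
    rw [h1, hθlin, hθlin, hθlin, map_mul, map_mul]
    change _ - (α a : Λ) * (α b : Λ) = _
    have h2 := hsq _ (hαI a) _ (hαI b)
    linear_combination (-1 : Λ) * h2)
  have hθ : ∀ a, (θ a : Λ) = algebraMap k Λ a - (α a : Λ) := fun a => rfl
  -- the `K`-module structure on `I` through `σ₀`
  letI modK : Module K I := Module.compHom I (σ₀ : K →+* Λ)
  have hKsmul : ∀ (c : K) (x : I), ((c • x : I) : Λ) = σ₀ c * (x : Λ) := fun c x => rfl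
  have hksmul : ∀ (a : k) (x : I), ((a • x : I) : Λ) = algebraMap k Λ a * (x : Λ) := fun a x => by
    change a • (x : Λ) = _
    rw [Algebra.smul_def]
  have hdiff : ∀ a : k, σ₀ (algebraMap k K a) - algebraMap k Λ a ∈ m := by
    intro a
    rw [hm, RingHom.mem_ker, map_sub, hρσ₀, AlgHom.commutes, sub_self]
  haveI towkK : IsScalarTower k K I := ⟨fun a c x => by
    apply Subtype.ext
    rw [hKsmul, hksmul, hKsmul, Algebra.smul_def, map_mul, mul_assoc]
    have h1 := hkill _ (hdiff a) (σ₀ c * (x : Λ)) (Ideal.mul_mem_left _ _ x.2)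
    rw [sub_mul, sub_eq_zero] at h1
    exact h1⟩
  haveI towk₀K : IsScalarTower k₀ K I := ⟨fun c₀ c x => by
    apply Subtype.ext
    rw [hKsmul]
    change σ₀ (c₀ • c) * (x : Λ) = c₀ • (σ₀ c * (x : Λ))
    rw [map_smul, smul_mul_assoc]⟩
  obtain ⟨Dd, s, hs⟩ := derExt hfin θ
  -- the new coefficient field
  let Dlin : K →ₗ[k₀] Λ := (I.subtype.restrictScalars k₀).comp (Dd : K →ₗ[k₀] I)
  have hDlin : ∀ c, Dlin c = (Dd c : Λ) := fun c => rfl
  obtain ⟨σ, hσ⟩ := exists_add_der σ₀ I hI2 Dlin (fun c => (Dd c).2)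
    (by rw [hDlin, Derivation.map_one_eq_zero]; rfl)
    (by
      intro a b
      rw [hDlin, hDlin, hDlin, Derivation.leibniz]
      rfl)
  have hρσ : ∀ c, ρ (σ c) = c := fun c => by
    rw [hσ, map_add, hρσ₀, hDlin]
    have : ρ (Dd c : Λ) = 0 := hIm (Dd c).2
    rw [this, add_zero]
  have hσσ₀ : ∀ c i, lam i * σ c = lam i * σ₀ c := fun c i => by
    rw [hσ, mul_add, hDlin, hkill _ (hlamm i) _ (Dd c).2, add_zero]
  have hPsurj : Function.Surjective (PsiK σ lam) :=
    PsiK_surjective σ lam (ρ : Λ →+* K) hρσ hlam.symm (N + 1 + 1) hN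
  choose Qf hQf using hPsurj
  obtain ⟨F, hFfg, hF'F, hFc⟩ := exists_fg_coeffs F' hF'fg (s.image (fun f : I => Qf (f : Λ)))
  refine ⟨σ, hρσ, F, hFfg, fun a => ?_⟩
  -- elements of `s` lie in the range
  have hsmem : ∀ f ∈ s, (f : Λ) ∈ (Psi σ lam F).range := by
    intro f hf
    rw [mem_range_Psi_iff]
    exact ⟨Qf (f : Λ), hFc _ (Finset.mem_image.mpr ⟨f, hf, rfl⟩), hQf _⟩
  -- `k`-multiples of elements of `I` in the range stay in the range
  have hkmul : ∀ (b : k) (x : I), (x : Λ) ∈ (Psi σ lam F).range →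
      algebraMap k Λ b * (x : Λ) ∈ (Psi σ lam F).range := by
    intro b x hx
    have h1 : algebraMap k Λ b * (x : Λ) = σ (algebraMap k K b) * (x : Λ) := by
      have h2 : σ (algebraMap k K b) - algebraMap k Λ b ∈ m := by
        rw [hm, RingHom.mem_ker, map_sub, hρσ, AlgHom.commutes, sub_self]
      have h3 := hkill _ h2 _ x.2
      rw [sub_mul, sub_eq_zero] at h3
      exact h3.symm
    rw [h1]
    refine Subalgebra.mul_mem _ ?_ hx
    refine ⟨C (algebraMap k F b), ?_⟩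
    exact Psi_C σ lam F (algebraMap k F b)
  have hspan : ∀ w : I, w ∈ Submodule.span k (s : Set I) → (w : Λ) ∈ (Psi σ lam F).range := by
    intro w hw
    induction hw using Submodule.span_induction with
    | mem f hf => exact hsmem f hf
    | zero => exact Subalgebra.zero_mem _
    | add x y _ _ hx hy => exact Subalgebra.add_mem _ hx hy
    | smul b x _ hx =>
      rw [hksmul]
      exact hkmul b x hx
  -- the decomposition of the structure map
  have hw := hspan _ (hs a)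
  obtain ⟨Q₀, hQ₀c, hQ₀⟩ := (mem_range_Psi_iff σ₀ lam F' (α a : Λ)).mp (α a).2
  have hcc : constantCoeff Q₀ = algebraMap k K a := by
    rw [← rho_PsiK σ₀ lam (ρ : Λ →+* K) hρσ₀ (fun i => hlamm i) Q₀, hQ₀]
    have h1 : ρ (algebraMap k Λ a - (α a : Λ)) = 0 := hIm (hαI a)
    rw [map_sub, sub_eq_zero, AlgHom.commutes] at h1
    exact h1.symm
  have hPs := PsiK_sub_eq σ σ₀ lam hσσ₀ Q₀
  rw [hcc, hQ₀, hσ, hDlin] at hPs
  have hmain : algebraMap k Λ a = PsiK σ lam Q₀ + ((θ a - Dd (algebraMap k K a) : I) : Λ) := by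
    have h1 : ((θ a - Dd (algebraMap k K a) : I) : Λ) =
        (algebraMap k Λ a - (α a : Λ)) - (Dd (algebraMap k K a) : Λ) := rfl
    rw [h1]
    linear_combination (-1 : Λ) * hPs
  rw [hmain]
  refine Subalgebra.add_mem _ ?_ hw
  rw [mem_range_Psi_iff]
  exact ⟨Q₀, fun c hc => hF'F (hQ₀c c hc), rfl⟩

end Step

end Groth.Agent.H91.ArtSub
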