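import Mathlib

/-!
# A flatness criterion: subrings that are "forms" of an algebra over a subfield
-/

set_option autoImplicit false
universe u

open TensorProduct Module

namespace Groth.Agent.H91.ArtSub

section FlatForm

variable {F K Λ A ι : Type*} [Field F] [Field K] [Algebra F K] [CommRing Λ] [Algebra K Λ]
  [Algebra F Λ] [IsScalarTower F K Λ] [CommRing A] [Algebra A Λ] [Algebra F A]
  [IsScalarTower F A Λ] [Fintype ι]

/-- a `K`-basis of `Λ` lying in `A`, such that the elements of `A` have coordinates in `F`, is an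
`F`-basis of `A` -/
theorem exists_basis_sub (hinj : Function.Injective (algebraMap A Λ)) (b : Basis ι K Λ)
    (bA : ι → A) (hbA : ∀ i, algebraMap A Λ (bA i) = b i)
    (hF : ∀ (y : A) (i : ι), b.repr (algebraMap A Λ y) i ∈ Set.range (algebraMap F K)) :
    ∃ c : Basis ι F A, ∀ i, c i = bA i := by
  have hli : LinearIndependent F bA := by
    have h1 : LinearIndependent F (b : ι → Λ) :=
      b.linearIndependent.restrict_scalars' (R := F)
    have h2 : ((IsScalarTower.toAlgHom F A Λ).toLinearMap ∘ bA) = (b : ι → Λ) := by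
      funext i
      exact hbA i
    exact LinearIndependent.of_comp (IsScalarTower.toAlgHom F A Λ).toLinearMap (h2 ▸ h1)
  have hsp : ⊤ ≤ Submodule.span F (Set.range bA) := by
    intro y _
    choose f hf using fun i => hF y i
    have h1 : y = ∑ i, f i • bA i := by
      apply hinj
      rw [map_sum]
      conv_lhs => rw [← b.sum_repr (algebraMap A Λ y)]
      refine Finset.sum_congr rfl fun i _ => ?_
      rw [← hf i, algebraMap_smul, Algebra.smul_def (f i) (bA i), map_mul, hbA,
        ← IsScalarTower.algebraMap_apply, Algebra.smul_def]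
    rw [h1]
    exact Submodule.sum_mem _ fun i _ =>
      Submodule.smul_mem _ _ (Submodule.subset_span ⟨i, rfl⟩)
  exact ⟨Basis.mk hli hsp, fun i => Basis.mk_apply hli hsp i⟩

theorem flat_of_basis (hinj : Function.Injective (algebraMap A Λ)) (b : Basis ι K Λ)
    (bA : ι → A) (hbA : ∀ i, algebraMap A Λ (bA i) = b i)
    (hF : ∀ (y : A) (i : ι), b.repr (algebraMap A Λ y) i ∈ Set.range (algebraMap F K)) :
    Module.Flat A Λ := by
  classical
  obtain ⟨c, hc⟩ := exists_basis_sub hinj b bA hbA hF
  let e := Basis.ofVectorSpace F K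
  let ν : A ⊗[F] K →ₐ[A] Λ :=
    Algebra.TensorProduct.lift (Algebra.ofId A Λ) (IsScalarTower.toAlgHom F K Λ)
      (fun _ _ => Commute.all _ _)
  have hν : ∀ (a : A) (x : K), ν (a ⊗ₜ x) = algebraMap A Λ a * algebraMap K Λ x := fun a x => by
    simp [ν, Algebra.ofId_apply]
  let B1 := c.tensorProduct e
  let B2 := (e.smulTower b).reindex (Equiv.prodComm _ ι)
  have heq : (ν.toLinearMap.restrictScalars F) = (B1.equiv B2 (Equiv.refl _)).toLinearMap := by
    refine B1.ext fun ij => ?_
    obtain ⟨i, j⟩ := ij
    rw [LinearEquiv.coe_coe, Basis.equiv_apply]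
    simp only [B1, B2, Basis.tensorProduct_apply, Equiv.refl_apply, Basis.reindex_apply,
      Equiv.prodComm_symm, Equiv.prodComm_apply, Prod.swap_prod_mk, Basis.smulTower_apply]
    change ν (c i ⊗ₜ e j) = _
    rw [hν, hc, hbA, Algebra.smul_def, mul_comm]
  have hbij : Function.Bijective ν := by
    have h1 : (ν : A ⊗[F] K → Λ) = (B1.equiv B2 (Equiv.refl _)) := by
      funext x
      exact LinearMap.congr_fun heq x
    rw [h1]
    exact (B1.equiv B2 (Equiv.refl _)).bijective
  exact Module.Flat.of_linearEquiv (LinearEquiv.ofBijective ν.toLinearMap hbij).symm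

end FlatForm

end Groth.Agent.H91.ArtSub
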