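import Mathlib
import Groth.Agent.H91.LocStep
import Groth.Agent.H47.CMSlice.Loc

/-!
# Phase 2 of the separable-residue-field resolution (Stacks 07F3): the reduced problem
-/

set_option autoImplicit false
universe u

open TensorProduct Smoothing IsLocalRing

namespace Groth.Agent.H91.SepE

/-- base change of a flat algebra along a quotient, in abstract form -/
theorem flat_quotient_of_flat {R S S' : Type*} [CommRing R] [CommRing S] [CommRing S']
    [Algebra R S] [Module.Flat R S] (K : Ideal R) [Algebra S S'] [Algebra (R ⧸ K) S']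
    [Algebra R S'] [IsScalarTower R S S'] [IsScalarTower R (R ⧸ K) S']
    (hsurj : Function.Surjective (algebraMap S S'))
    (hker : RingHom.ker (algebraMap S S') = K.map (algebraMap R S)) :
    Module.Flat (R ⧸ K) S' := by
  let e0 : (S ⧸ K.map (algebraMap R S)) ≃ₐ[R ⧸ K] (R ⧸ K) ⊗[R] S :=
    Algebra.TensorProduct.quotIdealMapEquivQuotTensor S K
  let e1 : (S ⧸ K.map (algebraMap R S)) ≃+* S' :=
    (Ideal.quotEquivOfEq hker.symm).trans (RingHom.quotientKerEquivOfSurjective hsurj)
  have he1 : ∀ s : S, e1 (Ideal.Quotient.mk _ s) = algebraMap S S' s := fun s => rfl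
  let e2 : (S ⧸ K.map (algebraMap R S)) ≃ₗ[R ⧸ K] S' :=
    { e1 with
      map_smul' := by
        intro c x
        obtain ⟨r, rfl⟩ := Ideal.Quotient.mk_surjective c
        obtain ⟨s, rfl⟩ := Ideal.Quotient.mk_surjective x
        change e1 (Ideal.Quotient.mk K r • Ideal.Quotient.mk _ s) =
          Ideal.Quotient.mk K r • e1 (Ideal.Quotient.mk _ s)
        have h1 : Ideal.Quotient.mk K r • (Ideal.Quotient.mk (K.map (algebraMap R S)) s) =
            Ideal.Quotient.mk (K.map (algebraMap R S)) (algebraMap R S r * s) := by
          rw [Algebra.smul_def]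
          rfl
        rw [h1, he1, he1, Algebra.smul_def, map_mul,
          ← IsScalarTower.algebraMap_apply R S S',
          IsScalarTower.algebraMap_apply R (R ⧸ K) S']
        rfl }
  exact Module.Flat.of_linearEquiv (e2.symm.trans e0.toLinearEquiv)

end Groth.Agent.H91.SepE
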