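import Mathlib
import Groth.Agent.H91.SepE

/-!
# Phase 2 of the separable-residue-field resolution (Stacks 07F3): the reduced problem
-/

set_option autoImplicit false
universe u

open TensorProduct Smoothing IsLocalRing

namespace Groth.Agent.H91.SepF

section Nil

variable {A : Type*} [CommRing A] (m : Ideal A) [hmax : m.IsMaximal] (hm : m ≤ nilradical A)

include hmax hm

theorem prime_eq_of_le_nilradical (P : Ideal A) [hP : P.IsPrime] : P = m := by
  have h1 : m ≤ P := fun x hx => by
    obtain ⟨n, hn⟩ := hm hx
    exact hP.mem_of_pow_mem n (hn ▸ P.zero_mem)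
  exact (hmax.eq_of_le hP.ne_top h1).symm

theorem ringKrullDim_eq_zero_of_le_nilradical : ringKrullDim A = 0 := by
  have : Nontrivial A := by
    by_contra h
    rw [not_nontrivial_iff_subsingleton] at h
    exact hmax.ne_top (Subsingleton.elim _ _)
  apply le_antisymm
  · have h0 : Ring.KrullDimLE 0 A := Ring.krullDimLE_zero_iff.mpr fun P hP => by
      rw [prime_eq_of_le_nilradical m hm P]; exact hmax
    exact_mod_cast Ring.krullDimLE_iff.mp h0
  · exact ringKrullDim_nonneg_of_nontrivial

theorem isUnit_of_notMem (x : A) (hx : x ∉ m) : IsUnit x := by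
  by_contra hu
  obtain ⟨I, hI, hxI⟩ := exists_max_ideal_of_mem_nonunits (mem_nonunits_iff.mpr hu)
  have := prime_eq_of_le_nilradical m hm I
  rw [this] at hxI
  exact hx hxI

theorem isLocalization_atPrime_of_le_nilradical (P : Ideal A) [hP : P.IsPrime] :
    IsLocalization.AtPrime A P := by
  have hPm := prime_eq_of_le_nilradical m hm P
  refine IsLocalization.of_le_isUnit ?_
  intro x hx
  apply isUnit_of_notMem m hm
  rw [← hPm]
  exact hx

end Nil

end Groth.Agent.H91.SepF
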