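import Mathlib
import Groth.Agent.H91.SepF

/-!
# Rings with a nilpotent maximal ideal: locality, a Nakayama lemma for subrings, and
essential finiteness
-/

set_option autoImplicit false
universe u

namespace Groth.Agent.H91.ArtSub

section Local

variable {A F' : Type*} [CommRing A] [Field F'] (π : A →+* F') (hπ : Function.Surjective π)
  (hnil : RingHom.ker π ≤ nilradical A)

include hπ hnil

theorem isLocalRing_of_ker_le_nilradical : IsLocalRing A := by
  haveI : (RingHom.ker π).IsMaximal := RingHom.ker_isMaximal_of_surjective π hπ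
  exact IsLocalRing.of_unique_max_ideal ⟨RingHom.ker π, inferInstance, fun I hI =>
    haveI := hI.isPrime
    SepF.prime_eq_of_le_nilradical (RingHom.ker π) hnil I⟩

theorem isUnit_of_map_ne_zero (x : A) (hx : π x ≠ 0) : IsUnit x :=
  haveI : (RingHom.ker π).IsMaximal := RingHom.ker_isMaximal_of_surjective π hπ
  SepF.isUnit_of_notMem (RingHom.ker π) hnil x (fun h => hx ((RingHom.mem_ker).mp h))

omit hnil in
theorem maximalIdeal_eq_ker [IsLocalRing A] : IsLocalRing.maximalIdeal A = RingHom.ker π :=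
  haveI : (RingHom.ker π).IsMaximal := RingHom.ker_isMaximal_of_surjective π hπ
  (IsLocalRing.eq_maximalIdeal inferInstance).symm

end Local

section Nak

variable {A : Type*} [CommRing A]

/-- a subring that surjects onto `A ⧸ M` and contains generators of the nilpotent ideal `M` is
everything -/
theorem subring_eq_top (M : Ideal A) (n : ℕ) (hn : M ^ n = ⊥) (B : Subring A) {d : ℕ}
    (s : Fin d → A) (hs : Ideal.span (Set.range s) = M) (hsB : ∀ i, s i ∈ B)
    (hB : ∀ y : A, ∃ z ∈ B, y - z ∈ M) : B = ⊤ := by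
  have hgr : ∀ j : ℕ, ∀ y ∈ M ^ j, ∃ z ∈ B, y - z ∈ M ^ (j + 1) := by
    intro j
    induction j with
    | zero =>
      intro y _
      obtain ⟨z, hz, hyz⟩ := hB y
      exact ⟨z, hz, by rwa [zero_add, pow_one]⟩
    | succ j ih =>
      intro y hy
      rw [pow_succ'] at hy
      refine Submodule.mul_induction_on hy ?_ ?_
      · intro u hu v hv
        rw [← hs] at hu
        obtain ⟨r, rfl⟩ := Ideal.mem_span_range_iff_exists_fun.mp hu
        have hch : ∀ i, ∃ z ∈ B, r i * v - z ∈ M ^ (j + 1) :=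
          fun i => ih _ (Ideal.mul_mem_left _ _ hv)
        choose zf hzB hzf using hch
        refine ⟨∑ i, s i * zf i, Subring.sum_mem _ fun i _ => Subring.mul_mem _ (hsB i) (hzB i),
          ?_⟩
        have h1 : (∑ i, r i * s i) * v - ∑ i, s i * zf i =
            ∑ i, s i * (r i * v - zf i) := by
          rw [Finset.sum_mul, ← Finset.sum_sub_distrib]
          refine Finset.sum_congr rfl fun i _ => ?_
          ring
        rw [h1, pow_succ' _ (j + 1)]
        refine Ideal.sum_mem _ fun i _ => Ideal.mul_mem_mul ?_ (hzf i)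
        rw [← hs]
        exact Ideal.subset_span ⟨i, rfl⟩
      · intro a b ha hb
        obtain ⟨za, hza, hQa⟩ := ha
        obtain ⟨zb, hzb, hQb⟩ := hb
        refine ⟨za + zb, Subring.add_mem _ hza hzb, ?_⟩
        rw [add_sub_add_comm]
        exact Ideal.add_mem _ hQa hQb
  have hall : ∀ j : ℕ, ∀ y : A, ∃ z ∈ B, y - z ∈ M ^ j := by
    intro j
    induction j with
    | zero =>
      intro y
      exact ⟨0, Subring.zero_mem _, by rw [pow_zero, Ideal.one_eq_top]; trivial⟩
    | succ j ih =>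
      intro y
      obtain ⟨z, hz, hQ⟩ := ih y
      obtain ⟨z', hz', hQ'⟩ := hgr j _ hQ
      refine ⟨z + z', Subring.add_mem _ hz hz', ?_⟩
      rw [← sub_sub]
      exact hQ'
  rw [eq_top_iff]
  intro y _
  obtain ⟨z, hz, hQ⟩ := hall n y
  rw [hn, Ideal.mem_bot, sub_eq_zero] at hQ
  rw [hQ]
  exact hz

end Nak

section EFT

variable {k A F' : Type*} [CommRing k] [CommRing A] [Algebra k A] [Field F'] [Algebra k F']

/-- the ring of fractions `u / t` with `u, t` in a subalgebra and `t` a unit of the ambient ring -/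
def fracSubring (A₀ : Subalgebra k A) : Subring A where
  carrier := {y | ∃ t ∈ A₀, IsUnit t ∧ y * t ∈ A₀}
  zero_mem' := ⟨1, A₀.one_mem, isUnit_one, by rw [zero_mul]; exact A₀.zero_mem⟩
  one_mem' := ⟨1, A₀.one_mem, isUnit_one, by rw [one_mul]; exact A₀.one_mem⟩
  add_mem' := by
    rintro y y' ⟨t, ht, hu, hy⟩ ⟨t', ht', hu', hy'⟩
    refine ⟨t * t', A₀.mul_mem ht ht', hu.mul hu', ?_⟩
    have : (y + y') * (t * t') = (y * t) * t' + (y' * t') * t := by ring
    rw [this]
    exact A₀.add_mem (A₀.mul_mem hy ht') (A₀.mul_mem hy' ht)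
  mul_mem' := by
    rintro y y' ⟨t, ht, hu, hy⟩ ⟨t', ht', hu', hy'⟩
    refine ⟨t * t', A₀.mul_mem ht ht', hu.mul hu', ?_⟩
    have : (y * y') * (t * t') = (y * t) * (y' * t') := by ring
    rw [this]
    exact A₀.mul_mem hy hy'
  neg_mem' := by
    rintro y ⟨t, ht, hu, hy⟩
    refine ⟨t, ht, hu, ?_⟩
    rw [neg_mul]
    exact A₀.neg_mem hy

theorem mem_fracSubring (A₀ : Subalgebra k A) (y : A) :
    y ∈ fracSubring A₀ ↔ ∃ t ∈ A₀, IsUnit t ∧ y * t ∈ A₀ := Iff.rfl

theorem essFiniteType_of_nilpotent [Algebra.EssFiniteType k F'] (π : A →ₐ[k] F')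
    (hπ : Function.Surjective π) (n : ℕ) (hn : RingHom.ker π ^ n = ⊥) {d : ℕ} (s : Fin d → A)
    (hs : Ideal.span (Set.range s) = RingHom.ker π) : Algebra.EssFiniteType k A := by
  classical
  have hnil : RingHom.ker (π : A →+* F') ≤ nilradical A := by
    intro x hx
    refine ⟨n, ?_⟩
    have : x ^ n ∈ RingHom.ker π ^ n := Ideal.pow_mem_pow hx n
    rwa [hn, Ideal.mem_bot] at this
  obtain ⟨τ, hτ⟩ := (Algebra.essFiniteType_iff k F').mp inferInstance
  let s' : Finset A := Finset.image s Finset.univ ∪ τ.image (Function.surjInv hπ)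
  let A₀ : Subalgebra k A := Algebra.adjoin k (s' : Set A)
  have hlift : ∀ c ∈ Algebra.adjoin k (τ : Set F'), ∃ a ∈ A₀, π a = c := by
    have h1 : Algebra.adjoin k (τ : Set F') ≤ A₀.map π := by
      apply Algebra.adjoin_le
      intro c hc
      refine ⟨Function.surjInv hπ c, Algebra.subset_adjoin ?_, Function.surjInv_eq hπ c⟩
      exact Finset.mem_coe.mpr (Finset.mem_union_right _
        (Finset.mem_image_of_mem _ (Finset.mem_coe.mp hc)))
    intro c hc
    obtain ⟨a, ha, hac⟩ := h1 hc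
    exact ⟨a, ha, hac⟩
  have hsA₀ : ∀ i, s i ∈ A₀ := fun i => Algebra.subset_adjoin
    (Finset.mem_coe.mpr (Finset.mem_union_left _ (Finset.mem_image_of_mem _ (Finset.mem_univ i))))
  have hsB : ∀ i, s i ∈ fracSubring A₀ := fun i =>
    ⟨1, A₀.one_mem, isUnit_one, by rw [mul_one]; exact hsA₀ i⟩
  have hB : ∀ y : A, ∃ z ∈ fracSubring A₀, y - z ∈ RingHom.ker π := by
    intro y
    obtain ⟨t₀, ht₀, hu, hyt⟩ := hτ (π y)
    obtain ⟨t, ht, htt₀⟩ := hlift t₀ ht₀
    obtain ⟨u, huA, huy⟩ := hlift _ hyt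
    have htu : IsUnit t := isUnit_of_map_ne_zero (π : A →+* F') hπ hnil t (by
      change π t ≠ 0
      rw [htt₀]
      exact hu.ne_zero)
    obtain ⟨t', htt'⟩ := htu.exists_right_inv
    refine ⟨u * t', ⟨t, ht, htu, ?_⟩, ?_⟩
    · have : u * t' * t = u * (t * t') := by ring
      rw [this, htt', mul_one]
      exact huA
    · rw [RingHom.mem_ker, map_sub, map_mul, huy, sub_eq_zero, mul_assoc, ← htt₀, ← map_mul, htt',
        map_one, mul_one]
  have htop := subring_eq_top (RingHom.ker π) n hn (fracSubring A₀) s hs hsB hB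
  rw [Algebra.essFiniteType_iff]
  refine ⟨s', fun y => ?_⟩
  have hy : y ∈ fracSubring A₀ := by rw [htop]; trivial
  exact hy

end EFT

end Groth.Agent.H91.ArtSub
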