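import Mathlib
import Groth.Agent.H91.ArtSubB
import Groth.Agent.H91.ArtSubE
import Groth.Agent.H91.ArtSubF

/-!
# The subalgebras `Ψ_σ(F[x])` of an Artinian local algebra: structure
-/

set_option autoImplicit false
set_option linter.unusedSectionVars false
universe u v

open MvPolynomial Module

namespace Groth.Agent.H91.ArtSub

section Fin

variable {k₀ : Type v} {K Λ : Type u} [CommRing k₀] [Field K] [Algebra k₀ K] [CommRing Λ]
  [Algebra k₀ Λ] {d : ℕ} (σ : K →ₐ[k₀] Λ) (lam : Fin d → Λ)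

/-- the monomials in `lam` -/
noncomputable def mu (α : Fin d →₀ ℕ) : Λ := α.prod fun i e => lam i ^ e

theorem PsiK_eq_sum (Q : MvPolynomial (Fin d) K) :
    PsiK σ lam Q = ∑ α ∈ Q.support, σ (coeff α Q) * mu lam α := by
  rw [PsiK_apply]
  rfl

theorem mu_mem_pow (m : Ideal Λ) (hlam : ∀ i, lam i ∈ m) (α : Fin d →₀ ℕ) :
    mu lam α ∈ m ^ α.degree := by
  rw [Finsupp.degree_apply, ← Finset.prod_pow_eq_pow_sum]
  exact Ideal.prod_mem_prod fun i _ => Ideal.pow_mem_pow (hlam i) _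

theorem finite_of_nilpotent [Algebra K Λ] (hσ : ∀ c, algebraMap K Λ c = σ c) (m : Ideal Λ)
    (hlam : ∀ i, lam i ∈ m) (n : ℕ) (hn : m ^ n = ⊥)
    (hsurj : Function.Surjective (PsiK σ lam)) : Module.Finite K Λ := by
  have hfin : (mu lam '' {α : Fin d →₀ ℕ | α.degree ≤ n}).Finite :=
    (Finsupp.finite_of_degree_le n).image _
  refine ⟨⟨hfin.toFinset, ?_⟩⟩
  rw [Set.Finite.coe_toFinset, eq_top_iff]
  intro y _
  obtain ⟨Q, rfl⟩ := hsurj y
  rw [PsiK_eq_sum]
  refine Submodule.sum_mem _ fun α _ => ?_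
  rw [← hσ, ← Algebra.smul_def]
  refine Submodule.smul_mem _ _ ?_
  by_cases hα : α.degree ≤ n
  · exact Submodule.subset_span ⟨α, hα, rfl⟩
  · have h1 : mu lam α ∈ m ^ n :=
      Ideal.pow_le_pow_right (le_of_not_ge hα) (mu_mem_pow lam m hlam α)
    rw [hn, Ideal.mem_bot] at h1
    rw [h1]
    exact Submodule.zero_mem _

end Fin

section Setup

variable {k₀ : Type v} {k K Λ : Type u} [CommRing k₀] [Field k] [Field K] [Algebra k₀ k]
  [Algebra k₀ K] [Algebra k K] [IsScalarTower k₀ k K] [CommRing Λ] [Algebra k₀ Λ] [Algebra k Λ]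
  [IsScalarTower k₀ k Λ] {d : ℕ} (σ : K →ₐ[k₀] Λ) (lam : Fin d → Λ) (F : IntermediateField k K)

/-- the range of `Ψ` as a `k`-subalgebra -/
noncomputable def subalg (hk : ∀ a, algebraMap k Λ a ∈ (Psi σ lam F).range) : Subalgebra k Λ :=
  { (Psi σ lam F).range.toSubsemiring with algebraMap_mem' := hk }

theorem mem_subalg (hk : ∀ a, algebraMap k Λ a ∈ (Psi σ lam F).range) (y : Λ) :
    y ∈ subalg σ lam F hk ↔ y ∈ (Psi σ lam F).range := Iff.rfl

variable (hk : ∀ a, algebraMap k Λ a ∈ (Psi σ lam F).range)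

/-- the coefficient field of the subalgebra -/
noncomputable def iotaF : F →+* subalg σ lam F hk :=
  ((σ : K →+* Λ).comp (algebraMap F K)).codRestrict (subalg σ lam F hk)
    (fun f => ⟨C f, Psi_C σ lam F f⟩)

/-- the generators of the maximal ideal of the subalgebra -/
noncomputable def lamA (i : Fin d) : subalg σ lam F hk := ⟨lam i, ⟨X i, Psi_X σ lam F i⟩⟩

/-- `Ψ` as a map onto the subalgebra -/
noncomputable def PsiA : MvPolynomial (Fin d) F →+* subalg σ lam F hk :=
  (Psi σ lam F : MvPolynomial (Fin d) F →+* Λ).codRestrict (subalg σ lam F hk) (fun P => ⟨P, rfl⟩)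

theorem PsiA_surjective : Function.Surjective (PsiA σ lam F hk) := by
  rintro ⟨y, P, rfl⟩
  exact ⟨P, rfl⟩

theorem PsiA_sub_mem (P : MvPolynomial (Fin d) F) :
    PsiA σ lam F hk P - iotaF σ lam F hk (constantCoeff P) ∈
      Ideal.span (Set.range (lamA σ lam F hk)) := by
  induction P using MvPolynomial.induction_on with
  | C f =>
    have : PsiA σ lam F hk (C f) = iotaF σ lam F hk f := Subtype.ext (Psi_C σ lam F f)
    rw [this, constantCoeff_C, sub_self]
    exact zero_mem _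
  | add P Q hP hQ =>
    rw [map_add, map_add, map_add, add_sub_add_comm]
    exact add_mem hP hQ
  | mul_X P i _ =>
    have : PsiA σ lam F hk (X i) = lamA σ lam F hk i := Subtype.ext (Psi_X σ lam F i)
    rw [map_mul, map_mul, constantCoeff_X, mul_zero, map_zero, sub_zero, this]
    exact Ideal.mul_mem_left _ _ (Ideal.subset_span ⟨i, rfl⟩)

theorem rho_mem (ρ : Λ →+* K) (hρσ : ∀ c, ρ (σ c) = c) (hlam : ∀ i, ρ (lam i) = 0) (y : Λ)
    (hy : y ∈ (Psi σ lam F).range) : ρ y ∈ F := by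
  obtain ⟨P, rfl⟩ := (AlgHom.mem_range _).mp hy
  rw [Psi_apply, rho_PsiK σ lam ρ hρσ hlam, constantCoeff_map]
  exact (constantCoeff P).2

theorem rho_Psi (ρ : Λ →+* K) (hρσ : ∀ c, ρ (σ c) = c) (hlam : ∀ i, ρ (lam i) = 0)
    (P : MvPolynomial (Fin d) F) : ρ (Psi σ lam F P) = ((constantCoeff P : F) : K) := by
  rw [Psi_apply, rho_PsiK σ lam ρ hρσ hlam, constantCoeff_map]
  rfl

section Repr

variable [Algebra K Λ] (hσ : ∀ c, algebraMap K Λ c = σ c) {ι : Type*} [Fintype ι]
  (b : Basis ι K Λ)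

include hσ in
theorem repr_mem_of_mem_range (h1 : ∀ l, b.repr 1 l ∈ F)
    (h2 : ∀ i j l, b.repr (lam i * b j) l ∈ F)
    (y : Λ) (hy : y ∈ (Psi σ lam F).range) (l : ι) : b.repr y l ∈ F := by
  obtain ⟨P, rfl⟩ := (AlgHom.mem_range _).mp hy
  clear hy
  induction P using MvPolynomial.induction_on generalizing l with
  | C f =>
    rw [Psi_C, ← hσ, Algebra.algebraMap_eq_smul_one, map_smul, Finsupp.smul_apply, smul_eq_mul]
    exact F.mul_mem f.2 (h1 l)
  | add P Q hP hQ =>
    rw [map_add, map_add, Finsupp.add_apply]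
    exact F.add_mem (hP l) (hQ l)
  | mul_X P i hP =>
    rw [map_mul, Psi_X]
    have h3 : Psi σ lam F P * lam i = ∑ j, b.repr (Psi σ lam F P) j • (lam i * b j) := by
      conv_lhs => rw [← b.sum_repr (Psi σ lam F P), Finset.sum_mul]
      refine Finset.sum_congr rfl fun j _ => ?_
      rw [smul_mul_assoc, mul_comm]
    rw [h3, map_sum, Finsupp.finsetSum_apply]
    refine F.sum_mem fun j _ => ?_
    rw [map_smul, Finsupp.smul_apply, smul_eq_mul]
    exact F.mul_mem (hP j) (h2 i j l)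

end Repr

end Setup

end Groth.Agent.H91.ArtSub
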