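import Mathlib
import Groth.Agent.H91.ArtSubG

/-!
# The subalgebras `Ψ_σ(F[x])` of an Artinian local algebra: main structure theorem
-/

set_option autoImplicit false
set_option linter.unusedSectionVars false
universe u v

open MvPolynomial Module

namespace Groth.Agent.H91.ArtSub

section Setup

variable {k₀ : Type v} {k K Λ : Type u} [CommRing k₀] [Field k] [Field K] [Algebra k₀ k]
  [Algebra k₀ K] [Algebra k K] [IsScalarTower k₀ k K] [CommRing Λ] [Algebra k₀ Λ] [Algebra k Λ]
  [IsScalarTower k₀ k Λ] {d : ℕ} (σ : K →ₐ[k₀] Λ) (lam : Fin d → Λ) (F : IntermediateField k K)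
  (hk : ∀ a, algebraMap k Λ a ∈ (Psi σ lam F).range)
  [Algebra K Λ] (hσ : ∀ c, algebraMap K Λ c = σ c) {ι : Type*} [Fintype ι]
  (b : Basis ι K Λ)

include hσ in
theorem structure_thm (hFG : F.FG) (ρ : Λ →ₐ[k] K) (hρσ : ∀ c, ρ (σ c) = c)
    (hlam : Ideal.span (Set.range lam) = RingHom.ker ρ) (n : ℕ) (hn : RingHom.ker ρ ^ n = ⊥)
    (hb : ∀ i, b i ∈ (Psi σ lam F).range)
    (h1 : ∀ l, b.repr 1 l ∈ F) (h2 : ∀ i j l, b.repr (lam i * b j) l ∈ F) :
    ∃ (_ : IsLocalRing (subalg σ lam F hk)), IsArtinianRing (subalg σ lam F hk) ∧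
      Module.Flat (subalg σ lam F hk) Λ ∧ Algebra.EssFiniteType k (subalg σ lam F hk) ∧
      (IsLocalRing.maximalIdeal (subalg σ lam F hk)).map
        (algebraMap (subalg σ lam F hk) Λ) = RingHom.ker ρ := by
  classical
  have hlam0 : ∀ i, ρ (lam i) = 0 := fun i => by
    have : lam i ∈ RingHom.ker ρ := by rw [← hlam]; exact Ideal.subset_span ⟨i, rfl⟩
    exact this
  letI : Algebra F (subalg σ lam F hk) := (iotaF σ lam F hk).toAlgebra
  haveI : IsScalarTower F (subalg σ lam F hk) Λ :=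
    IsScalarTower.of_algebraMap_eq (fun f => hσ (f : K))
  have hinj : Function.Injective (algebraMap (subalg σ lam F hk) Λ) := Subtype.val_injective
  have hF : ∀ (y : subalg σ lam F hk) (i : ι),
      b.repr (algebraMap (subalg σ lam F hk) Λ y) i ∈ Set.range (algebraMap F K) := fun y i =>
    ⟨⟨_, repr_mem_of_mem_range σ lam F hσ b h1 h2 y.1 y.2 i⟩, rfl⟩
  -- flatness
  have hflat : Module.Flat (subalg σ lam F hk) Λ :=
    flat_of_basis (F := F) (K := K) hinj b (fun i => ⟨b i, hb i⟩) (fun _ => rfl) hF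
  -- Artinian
  have hart : IsArtinianRing (subalg σ lam F hk) := by
    obtain ⟨c, -⟩ := exists_basis_sub (F := F) (K := K) hinj b (fun i => ⟨b i, hb i⟩)
      (fun _ => rfl) hF
    haveI : Module.Finite F (subalg σ lam F hk) := Module.Finite.of_basis c
    exact IsArtinianRing.of_finite F (subalg σ lam F hk)
  -- the residue map
  let π : (subalg σ lam F hk) →ₐ[k] F :=
    (ρ.comp (subalg σ lam F hk).val).codRestrict F.toSubalgebra
      (fun y => rho_mem σ lam F (ρ : Λ →+* K) hρσ hlam0 y.1 y.2)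
  have hπ : ∀ y : subalg σ lam F hk, ((π y : F) : K) = ρ (y : Λ) := fun y => rfl
  have hπsurj : Function.Surjective π := by
    intro f
    refine ⟨iotaF σ lam F hk f, Subtype.ext ?_⟩
    rw [hπ]
    exact hρσ (f : K)
  have hkerπ : ∀ y : subalg σ lam F hk, y ∈ RingHom.ker π ↔ ρ (y : Λ) = 0 := by
    intro y
    rw [RingHom.mem_ker, ← hπ, Subtype.ext_iff]
    rfl
  have hle : RingHom.ker π ≤ (RingHom.ker ρ).comap (algebraMap (subalg σ lam F hk) Λ) := by
    intro y hy
    rw [Ideal.mem_comap, RingHom.mem_ker]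
    exact (hkerπ y).mp hy
  have hnilA : RingHom.ker π ^ n = ⊥ := by
    rw [eq_bot_iff]
    refine (Ideal.pow_right_mono hle n).trans ((Ideal.le_comap_pow _ n).trans ?_)
    rw [hn]
    intro y hy
    rw [Ideal.mem_comap, Ideal.mem_bot] at hy
    rw [Ideal.mem_bot]
    exact hinj (by rw [hy, map_zero])
  have hnilrad : RingHom.ker (π : (subalg σ lam F hk) →+* F) ≤ nilradical (subalg σ lam F hk) := by
    intro x hx
    refine ⟨n, ?_⟩
    have : x ^ n ∈ RingHom.ker π ^ n := Ideal.pow_mem_pow hx n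
    rwa [hnilA, Ideal.mem_bot] at this
  have hsA : Ideal.span (Set.range (lamA σ lam F hk)) = RingHom.ker π := by
    apply le_antisymm
    · rw [Ideal.span_le]
      rintro _ ⟨i, rfl⟩
      exact (hkerπ _).mpr (hlam0 i)
    · intro y hy
      obtain ⟨P, rfl⟩ := PsiA_surjective σ lam F hk y
      have h3 := (hkerπ _).mp hy
      have h4 : ((constantCoeff P : F) : K) = 0 := by
        rw [← rho_Psi σ lam F (ρ : Λ →+* K) hρσ hlam0 P]
        exact h3
      have h5 : constantCoeff P = 0 := Subtype.ext h4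
      have h6 := PsiA_sub_mem σ lam F hk P
      rwa [h5, map_zero, sub_zero] at h6
  have hloc : IsLocalRing (subalg σ lam F hk) :=
    isLocalRing_of_ker_le_nilradical (π : (subalg σ lam F hk) →+* F) hπsurj hnilrad
  have hmax : IsLocalRing.maximalIdeal (subalg σ lam F hk) = RingHom.ker π :=
    maximalIdeal_eq_ker (π : (subalg σ lam F hk) →+* F) hπsurj
  haveI : Algebra.EssFiniteType k F := IntermediateField.essFiniteType_iff.mpr hFG
  have heft : Algebra.EssFiniteType k (subalg σ lam F hk) :=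
    essFiniteType_of_nilpotent π hπsurj n hnilA (lamA σ lam F hk) hsA
  refine ⟨hloc, hart, hflat, heft, ?_⟩
  rw [hmax]
  apply le_antisymm
  · rw [Ideal.map_le_iff_le_comap]
    exact hle
  · rw [← hlam, Ideal.span_le]
    rintro _ ⟨i, rfl⟩
    exact Ideal.mem_map_of_mem (algebraMap (subalg σ lam F hk) Λ)
      ((hkerπ (lamA σ lam F hk i)).mpr (hlam0 i))

theorem exists_field (F₀ : IntermediateField k K) (hF₀ : F₀.FG)
    (hsurj : Function.Surjective (PsiK σ lam)) (E : Finset Λ) :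
    ∃ F : IntermediateField k K, F.FG ∧ F₀ ≤ F ∧ (∀ e ∈ E, e ∈ (Psi σ lam F).range) ∧
      (∀ i, b i ∈ (Psi σ lam F).range) ∧ (∀ l, b.repr 1 l ∈ F) ∧
      (∀ i j l, b.repr (lam i * b j) l ∈ F) := by
  classical
  let inv := Function.surjInv hsurj
  have hinv : ∀ y, PsiK σ lam (inv y) = y := Function.surjInv_eq hsurj
  let T : Finset (MvPolynomial (Fin d) K) :=
    E.image inv ∪ Finset.univ.image (fun i => inv (b i)) ∪
      Finset.univ.image (fun l => C (b.repr 1 l)) ∪
      Finset.univ.image (fun x : Fin d × ι × ι => C (b.repr (lam x.1 * b x.2.1) x.2.2))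
  obtain ⟨F, hFG, hF₀F, hT⟩ := exists_fg_coeffs F₀ hF₀ T
  have hC : ∀ c : K, C c ∈ T → c ∈ F := by
    intro c hc
    by_cases h0 : c = 0
    · rw [h0]; exact F.zero_mem
    · refine hT _ hc c ?_
      rw [coeffs_C, if_neg h0]
      exact Finset.mem_singleton_self c
  refine ⟨F, hFG, hF₀F, ?_, ?_, ?_, ?_⟩
  · intro e he
    rw [mem_range_Psi_iff]
    refine ⟨inv e, hT _ ?_, hinv e⟩
    exact Finset.mem_union_left _ (Finset.mem_union_left _ (Finset.mem_union_left _
      (Finset.mem_image_of_mem _ he)))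
  · intro i
    rw [mem_range_Psi_iff]
    refine ⟨inv (b i), hT _ ?_, hinv (b i)⟩
    exact Finset.mem_union_left _ (Finset.mem_union_left _ (Finset.mem_union_right _
      (Finset.mem_image_of_mem _ (Finset.mem_univ i))))
  · intro l
    apply hC
    exact Finset.mem_union_left _ (Finset.mem_union_right _
      (Finset.mem_image_of_mem _ (Finset.mem_univ l)))
  · intro i j l
    apply hC
    exact Finset.mem_union_right _
      (Finset.mem_image_of_mem (fun x : Fin d × ι × ι => C (b.repr (lam x.1 * b x.2.1) x.2.2))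
        (Finset.mem_univ (i, j, l)))

end Setup

section Main

variable {k₀ : Type v} {k K Λ : Type u} [CommRing k₀] [Field k] [Field K] [Algebra k₀ k]
  [Algebra k₀ K] [Algebra k K] [IsScalarTower k₀ k K] [CommRing Λ] [Algebra k₀ Λ] [Algebra k Λ]
  [IsScalarTower k₀ k Λ] {d : ℕ}

theorem main_of_claim (ρ : Λ →ₐ[k] K) (n : ℕ) (hn : RingHom.ker ρ ^ n = ⊥) (lam : Fin d → Λ)
    (hlam : Ideal.span (Set.range lam) = RingHom.ker ρ) (σ : K →ₐ[k₀] Λ)
    (hρσ : ∀ c, ρ (σ c) = c) (F₀ : IntermediateField k K) (hF₀ : F₀.FG)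
    (hk₀ : ∀ a, algebraMap k Λ a ∈ (Psi σ lam F₀).range) (E : Finset Λ) :
    ∃ (A : Subalgebra k Λ) (_ : IsLocalRing A), (↑E : Set Λ) ⊆ A ∧ IsArtinianRing A ∧
      Module.Flat A Λ ∧ Algebra.EssFiniteType k A ∧
      (IsLocalRing.maximalIdeal A).map (algebraMap A Λ) = RingHom.ker ρ := by
  letI : Algebra K Λ := (σ : K →+* Λ).toAlgebra
  have hσ : ∀ c, algebraMap K Λ c = σ c := fun _ => rfl
  have hsurj : Function.Surjective (PsiK σ lam) :=
    PsiK_surjective σ lam (ρ : Λ →+* K) hρσ hlam.symm n hn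
  have hlamm : ∀ i, lam i ∈ RingHom.ker ρ := fun i => by
    rw [← hlam]; exact Ideal.subset_span ⟨i, rfl⟩
  haveI : Module.Finite K Λ := finite_of_nilpotent σ lam hσ (RingHom.ker ρ) hlamm n hn hsurj
  let b := Module.finBasis K Λ
  obtain ⟨F, hFG, hF₀F, hE, hb, h1, h2⟩ := exists_field σ lam b F₀ hF₀ hsurj E
  have hk : ∀ a, algebraMap k Λ a ∈ (Psi σ lam F).range :=
    fun a => range_Psi_mono σ lam hF₀F (hk₀ a)
  obtain ⟨hloc, hart, hflat, heft, hmap⟩ :=
    structure_thm σ lam F hk hσ b hFG ρ hρσ hlam n hn hb h1 h2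
  exact ⟨subalg σ lam F hk, hloc, fun e he => hE e (Finset.mem_coe.mp he), hart, hflat, heft, hmap⟩

end Main

end Groth.Agent.H91.ArtSub
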