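import Mathlib
import Groth.Agent.H91.ArtSubD
import Groth.Agent.H91.ArtSubH
import Groth.Agent.H47.FSField

/-!
# Artinian local algebras in characteristic `p` are directed unions of flat Artinian local
subalgebras essentially of finite type (Stacks, Smoothing Ring Maps, Lemma 16.11.1)
-/

set_option autoImplicit false
universe u v

open IsLocalRing

namespace Groth.Agent.H91.ArtSub

theorem claim_all {k₀ : Type v} {k K : Type u} [CommRing k₀] [Field k] [Field K] [Algebra k₀ k]
    [Algebra k₀ K] [Algebra k K] [IsScalarTower k₀ k K] [Algebra.FormallySmooth k₀ k]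
    [Algebra.FormallySmooth k₀ K]
    (hfin : (LinearMap.ker (KaehlerDifferential.mapBaseChange k₀ k K)).FG) (N : ℕ) :
    Claim k₀ k K N := by
  induction N with
  | zero => exact claim_zero k₀ k K
  | succ N ih => exact claim_succ hfin N ih

theorem artinian_union {k Λ : Type u} [Field k] (p : ℕ) [Fact p.Prime]
    [CharP k p] [CommRing Λ] [Algebra k Λ] [IsArtinianRing Λ] [IsLocalRing Λ]
    (hH : Module.Finite (ResidueField Λ) (Algebra.H1Cotangent k (ResidueField Λ)))
    (E : Finset Λ) :
    ∃ (A : Subalgebra k Λ) (_ : IsLocalRing A), (↑E : Set Λ) ⊆ A ∧ IsArtinianRing A ∧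
      Module.Flat A Λ ∧ Algebra.EssFiniteType k A ∧
      (maximalIdeal A).map (algebraMap A Λ) = maximalIdeal Λ := by
  haveI : CharP Λ p := charP_of_injective_algebraMap (algebraMap k Λ).injective p
  haveI : CharP (ResidueField Λ) p :=
    charP_of_injective_algebraMap (algebraMap k (ResidueField Λ)).injective p
  letI : Algebra (ZMod p) k := ZMod.algebra k p
  letI : Algebra (ZMod p) Λ := ZMod.algebra Λ p
  letI : Algebra (ZMod p) (ResidueField Λ) := ZMod.algebra (ResidueField Λ) p
  haveI : IsScalarTower (ZMod p) k (ResidueField Λ) :=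
    IsScalarTower.of_algebraMap_eq' (Subsingleton.elim _ _)
  haveI : IsScalarTower (ZMod p) k Λ :=
    IsScalarTower.of_algebraMap_eq' (Subsingleton.elim _ _)
  haveI : Algebra.FormallySmooth (ZMod p) k := H47.formallySmooth_of_perfectField_field
  haveI : Algebra.FormallySmooth (ZMod p) (ResidueField Λ) :=
    H47.formallySmooth_of_perfectField_field
  have hfin : (LinearMap.ker
      (KaehlerDifferential.mapBaseChange (ZMod p) k (ResidueField Λ))).FG := by
    have hex := Algebra.H1Cotangent.exact_δ_mapBaseChange (ZMod p) k (ResidueField Λ)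
    rw [hex.linearMap_ker_eq, LinearMap.range_eq_map]
    exact (Module.Finite.fg_top).map _
  let ρ : Λ →ₐ[k] ResidueField Λ := IsScalarTower.toAlgHom k Λ (ResidueField Λ)
  have hρ : Function.Surjective ρ := IsLocalRing.residue_surjective
  have hker : RingHom.ker ρ = maximalIdeal Λ := IsLocalRing.ker_residue
  obtain ⟨n, hn⟩ : ∃ n, maximalIdeal Λ ^ n = ⊥ := by
    have h1 := IsArtinianRing.isNilpotent_jacobson_bot (R := Λ)
    rw [IsLocalRing.jacobson_eq_maximalIdeal ⊥ bot_ne_top] at h1
    exact h1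
  obtain ⟨d, lam, hlam⟩ := Submodule.fg_iff_exists_fin_generating_family.mp
    (IsNoetherian.noetherian (maximalIdeal Λ))
  have hN : RingHom.ker ρ ^ (n + 1) = ⊥ := by
    rw [hker, pow_succ, hn, Ideal.bot_mul]
  obtain ⟨σ, hρσ, F₀, hF₀, hk₀⟩ :=
    claim_all hfin n Λ ρ hρ hN d lam (hlam.trans hker.symm)
  obtain ⟨A, hloc, hE, hart, hflat, heft, hmap⟩ :=
    main_of_claim ρ (n + 1) hN lam (hlam.trans hker.symm) σ hρσ F₀ hF₀ hk₀ E
  exact ⟨A, hloc, hE, hart, hflat, heft, hmap.trans hker⟩

end Groth.Agent.H91.ArtSub
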