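import Mathlib
import Groth.Prelude.Def_CAlgX

namespace Groth.Agent.H91.AdicSmooth

universe u

section Lift

variable {A B : Type u} [CommRing A] [CommRing B] [Algebra A B] {𝔍 : Ideal B}

/-- (L') lifting along a surjection with square-zero kernel. -/
theorem exists_lift_of_sq_zero (hAd : CAlgX.IsAdicFormallySmooth A B 𝔍)
    {E' E'' : Type u} [CommRing E'] [CommRing E''] [Algebra A E'] [Algebra A E'']
    (π : E' →ₐ[A] E'') (hπ : Function.Surjective π) (hker : RingHom.ker π.toRingHom ^ 2 = ⊥)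
    (ψ : B →ₐ[A] E'') (k : ℕ) (hk : ∀ x ∈ 𝔍 ^ k, ψ x = 0) :
    ∃ χ : B →ₐ[A] E', π.comp χ = ψ := by
  let e : (E' ⧸ RingHom.ker π.toRingHom) ≃ₐ[A] E'' := Ideal.quotientKerAlgEquivOfSurjective hπ
  have he : ∀ y : E', e (Ideal.Quotient.mk _ y) = π y := fun y => rfl
  obtain ⟨χ, hχ⟩ := hAd E' (RingHom.ker π.toRingHom) hker (e.symm.toAlgHom.comp ψ)
    ⟨k, fun x hx => by
      show e.symm (ψ x) = 0
      rw [hk x hx, map_zero]⟩
  refine ⟨χ, AlgHom.ext fun b => ?_⟩
  have h1 := AlgHom.congr_fun hχ b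
  have h2 : Ideal.Quotient.mk _ (χ b) = e.symm (ψ b) := h1
  show π (χ b) = ψ b
  rw [← he, h2, AlgEquiv.apply_symm_apply]

/-- (L'') lifting along a surjection with nilpotent kernel. -/
theorem exists_lift_of_nilpotent (hAd : CAlgX.IsAdicFormallySmooth A B 𝔍) (m : ℕ) :
    ∀ {E' E'' : Type u} [CommRing E'] [CommRing E''] [Algebra A E'] [Algebra A E'']
    (π : E' →ₐ[A] E'') (_ : Function.Surjective π) (_ : RingHom.ker π.toRingHom ^ (m + 1) = ⊥)
    (ψ : B →ₐ[A] E'') (k : ℕ) (_ : ∀ x ∈ 𝔍 ^ k, ψ x = 0),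
    ∃ χ : B →ₐ[A] E', π.comp χ = ψ := by
  induction m with
  | zero =>
    intro E' E'' _ _ _ _ π hπ hker ψ k hk
    rw [zero_add, pow_one] at hker
    have hinj : Function.Injective π := (RingHom.injective_iff_ker_eq_bot π.toRingHom).mpr hker
    let e : E' ≃ₐ[A] E'' := AlgEquiv.ofBijective π ⟨hinj, hπ⟩
    refine ⟨e.symm.toAlgHom.comp ψ, AlgHom.ext fun b => ?_⟩
    show π (e.symm (ψ b)) = ψ b
    exact e.apply_symm_apply (ψ b)
  | succ m ih =>
    intro E' E'' _ _ _ _ π hπ hker ψ k hk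
    set I := RingHom.ker π.toRingHom with hI
    -- the intermediate quotient
    have hle : I ^ (m + 1) ≤ RingHom.ker π.toRingHom := Ideal.pow_le_self (by omega)
    let πbar : (E' ⧸ I ^ (m + 1)) →ₐ[A] E'' := Ideal.Quotient.liftₐ (I ^ (m + 1)) π
      (fun x hx => hle hx)
    have hπbar : ∀ y : E', πbar (Ideal.Quotient.mk _ y) = π y := fun y => rfl
    have hπbars : Function.Surjective πbar := by
      intro z
      obtain ⟨y, rfl⟩ := hπ z
      exact ⟨Ideal.Quotient.mk _ y, hπbar y⟩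
    have hkerbar : RingHom.ker πbar.toRingHom ≤ I.map (Ideal.Quotient.mk (I ^ (m + 1))) := by
      intro z hz
      obtain ⟨y, rfl⟩ := Ideal.Quotient.mk_surjective z
      have : π y = 0 := hz
      exact Ideal.mem_map_of_mem _ this
    have hkerbar' : RingHom.ker πbar.toRingHom ^ (m + 1) = ⊥ := by
      rw [eq_bot_iff]
      refine (Ideal.pow_right_mono hkerbar (m + 1)).trans ?_
      rw [← Ideal.map_pow, Ideal.map_quotient_self]
    obtain ⟨ψ', hψ'⟩ := ih πbar hπbars hkerbar' ψ k hk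
    have hψ'b : ∀ b, πbar (ψ' b) = ψ b := fun b => AlgHom.congr_fun hψ' b
    -- ψ' kills 𝔍^(k (m+1))
    have hk' : ∀ x ∈ 𝔍 ^ (k * (m + 1)), ψ' x = 0 := by
      have h1 : 𝔍 ^ k ≤ (I.map (Ideal.Quotient.mk (I ^ (m + 1)))).comap ψ' := by
        intro x hx
        apply hkerbar
        show πbar (ψ' x) = 0
        rw [hψ'b, hk x hx]
      have h2 : (𝔍 ^ (k * (m + 1))).map ψ' ≤ (I.map (Ideal.Quotient.mk (I ^ (m + 1)))) ^ (m + 1) := by
        rw [pow_mul, Ideal.map_pow]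
        exact Ideal.pow_right_mono (Ideal.map_le_iff_le_comap.mpr h1) _
      intro x hx
      have := h2 (Ideal.mem_map_of_mem ψ' hx)
      rwa [← Ideal.map_pow, Ideal.map_quotient_self, Ideal.mem_bot] at this
    -- square-zero lifting
    have hsq : RingHom.ker (Ideal.Quotient.mkₐ A (I ^ (m + 1))).toRingHom ^ 2 = ⊥ := by
      have : RingHom.ker (Ideal.Quotient.mkₐ A (I ^ (m + 1))).toRingHom = I ^ (m + 1) :=
        Ideal.mk_ker
      rw [this, ← pow_mul, eq_bot_iff, ← hker]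
      exact Ideal.pow_le_pow_right (by omega)
    obtain ⟨χ, hχ⟩ := exists_lift_of_sq_zero hAd (Ideal.Quotient.mkₐ A (I ^ (m + 1)))
      (Ideal.Quotient.mkₐ_surjective A _) hsq ψ' (k * (m + 1)) hk'
    refine ⟨χ, AlgHom.ext fun b => ?_⟩
    have h3 : Ideal.Quotient.mk (I ^ (m + 1)) (χ b) = ψ' b := AlgHom.congr_fun hχ b
    show π (χ b) = ψ b
    rw [← hπbar, h3, hψ'b]

end Lift

end Groth.Agent.H91.AdicSmooth
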