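import Mathlib
import Groth.Prelude.Def_CAlgX
import Groth.Agent.H91.AdicLift

namespace Groth.Agent.H91.H1Inj

open Algebra MvPolynomial

universe u

/-- the canonical extension `R[S] → S` -/
noncomputable abbrev canExt (R S : Type u) [CommRing R] [CommRing S] [Algebra R S] : Algebra.Extension R S :=
  (Algebra.Generators.self R S).toExtension

section General

variable {A B K : Type u} [CommRing A] [CommRing B] [CommRing K] [Algebra A B] [Algebra A K]
  [Algebra B K] [IsScalarTower A B K]


/-- If `B → K` lifts (as `A`-algebra map) to the infinitesimal extension `A[K]/I²` of the canonical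
presentation of `K` over `A`, then `H¹(L_{K/A}) → H¹(L_{K/B})` is injective. -/
theorem injective_h1Cotangent_map_of_lift
    (χ : B →ₐ[A] (canExt A K).Ring ⧸ (canExt A K).ker ^ 2)
    (hχ : ∀ (b : B) (w : (canExt A K).Ring),
      χ b = Ideal.Quotient.mk _ w → algebraMap (canExt A K).Ring K w = algebraMap B K b) :
    Function.Injective (Algebra.H1Cotangent.map A B K K) := by
  classical
  let f : (canExt A K).Hom (canExt B K) :=
    (Generators.defaultHom (Generators.self A K) (Generators.self B K)).toExtensionHom
  let mkQ : (canExt A K).Ring →+* (canExt A K).Ring ⧸ (canExt A K).ker ^ 2 := Ideal.Quotient.mk ((canExt A K).ker ^ 2)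
  let π : ((canExt A K).Ring ⧸ (canExt A K).ker ^ 2) →+* K :=
    Ideal.Quotient.lift ((canExt A K).ker ^ 2) (algebraMap (canExt A K).Ring K)
      (fun a ha => Ideal.pow_le_self (n := 2) (by norm_num) ha)
  have hπmk : ∀ w : (canExt A K).Ring, π (mkQ w) = algebraMap (canExt A K).Ring K w := fun w => rfl
  have hπχ : ∀ b, π (χ b) = algebraMap B K b := by
    intro b
    obtain ⟨w, hw⟩ := Ideal.Quotient.mk_surjective (χ b)
    rw [← hw]
    exact hχ b w hw.symm
  have hkerπ : ∀ z, π z = 0 → z ∈ (canExt A K).ker.map mkQ := by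
    intro z hz
    obtain ⟨w, rfl⟩ := Ideal.Quotient.mk_surjective z
    exact Ideal.mem_map_of_mem _ hz
  let g : (canExt B K).Ring →+* (canExt A K).Ring ⧸ (canExt A K).ker ^ 2 :=
    MvPolynomial.eval₂Hom (χ : B →+* (canExt A K).Ring ⧸ (canExt A K).ker ^ 2)
      (fun k => mkQ ((X k : MvPolynomial K A)))
  have hgC : ∀ b, g (C b) = χ b := fun b => MvPolynomial.eval₂Hom_C _ _ b
  have hgX : ∀ k, g (X k) = mkQ (X k) := fun k => MvPolynomial.eval₂Hom_X' _ _ k
  -- Claim 1
  have h1 : g.comp (f.toAlgHom : (canExt A K).Ring →+* (canExt B K).Ring) = mkQ := by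
    refine MvPolynomial.ringHom_ext (fun a => ?_) (fun k => ?_)
    · have e1 : f.toAlgHom (C a) = C (algebraMap A B a) :=
        Generators.Hom.toAlgHom_C
          (Generators.defaultHom (Generators.self A K) (Generators.self B K)) a
      show g (f.toAlgHom (C a)) = mkQ (C a)
      rw [e1, hgC, χ.commutes]
      rfl
    · have e1 : f.toAlgHom (X k) = X k := by
        show (Generators.defaultHom (Generators.self A K) (Generators.self B K)).toAlgHom (X k) = _
        rw [Generators.Hom.toAlgHom_X]
        simp
      show g (f.toAlgHom (X k)) = mkQ (X k)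
      rw [e1, hgX]
  -- Claim 2
  have h2 : π.comp g = algebraMap (canExt B K).Ring K := by
    refine MvPolynomial.ringHom_ext (fun b => ?_) (fun k => ?_)
    · show π (g (C b)) = algebraMap (Generators.self B K).Ring K (C b)
      rw [hgC, hπχ, Generators.algebraMap_apply, MvPolynomial.aeval_C]
    · show π (g (X k)) = algebraMap (Generators.self B K).Ring K (X k)
      rw [hgX, hπmk]
      show algebraMap (Generators.self A K).Ring K (X k) = _
      rw [Generators.algebraMap_apply, Generators.algebraMap_apply, MvPolynomial.aeval_X,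
        MvPolynomial.aeval_X]
      rfl
  have h3 : ∀ y' ∈ (canExt B K).ker, g y' ∈ (canExt A K).ker.map mkQ := by
    intro y' hy'
    apply hkerπ
    have := RingHom.congr_fun h2 y'
    rw [RingHom.comp_apply] at this
    rw [this]
    exact hy'
  have h4 : ∀ y' ∈ (canExt B K).ker ^ 2, g y' = 0 := by
    intro y' hy'
    have h5 : (canExt B K).ker ≤ ((canExt A K).ker.map mkQ).comap g := fun z hz => h3 z hz
    have h6 : ((canExt B K).ker ^ 2).map g ≤ ((canExt A K).ker.map mkQ) ^ 2 := by
      rw [Ideal.map_pow]
      exact Ideal.pow_right_mono (Ideal.map_le_iff_le_comap.mpr h5) _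
    have h7 := h6 (Ideal.mem_map_of_mem g hy')
    rwa [← Ideal.map_pow, Ideal.map_quotient_self, Ideal.mem_bot] at h7
  -- injectivity of the cotangent map
  have hinj : Function.Injective (Extension.Cotangent.map f) := by
    rw [injective_iff_map_eq_zero]
    intro z hz
    obtain ⟨x, rfl⟩ := Extension.Cotangent.mk_surjective z
    rw [Extension.Cotangent.map_mk, Extension.Cotangent.mk_eq_zero_iff] at hz
    rw [Extension.Cotangent.mk_eq_zero_iff]
    have h8 := h4 _ hz
    have h9 := RingHom.congr_fun h1 (x : (canExt A K).Ring)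
    rw [RingHom.comp_apply] at h9
    have h10 : mkQ (x : (canExt A K).Ring) = 0 := by rw [← h9]; exact h8
    exact Ideal.Quotient.eq_zero_iff_mem.mp h10
  intro a b hab
  apply Subtype.ext
  apply hinj
  have := congrArg Subtype.val hab
  exact this

end General

section Local

variable (A B : Type u) [CommRing A] [CommRing B] [IsLocalRing B] [Algebra A B]

theorem injective_of_adic
    (hfs : CAlgX.IsAdicFormallySmooth A B (IsLocalRing.maximalIdeal B)) :
    Function.Injective
      (Algebra.H1Cotangent.map A B (IsLocalRing.ResidueField B) (IsLocalRing.ResidueField B)) := by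
  let K := IsLocalRing.ResidueField B
  let P := (Generators.self A K).toExtension
  let π : (P.Ring ⧸ P.ker ^ 2) →ₐ[A] K :=
    Ideal.Quotient.liftₐ (P.ker ^ 2) (IsScalarTower.toAlgHom A P.Ring K)
      (fun a ha => Ideal.pow_le_self (by norm_num) ha)
  have hπmk : ∀ w : P.Ring, π (Ideal.Quotient.mk _ w) = algebraMap P.Ring K w := fun w => rfl
  have hπs : Function.Surjective π := by
    intro k
    obtain ⟨w, hw⟩ := P.algebraMap_surjective k
    exact ⟨Ideal.Quotient.mk _ w, by rw [hπmk, hw]⟩
  have hker : RingHom.ker π.toRingHom ^ 2 = ⊥ := by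
    have h1 : RingHom.ker π.toRingHom ≤ P.ker.map (Ideal.Quotient.mk (P.ker ^ 2)) := by
      intro z hz
      obtain ⟨w, rfl⟩ := Ideal.Quotient.mk_surjective z
      apply Ideal.mem_map_of_mem
      exact hz
    rw [eq_bot_iff]
    refine (Ideal.pow_right_mono h1 2).trans ?_
    rw [← Ideal.map_pow, Ideal.map_quotient_self]
  obtain ⟨χ, hχ⟩ := Groth.Agent.H91.AdicSmooth.exists_lift_of_sq_zero hfs π hπs hker
    (IsScalarTower.toAlgHom A B K) 1 (fun x hx => by
      rw [pow_one] at hx
      exact (IsLocalRing.residue_eq_zero_iff x).mpr hx)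
  apply injective_h1Cotangent_map_of_lift χ
  intro b w hw
  have := AlgHom.congr_fun hχ b
  rw [AlgHom.comp_apply, hw, hπmk] at this
  exact this

end Local

end Groth.Agent.H91.H1Inj
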