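import Mathlib
import Groth.Prelude.Def_Found
import Groth.Agent.H91.ArtSubI
import Groth.Agent.H91.H1Inj
import Groth.Agent.H23.GeomRegFS3

/-!
# Stage 1 of the inseparable case: the Artinian level structure
-/

set_option autoImplicit false
set_option linter.style.haveILetI false
universe u

open IsLocalRing MvPolynomial

namespace Groth.Agent.H91.Pop

open Groth.Agent.H91.ArtSub

section Rho

variable {k : Type u} [Field k] (S : Type u) [CommRing S] [IsLocalRing S] [Algebra k S] (N : ℕ)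
  (hN : 0 < N)

/-- the residue map of `S ⧸ 𝔪 ^ N` -/
noncomputable def rhoBar : (S ⧸ maximalIdeal S ^ N) →ₐ[k] ResidueField S :=
  Ideal.Quotient.liftₐ (maximalIdeal S ^ N) (IsScalarTower.toAlgHom k S (ResidueField S))
    (fun x hx => (residue_eq_zero_iff x).mpr (Ideal.pow_le_self (Nat.pos_iff_ne_zero.mp hN) hx))

theorem rhoBar_mk (x : S) :
    rhoBar (k := k) S N hN (Ideal.Quotient.mk (maximalIdeal S ^ N) x) = residue S x := rfl

theorem rhoBar_surjective : Function.Surjective (rhoBar (k := k) S N hN) := by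
  intro c
  obtain ⟨x, rfl⟩ := residue_surjective c
  exact ⟨Ideal.Quotient.mk _ x, rfl⟩

theorem ker_rhoBar : RingHom.ker (rhoBar (k := k) S N hN) =
    (maximalIdeal S).map (Ideal.Quotient.mk (maximalIdeal S ^ N)) := by
  apply le_antisymm
  · intro z hz
    obtain ⟨x, rfl⟩ := Ideal.Quotient.mk_surjective z
    rw [RingHom.mem_ker, rhoBar_mk, residue_eq_zero_iff] at hz
    exact Ideal.mem_map_of_mem _ hz
  · rw [Ideal.map_le_iff_le_comap]
    intro x hx
    rw [Ideal.mem_comap, RingHom.mem_ker, rhoBar_mk, residue_eq_zero_iff]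
    exact hx

theorem ker_rhoBar_pow : RingHom.ker (rhoBar (k := k) S N hN) ^ N = ⊥ := by
  rw [ker_rhoBar, ← Ideal.map_pow, Ideal.map_quotient_self]

end Rho

section H1

theorem finite_H1 (p : ℕ) [Fact p.Prime] {k : Type u} [Field k] [CharP k p]
    (S : Type u) [CommRing S] [IsLocalRing S] [IsNoetherianRing S] [Algebra k S]
    (hS : CAlg.IsGeometricallyRegular k S) :
    Module.Finite (ResidueField S) (Algebra.H1Cotangent k (ResidueField S)) := by
  have hfs := Groth.Agent.H23.GeomRegFS.adic_of_geomReg p S hS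
  have hinj := Groth.Agent.H91.H1Inj.injective_of_adic k S hfs
  have hsurj : Function.Surjective (algebraMap S (ResidueField S)) := residue_surjective
  haveI : Algebra.FinitePresentation S (ResidueField S) :=
    Algebra.FinitePresentation.of_surjective (f := Algebra.ofId S (ResidueField S)) hsurj
      (IsNoetherian.noetherian _)
  haveI : Subsingleton Ω[ResidueField S⁄S] :=
    KaehlerDifferential.subsingleton_of_surjective S (ResidueField S) hsurj
  haveI : Module.Finite (ResidueField S) (Algebra.H1Cotangent S (ResidueField S)) := inferInstance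
  exact Module.Finite.of_injective
    (Algebra.H1Cotangent.map k S (ResidueField S) (ResidueField S)) hinj

end H1

section Stage1

theorem stage1 (p : ℕ) [Fact p.Prime] {k : Type u} [Field k] [CharP k p]
    (S : Type u) [CommRing S] [IsLocalRing S] [IsNoetherianRing S] [Algebra k S]
    (hS : CAlg.IsGeometricallyRegular k S) (N : ℕ) (hN : 0 < N)
    {Λ : Type u} [CommRing Λ] [Algebra k Λ] (𝔮 : Ideal Λ) [𝔮.IsPrime] [Algebra Λ S]
    [IsScalarTower k Λ S] [IsLocalization.AtPrime S 𝔮]
    {d : ℕ} (u : Fin d → Λ)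
    (hu : Ideal.span (Set.range fun i => algebraMap Λ S (u i)) = maximalIdeal S)
    (E₀ : Finset Λ) :
    ∃ (F : IntermediateField k (ResidueField S)) (m₀ : ℕ) (y : Fin m₀ → Λ)
      (D : Subalgebra k (S ⧸ maximalIdeal S ^ N)) (_ : IsLocalRing D),
      F = IntermediateField.adjoin k (Set.range fun l => residue S (algebraMap Λ S (y l))) ∧
      (∀ l, Ideal.Quotient.mk (maximalIdeal S ^ N) (algebraMap Λ S (y l)) ∈ D) ∧
      (∀ i, Ideal.Quotient.mk (maximalIdeal S ^ N) (algebraMap Λ S (u i)) ∈ D) ∧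
      (∀ e ∈ E₀, Ideal.Quotient.mk (maximalIdeal S ^ N) (algebraMap Λ S e) ∈ D) ∧
      Module.Flat D (S ⧸ maximalIdeal S ^ N) ∧
      (maximalIdeal D).map (algebraMap D (S ⧸ maximalIdeal S ^ N)) =
        RingHom.ker (rhoBar (k := k) S N hN) ∧
      (∀ z ∈ D, rhoBar (k := k) S N hN z ∈ F) ∧
      (∀ f ∈ F, ∃ z ∈ D, rhoBar (k := k) S N hN z = f) := by
  classical
  obtain ⟨n, rfl⟩ : ∃ n, N = n + 1 := ⟨N - 1, by omega⟩
  have hρs : Function.Surjective (rhoBar (k := k) S (n + 1) hN) := rhoBar_surjective S (n + 1) hN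
  have hker := ker_rhoBar (k := k) S (n + 1) hN
  have hkerN := ker_rhoBar_pow (k := k) S (n + 1) hN
  haveI : Nontrivial (S ⧸ maximalIdeal S ^ (n + 1)) := hρs.nontrivial
  haveI : CharP (S ⧸ maximalIdeal S ^ (n + 1)) p :=
    charP_of_injective_algebraMap (algebraMap k (S ⧸ maximalIdeal S ^ (n + 1))).injective p
  haveI : CharP (ResidueField S) p :=
    charP_of_injective_algebraMap (algebraMap k (ResidueField S)).injective p
  letI : Algebra (ZMod p) k := ZMod.algebra k p
  letI : Algebra (ZMod p) (S ⧸ maximalIdeal S ^ (n + 1)) := ZMod.algebra _ p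
  letI : Algebra (ZMod p) (ResidueField S) := ZMod.algebra (ResidueField S) p
  haveI : IsScalarTower (ZMod p) k (ResidueField S) :=
    IsScalarTower.of_algebraMap_eq' (Subsingleton.elim _ _)
  haveI : IsScalarTower (ZMod p) k (S ⧸ maximalIdeal S ^ (n + 1)) :=
    IsScalarTower.of_algebraMap_eq' (Subsingleton.elim _ _)
  haveI : Algebra.FormallySmooth (ZMod p) k := H47.formallySmooth_of_perfectField_field
  haveI : Algebra.FormallySmooth (ZMod p) (ResidueField S) :=
    H47.formallySmooth_of_perfectField_field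
  haveI hH := finite_H1 p S hS
  have hfin : (LinearMap.ker
      (KaehlerDifferential.mapBaseChange (ZMod p) k (ResidueField S))).FG := by
    have hex := Algebra.H1Cotangent.exact_δ_mapBaseChange (ZMod p) k (ResidueField S)
    rw [hex.linearMap_ker_eq, LinearMap.range_eq_map]
    exact (Module.Finite.fg_top).map _
  let lam : Fin d → S ⧸ maximalIdeal S ^ (n + 1) :=
    fun i => Ideal.Quotient.mk _ (algebraMap Λ S (u i))
  have hlam : Ideal.span (Set.range lam) = RingHom.ker (rhoBar (k := k) S (n + 1) hN) := by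
    have h3 : (Ideal.span (Set.range fun i => algebraMap Λ S (u i))).map
        (Ideal.Quotient.mk (maximalIdeal S ^ (n + 1))) = Ideal.span (Set.range lam) := by
      rw [Ideal.map_span, ← Set.range_comp]
      rfl
    rw [hu] at h3
    rw [hker]
    exact h3.symm
  obtain ⟨σ, hρσ, F₀, hF₀, hk₀⟩ :=
    claim_all hfin n (S ⧸ maximalIdeal S ^ (n + 1)) (rhoBar S (n + 1) hN) hρs hkerN d lam hlam
  letI : Algebra (ResidueField S) (S ⧸ maximalIdeal S ^ (n + 1)) :=
    (σ : ResidueField S →+* S ⧸ maximalIdeal S ^ (n + 1)).toAlgebra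
  have hσ : ∀ c, algebraMap (ResidueField S) (S ⧸ maximalIdeal S ^ (n + 1)) c = σ c :=
    fun _ => rfl
  have hsurj : Function.Surjective (PsiK σ lam) :=
    PsiK_surjective σ lam ((rhoBar (k := k) S (n + 1) hN) : _ →+* ResidueField S) hρσ hlam.symm
      (n + 1) hkerN
  have hlamm : ∀ i, lam i ∈ RingHom.ker (rhoBar (k := k) S (n + 1) hN) := fun i => by
    rw [← hlam]; exact Ideal.subset_span ⟨i, rfl⟩
  have hlam0 : ∀ i, rhoBar (k := k) S (n + 1) hN (lam i) = 0 := fun i => hlamm i
  haveI : Module.Finite (ResidueField S) (S ⧸ maximalIdeal S ^ (n + 1)) :=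
    finite_of_nilpotent σ lam hσ (RingHom.ker (rhoBar (k := k) S (n + 1) hN)) hlamm (n + 1)
      hkerN hsurj
  let b := Module.finBasis (ResidueField S) (S ⧸ maximalIdeal S ^ (n + 1))
  obtain ⟨F₁, hF₁G, hF₀F₁, hE, hb, h1, h2⟩ := exists_field σ lam b F₀ hF₀ hsurj
    (E₀.image fun e => Ideal.Quotient.mk (maximalIdeal S ^ (n + 1)) (algebraMap Λ S e))
  obtain ⟨T₁, hT₁⟩ := hF₁G
  -- fractions
  have hfrac : ∀ f : T₁, ∃ (a : Λ) (s : 𝔮.primeCompl),
      (Ideal.Quotient.mk (maximalIdeal S ^ (n + 1)) (algebraMap Λ S a)) =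
        σ (f : ResidueField S) * Ideal.Quotient.mk _ (algebraMap Λ S (s : Λ)) := by
    intro f
    obtain ⟨z, hz⟩ := Ideal.Quotient.mk_surjective (σ (f : ResidueField S))
    obtain ⟨a, s, rfl⟩ := IsLocalization.exists_mk'_eq 𝔮.primeCompl z
    refine ⟨a, s, ?_⟩
    rw [← hz, ← map_mul, IsLocalization.mk'_spec]
  choose a s has using hfrac
  set q : ℕ := p ^ (n + 1) with hq
  have hp1 : 1 < p := (Fact.out : p.Prime).one_lt
  have hqn : n + 1 ≤ q := (Nat.lt_pow_self hp1).le
  have hq0 : q - 1 + 1 = q := by omega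
  have hfrob : ∀ z : S ⧸ maximalIdeal S ^ (n + 1),
      z ^ q = σ (rhoBar (k := k) S (n + 1) hN z ^ q) := by
    intro z
    have h1 : z - σ (rhoBar (k := k) S (n + 1) hN z) ∈
        RingHom.ker (rhoBar (k := k) S (n + 1) hN) := by
      rw [RingHom.mem_ker, map_sub, hρσ, sub_self]
    have h2 : (z - σ (rhoBar (k := k) S (n + 1) hN z)) ^ q = 0 := by
      have h3 := Ideal.pow_mem_pow h1 q
      have hle := Ideal.pow_le_pow_right (I := RingHom.ker (rhoBar (k := k) S (n + 1) hN)) hqn
      rw [hkerN] at hle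
      exact (Ideal.mem_bot).mp (hle h3)
    rw [hq, sub_pow_char_pow, sub_eq_zero] at h2
    rw [map_pow, hq]
    exact h2
  -- the elements
  let sbar : T₁ → ResidueField S := fun f => residue S (algebraMap Λ S (s f : Λ))
  have hsbar : ∀ f, sbar f ≠ 0 := by
    intro f h0
    have hu' : IsUnit (algebraMap Λ S (s f : Λ)) := IsLocalization.map_units S (s f)
    exact (residue_ne_zero_iff_isUnit _).mpr hu' h0
  have hares : ∀ f : T₁, residue S (algebraMap Λ S (a f)) = (f : ResidueField S) * sbar f := by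
    intro f
    have := congrArg (rhoBar (k := k) S (n + 1) hN) (has f)
    rw [map_mul, rhoBar_mk, hρσ, rhoBar_mk] at this
    exact this
  let y' : T₁ ⊕ T₁ → Λ := Sum.elim (fun f => a f * (s f : Λ) ^ (q - 1)) (fun f => (s f : Λ) ^ q)
  have hy'inl : ∀ f, residue S (algebraMap Λ S (y' (Sum.inl f))) =
      (f : ResidueField S) * sbar f ^ q := by
    intro f
    change residue S (algebraMap Λ S (a f * (s f : Λ) ^ (q - 1))) = _
    rw [map_mul, map_mul, map_pow, map_pow, hares, mul_assoc, ← pow_succ', hq0]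
  have hy'inr : ∀ f, residue S (algebraMap Λ S (y' (Sum.inr f))) = sbar f ^ q := by
    intro f
    change residue S (algebraMap Λ S ((s f : Λ) ^ q)) = _
    rw [map_pow, map_pow]
  let e := Fintype.equivFin (T₁ ⊕ T₁)
  let y : Fin (Fintype.card (T₁ ⊕ T₁)) → Λ := fun l => y' (e.symm l)
  set F : IntermediateField k (ResidueField S) :=
    IntermediateField.adjoin k (Set.range fun l => residue S (algebraMap Λ S (y l))) with hFdef
  have hyF : ∀ x : T₁ ⊕ T₁, residue S (algebraMap Λ S (y' x)) ∈ F := by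
    intro x
    apply IntermediateField.subset_adjoin
    exact ⟨e x, by simp [y]⟩
  have hsqF : ∀ f, sbar f ^ q ∈ F := fun f => hy'inr f ▸ hyF (Sum.inr f)
  have hfF : ∀ f : T₁, (f : ResidueField S) ∈ F := by
    intro f
    have h3 := hyF (Sum.inl f)
    rw [hy'inl] at h3
    have h4 := F.mul_mem h3 (F.inv_mem (hsqF f))
    rwa [mul_assoc, mul_inv_cancel₀ (pow_ne_zero q (hsbar f)), mul_one] at h4
  have hF₁F : F₁ ≤ F := by
    rw [← hT₁, IntermediateField.adjoin_le_iff]
    intro f hf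
    exact hfF ⟨f, hf⟩
  have hFG : F.FG := IntermediateField.fg_adjoin_of_finite (Set.finite_range _)
  have hk : ∀ c, algebraMap k (S ⧸ maximalIdeal S ^ (n + 1)) c ∈ (Psi σ lam F).range :=
    fun c => range_Psi_mono σ lam (hF₀F₁.trans hF₁F) (hk₀ c)
  obtain ⟨hloc, hart, hflat, heft, hmap⟩ :=
    structure_thm σ lam F hk hσ b hFG (rhoBar S (n + 1) hN) hρσ hlam (n + 1) hkerN
      (fun i => range_Psi_mono σ lam hF₁F (hb i)) (fun l => hF₁F (h1 l))
      (fun i j l => hF₁F (h2 i j l))
  have hσF : ∀ c : ResidueField S, c ∈ F → σ c ∈ (Psi σ lam F).range :=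
    fun c hc => ⟨C ⟨c, hc⟩, Psi_C σ lam F ⟨c, hc⟩⟩
  have hsq : ∀ f, (Ideal.Quotient.mk (maximalIdeal S ^ (n + 1)) (algebraMap Λ S (s f : Λ))) ^ q ∈
      (Psi σ lam F).range := by
    intro f
    rw [hfrob, rhoBar_mk]
    exact hσF _ (hsqF f)
  refine ⟨F, _, y, subalg σ lam F hk, hloc, rfl, ?_, ?_, ?_, hflat, hmap, ?_, ?_⟩
  · intro l
    rw [mem_subalg]
    change Ideal.Quotient.mk _ (algebraMap Λ S (y' (e.symm l))) ∈ _
    rcases e.symm l with f | f
    · change Ideal.Quotient.mk _ (algebraMap Λ S (a f * (s f : Λ) ^ (q - 1))) ∈ _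
      rw [map_mul, map_mul, has f, map_pow, map_pow, mul_assoc, ← pow_succ', hq0]
      exact mul_mem (hσF _ (hfF f)) (hsq f)
    · change Ideal.Quotient.mk _ (algebraMap Λ S ((s f : Λ) ^ q)) ∈ _
      rw [map_pow, map_pow]
      exact hsq f
  · intro i
    rw [mem_subalg]
    exact ⟨X i, Psi_X σ lam F i⟩
  · intro e' he'
    rw [mem_subalg]
    exact range_Psi_mono σ lam hF₁F (hE _ (Finset.mem_image_of_mem _ he'))
  · intro z hz
    exact rho_mem σ lam F ((rhoBar (k := k) S (n + 1) hN) : _ →+* ResidueField S) hρσ hlam0 z hz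
  · intro f hf
    exact ⟨σ f, hσF f hf, hρσ f⟩

end Stage1

end Groth.Agent.H91.Pop
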