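import Mathlib
import Groth.Agent.Lead.RegularLocal2

/-!
# Elements of a regular local ring that are independent in the cotangent space form a regular
sequence with regular quotient
-/

set_option autoImplicit false
universe u

open IsLocalRing RingTheory.Sequence

namespace Groth.Agent.H91.Pop

section Indep

variable {R : Type u} [CommRing R] [IsLocalRing R]

theorem sum_smul_toCotangent {h : ℕ} (a : Fin h → R) (ha : ∀ i, a i ∈ maximalIdeal R)
    (r : Fin h → R) :
    ∑ i, residue R (r i) • (maximalIdeal R).toCotangent ⟨a i, ha i⟩ =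
      (maximalIdeal R).toCotangent ⟨∑ i, r i * a i, Ideal.sum_mem _ fun i _ =>
        Ideal.mul_mem_left _ _ (ha i)⟩ := by
  have h1 : ∀ i, residue R (r i) • (maximalIdeal R).toCotangent ⟨a i, ha i⟩ =
      (maximalIdeal R).toCotangent (r i • ⟨a i, ha i⟩) := by
    intro i
    rw [map_smul]
    exact algebraMap_smul (ResidueField R) (r i) ((maximalIdeal R).toCotangent ⟨a i, ha i⟩)
  simp_rw [h1]
  rw [← map_sum]
  congr 1
  ext
  simp

/-- elementwise independence modulo `𝔪²` is linear independence in the cotangent space -/
theorem linearIndependent_toCotangent_iff {h : ℕ} (a : Fin h → R)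
    (ha : ∀ i, a i ∈ maximalIdeal R) :
    LinearIndependent (ResidueField R)
      (fun i => (maximalIdeal R).toCotangent ⟨a i, ha i⟩) ↔
    ∀ r : Fin h → R, ∑ i, r i * a i ∈ maximalIdeal R ^ 2 → ∀ i, r i ∈ maximalIdeal R := by
  rw [Fintype.linearIndependent_iff]
  constructor
  · intro hli r hr i
    have h1 := hli (fun i => residue R (r i)) (by
      rw [sum_smul_toCotangent a ha r, Ideal.toCotangent_eq_zero]
      exact hr) i
    exact (residue_eq_zero_iff _).mp h1
  · intro hli g hg i
    choose r hr using fun i => residue_surjective (g i)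
    have h1 : ∑ i, r i * a i ∈ maximalIdeal R ^ 2 := by
      have h2 := sum_smul_toCotangent a ha r
      simp_rw [hr] at h2
      rw [hg] at h2
      exact (Ideal.toCotangent_eq_zero _ _).mp h2.symm
    rw [← hr i]
    exact (residue_eq_zero_iff _).mpr (hli r h1 i)

end Indep

section Extend

variable (R : Type u) [CommRing R] [IsLocalRing R] [IsNoetherianRing R]

/-- an independent family in the cotangent space extends to a minimal system of generators of the
maximal ideal -/
theorem exists_extend {h : ℕ} (a : Fin h → R) (ha : ∀ i, a i ∈ maximalIdeal R)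
    (hli : ∀ r : Fin h → R, ∑ i, r i * a i ∈ maximalIdeal R ^ 2 → ∀ i, r i ∈ maximalIdeal R) :
    ∃ (e : ℕ) (y : Fin e → R), h + e = (maximalIdeal R).spanFinrank ∧
      Ideal.span (Set.range (Fin.append a y)) = maximalIdeal R := by
  classical
  have hv := (linearIndependent_toCotangent_iff a ha).mpr hli
  set v : Fin h → CotangentSpace R := fun i => (maximalIdeal R).toCotangent ⟨a i, ha i⟩ with hvdef
  let W : Submodule (ResidueField R) (CotangentSpace R) := Submodule.span _ (Set.range v)
  obtain ⟨W', hW'⟩ := Submodule.exists_isCompl W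
  have hWrank : Module.finrank (ResidueField R) W = h := by
    rw [finrank_span_eq_card hv, Fintype.card_fin]
  have hsum := Submodule.finrank_add_eq_of_isCompl hW'
  let e := Module.finrank (ResidueField R) W'
  let bW' := Module.finBasis (ResidueField R) W'
  let w : Fin e → CotangentSpace R := fun j => (bW' j : CotangentSpace R)
  have hwspan : Submodule.span (ResidueField R) (Set.range w) = W' := by
    have h1 := bW'.span_eq
    have h2 := congrArg (Submodule.map W'.subtype) h1
    rw [Submodule.map_span, Submodule.map_top, Submodule.range_subtype, ← Set.range_comp] at h2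
    exact h2
  choose y' hy' using fun j => (maximalIdeal R).toCotangent_surjective (w j)
  refine ⟨e, fun j => (y' j : R), ?_, ?_⟩
  · rw [IsLocalRing.spanFinrank_maximalIdeal_eq_finrank_cotangentSpace, ← hsum, hWrank]
  · let x' : Fin (h + e) → ↥(maximalIdeal R) :=
      Fin.append (fun i => ⟨a i, ha i⟩) y'
    have hx' : ∀ i, ((x' i : ↥(maximalIdeal R)) : R) = Fin.append a (fun j => (y' j : R)) i := by
      intro i
      refine Fin.addCases (fun i => ?_) (fun j => ?_) i
      · simp [x']
      · simp [x']
    have himg : (maximalIdeal R).toCotangent '' (Set.range x') = Set.range v ∪ Set.range w := by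
      ext z
      constructor
      · rintro ⟨_, ⟨i, rfl⟩, rfl⟩
        refine Fin.addCases (fun i => ?_) (fun j => ?_) i
        · left
          refine ⟨i, ?_⟩
          simp [x', hvdef]
        · right
          refine ⟨j, ?_⟩
          simp only [x', Fin.append_right]
          exact (hy' j).symm
      · rintro (⟨i, rfl⟩ | ⟨j, rfl⟩)
        · refine ⟨x' (Fin.castAdd e i), ⟨_, rfl⟩, ?_⟩
          simp [x', hvdef]
        · refine ⟨x' (Fin.natAdd h j), ⟨_, rfl⟩, ?_⟩
          simp only [x', Fin.append_right]
          exact hy' j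
    have hspan : Submodule.span R (Set.range x') = ⊤ := by
      rw [← IsLocalRing.CotangentSpace.span_image_eq_top_iff, himg, Submodule.span_union,
        hwspan]
      exact hW'.sup_eq_top
    have h1 : Submodule.map (maximalIdeal R).subtype (Submodule.span R (Set.range x')) =
        maximalIdeal R := by
      rw [hspan, Submodule.map_top, Submodule.range_subtype]
    rw [Submodule.map_span, ← Set.range_comp] at h1
    have h2 : (⇑(maximalIdeal R).subtype ∘ x') = Fin.append a (fun j => (y' j : R)) :=
      funext hx'
    rw [h2] at h1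
    exact h1

end Extend

section Regular

variable (R : Type u) [CommRing R] [IsRegularLocalRing R]

theorem ofList_ofFn {n : ℕ} (x : Fin n → R) : Ideal.ofList (List.ofFn x) = Ideal.span (Set.range x) := by
  unfold Ideal.ofList
  congr 1
  ext r
  simp only [Set.mem_ofPred_eq, List.mem_ofFn', Set.mem_range]

/-- independent elements of the cotangent space of a regular local ring form a regular sequence
and the quotient is regular -/
theorem isWeaklyRegular_and_quotient_regular {h : ℕ} (a : Fin h → R)
    (ha : ∀ i, a i ∈ maximalIdeal R)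
    (hli : ∀ r : Fin h → R, ∑ i, r i * a i ∈ maximalIdeal R ^ 2 → ∀ i, r i ∈ maximalIdeal R) :
    IsWeaklyRegular R (List.ofFn a) ∧ IsRegularLocalRing (R ⧸ Ideal.span (Set.range a)) := by
  classical
  obtain ⟨e, y, hcard, hspan⟩ := exists_extend R a ha hli
  have hd : ringKrullDim R = ((h + e : ℕ) : WithBot ℕ∞) := by
    rw [Groth.Agent.Lead.RLR.ringKrullDim_eq_spanFinrank R, hcard]
  have hreg := Groth.Agent.Lead.RLR.isRegular_ofFn R (h + e) hd (Fin.append a y) hspan
  rw [List.ofFn_fin_append] at hreg
  refine ⟨((isWeaklyRegular_append_iff R _ _).mp hreg.toIsWeaklyRegular).1, ?_⟩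
  set I : Ideal R := Ideal.span (Set.range a) with hI
  have hIle : I ≤ maximalIdeal R := by
    rw [hI, Ideal.span_le]
    rintro _ ⟨i, rfl⟩
    exact ha i
  have hne : I ≠ ⊤ := fun htop => (maximalIdeal.isMaximal R).ne_top (top_le_iff.mp (htop ▸ hIle))
  haveI : IsLocalRing (R ⧸ I) := Groth.Agent.Lead.RLR.isLocalRing_quotient R I hne
  apply IsRegularLocalRing.of_spanFinrank_maximalIdeal_le
  -- generators of the maximal ideal of the quotient
  have hm' : maximalIdeal (R ⧸ I) = Ideal.span (Set.range fun j => Ideal.Quotient.mk I (y j)) := by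
    rw [← map_maximalIdeal_of_surjective (Ideal.Quotient.mk I) Ideal.Quotient.mk_surjective,
      ← hspan, Ideal.map_span]
    apply le_antisymm
    · rw [Ideal.span_le]
      rintro _ ⟨_, ⟨i, rfl⟩, rfl⟩
      refine Fin.addCases (fun i => ?_) (fun j => ?_) i
      · rw [Fin.append_left]
        have : Ideal.Quotient.mk I (a i) = 0 :=
          Ideal.Quotient.eq_zero_iff_mem.mpr (Ideal.subset_span ⟨i, rfl⟩)
        rw [this]
        exact Ideal.zero_mem _
      · rw [Fin.append_right]
        exact Ideal.subset_span ⟨j, rfl⟩
    · rw [Ideal.span_le]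
      rintro _ ⟨j, rfl⟩
      refine Ideal.subset_span ⟨_, ⟨Fin.natAdd h j, rfl⟩, ?_⟩
      rw [Fin.append_right]
  have hsf' : (maximalIdeal (R ⧸ I)).spanFinrank ≤ e := by
    rw [hm']
    refine (Submodule.spanFinrank_span_le_ncard_of_finite (Set.finite_range _)).trans ?_
    have h1 : (Set.range fun j : Fin e => Ideal.Quotient.mk I (y j)).ncard ≤
        (Set.univ : Set (Fin e)).ncard := by
      rw [← Set.image_univ]
      exact Set.ncard_image_le Set.finite_univ
    refine h1.trans ?_
    rw [Set.ncard_univ, Nat.card_fin]
  have hIh : I.spanFinrank ≤ h := by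
    rw [hI]
    refine (Submodule.spanFinrank_span_le_ncard_of_finite (Set.finite_range _)).trans ?_
    have h1 : (Set.range a).ncard ≤ (Set.univ : Set (Fin h)).ncard := by
      rw [← Set.image_univ]
      exact Set.ncard_image_le Set.finite_univ
    refine h1.trans ?_
    rw [Set.ncard_univ, Nat.card_fin]
  obtain ⟨d', hd', -⟩ := Groth.Agent.Lead.RLR.exists_ringKrullDim_eq (R ⧸ I)
  have hdim : ringKrullDim R ≤ ringKrullDim (R ⧸ I) + (I.spanFinrank : WithBot ℕ∞) := by
    apply ringKrullDim_le_ringKrullDim_quotient_add_spanFinrank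
    rw [IsLocalRing.ringJacobson_eq_maximalIdeal]
    exact hIle
  rw [hd, hd'] at hdim
  have hdim' : h + e ≤ d' + I.spanFinrank := by exact_mod_cast hdim
  rw [hd']
  have : (maximalIdeal (R ⧸ I)).spanFinrank ≤ d' := by omega
  exact_mod_cast this

end Regular

end Groth.Agent.H91.Pop
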