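import Mathlib
import Groth.Agent.H91.PopE

/-!
# Linear algebra for stage 2: differentials of a finitely generated field, and completing an
independent family of the cotangent space by members of a generating family
-/

set_option autoImplicit false
universe u

open IsLocalRing

namespace Groth.Agent.H91.Pop

section Diff

variable {k K : Type u} [Field k] [Field K] [Algebra k K]

/-- the differentials of the generators span the differentials of a generated field -/
theorem span_D_adjoin {ι : Type*} (g : ι → K) (F : IntermediateField k K)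
    (hF : F = IntermediateField.adjoin k (Set.range g)) (hg : ∀ l, g l ∈ F) :
    Submodule.span F (Set.range fun l => KaehlerDifferential.D k F ⟨g l, hg l⟩) = ⊤ := by
  set W : Submodule F Ω[F⁄k] :=
    Submodule.span F (Set.range fun l => KaehlerDifferential.D k F ⟨g l, hg l⟩) with hW
  have key : ∀ x (hx : x ∈ IntermediateField.adjoin k (Set.range g)),
      KaehlerDifferential.D k F ⟨x, hF ▸ hx⟩ ∈ W := by
    intro x hx
    induction hx using IntermediateField.adjoin_induction with
    | mem x hx =>
      obtain ⟨l, rfl⟩ := hx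
      exact Submodule.subset_span ⟨l, rfl⟩
    | algebraMap c =>
      have : (⟨algebraMap k K c, hF ▸ IntermediateField.algebraMap_mem _ c⟩ : F) =
          algebraMap k F c := rfl
      rw [this, Derivation.map_algebraMap]
      exact W.zero_mem
    | add x y hx hy h1 h2 =>
      have : (⟨x + y, hF ▸ add_mem hx hy⟩ : F) = ⟨x, hF ▸ hx⟩ + ⟨y, hF ▸ hy⟩ := rfl
      rw [this, map_add]
      exact W.add_mem h1 h2
    | inv x hx h1 =>
      have : (⟨x⁻¹, hF ▸ inv_mem hx⟩ : F) = (⟨x, hF ▸ hx⟩ : F)⁻¹ := rfl
      rw [this, Derivation.leibniz_inv]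
      exact W.smul_mem _ h1
    | mul x y hx hy h1 h2 =>
      have : (⟨x * y, hF ▸ mul_mem hx hy⟩ : F) = ⟨x, hF ▸ hx⟩ * ⟨y, hF ▸ hy⟩ := rfl
      rw [this, Derivation.leibniz]
      exact W.add_mem (W.smul_mem _ h2) (W.smul_mem _ h1)
  rw [eq_top_iff, ← KaehlerDifferential.span_range_derivation k F, Submodule.span_le]
  rintro _ ⟨x, rfl⟩
  exact key x.1 (hF ▸ x.2)

/-- select a basis among the differentials of the generators -/
theorem exists_sel {m₀ : ℕ} (g : Fin m₀ → K) (F : IntermediateField k K)
    (hF : F = IntermediateField.adjoin k (Set.range g)) (hg : ∀ l, g l ∈ F) :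
    ∃ (t : ℕ) (sel : Fin t → Fin m₀),
      LinearIndependent F (fun i => KaehlerDifferential.D k F ⟨g (sel i), hg (sel i)⟩) ∧
      Submodule.span F (Set.range fun i =>
        KaehlerDifferential.D k F ⟨g (sel i), hg (sel i)⟩) = ⊤ := by
  classical
  haveI : FiniteDimensional F Ω[F⁄k] := by
    have h1 := span_D_adjoin g F hF hg
    exact Module.Finite.of_fg_top (by rw [← h1]; exact Submodule.fg_span (Set.finite_range _))
  obtain ⟨f, hf, hspan, hli⟩ := Submodule.exists_fun_fin_finrank_span_eq F
    (Set.range fun l => KaehlerDifferential.D k F ⟨g l, hg l⟩)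
  choose sel hsel using hf
  refine ⟨_, sel, ?_, ?_⟩
  · have : (fun i => KaehlerDifferential.D k F ⟨g (sel i), hg (sel i)⟩) = f := funext hsel
    rw [this]
    exact hli
  · have : (fun i => KaehlerDifferential.D k F ⟨g (sel i), hg (sel i)⟩) = f := funext hsel
    rw [this, hspan]
    exact span_D_adjoin g F hF hg

end Diff

section Steinitz

variable (R : Type u) [CommRing R] [IsLocalRing R] [IsNoetherianRing R]

/-- complete an independent family of the cotangent space by members of a generating family -/
theorem exists_complement {e d : ℕ} (v : Fin e → R) (hv : ∀ i, v i ∈ maximalIdeal R)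
    (hvli : ∀ r : Fin e → R, ∑ i, r i * v i ∈ maximalIdeal R ^ 2 → ∀ i, r i ∈ maximalIdeal R)
    (w : Fin d → R) (hw : Ideal.span (Set.range w) = maximalIdeal R) :
    ∃ (h : ℕ) (jj : Fin h → Fin d), e + h = (maximalIdeal R).spanFinrank ∧
      ∀ r : Fin (e + h) → R, ∑ i, r i * Fin.append v (fun i => w (jj i)) i ∈ maximalIdeal R ^ 2 →
        ∀ i, r i ∈ maximalIdeal R := by
  classical
  have hwm : ∀ j, w j ∈ maximalIdeal R := fun j => hw ▸ Ideal.subset_span ⟨j, rfl⟩
  set vb : Fin e → CotangentSpace R := fun i => (maximalIdeal R).toCotangent ⟨v i, hv i⟩ with hvb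
  set wb : Fin d → CotangentSpace R := fun j => (maximalIdeal R).toCotangent ⟨w j, hwm j⟩ with hwb
  have hvbli : LinearIndependent (ResidueField R) vb := (linearIndependent_toCotangent_iff v hv).mpr hvli
  have hwspan : Submodule.span (ResidueField R) (Set.range wb) = ⊤ := by
    let w' : Fin d → ↥(maximalIdeal R) := fun j => ⟨w j, hwm j⟩
    have hspan : Submodule.span R (Set.range w') = ⊤ := by
      apply Submodule.map_injective_of_injective (maximalIdeal R).subtype_injective
      rw [Submodule.map_span, ← Set.range_comp, Submodule.map_top, Submodule.range_subtype]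
      exact hw
    have h1 := IsLocalRing.CotangentSpace.span_image_eq_top_iff.mpr hspan
    rw [← Set.range_comp] at h1
    exact h1
  let W₀ : Submodule (ResidueField R) (CotangentSpace R) := Submodule.span _ (Set.range vb)
  have hW₀rank : Module.finrank (ResidueField R) W₀ = e := by
    rw [finrank_span_eq_card hvbli, Fintype.card_fin]
  let wq : Fin d → (CotangentSpace R ⧸ W₀) := fun j => W₀.mkQ (wb j)
  have hwqspan : Submodule.span (ResidueField R) (Set.range wq) = ⊤ := by
    have h1 := congrArg (Submodule.map W₀.mkQ) hwspan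
    rw [Submodule.map_span, ← Set.range_comp, Submodule.map_top, Submodule.range_mkQ] at h1
    exact h1
  have key := Submodule.exists_fun_fin_finrank_span_eq (ResidueField R) (Set.range wq)
  have hrank : Module.finrank (ResidueField R) (Submodule.span (ResidueField R) (Set.range wq)) +
      e = (maximalIdeal R).spanFinrank := by
    rw [hwqspan, finrank_top, IsLocalRing.spanFinrank_maximalIdeal_eq_finrank_cotangentSpace,
      ← hW₀rank]
    exact Submodule.finrank_quotient_add_finrank W₀
  generalize Module.finrank (ResidueField R)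
    (Submodule.span (ResidueField R) (Set.range wq)) = h at key hrank
  obtain ⟨f, hf, -, hfli⟩ := key
  choose jj hjj using hf
  refine ⟨h, jj, by rw [add_comm]; exact hrank, ?_⟩
  have hmem : ∀ i, Fin.append v (fun i => w (jj i)) i ∈ maximalIdeal R := by
    intro i
    refine Fin.addCases (fun i => ?_) (fun i => ?_) i
    · rw [Fin.append_left]; exact hv i
    · rw [Fin.append_right]; exact hwm _
  rw [← linearIndependent_toCotangent_iff _ hmem]
  have hfam : (fun i => (maximalIdeal R).toCotangent ⟨Fin.append v (fun i => w (jj i)) i, hmem i⟩) =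
      Fin.append vb (fun i => wb (jj i)) := by
    funext i
    refine Fin.addCases (fun i => ?_) (fun i => ?_) i
    · simp only [Fin.append_left, hvb]
    · simp only [Fin.append_right, hwb]
  rw [hfam, Fintype.linearIndependent_iff]
  intro g hg
  rw [Fin.sum_univ_add] at hg
  simp only [Fin.append_left, Fin.append_right] at hg
  have h1 := congrArg W₀.mkQ hg
  rw [map_add, map_sum, map_sum, map_zero] at h1
  have h2 : ∑ i : Fin e, W₀.mkQ (g (Fin.castAdd h i) • vb i) = 0 := by
    refine Finset.sum_eq_zero fun i _ => ?_
    rw [map_smul]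
    have : W₀.mkQ (vb i) = 0 := by
      rw [Submodule.mkQ_apply, Submodule.Quotient.mk_eq_zero]
      exact Submodule.subset_span ⟨i, rfl⟩
    rw [this, smul_zero]
  rw [h2, zero_add] at h1
  have h3 : ∑ i : Fin h, g (Fin.natAdd e i) • f i = 0 := by
    rw [← h1]
    refine Finset.sum_congr rfl fun i _ => ?_
    rw [map_smul, ← hjj i]
  have h4 := Fintype.linearIndependent_iff.mp hfli _ h3
  have h5 : ∑ i : Fin e, g (Fin.castAdd h i) • vb i = 0 := by
    rw [← hg]
    have : ∑ i : Fin h, g (Fin.natAdd e i) • wb (jj i) = 0 :=
      Finset.sum_eq_zero fun i _ => by rw [h4 i, zero_smul]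
    rw [this, add_zero]
  have h6 := Fintype.linearIndependent_iff.mp hvbli _ h5
  intro i
  refine Fin.addCases (fun i => ?_) (fun i => ?_) i
  · exact h6 i
  · exact h4 i

end Steinitz

end Groth.Agent.H91.Pop
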