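import Mathlib

/-!
# Derivations on localizations of polynomial rings at primes closed under partial derivatives
-/

set_option autoImplicit false
universe u

open MvPolynomial

namespace Groth.Agent.H91.Pop

section Formula

variable {R : Type*} [CommRing R] {σ : Type*} [Fintype σ] {M : Type*} [AddCommGroup M]
  [Module R M] [Module (MvPolynomial σ R) M] [IsScalarTower R (MvPolynomial σ R) M]

theorem mkDerivation_eq_sum (f : σ → M) (p : MvPolynomial σ R) :
    mkDerivation R f p = ∑ i, pderiv i p • f i := by
  classical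
  induction p using MvPolynomial.induction_on with
  | C a =>
    rw [derivation_C]
    simp
  | add p q hp hq =>
    rw [map_add, hp, hq, ← Finset.sum_add_distrib]
    refine Finset.sum_congr rfl fun i _ => ?_
    rw [map_add, add_smul]
  | mul_X p j hp =>
    rw [Derivation.leibniz, hp, mkDerivation_X]
    have h1 : ∀ i, pderiv i (p * X j) • f i =
        (X j : MvPolynomial σ R) • (pderiv i p • f i) +
          (p * pderiv i (X j : MvPolynomial σ R)) • f i := by
      intro i
      rw [pderiv_mul, add_smul, mul_comm (pderiv i p) (X j), mul_smul]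
    simp_rw [h1]
    rw [Finset.sum_add_distrib, ← Finset.smul_sum, add_comm]
    congr 1
    rw [Finset.sum_eq_single j]
    · rw [pderiv_X_self, mul_one]
    · intro i _ hij
      rw [pderiv_X_of_ne (Ne.symm hij), mul_zero, zero_smul]
    · intro h
      exact absurd (Finset.mem_univ j) h

theorem derivation_eq_sum (D : Derivation R (MvPolynomial σ R) M) (p : MvPolynomial σ R) :
    D p = ∑ i, pderiv i p • D (X i) := by
  have h1 : D = mkDerivation R (fun i => D (X i)) :=
    derivation_ext fun i => (mkDerivation_X R (fun i => D (X i)) i).symm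
  conv_lhs => rw [h1]
  exact mkDerivation_eq_sum _ p

end Formula

section Loc

variable {k : Type u} [Field k] {m : ℕ} (𝔭 : Ideal (MvPolynomial (Fin m) k)) [𝔭.IsPrime]

/-- if `𝔭` is closed under partial derivatives, every `k`-derivation of the local ring at `𝔭`
into a module killed by the maximal ideal vanishes on the maximal ideal -/
theorem derivation_eq_zero_of_pderiv_mem (hp : ∀ G ∈ 𝔭, ∀ j, pderiv j G ∈ 𝔭)
    (N : Type*) [AddCommGroup N] [Module (Localization.AtPrime 𝔭) N] [Module k N]
    [IsScalarTower k (Localization.AtPrime 𝔭) N]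
    (hkill : ∀ x ∈ IsLocalRing.maximalIdeal (Localization.AtPrime 𝔭), ∀ n : N, x • n = 0)
    (δ : Derivation k (Localization.AtPrime 𝔭) N) (x : Localization.AtPrime 𝔭)
    (hx : x ∈ IsLocalRing.maximalIdeal (Localization.AtPrime 𝔭)) : δ x = 0 := by
  letI : Module (MvPolynomial (Fin m) k) N :=
    Module.compHom N (algebraMap (MvPolynomial (Fin m) k) (Localization.AtPrime 𝔭))
  haveI : IsScalarTower (MvPolynomial (Fin m) k) (Localization.AtPrime 𝔭) N :=
    ⟨fun a b n => by
      change (a • b) • n = algebraMap _ (Localization.AtPrime 𝔭) a • (b • n)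
      rw [Algebra.smul_def, mul_smul]⟩
  haveI : IsScalarTower k (MvPolynomial (Fin m) k) N :=
    ⟨fun a b n => by
      change algebraMap _ (Localization.AtPrime 𝔭) (a • b) • n =
        a • (algebraMap _ (Localization.AtPrime 𝔭) b • n)
      rw [Algebra.smul_def, map_mul, ← IsScalarTower.algebraMap_apply, mul_smul,
        algebraMap_smul]⟩
  let δ₀ : Derivation k (MvPolynomial (Fin m) k) N := δ.compAlgebraMap (MvPolynomial (Fin m) k)
  have hδ₀ : ∀ G ∈ 𝔭, δ₀ G = 0 := by
    intro G hG
    rw [derivation_eq_sum δ₀ G]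
    refine Finset.sum_eq_zero fun j _ => ?_
    change algebraMap _ (Localization.AtPrime 𝔭) (pderiv j G) • δ₀ (X j) = 0
    apply hkill
    exact (IsLocalization.AtPrime.to_map_mem_maximal_iff (Localization.AtPrime 𝔭) 𝔭 _).mpr
      (hp G hG j)
  obtain ⟨G, s, rfl⟩ := IsLocalization.exists_mk'_eq 𝔭.primeCompl x
  have hG : G ∈ 𝔭 := (IsLocalization.AtPrime.mk'_mem_maximal_iff (Localization.AtPrime 𝔭) 𝔭 G s).mp hx
  have h1 : algebraMap _ (Localization.AtPrime 𝔭) (s : MvPolynomial (Fin m) k) *
      IsLocalization.mk' (Localization.AtPrime 𝔭) G s = algebraMap _ _ G := by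
    rw [mul_comm]
    exact IsLocalization.mk'_spec _ G s
  have h2 : δ (algebraMap _ (Localization.AtPrime 𝔭) G) = 0 := hδ₀ G hG
  rw [← h1, Derivation.leibniz, hkill _ hx, add_zero] at h2
  have hu : IsUnit (algebraMap _ (Localization.AtPrime 𝔭) (s : MvPolynomial (Fin m) k)) :=
    IsLocalization.map_units _ s
  obtain ⟨v, hv⟩ := hu.exists_left_inv
  calc δ (IsLocalization.mk' (Localization.AtPrime 𝔭) G s)
      = (v * algebraMap _ (Localization.AtPrime 𝔭) (s : MvPolynomial (Fin m) k)) •
          δ (IsLocalization.mk' (Localization.AtPrime 𝔭) G s) := by rw [hv, one_smul]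
    _ = 0 := by rw [mul_smul, h2, smul_zero]

end Loc

end Groth.Agent.H91.Pop
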