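import Mathlib
import Groth.Prelude.Def_CAlgX
import Groth.Agent.H91.AdicLift

/-!
# Parameters of a local `k`-algebra without cotangent differentials map to independent elements of
the cotangent space of an adically formally smooth local `k`-algebra (abstract part)
-/

set_option autoImplicit false
universe u

open IsLocalRing TensorProduct

namespace Groth.Agent.H91.Pop

section Abstract

variable {k P' A : Type u} [Field k] [CommRing P'] [IsLocalRing P'] [Algebra k P'] [CommRing A]
  [IsLocalRing A] [Algebra k A] (φ' : P' →ₐ[k] A)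

theorem core_abstract (hfs : CAlgX.IsAdicFormallySmooth k A (maximalIdeal A))
    (E : Type u) [CommRing E] [Algebra k E] [Algebra P' E] [IsScalarTower k P' E]
    (π : E →ₐ[k] ResidueField A) (hπ : Function.Surjective π)
    (hN : RingHom.ker π.toRingHom ^ 2 = ⊥)
    (hcompat : ∀ x : P', π (algebraMap P' E x) = residue A (φ' x))
    (hloc : ∀ x ∈ maximalIdeal P', φ' x ∈ maximalIdeal A)
    (hder : ∀ (N : Type u) [AddCommGroup N] [Module P' N] [Module k N] [IsScalarTower k P' N],
      (∀ x ∈ maximalIdeal P', ∀ n : N, x • n = 0) → ∀ δ : Derivation k P' N,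
        ∀ x ∈ maximalIdeal P', δ x = 0)
    {h : ℕ} (x : Fin h → P') (hx : ∀ i, x i ∈ maximalIdeal P')
    (hE : ∀ (c : Fin h → A) (z : Fin h → E), (∀ i, π (z i) = residue A (c i)) →
        ∑ i, z i * algebraMap P' E (x i) = 0 → ∀ i, c i ∈ maximalIdeal A)
    (c : Fin h → A) (hc : ∑ i, c i * φ' (x i) ∈ maximalIdeal A ^ 2) :
    ∀ i, c i ∈ maximalIdeal A := by
  classical
  set N : Ideal E := RingHom.ker π.toRingHom with hNdef
  have hmemN : ∀ y : E, y ∈ N ↔ π y = 0 := fun y => RingHom.mem_ker
  have hsq : ∀ a ∈ N, ∀ b ∈ N, a * b = 0 := by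
    intro a ha b hb
    have : a * b ∈ N ^ 2 := by rw [pow_two]; exact Ideal.mul_mem_mul ha hb
    rwa [hN, Ideal.mem_bot] at this
  obtain ⟨χ, hχ⟩ := Groth.Agent.H91.AdicSmooth.exists_lift_of_sq_zero hfs π hπ hN
    (IsScalarTower.toAlgHom k A (ResidueField A)) 1 (fun y hy => by
      rw [pow_one] at hy
      exact (residue_eq_zero_iff y).mpr hy)
  have hπχ : ∀ a : A, π (χ a) = residue A a := fun a => AlgHom.congr_fun hχ a
  let α : P' →ₐ[k] E := χ.comp φ'
  have hαN : ∀ y : P', α y - algebraMap P' E y ∈ N := by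
    intro y
    rw [hmemN, map_sub, hcompat]
    change π (χ (φ' y)) - _ = 0
    rw [hπχ, sub_self]
  have e : (Ideal.Quotient.mkₐ k N).comp α = IsScalarTower.toAlgHom k P' (E ⧸ N) := by
    ext y
    change Ideal.Quotient.mk N (α y) = Ideal.Quotient.mk N (algebraMap P' E y)
    rw [Ideal.Quotient.eq]
    exact hαN y
  let δ : Derivation k P' N := derivationToSquareZeroOfLift N hN α e
  have hδ : ∀ y, ((δ y : N) : E) = α y - algebraMap P' E y :=
    fun y => derivationToSquareZeroOfLift_apply N hN α e y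
  have halgN : ∀ y ∈ maximalIdeal P', algebraMap P' E y ∈ N := by
    intro y hy
    rw [hmemN, hcompat]
    exact (residue_eq_zero_iff _).mpr (hloc y hy)
  have hkill : ∀ y ∈ maximalIdeal P', ∀ n : N, y • n = 0 := by
    intro y hy n
    apply Subtype.ext
    change y • (n : E) = 0
    rw [Algebra.smul_def]
    exact hsq _ (halgN y hy) _ n.2
  have hαx : ∀ i, α (x i) = algebraMap P' E (x i) := by
    intro i
    have h0 := hder N hkill δ (x i) (hx i)
    have h1 := hδ (x i)
    rw [h0] at h1
    exact sub_eq_zero.mp h1.symm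
  have hχm : ∀ a ∈ maximalIdeal A, χ a ∈ N := by
    intro a ha
    rw [hmemN, hπχ]
    exact (residue_eq_zero_iff a).mpr ha
  have hχ2 : ∀ a ∈ maximalIdeal A ^ 2, χ a = 0 := by
    intro a ha
    have h1 : (maximalIdeal A).map χ.toRingHom ≤ N := by
      rw [Ideal.map_le_iff_le_comap]
      exact fun a ha => hχm a ha
    have h2 : χ a ∈ ((maximalIdeal A) ^ 2).map χ.toRingHom := Ideal.mem_map_of_mem _ ha
    rw [Ideal.map_pow] at h2
    have h3 := Ideal.pow_right_mono h1 2 h2
    rwa [hN, Ideal.mem_bot] at h3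
  have h0 := hχ2 _ hc
  rw [map_sum] at h0
  refine hE c (fun i => χ (c i)) (fun i => hπχ (c i)) ?_
  rw [← h0]
  refine Finset.sum_congr rfl fun i _ => ?_
  rw [map_mul, ← hαx i]
  rfl

end Abstract

end Groth.Agent.H91.Pop
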