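import Mathlib
import Groth.Agent.H91.PopB

/-!
# The square-zero extension `(P'/𝔪²) ⊗_κ K` of the residue field
-/

set_option autoImplicit false
universe u

open IsLocalRing TensorProduct

namespace Groth.Agent.H91.Pop

section Construct

variable {k P' A : Type u} [Field k] [CommRing P'] [IsLocalRing P'] [Algebra k P'] [CommRing A]
  [IsLocalRing A] [Algebra k A] (φ' : P' →ₐ[k] A) [IsLocalHom φ'.toRingHom]

/-- the residue map of `P' ⧸ 𝔪²` -/
noncomputable def resT : P' ⧸ maximalIdeal P' ^ 2 →+* ResidueField P' :=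
  Ideal.Quotient.lift _ (residue P')
    (fun x hx => (residue_eq_zero_iff x).mpr (Ideal.pow_le_self two_ne_zero hx))

@[simp] theorem resT_mk (x : P') : resT (Ideal.Quotient.mk (maximalIdeal P' ^ 2) x) = residue P' x :=
  rfl

theorem resT_surjective : Function.Surjective (resT (P' := P')) := by
  intro c
  obtain ⟨x, rfl⟩ := residue_surjective c
  exact ⟨Ideal.Quotient.mk _ x, rfl⟩

theorem ker_resT_sq : RingHom.ker (resT (P' := P')) ^ 2 = ⊥ := by
  have h1 : RingHom.ker (resT (P' := P')) ≤
      (maximalIdeal P').map (Ideal.Quotient.mk (maximalIdeal P' ^ 2)) := by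
    intro t ht
    obtain ⟨x, rfl⟩ := Ideal.Quotient.mk_surjective t
    rw [RingHom.mem_ker, resT_mk, residue_eq_zero_iff] at ht
    exact Ideal.mem_map_of_mem _ ht
  rw [eq_bot_iff]
  refine (Ideal.pow_right_mono h1 2).trans ?_
  rw [← Ideal.map_pow, Ideal.map_quotient_self]

theorem mul_eq_zero_of_mem_ker_resT (a b : P' ⧸ maximalIdeal P' ^ 2)
    (ha : a ∈ RingHom.ker (resT (P' := P'))) (hb : b ∈ RingHom.ker (resT (P' := P'))) :
    a * b = 0 := by
  have h1 := Ideal.mul_mem_mul ha hb
  rw [← pow_two, ker_resT_sq, Ideal.mem_bot] at h1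
  exact h1

variable [Algebra (ResidueField P') (ResidueField A)]
  [Algebra (ResidueField P') (P' ⧸ maximalIdeal P' ^ 2)]
  (hκK : ∀ c : ResidueField P', algebraMap (ResidueField P') (ResidueField A) c =
    ResidueField.map φ'.toRingHom c)
  (hκT : ∀ c : ResidueField P', resT (algebraMap (ResidueField P') (P' ⧸ maximalIdeal P' ^ 2) c) = c)

local notation "κ" => ResidueField P'
local notation "K" => ResidueField A
local notation "T" => P' ⧸ maximalIdeal P' ^ 2

/-- `T → K` -/
noncomputable def rT : T →ₐ[κ] K :=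
  { (algebraMap κ K).comp resT with
    commutes' := fun c => by
      change algebraMap κ K (resT (algebraMap κ T c)) = algebraMap κ K c
      rw [hκT] }

theorem rT_apply (t : T) : rT hκT t = algebraMap κ K (resT t) := rfl

/-- `T ⊗_κ K → K` over `κ` -/
noncomputable def piκ : T ⊗[κ] K →ₐ[κ] K :=
  Algebra.TensorProduct.lift (rT hκT) (AlgHom.id κ K) (fun _ _ => Commute.all _ _)

theorem piκ_tmul (t : T) (c : K) : piκ hκT (t ⊗ₜ[κ] c) = algebraMap κ K (resT t) * c := by
  simp [piκ, rT_apply]

include hκK in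
theorem piκ_algebraMap (x : P') :
    piκ hκT (algebraMap P' (T ⊗[κ] K) x) = residue A (φ' x) := by
  rw [Algebra.TensorProduct.algebraMap_apply, piκ_tmul, mul_one]
  change algebraMap κ K (resT (Ideal.Quotient.mk _ x)) = _
  rw [resT_mk, hκK]
  exact ResidueField.map_residue φ'.toRingHom x

/-- `T ⊗_κ K → K` over `k` -/
noncomputable def piK : T ⊗[κ] K →ₐ[k] K :=
  { (piκ hκT).toRingHom with
    commutes' := fun a => by
      change piκ hκT (algebraMap k (T ⊗[κ] K) a) = algebraMap k K a
      have h1 : algebraMap k (T ⊗[κ] K) a = algebraMap P' (T ⊗[κ] K) (algebraMap k P' a) := by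
        rw [Algebra.TensorProduct.algebraMap_apply, Algebra.TensorProduct.algebraMap_apply,
          ← IsScalarTower.algebraMap_apply]
      rw [h1, piκ_algebraMap φ' hκK hκT, AlgHom.commutes]
      rfl }

theorem piK_apply (z : T ⊗[κ] K) : piK φ' hκK hκT z = piκ hκT z := rfl

theorem piK_surjective : Function.Surjective (piK φ' hκK hκT) := by
  intro c
  refine ⟨1 ⊗ₜ c, ?_⟩
  rw [piK_apply, piκ_tmul, map_one, map_one, one_mul]

/-- the key identity: multiplication on the square-zero ideal factors through `K` -/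
theorem mul_tmul_one (z : T ⊗[κ] K) (n : T) (hn : n ∈ RingHom.ker (resT (P' := P'))) :
    z * (n ⊗ₜ[κ] (1 : K)) = n ⊗ₜ[κ] piκ hκT z := by
  induction z using TensorProduct.induction_on with
  | zero => rw [zero_mul, map_zero, tmul_zero]
  | tmul t c =>
    rw [Algebra.TensorProduct.tmul_mul_tmul, mul_one, piκ_tmul]
    have h1 : t * n = algebraMap κ T (resT t) * n := by
      have h2 : t - algebraMap κ T (resT t) ∈ RingHom.ker (resT (P' := P')) := by
        rw [RingHom.mem_ker, map_sub, hκT, sub_self]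
      have h3 := mul_eq_zero_of_mem_ker_resT _ _ h2 hn
      rw [sub_mul, sub_eq_zero] at h3
      exact h3
    rw [h1, ← Algebra.smul_def, smul_tmul, Algebra.smul_def]
  | add a b ha hb => rw [add_mul, ha, hb, map_add, tmul_add]

theorem ker_piK_le : RingHom.ker (piK φ' hκK hκT).toRingHom ≤
    (RingHom.ker (resT (P' := P'))).map
      (Algebra.TensorProduct.includeLeftRingHom : T →+* T ⊗[κ] K) := by
  -- every element is `∑ tᵢ ⊗ cᵢ`; reduce to `1 ⊗ c` modulo the ideal
  intro z hz
  set J := (RingHom.ker (resT (P' := P'))).map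
      (Algebra.TensorProduct.includeLeftRingHom : T →+* T ⊗[κ] K) with hJ
  have hcong : ∀ z : T ⊗[κ] K, z - (1 : T) ⊗ₜ[κ] piκ hκT z ∈ J := by
    intro z
    induction z using TensorProduct.induction_on with
    | zero => rw [map_zero, tmul_zero, sub_zero]; exact J.zero_mem
    | tmul t c =>
      rw [piκ_tmul]
      have h1 : (1 : T) ⊗ₜ[κ] (algebraMap κ K (resT t) * c) =
          (algebraMap κ T (resT t)) ⊗ₜ[κ] c := by
        rw [← Algebra.smul_def, ← smul_tmul, Algebra.smul_def, mul_one]
      rw [h1, ← sub_tmul]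
      have h2 : t - algebraMap κ T (resT t) ∈ RingHom.ker (resT (P' := P')) := by
        rw [RingHom.mem_ker, map_sub, hκT, sub_self]
      have h3 : (t - algebraMap κ T (resT t)) ⊗ₜ[κ] c =
          (Algebra.TensorProduct.includeLeftRingHom (t - algebraMap κ T (resT t))) *
            ((1 : T) ⊗ₜ[κ] c) := by
        rw [Algebra.TensorProduct.includeLeftRingHom_apply, Algebra.TensorProduct.tmul_mul_tmul,
          mul_one, one_mul]
      rw [h3]
      exact Ideal.mul_mem_right _ _ (Ideal.mem_map_of_mem _ h2)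
    | add a b ha hb =>
      rw [map_add, tmul_add, add_sub_add_comm]
      exact J.add_mem ha hb
  have h1 := hcong z
  have h2 : piκ hκT z = 0 := hz
  rwa [h2, tmul_zero, sub_zero] at h1

theorem ker_piK_sq : RingHom.ker (piK φ' hκK hκT).toRingHom ^ 2 = ⊥ := by
  rw [eq_bot_iff]
  refine (Ideal.pow_right_mono (ker_piK_le φ' hκK hκT) 2).trans ?_
  rw [← Ideal.map_pow, ker_resT_sq, Ideal.map_bot]

end Construct

end Groth.Agent.H91.Pop
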