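import Mathlib
import Groth.Agent.H91.PopC

/-!
# Parameters of a local `k`-algebra without cotangent differentials map to independent elements of
the cotangent space of an adically formally smooth local `k`-algebra
-/

set_option autoImplicit false
universe u

open IsLocalRing TensorProduct

namespace Groth.Agent.H91.Pop

section Indep

variable {k P' A : Type u} [Field k] [CommRing P'] [IsLocalRing P'] [Algebra k P'] [CommRing A]
  [IsLocalRing A] [Algebra k A] (φ' : P' →ₐ[k] A) [IsLocalHom φ'.toRingHom]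
  [Algebra (ResidueField P') (ResidueField A)]
  [Algebra (ResidueField P') (P' ⧸ maximalIdeal P' ^ 2)]
  (hκK : ∀ c : ResidueField P', algebraMap (ResidueField P') (ResidueField A) c =
    ResidueField.map φ'.toRingHom c)
  (hκT : ∀ c : ResidueField P', resT (algebraMap (ResidueField P') (P' ⧸ maximalIdeal P' ^ 2) c) = c)

local notation "κ" => ResidueField P'
local notation "K" => ResidueField A
local notation "T" => P' ⧸ maximalIdeal P' ^ 2

include hκT in
theorem linearCombination_injective {h : ℕ} (x : Fin h → P') (hx : ∀ i, x i ∈ maximalIdeal P')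
    (hli : ∀ r : Fin h → P', ∑ i, r i * x i ∈ maximalIdeal P' ^ 2 →
      ∀ i, r i ∈ maximalIdeal P') :
    Function.Injective (Fintype.linearCombination κ
      (fun i => (Ideal.Quotient.mk (maximalIdeal P' ^ 2) (x i) : T))) := by
  rw [injective_iff_map_eq_zero]
  intro v hv
  rw [Fintype.linearCombination_apply] at hv
  choose r hr using fun i => residue_surjective (v i)
  have hxk : ∀ i, (Ideal.Quotient.mk (maximalIdeal P' ^ 2) (x i) : T) ∈
      RingHom.ker (resT (P' := P')) := by
    intro i
    rw [RingHom.mem_ker, resT_mk, residue_eq_zero_iff]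
    exact hx i
  have h1 : ∀ i, v i • (Ideal.Quotient.mk (maximalIdeal P' ^ 2) (x i) : T) =
      Ideal.Quotient.mk (maximalIdeal P' ^ 2) (r i * x i) := by
    intro i
    rw [Algebra.smul_def, map_mul]
    have h2 : algebraMap κ T (v i) - Ideal.Quotient.mk (maximalIdeal P' ^ 2) (r i) ∈
        RingHom.ker (resT (P' := P')) := by
      rw [RingHom.mem_ker, map_sub, hκT, resT_mk, hr, sub_self]
    have h3 := mul_eq_zero_of_mem_ker_resT _ _ h2 (hxk i)
    rw [sub_mul, sub_eq_zero] at h3
    exact h3
  simp_rw [h1] at hv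
  rw [← map_sum, Ideal.Quotient.eq_zero_iff_mem] at hv
  have h4 := hli r hv
  funext i
  rw [← hr i]
  exact (residue_eq_zero_iff _).mpr (h4 i)

include hκK in
theorem hE_of_indep {h : ℕ} (x : Fin h → P') (hx : ∀ i, x i ∈ maximalIdeal P')
    (hli : ∀ r : Fin h → P', ∑ i, r i * x i ∈ maximalIdeal P' ^ 2 →
      ∀ i, r i ∈ maximalIdeal P')
    (c : Fin h → A) (z : Fin h → T ⊗[κ] K)
    (hz : ∀ i, piK φ' hκK hκT (z i) = residue A (c i))
    (h0 : ∑ i, z i * algebraMap P' (T ⊗[κ] K) (x i) = 0) : ∀ i, c i ∈ maximalIdeal A := by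
  classical
  have hxk : ∀ i, (Ideal.Quotient.mk (maximalIdeal P' ^ 2) (x i) : T) ∈
      RingHom.ker (resT (P' := P')) := by
    intro i
    rw [RingHom.mem_ker, resT_mk, residue_eq_zero_iff]
    exact hx i
  have h1 : ∀ i, z i * algebraMap P' (T ⊗[κ] K) (x i) =
      (Ideal.Quotient.mk (maximalIdeal P' ^ 2) (x i) : T) ⊗ₜ[κ] residue A (c i) := by
    intro i
    rw [Algebra.TensorProduct.algebraMap_apply]
    change z i * ((Ideal.Quotient.mk (maximalIdeal P' ^ 2) (x i) : T) ⊗ₜ[κ] (1 : K)) = _
    rw [mul_tmul_one hκT _ _ (hxk i), ← hz i]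
    rfl
  simp_rw [h1] at h0
  let L := Fintype.linearCombination κ
      (fun i => (Ideal.Quotient.mk (maximalIdeal P' ^ 2) (x i) : T))
  have hL : Function.Injective L := linearCombination_injective hκT x hx hli
  have hLK : Function.Injective (L.rTensor K) :=
    Module.Flat.rTensor_preserves_injective_linearMap L hL
  have h2 : (L.rTensor K) (∑ i, (Pi.single i (1 : κ) : Fin h → κ) ⊗ₜ[κ] residue A (c i)) = 0 := by
    rw [map_sum, ← h0]
    refine Finset.sum_congr rfl fun i _ => ?_
    rw [LinearMap.rTensor_tmul]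
    congr 1
    simp [L, Fintype.linearCombination_apply_single]
  have h3 : ∑ i, (Pi.single i (1 : κ) : Fin h → κ) ⊗ₜ[κ] residue A (c i) = 0 :=
    hLK (by rw [h2, map_zero])
  intro j
  have h4 := congrArg (fun w => TensorProduct.lid κ K
    (((LinearMap.proj j : (Fin h → κ) →ₗ[κ] κ).rTensor K) w)) h3
  simp only [map_sum, LinearMap.rTensor_tmul, LinearMap.proj_apply, TensorProduct.lid_tmul,
    map_zero] at h4
  rw [Finset.sum_eq_single j] at h4
  · rw [Pi.single_eq_same, one_smul] at h4
    exact (residue_eq_zero_iff _).mp h4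
  · intro i _ hij
    rw [Pi.single_eq_of_ne (Ne.symm hij), zero_smul]
  · intro hj
    exact absurd (Finset.mem_univ j) hj

end Indep

section Core

variable {k P' A : Type u} [Field k] [CommRing P'] [IsLocalRing P'] [Algebra k P'] [CommRing A]
  [IsLocalRing A] [Algebra k A] (φ' : P' →ₐ[k] A) [IsLocalHom φ'.toRingHom]

theorem core (hfs : CAlgX.IsAdicFormallySmooth k A (maximalIdeal A))
    (σ : ResidueField P' →+* P' ⧸ maximalIdeal P' ^ 2) (hσ : ∀ c, resT (σ c) = c)
    (hder : ∀ (N : Type u) [AddCommGroup N] [Module P' N] [Module k N] [IsScalarTower k P' N],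
      (∀ x ∈ maximalIdeal P', ∀ n : N, x • n = 0) → ∀ δ : Derivation k P' N,
        ∀ x ∈ maximalIdeal P', δ x = 0)
    {h : ℕ} (x : Fin h → P') (hx : ∀ i, x i ∈ maximalIdeal P')
    (hli : ∀ r : Fin h → P', ∑ i, r i * x i ∈ maximalIdeal P' ^ 2 →
      ∀ i, r i ∈ maximalIdeal P')
    (c : Fin h → A) (hc : ∑ i, c i * φ' (x i) ∈ maximalIdeal A ^ 2) :
    ∀ i, c i ∈ maximalIdeal A := by
  letI algκK : Algebra (ResidueField P') (ResidueField A) :=
    (ResidueField.map φ'.toRingHom).toAlgebra
  letI algκT : Algebra (ResidueField P') (P' ⧸ maximalIdeal P' ^ 2) := σ.toAlgebra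
  have hκK : ∀ c : ResidueField P', algebraMap (ResidueField P') (ResidueField A) c =
    ResidueField.map φ'.toRingHom c := fun _ => rfl
  have hloc : ∀ x ∈ maximalIdeal P', φ' x ∈ maximalIdeal A := by
    intro x hx
    by_contra hcon
    have hu : IsUnit (φ' x) := by
      by_contra hnu
      exact hcon ((mem_maximalIdeal _).mpr hnu)
    have hu' : IsUnit x := (isUnit_map_iff φ'.toRingHom x).mp hu
    exact (mem_maximalIdeal _).mp hx hu'
  exact core_abstract φ' hfs
    ((P' ⧸ maximalIdeal P' ^ 2) ⊗[ResidueField P'] (ResidueField A))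
    (piK φ' hκK hσ) (piK_surjective φ' hκK hσ) (ker_piK_sq φ' hκK hσ)
    (fun y => piκ_algebraMap φ' hκK hσ y) hloc hder x hx
    (fun c z hz h0 => hE_of_indep φ' hκK hσ x hx hli c z hz h0) c hc

end Core

end Groth.Agent.H91.Pop
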