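import Mathlib
import Groth.Prelude.Def_Found
import Groth.Agent.H91.PopA
import Groth.Agent.H91.PopD
import Groth.Agent.H91.PopE
import Groth.Agent.H23.GeomRegFS3
import Groth.Agent.H47.FSField
import Groth.Agent.Lead.RegularGlDim
import Groth.Agent.S5777

/-!
# Flatness over a polynomial ring whose variables map to a differential basis
(Stacks, More on Algebra, Lemma 15.35.2)
-/

set_option autoImplicit false
universe u

open IsLocalRing MvPolynomial RingTheory.Sequence

namespace Groth.Agent.H91.Pop

section Deriv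

theorem derivation_aeval {k F N : Type*} [CommRing k] [CommRing F] [Algebra k F]
    [AddCommGroup N] [Module F N] [Module k N] [IsScalarTower k F N] {σ : Type*} [Fintype σ]
    (D : Derivation k F N) (y : σ → F) (G : MvPolynomial σ k) :
    D (aeval y G) = ∑ j, aeval y (pderiv j G) • D (y j) := by
  classical
  induction G using MvPolynomial.induction_on with
  | C a =>
    simp
  | add p q hp hq =>
    rw [map_add, map_add, hp, hq, ← Finset.sum_add_distrib]
    refine Finset.sum_congr rfl fun j _ => ?_
    rw [map_add, map_add, add_smul]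
  | mul_X p i hp =>
    rw [map_mul, aeval_X, Derivation.leibniz, hp]
    have h1 : ∀ j, aeval y (pderiv j (p * X i)) • D (y j) =
        y i • (aeval y (pderiv j p) • D (y j)) +
          (aeval y p * aeval y (pderiv j (X i : MvPolynomial σ k))) • D (y j) := by
      intro j
      rw [pderiv_mul, map_add, map_mul, map_mul, aeval_X, add_smul,
        mul_comm (aeval y (pderiv j p)) (y i), mul_smul]
    simp_rw [h1]
    rw [Finset.sum_add_distrib, ← Finset.smul_sum, add_comm]
    congr 1
    rw [Finset.sum_eq_single i]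
    · rw [pderiv_X_self, map_one, mul_one]
    · intro j _ hji
      rw [pderiv_X_of_ne (Ne.symm hji), map_zero, mul_zero, zero_smul]
    · intro h
      exact absurd (Finset.mem_univ i) h

end Deriv

section Sigma

/-- a coefficient field of `P' ⧸ 𝔪²` in characteristic `p` -/
theorem exists_sigma (p : ℕ) [Fact p.Prime] {k P' : Type u} [Field k] [CharP k p] [CommRing P']
    [IsLocalRing P'] [Algebra k P'] :
    ∃ σ : ResidueField P' →+* P' ⧸ maximalIdeal P' ^ 2, ∀ c, resT (σ c) = c := by
  have hne : maximalIdeal P' ^ 2 ≠ ⊤ := by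
    intro h
    have h1 : maximalIdeal P' ^ 2 ≤ maximalIdeal P' := Ideal.pow_le_self two_ne_zero
    rw [h] at h1
    exact (maximalIdeal.isMaximal P').ne_top (top_le_iff.mp h1)
  haveI : Nontrivial (P' ⧸ maximalIdeal P' ^ 2) := Ideal.Quotient.nontrivial_iff.mpr hne
  haveI : CharP (P' ⧸ maximalIdeal P' ^ 2) p :=
    charP_of_injective_algebraMap (algebraMap k (P' ⧸ maximalIdeal P' ^ 2)).injective p
  haveI : CharP (ResidueField P') p :=
    charP_of_injective_algebraMap (algebraMap k (ResidueField P')).injective p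
  letI : Algebra (ZMod p) (P' ⧸ maximalIdeal P' ^ 2) := ZMod.algebra _ p
  letI : Algebra (ZMod p) (ResidueField P') := ZMod.algebra _ p
  haveI : Algebra.FormallySmooth (ZMod p) (ResidueField P') :=
    H47.formallySmooth_of_perfectField_field
  let g : (P' ⧸ maximalIdeal P' ^ 2) →ₐ[ZMod p] ResidueField P' :=
    { resT (P' := P') with
      commutes' := fun c =>
        RingHom.congr_fun (Subsingleton.elim ((resT (P' := P')).comp (algebraMap _ _))
          (algebraMap _ _)) c }
  have hg : Function.Surjective g := resT_surjective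
  have hnil : IsNilpotent (RingHom.ker g) := ⟨2, ker_resT_sq⟩
  refine ⟨(Algebra.FormallySmooth.liftOfSurjective (AlgHom.id _ (ResidueField P')) g hg
    hnil).toRingHom, fun c => ?_⟩
  exact Algebra.FormallySmooth.liftOfSurjective_apply (AlgHom.id _ (ResidueField P')) g hg hnil c

end Sigma

section Gens

theorem indep_of_span_eq (R : Type u) [CommRing R] [IsRegularLocalRing R] (d : ℕ)
    (hd : ringKrullDim R = d) (x : Fin d → R)
    (hx : Ideal.span (Set.range x) = maximalIdeal R) :
    ∀ r : Fin d → R, ∑ i, r i * x i ∈ maximalIdeal R ^ 2 → ∀ i, r i ∈ maximalIdeal R := by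
  have hxm : ∀ i, x i ∈ maximalIdeal R := fun i => hx ▸ Ideal.subset_span ⟨i, rfl⟩
  rw [← linearIndependent_toCotangent_iff x hxm]
  let x' : Fin d → ↥(maximalIdeal R) := fun i => ⟨x i, hxm i⟩
  have hspan : Submodule.span R (Set.range x') = ⊤ := by
    apply Submodule.map_injective_of_injective (maximalIdeal R).subtype_injective
    rw [Submodule.map_span, ← Set.range_comp, Submodule.map_top, Submodule.range_subtype]
    exact hx
  have h1 := IsLocalRing.CotangentSpace.span_image_eq_top_iff.mpr hspan
  rw [← Set.range_comp] at h1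
  apply linearIndependent_of_top_le_span_of_card_eq_finrank (b := (maximalIdeal R).toCotangent ∘ x')
    h1.ge
  rw [Fintype.card_fin]
  have h2 := Groth.Agent.Lead.RLR.ringKrullDim_eq_spanFinrank R
  rw [hd] at h2
  have h3 : d = (maximalIdeal R).spanFinrank := by exact_mod_cast h2
  rw [h3, IsLocalRing.spanFinrank_maximalIdeal_eq_finrank_cotangentSpace]

end Gens

section Main

theorem main (p : ℕ) [Fact p.Prime] (k : Type u) [Field k] [CharP k p] (A : Type u) [CommRing A]
    [IsLocalRing A] [IsNoetherianRing A] [Algebra k A] (hA : CAlg.IsGeometricallyRegular k A)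
    (F : IntermediateField k (ResidueField A)) (m : ℕ)
    (φ : MvPolynomial (Fin m) k →ₐ[k] A)
    (hφ : ∀ i : Fin m, residue A (φ (X i)) ∈ F)
    (hb : LinearIndependent F
      (fun i : Fin m => KaehlerDifferential.D k F ⟨residue A (φ (X i)), hφ i⟩))
    [Algebra (MvPolynomial (Fin m) k) A]
    (halg : algebraMap (MvPolynomial (Fin m) k) A = φ.toRingHom) :
    Module.Flat (MvPolynomial (Fin m) k) A ∧
      IsRegularLocalRing (A ⧸ Ideal.map φ.toRingHom
        (Ideal.comap φ.toRingHom (maximalIdeal A))) := by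
  classical
  haveI hregA : IsRegularRing A := by
    haveI := hA k (Module.Finite.self k)
    exact IsRegularRing.of_ringEquiv (Algebra.TensorProduct.lid k A).toRingEquiv
  haveI : IsRegularLocalRing A := IsRegularLocalRing.of_isRegularRing_of_isLocalRing A
  have hfs := Groth.Agent.H23.GeomRegFS.adic_of_geomReg p A hA
  let 𝔭 : Ideal (MvPolynomial (Fin m) k) := Ideal.comap φ.toRingHom (maximalIdeal A)
  haveI h𝔭 : 𝔭.IsPrime := Ideal.comap_isPrime _ _
  -- evaluation at the residues
  let ybar : Fin m → F := fun i => ⟨residue A (φ (X i)), hφ i⟩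
  let ev : MvPolynomial (Fin m) k →ₐ[k] F := aeval ybar
  have hev : ∀ G, ((ev G : F) : ResidueField A) = residue A (φ G) := by
    intro G
    have h1 : (F.val.comp ev) = (IsScalarTower.toAlgHom k A (ResidueField A)).comp φ := by
      apply MvPolynomial.algHom_ext
      intro i
      simp only [AlgHom.comp_apply, ev, aeval_X, ybar]
      rfl
    exact AlgHom.congr_fun h1 G
  have hmem : ∀ G, G ∈ 𝔭 ↔ ev G = 0 := by
    intro G
    change φ G ∈ maximalIdeal A ↔ _
    rw [← residue_eq_zero_iff, ← hev]
    constructor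
    · intro h
      exact Subtype.ext h
    · intro h
      rw [h]
      rfl
  have hp : ∀ G ∈ 𝔭, ∀ j, pderiv j G ∈ 𝔭 := by
    intro G hG j
    rw [hmem] at hG ⊢
    have h1 := derivation_aeval (KaehlerDifferential.D k F) ybar G
    rw [show aeval ybar G = ev G from rfl, hG, map_zero] at h1
    exact Fintype.linearIndependent_iff.mp hb _ h1.symm j
  -- the local ring
  have hunit : ∀ y : 𝔭.primeCompl, IsUnit (φ y) := by
    intro y
    by_contra hnu
    exact y.2 ((mem_maximalIdeal _).mpr hnu)
  let φ' : Localization.AtPrime 𝔭 →ₐ[k] A :=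
    IsLocalization.liftAlgHom (M := 𝔭.primeCompl) (f := φ) hunit
  have hφ'alg : ∀ G, φ' (algebraMap _ (Localization.AtPrime 𝔭) G) = φ G := by
    intro G
    exact IsLocalization.lift_eq _ G
  haveI hloc : IsLocalHom φ'.toRingHom := by
    refine ⟨fun a ha => ?_⟩
    by_contra hna
    have ham : a ∈ maximalIdeal (Localization.AtPrime 𝔭) := (mem_maximalIdeal _).mpr hna
    obtain ⟨G, s, rfl⟩ := IsLocalization.exists_mk'_eq 𝔭.primeCompl a
    have hG : G ∈ 𝔭 :=
      (IsLocalization.AtPrime.mk'_mem_maximal_iff (Localization.AtPrime 𝔭) 𝔭 G s).mp ham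
    have h1 : φ' (IsLocalization.mk' (Localization.AtPrime 𝔭) G s) * φ (s : MvPolynomial (Fin m) k)
        = φ G := by
      rw [← hφ'alg, ← hφ'alg G, ← map_mul, IsLocalization.mk'_spec]
    have h2 : IsUnit (φ G) := by
      rw [← h1]
      exact IsUnit.mul ha (hunit s)
    exact (mem_maximalIdeal _).mp hG h2
  have hder : ∀ (N : Type u) [AddCommGroup N] [Module (Localization.AtPrime 𝔭) N] [Module k N]
      [IsScalarTower k (Localization.AtPrime 𝔭) N],
      (∀ x ∈ maximalIdeal (Localization.AtPrime 𝔭), ∀ n : N, x • n = 0) →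
        ∀ δ : Derivation k (Localization.AtPrime 𝔭) N,
          ∀ x ∈ maximalIdeal (Localization.AtPrime 𝔭), δ x = 0 :=
    fun N _ _ _ _ hkill δ x hx => derivation_eq_zero_of_pderiv_mem 𝔭 hp N hkill δ x hx
  obtain ⟨σ, hσ⟩ := exists_sigma p (k := k) (P' := Localization.AtPrime 𝔭)
  obtain ⟨d, hd, -⟩ := Groth.Agent.Lead.RLR.exists_ringKrullDim_eq (Localization.AtPrime 𝔭)
  obtain ⟨x, hx⟩ := Groth.Agent.Lead.RLR.exists_fin_span_eq (Localization.AtPrime 𝔭) d hd
  have hxm : ∀ i, x i ∈ maximalIdeal (Localization.AtPrime 𝔭) :=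
    fun i => hx ▸ Ideal.subset_span ⟨i, rfl⟩
  have hli := indep_of_span_eq (Localization.AtPrime 𝔭) d hd x hx
  have hcore := core φ' hfs σ hσ hder x hxm hli
  have hφ'm : ∀ i, φ' (x i) ∈ maximalIdeal A := by
    intro i
    by_contra hcon
    have hu : IsUnit (φ' (x i)) := by
      by_contra hnu
      exact hcon ((mem_maximalIdeal _).mpr hnu)
    exact (mem_maximalIdeal _).mp (hxm i) ((isUnit_map_iff φ'.toRingHom (x i)).mp hu)
  obtain ⟨hwr, hquot⟩ := isWeaklyRegular_and_quotient_regular A (fun i => φ' (x i)) hφ'm hcore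
  -- flatness
  letI algP'A : Algebra (Localization.AtPrime 𝔭) A := φ'.toRingHom.toAlgebra
  haveI : IsLocalHom (algebraMap (Localization.AtPrime 𝔭) A) := hloc
  have hflat' : Module.Flat (Localization.AtPrime 𝔭) A := by
    have hreg := Groth.Agent.Lead.RLR.isRegular_ofFn (Localization.AtPrime 𝔭) d hd x hx
    have hof : Ideal.ofList (List.ofFn x) = maximalIdeal (Localization.AtPrime 𝔭) := by
      rw [ofList_ofFn, hx]
    have hmemfs : ∀ f ∈ List.ofFn x, f ∈ maximalIdeal (Localization.AtPrime 𝔭) := by
      intro f hf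
      rw [← hof]
      exact Ideal.subset_span hf
    rw [Groth.Agent.S5777.result (Localization.AtPrime 𝔭) A A (List.ofFn x) hmemfs
      hreg.toIsWeaklyRegular]
    constructor
    · have hmax : (Ideal.ofList (List.ofFn x)).IsMaximal := hof ▸ inferInstance
      let _ := Ideal.Quotient.field (Ideal.ofList (List.ofFn x))
      infer_instance
    · rw [← isWeaklyRegular_map_algebraMap_iff A A (List.ofFn x), List.map_ofFn]
      exact hwr
  haveI : IsScalarTower (MvPolynomial (Fin m) k) (Localization.AtPrime 𝔭) A := by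
    apply IsScalarTower.of_algebraMap_eq'
    rw [halg]
    exact RingHom.ext fun G => (hφ'alg G).symm
  refine ⟨Module.Flat.trans (MvPolynomial (Fin m) k) (Localization.AtPrime 𝔭) A, ?_⟩
  have hideal : Ideal.map φ.toRingHom (Ideal.comap φ.toRingHom (maximalIdeal A)) =
      Ideal.span (Set.range fun i => φ' (x i)) := by
    have h1 : φ.toRingHom = φ'.toRingHom.comp (algebraMap _ (Localization.AtPrime 𝔭)) :=
      RingHom.ext fun G => (hφ'alg G).symm
    change Ideal.map φ.toRingHom 𝔭 = _
    rw [h1, ← Ideal.map_map, Localization.AtPrime.map_eq_maximalIdeal, ← hx, Ideal.map_span,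
      ← Set.range_comp]
    rfl
  rw [hideal]
  exact hquot

end Main

end Groth.Agent.H91.Pop
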