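import Mathlib
import Groth.Agent.H39.RegSeqCM
import Groth.Agent.Lead.RegularLocal3

/-!
# In a regular local ring, `x_i` is regular modulo `e`-th powers of the previous parameters
-/

set_option autoImplicit false
universe u

open IsLocalRing

namespace Groth.Agent.H91.RegPow

variable {A : Type u} [CommRing A] [IsRegularLocalRing A]

theorem exists_generators (d : ℕ) (hd : ringKrullDim A = d) :
    ∃ x : Fin d → A, Ideal.span (Set.range x) = maximalIdeal A := by
  have h1 : ((maximalIdeal A).spanFinrank : WithBot ℕ∞) = d := by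
    rw [IsRegularLocalRing.spanFinrank_maximalIdeal, hd]
  have h2 : (maximalIdeal A).spanFinrank = d := by exact_mod_cast h1
  obtain ⟨s, hs1, hs2⟩ := Submodule.FG.exists_span_finset_card_eq_spanFinrank
    (IsNoetherian.noetherian (maximalIdeal A))
  obtain ⟨x, hx⟩ := Groth.Agent.Lead.RLR.exists_fin_range_eq s d (hs1.trans h2)
  exact ⟨x, by rw [hx]; exact hs2⟩

section main

variable (d : ℕ) (hd : ringKrullDim A = d) (x : Fin d → A)
  (hx : Ideal.span (Set.range x) = maximalIdeal A) (e : ℕ) (he : 0 < e) (i : Fin d)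

/-- the ideal of `e`-th powers of the parameters before `i` -/
def KK : Ideal A := Ideal.span (Set.range fun j : {j : Fin d // (j : ℕ) < (i : ℕ)} => x j ^ e)

/-- the ideal `KK + (x i)` -/
def JJ : Ideal A := KK d x e i ⊔ Ideal.span {x i}

include hx in
lemma x_mem (j : Fin d) : x j ∈ maximalIdeal A := by
  rw [← hx]
  exact Ideal.subset_span ⟨j, rfl⟩

include hx he in
lemma KK_le : KK d x e i ≤ maximalIdeal A := by
  unfold KK
  rw [Ideal.span_le]
  rintro _ ⟨j, rfl⟩
  exact Ideal.pow_mem_of_mem _ (x_mem d x hx j) e he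

include hx he in
lemma JJ_le : JJ d x e i ≤ maximalIdeal A := by
  unfold JJ
  refine sup_le (KK_le d x hx e he i) ?_
  rw [Ideal.span_le]
  rintro _ rfl
  exact x_mem d x hx i

include hx he in
lemma JJ_ne_top : JJ d x e i ≠ ⊤ := by
  intro h
  have := JJ_le d x hx e he i
  rw [h] at this
  exact Ideal.IsPrime.ne_top' (top_le_iff.1 this)

include hx he in
lemma dim_quot_le : ringKrullDim (A ⧸ JJ d x e i) ≤ ((d - 1 - (i : ℕ) : ℕ) : WithBot ℕ∞) := by
  classical
  have hne := JJ_ne_top d x hx e he i
  haveI : IsLocalRing (A ⧸ JJ d x e i) := Groth.Agent.Lead.RLR.isLocalRing_quotient A _ hne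
  let mk := Ideal.Quotient.mk (JJ d x e i)
  let s : Set (A ⧸ JJ d x e i) := (fun j => mk (x j)) '' {j : Fin d | i < j}
  have hsfin : s.Finite := (Set.toFinite _).image _
  have hmem : maximalIdeal (A ⧸ JJ d x e i) ∈ (Ideal.span s).minimalPrimes := by
    refine ⟨⟨inferInstance, ?_⟩, ?_⟩
    · rw [Ideal.span_le]
      rintro _ ⟨j, _, rfl⟩
      have : IsLocalHom mk := IsLocalHom.of_surjective _ Ideal.Quotient.mk_surjective
      rw [SetLike.mem_coe, IsLocalRing.mem_maximalIdeal, mem_nonunits_iff]
      intro hu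
      have h1 : IsUnit (x j) := (isUnit_map_iff mk (x j)).1 hu
      exact (IsLocalRing.mem_maximalIdeal _).1 (x_mem d x hx j) h1
    · rintro P ⟨hP, hsP⟩ -
      -- show `maximalIdeal ≤ P`
      have hall : ∀ j, mk (x j) ∈ P := by
        intro j
        rcases lt_trichotomy j i with hlt | heq | hgt
        · have h0 : mk (x j) ^ e = 0 := by
            rw [← map_pow]
            apply Ideal.Quotient.eq_zero_iff_mem.2
            exact Ideal.mem_sup_left (Ideal.subset_span ⟨⟨j, hlt⟩, rfl⟩)
          exact hP.mem_of_pow_mem e (h0 ▸ P.zero_mem)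
        · subst heq
          have h0 : mk (x j) = 0 := by
            apply Ideal.Quotient.eq_zero_iff_mem.2
            exact Ideal.mem_sup_right (Ideal.subset_span rfl)
          rw [h0]
          exact P.zero_mem
        · exact hsP (Ideal.subset_span ⟨j, hgt, rfl⟩)
      intro z hz
      obtain ⟨a, rfl⟩ := Ideal.Quotient.mk_surjective z
      have ha : a ∈ maximalIdeal A := by
        by_contra hna
        have hu : IsUnit a := by
          by_contra h'
          exact hna ((IsLocalRing.mem_maximalIdeal a).2 h')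
        exact (IsLocalRing.mem_maximalIdeal _).1 hz (hu.map mk)
      rw [← hx] at ha
      have h2 : mk a ∈ (Ideal.span (Set.range x)).map mk := Ideal.mem_map_of_mem _ ha
      rw [Ideal.map_span] at h2
      refine (Ideal.span_le.2 ?_ : _ ≤ P) h2
      rintro _ ⟨_, ⟨j, rfl⟩, rfl⟩
      exact hall j
  have h1 := Ideal.height_le_card_of_mem_minimalPrimes_span hsfin hmem
  have h2 : s.ncard ≤ d - 1 - (i : ℕ) := by
    refine (Set.ncard_image_le (Set.toFinite _)).trans ?_
    have : {j : Fin d | i < j} = (Finset.Ioi i : Set (Fin d)) := by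
      ext j
      simp
    rw [this, Set.ncard_coe_finset, Fin.card_Ioi]
  rw [← IsLocalRing.maximalIdeal_height_eq_ringKrullDim]
  have h3 : (maximalIdeal (A ⧸ JJ d x e i)).height ≤ ((d - 1 - (i : ℕ) : ℕ) : ℕ∞) :=
    h1.trans (by exact_mod_cast h2)
  exact WithBot.coe_le_coe.2 h3

end main

end Groth.Agent.H91.RegPow
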