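import Mathlib
import Groth.Agent.H91.RegPowA

/-!
# `x_i` is regular modulo `e`-th powers of the previous parameters (regular local ring)
-/

set_option autoImplicit false
universe u

open IsLocalRing

namespace Groth.Agent.H91.RegPow

variable {A : Type u} [CommRing A] [IsRegularLocalRing A]

variable (d : ℕ) (hd : ringKrullDim A = d) (x : Fin d → A)
  (hx : Ideal.span (Set.range x) = maximalIdeal A) (e : ℕ) (he : 0 < e) (i : Fin d)

include hd hx he in
theorem mem_KK_of_mul_mem (y : A) (hy : x i * y ∈ KK d x e i) : y ∈ KK d x e i := by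
  classical
  obtain ⟨k, hk⟩ : ∃ k : ℕ, k = (i : ℕ) := ⟨_, rfl⟩
  have hkd : k < d := hk ▸ i.2
  let g : Fin k → A := fun j => x (Fin.castLE hkd.le j) ^ e
  let f : Fin (k + 1) → A := Fin.snoc g (x i)
  have hgK : Ideal.span (Set.range g) = KK d x e i := by
    unfold KK
    congr 1
    ext z
    constructor
    · rintro ⟨j, rfl⟩
      exact ⟨⟨Fin.castLE hkd.le j, by rw [← hk]; exact j.2⟩, rfl⟩
    · rintro ⟨⟨j, hj⟩, rfl⟩
      have hjk : (j : ℕ) < k := by rw [hk]; exact hj
      refine ⟨⟨(j : ℕ), hjk⟩, ?_⟩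
      have : Fin.castLE hkd.le ⟨(j : ℕ), hjk⟩ = j := Fin.ext rfl
      simp only [g]
      rw [this]
  have hfJ : Ideal.span (Set.range f) = JJ d x e i := by
    unfold JJ
    rw [← hgK, Fin.range_snoc, Ideal.span_insert, sup_comm]
  have hne := JJ_ne_top d x hx e he i
  haveI : Nontrivial (A ⧸ JJ d x e i) := Ideal.Quotient.nontrivial_iff.mpr hne
  have hle := dim_quot_le d x hx e he i
  have hge : ringKrullDim A ≤ ringKrullDim (A ⧸ Ideal.span (Set.range f)) + (Set.range f).encard := by
    apply ringKrullDim_le_ringKrullDim_quotient_add_encard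
    rw [IsLocalRing.ringJacobson_eq_maximalIdeal]
    intro z hz
    have : z ∈ Ideal.span (Set.range f) := Ideal.subset_span hz
    rw [hfJ] at this
    exact JJ_le d x hx e he i this
  have henc : (Set.range f).encard ≤ ((k + 1 : ℕ) : ℕ∞) := by
    rw [← Set.image_univ]
    refine (Set.encard_image_le f Set.univ).trans ?_
    simp
  rw [hfJ] at hge
  obtain ⟨b, hb, hbk⟩ := Groth.Agent.Lead.RLR.exists_nat_eq
    (ringKrullDim_nonneg_of_nontrivial (R := A ⧸ JJ d x e i)) hle
  have hdim : ringKrullDim (A ⧸ JJ d x e i) + ((k + 1 : ℕ) : WithBot ℕ∞) = ringKrullDim A := by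
    rw [hd, hb]
    rw [hd, hb] at hge
    have h1 : (d : WithBot ℕ∞) ≤ (b : WithBot ℕ∞) + ((k + 1 : ℕ) : WithBot ℕ∞) := by
      refine hge.trans ?_
      gcongr
      exact_mod_cast henc
    have h2 : d ≤ b + (k + 1) := by exact_mod_cast h1
    have h3 : b + (k + 1) = d := by omega
    exact_mod_cast h3
  have hreg := Groth.Agent.H39.RegSeqCM.isRegular_ofFn_of_ringKrullDim_quotient
    (Groth.Agent.H39.RegSeqCM.isCohenMacaulayModule_self A) (JJ d x e i) hne f hfJ hdim
  have hl : List.ofFn f = List.ofFn g ++ [x i] := by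
    rw [List.ofFn_succ', List.concat_eq_append]
    simp [f]
  rw [hl] at hreg
  have h1 := (RingTheory.Sequence.isWeaklyRegular_append_iff A (List.ofFn g) [x i]).1
    hreg.toIsWeaklyRegular
  have h2 := (RingTheory.Sequence.isWeaklyRegular_singleton_iff _ (x i)).1 h1.2
  have hsm : (Ideal.ofList (List.ofFn g) • ⊤ : Submodule A A) = KK d x e i := by
    rw [Groth.Agent.H39.RegSeqCM.ofList_ofFn, hgK, smul_eq_mul, Ideal.mul_top]
  have h3 : x i • (Submodule.Quotient.mk y : A ⧸ (Ideal.ofList (List.ofFn g) • ⊤ : Submodule A A))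
      = x i • (Submodule.Quotient.mk 0 : A ⧸ (Ideal.ofList (List.ofFn g) • ⊤ : Submodule A A)) := by
    rw [← Submodule.Quotient.mk_smul, ← Submodule.Quotient.mk_smul, Submodule.Quotient.eq,
      smul_zero, sub_zero, hsm, smul_eq_mul]
    exact hy
  have h4 := h2 h3
  rw [Submodule.Quotient.eq, sub_zero, hsm] at h4
  exact h4

end Groth.Agent.H91.RegPow
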