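import Mathlib
import Groth.Agent.H91.RegPowB
import Groth.Agent.H91.ElemStdLocA

/-!
# Parameters with the annihilator condition
-/

set_option autoImplicit false
universe u

open IsLocalRing

namespace Groth.Agent.H91.RegPow

section aux

variable {Λ : Type u} [CommRing Λ]

lemma span_range_mul_unit {ι : Type*} {A : Type*} [CommRing A] (x u : ι → A)
    (hu : ∀ i, IsUnit (u i)) :
    Ideal.span (Set.range fun i => x i * u i) = Ideal.span (Set.range x) := by
  apply le_antisymm
  · rw [Ideal.span_le]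
    rintro _ ⟨i, rfl⟩
    exact Ideal.mul_mem_right _ _ (Ideal.subset_span ⟨i, rfl⟩)
  · rw [Ideal.span_le]
    rintro _ ⟨i, rfl⟩
    obtain ⟨v, hv⟩ := (hu i).exists_right_inv
    have : x i = (x i * u i) * v := by rw [mul_assoc, hv, mul_one]
    rw [SetLike.mem_coe, this]
    exact Ideal.mul_mem_right _ _ (Ideal.subset_span ⟨i, rfl⟩)

lemma exists_common_mul (S : Submonoid Λ) (T K : Ideal Λ) (hT : T.FG)
    (h : ∀ t ∈ T, ∃ s ∈ S, s * t ∈ K) : ∃ s ∈ S, ∀ t ∈ T, s * t ∈ K := by
  classical
  obtain ⟨G, rfl⟩ := hT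
  have h' : ∀ g : G, ∃ s ∈ S, s * (g : Λ) ∈ K := fun g => h _ (Submodule.subset_span g.2)
  choose c hc hcK using h'
  refine ⟨∏ g : G, c g, Submonoid.prod_mem S fun g _ => hc g, fun t ht => ?_⟩
  induction ht using Submodule.span_induction with
  | mem z hz =>
    rw [← Finset.mul_prod_erase Finset.univ c (Finset.mem_univ (⟨z, hz⟩ : G)), mul_comm (c _),
      mul_assoc]
    exact K.mul_mem_left _ (hcK ⟨z, hz⟩)
  | zero => rw [mul_zero]; exact K.zero_mem
  | add a b _ _ ha hb => rw [mul_add]; exact K.add_mem ha hb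
  | smul r a _ ha =>
    rw [smul_eq_mul, mul_left_comm]
    exact K.mul_mem_left _ ha

end aux

section main

variable {Λ : Type u} [CommRing Λ] [IsNoetherianRing Λ] (q : Ideal Λ) [q.IsPrime]
  [IsRegularLocalRing (Localization.AtPrime q)] (d : ℕ)
  (hd : ringKrullDim (Localization.AtPrime q) = d) (e : ℕ) (he : 0 < e)

local notation "A" => Localization.AtPrime q

/-- the ideal of `e`-th powers of the earlier parameters -/
def K (π : Fin d → Λ) (i : Fin d) : Ideal Λ :=
  Ideal.span (Set.range fun j : {j : Fin d // (j : ℕ) < (i : ℕ)} => π j ^ e)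

lemma K_congr (π π' : Fin d → Λ) (i : Fin d) (h : ∀ j : Fin d, (j : ℕ) < (i : ℕ) → π' j = π j) :
    K d e π' i = K d e π i := by
  unfold K
  congr 2
  funext j
  rw [h j j.2]

lemma map_K (π : Fin d → Λ) (i : Fin d) :
    (K d e π i).map (algebraMap Λ A) = KK d (fun j => algebraMap Λ A (π j)) e i := by
  unfold K KK
  rw [Ideal.map_span, ← Set.range_comp]
  congr 2
  funext j
  simp

include hd he in
lemma exists_step (π : Fin d → Λ)
    (hπ : Ideal.span (Set.range fun i => algebraMap Λ A (π i)) = maximalIdeal A) (i₀ : Fin d) :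
    ∃ s ∈ q.primeCompl, ∀ y : Λ, (s * π i₀) ^ 2 * y ∈ K d e π i₀ →
      (s * π i₀) * y ∈ K d e π i₀ := by
  set T : Ideal Λ := ((K d e π i₀).map (algebraMap Λ A)).comap (algebraMap Λ A) with hT
  have hTfg : T.FG := IsNoetherian.noetherian T
  obtain ⟨s, hs, hsT⟩ := exists_common_mul q.primeCompl T (K d e π i₀) hTfg (fun t ht =>
    Groth.Agent.H91.ElemStdLoc.exists_mul_mem_of_map_mem (T := A) q.primeCompl (K d e π i₀) t ht)
  refine ⟨s, hs, fun y hy => ?_⟩
  have h1 : algebraMap Λ A ((s * π i₀) ^ 2 * y) ∈ (K d e π i₀).map (algebraMap Λ A) :=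
    Ideal.mem_map_of_mem _ hy
  rw [map_K] at h1
  have hu : IsUnit (algebraMap Λ A s) := IsLocalization.map_units A (⟨s, hs⟩ : q.primeCompl)
  obtain ⟨v, hv⟩ := hu.exists_left_inv
  set x : Fin d → A := fun j => algebraMap Λ A (π j) with hx
  have h2 : x i₀ * (x i₀ * algebraMap Λ A y) ∈ KK d x e i₀ := by
    have : x i₀ * (x i₀ * algebraMap Λ A y) =
        v ^ 2 * algebraMap Λ A ((s * π i₀) ^ 2 * y) := by
      rw [map_mul, map_pow, map_mul]
      have : v ^ 2 * ((algebraMap Λ A s * algebraMap Λ A (π i₀)) ^ 2 * algebraMap Λ A y) =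
          (v * algebraMap Λ A s) ^ 2 * (x i₀ * (x i₀ * algebraMap Λ A y)) := by
        simp only [hx]
        ring
      rw [this, hv, one_pow, one_mul]
    rw [this]
    exact Ideal.mul_mem_left _ _ h1
  have h3 := mem_KK_of_mul_mem d hd x hπ e he i₀ _ (mem_KK_of_mul_mem d hd x hπ e he i₀ _ h2)
  have h4 : y ∈ T := by
    rw [hT, Ideal.mem_comap, map_K]
    exact h3
  have h5 := hsT y h4
  have : s * π i₀ * y = π i₀ * (s * y) := by ring
  rw [this]
  exact Ideal.mul_mem_left _ _ h5

/-- the inductive statement -/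
def Good (I : Ideal Λ) (n : ℕ) (π : Fin d → Λ) : Prop :=
  Ideal.span (Set.range fun i => algebraMap Λ A (π i)) = maximalIdeal A ∧ ∀ i, π i ^ n ∈ I

/-- the annihilator condition at index `i` -/
def Ann (π : Fin d → Λ) (i : Fin d) : Prop :=
  ∀ y : Λ, π i ^ 2 * y ∈ K d e π i → π i * y ∈ K d e π i

include hd he in
lemma exists_good_ann (I : Ideal Λ) (n : ℕ) (π₀ : Fin d → Λ) (h₀ : Good q d I n π₀) :
    ∀ k : ℕ, ∃ π : Fin d → Λ, Good q d I n π ∧ ∀ i : Fin d, (i : ℕ) < k → Ann d e π i := by
  classical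
  intro k
  induction k with
  | zero => exact ⟨π₀, h₀, fun i hi => absurd hi (Nat.not_lt_zero _)⟩
  | succ k ih =>
    obtain ⟨π, hπ, hann⟩ := ih
    by_cases hk : k < d
    · let i₀ : Fin d := ⟨k, hk⟩
      obtain ⟨s, hs, hstep⟩ := exists_step q d hd e he π hπ.1 i₀
      let π' : Fin d → Λ := Function.update π i₀ (s * π i₀)
      have hπ'ne : ∀ j : Fin d, j ≠ i₀ → π' j = π j := fun j hj => Function.update_of_ne hj _ _
      have hπ'i₀ : π' i₀ = s * π i₀ := Function.update_self _ _ _
      have hu : IsUnit (algebraMap Λ A s) := IsLocalization.map_units A (⟨s, hs⟩ : q.primeCompl)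
      refine ⟨π', ⟨?_, ?_⟩, ?_⟩
      · rw [← hπ.1]
        have : (fun i => algebraMap Λ A (π' i)) = fun i => algebraMap Λ A (π i) *
            (if i = i₀ then algebraMap Λ A s else 1) := by
          funext i
          by_cases hi : i = i₀
          · subst hi
            rw [hπ'i₀, if_pos rfl, map_mul, mul_comm]
          · rw [hπ'ne i hi, if_neg hi, mul_one]
        rw [this]
        apply span_range_mul_unit
        intro i
        split_ifs
        · exact hu
        · exact isUnit_one
      · intro i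
        by_cases hi : i = i₀
        · subst hi
          rw [hπ'i₀, mul_pow]
          exact Ideal.mul_mem_left _ _ (hπ.2 _)
        · rw [hπ'ne i hi]
          exact hπ.2 i
      · intro i hi
        have hK : K d e π' i = K d e π i := by
          apply K_congr
          intro j hj
          apply hπ'ne
          intro hji
          rw [hji] at hj
          change k < (i : ℕ) at hj
          omega
        unfold Ann
        rw [hK]
        by_cases hik : i = i₀
        · subst hik
          rw [hπ'i₀]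
          exact hstep
        · rw [hπ'ne i hik]
          apply hann i
          have : (i : ℕ) ≠ k := fun h => hik (Fin.ext h)
          omega
    · exact ⟨π, hπ, fun i _ => hann i (by have := i.2; omega)⟩

include hd he in
theorem main (I : Ideal Λ) (n : ℕ) (hn : 0 < n)
    (hpow : (q ^ n).map (algebraMap Λ A) ≤ I.map (algebraMap Λ A)) :
    ∃ π : Fin d → Λ, Ideal.span (Set.range fun i => algebraMap Λ A (π i)) =
        q.map (algebraMap Λ A) ∧ (∀ i, π i ^ n ∈ I) ∧
      ∀ i : Fin d, ∀ y : Λ, π i ^ 2 * y ∈ K d e π i → π i * y ∈ K d e π i := by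
  classical
  obtain ⟨x₀, hx₀⟩ := @exists_generators (Localization.AtPrime q) _ _ d hd
  have hsurj : ∀ i, ∃ (a : Λ) (t : q.primeCompl), IsLocalization.mk' A a t = x₀ i :=
    fun i => IsLocalization.exists_mk'_eq q.primeCompl (x₀ i)
  choose a t hat using hsurj
  have haq : ∀ i, a i ∈ q := by
    intro i
    have h1 : x₀ i ∈ maximalIdeal A := by
      rw [← hx₀]
      exact Ideal.subset_span ⟨i, rfl⟩
    rw [← hat i] at h1
    exact (IsLocalization.AtPrime.mk'_mem_maximal_iff A q (a i) (t i)).1 h1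
  have hmem : ∀ i, ∃ s ∈ q.primeCompl, s * a i ^ n ∈ I := by
    intro i
    apply Groth.Agent.H91.ElemStdLoc.exists_mul_mem_of_map_mem (T := A) q.primeCompl I
    apply hpow
    exact Ideal.mem_map_of_mem _ (Ideal.pow_mem_pow (haq i) n)
  choose s hs hsI using hmem
  let π₀ : Fin d → Λ := fun i => s i * a i
  have hgood : Good q d I n π₀ := by
    refine ⟨?_, fun i => ?_⟩
    · rw [← hx₀]
      have : (fun i => algebraMap Λ A (π₀ i)) = fun i => x₀ i *
          (algebraMap Λ A (t i) * algebraMap Λ A (s i)) := by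
        funext i
        simp only [π₀]
        rw [map_mul, ← mul_assoc, ← hat i, IsLocalization.mk'_spec, mul_comm]
      rw [this]
      apply span_range_mul_unit
      intro i
      exact (IsLocalization.map_units A (t i)).mul
        (IsLocalization.map_units A (⟨s i, hs i⟩ : q.primeCompl))
    · simp only [π₀]
      obtain ⟨m, rfl⟩ : ∃ m, n = m + 1 := ⟨n - 1, by omega⟩
      have : (s i * a i) ^ (m + 1) = s i ^ m * (s i * a i ^ (m + 1)) := by ring
      rw [this]
      exact Ideal.mul_mem_left _ _ (hsI i)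
  obtain ⟨π, hπ, hann⟩ := exists_good_ann q d hd e he I n π₀ hgood d
  refine ⟨π, ?_, hπ.2, fun i => hann i i.2⟩
  rw [hπ.1, IsLocalization.AtPrime.map_eq_maximalIdeal]

end main

end Groth.Agent.H91.RegPow
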