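import Mathlib
import Groth.Agent.H91.PopF
import Groth.Agent.H91.RegPowC

/-!
# Stage 2b: generators of the contracted prime in the polynomial ring map to independent elements
-/

set_option autoImplicit false
set_option linter.style.haveILetI false
universe u

open IsLocalRing MvPolynomial

namespace Groth.Agent.H91.Pop

theorem exists_indep (p : ℕ) [Fact p.Prime] (k : Type u) [Field k] [CharP k p] (A : Type u)
    [CommRing A] [IsLocalRing A] [IsNoetherianRing A] [Algebra k A]
    (hA : CAlg.IsGeometricallyRegular k A)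
    (F : IntermediateField k (ResidueField A)) (m : ℕ)
    (φ : MvPolynomial (Fin m) k →ₐ[k] A)
    (hφ : ∀ i : Fin m, residue A (φ (X i)) ∈ F)
    (hb : LinearIndependent F
      (fun i : Fin m => KaehlerDifferential.D k F ⟨residue A (φ (X i)), hφ i⟩)) :
    ∃ (e : ℕ) (g : Fin e → MvPolynomial (Fin m) k),
      (∀ i, φ (g i) ∈ maximalIdeal A) ∧
      Ideal.span (Set.range fun i => algebraMap (MvPolynomial (Fin m) k)
        (Localization.AtPrime (Ideal.comap φ.toRingHom (maximalIdeal A))) (g i)) =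
          maximalIdeal (Localization.AtPrime (Ideal.comap φ.toRingHom (maximalIdeal A))) ∧
      ∀ c : Fin e → A, ∑ i, c i * φ (g i) ∈ maximalIdeal A ^ 2 → ∀ i, c i ∈ maximalIdeal A := by
  classical
  have hfs := Groth.Agent.H23.GeomRegFS.adic_of_geomReg p A hA
  let 𝔭 : Ideal (MvPolynomial (Fin m) k) := Ideal.comap φ.toRingHom (maximalIdeal A)
  haveI h𝔭 : 𝔭.IsPrime := Ideal.comap_isPrime _ _
  let ybar : Fin m → F := fun i => ⟨residue A (φ (X i)), hφ i⟩
  let ev : MvPolynomial (Fin m) k →ₐ[k] F := aeval ybar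
  have hev : ∀ G, ((ev G : F) : ResidueField A) = residue A (φ G) := by
    intro G
    have h1 : (F.val.comp ev) = (IsScalarTower.toAlgHom k A (ResidueField A)).comp φ := by
      apply MvPolynomial.algHom_ext
      intro i
      simp only [AlgHom.comp_apply, ev, aeval_X, ybar]
      rfl
    exact AlgHom.congr_fun h1 G
  have hmem : ∀ G, G ∈ 𝔭 ↔ ev G = 0 := by
    intro G
    change φ G ∈ maximalIdeal A ↔ _
    rw [← residue_eq_zero_iff, ← hev]
    constructor
    · intro h
      exact Subtype.ext h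
    · intro h
      rw [h]
      rfl
  have hp : ∀ G ∈ 𝔭, ∀ j, pderiv j G ∈ 𝔭 := by
    intro G hG j
    rw [hmem] at hG ⊢
    have h1 := derivation_aeval (KaehlerDifferential.D k F) ybar G
    rw [show aeval ybar G = ev G from rfl, hG, map_zero] at h1
    exact Fintype.linearIndependent_iff.mp hb _ h1.symm j
  have hunit : ∀ y : 𝔭.primeCompl, IsUnit (φ y) := by
    intro y
    by_contra hnu
    exact y.2 ((mem_maximalIdeal _).mpr hnu)
  let φ' : Localization.AtPrime 𝔭 →ₐ[k] A :=
    IsLocalization.liftAlgHom (M := 𝔭.primeCompl) (f := φ) hunit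
  have hφ'alg : ∀ G, φ' (algebraMap _ (Localization.AtPrime 𝔭) G) = φ G := by
    intro G
    exact IsLocalization.lift_eq _ G
  haveI hloc : IsLocalHom φ'.toRingHom := by
    refine ⟨fun a ha => ?_⟩
    by_contra hna
    have ham : a ∈ maximalIdeal (Localization.AtPrime 𝔭) := (mem_maximalIdeal _).mpr hna
    obtain ⟨G, s, rfl⟩ := IsLocalization.exists_mk'_eq 𝔭.primeCompl a
    have hG : G ∈ 𝔭 :=
      (IsLocalization.AtPrime.mk'_mem_maximal_iff (Localization.AtPrime 𝔭) 𝔭 G s).mp ham
    have h1 : φ' (IsLocalization.mk' (Localization.AtPrime 𝔭) G s) * φ (s : MvPolynomial (Fin m) k)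
        = φ G := by
      rw [← hφ'alg, ← hφ'alg G, ← map_mul, IsLocalization.mk'_spec]
    have h2 : IsUnit (φ G) := by
      rw [← h1]
      exact IsUnit.mul ha (hunit s)
    exact (mem_maximalIdeal _).mp hG h2
  have hder : ∀ (N : Type u) [AddCommGroup N] [Module (Localization.AtPrime 𝔭) N] [Module k N]
      [IsScalarTower k (Localization.AtPrime 𝔭) N],
      (∀ x ∈ maximalIdeal (Localization.AtPrime 𝔭), ∀ n : N, x • n = 0) →
        ∀ δ : Derivation k (Localization.AtPrime 𝔭) N,
          ∀ x ∈ maximalIdeal (Localization.AtPrime 𝔭), δ x = 0 :=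
    fun N _ _ _ _ hkill δ x hx => derivation_eq_zero_of_pderiv_mem 𝔭 hp N hkill δ x hx
  obtain ⟨σ, hσ⟩ := exists_sigma p (k := k) (P' := Localization.AtPrime 𝔭)
  obtain ⟨d, hd, -⟩ := Groth.Agent.Lead.RLR.exists_ringKrullDim_eq (Localization.AtPrime 𝔭)
  obtain ⟨x, hx⟩ := Groth.Agent.Lead.RLR.exists_fin_span_eq (Localization.AtPrime 𝔭) d hd
  have hxm : ∀ i, x i ∈ maximalIdeal (Localization.AtPrime 𝔭) :=
    fun i => hx ▸ Ideal.subset_span ⟨i, rfl⟩
  have hli := indep_of_span_eq (Localization.AtPrime 𝔭) d hd x hx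
  have hcore := core φ' hfs σ hσ hder x hxm hli
  -- clear denominators
  have hfrac : ∀ i, ∃ (G : MvPolynomial (Fin m) k) (s : 𝔭.primeCompl),
      IsLocalization.mk' (Localization.AtPrime 𝔭) G s = x i :=
    fun i => IsLocalization.exists_mk'_eq 𝔭.primeCompl (x i)
  choose G s hGs using hfrac
  have hGx : ∀ i, algebraMap _ (Localization.AtPrime 𝔭) (G i) =
      x i * algebraMap _ (Localization.AtPrime 𝔭) (s i : MvPolynomial (Fin m) k) := by
    intro i
    rw [← hGs i, IsLocalization.mk'_spec]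
  refine ⟨d, G, ?_, ?_, ?_⟩
  · intro i
    have hGi : G i ∈ 𝔭 := by
      rw [← IsLocalization.AtPrime.mk'_mem_maximal_iff (Localization.AtPrime 𝔭) 𝔭 (G i) (s i),
        hGs i]
      exact hxm i
    exact hGi
  · have h1 : (fun i => algebraMap (MvPolynomial (Fin m) k) (Localization.AtPrime 𝔭) (G i)) =
        fun i => x i * algebraMap _ (Localization.AtPrime 𝔭) (s i : MvPolynomial (Fin m) k) :=
      funext hGx
    rw [h1, Groth.Agent.H91.RegPow.span_range_mul_unit x _
      (fun i => IsLocalization.map_units _ (s i)), hx]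
  · intro c hc
    have h1 : ∑ i, c i * φ (G i) =
        ∑ i, (c i * φ (s i : MvPolynomial (Fin m) k)) * φ' (x i) := by
      refine Finset.sum_congr rfl fun i _ => ?_
      rw [← hφ'alg (G i), hGx i, map_mul, hφ'alg]
      ring
    rw [h1] at hc
    have h2 := hcore _ hc
    intro i
    rcases (maximalIdeal.isMaximal A).isPrime.mem_or_mem (h2 i) with h3 | h3
    · exact h3
    · exact absurd (hunit (s i)) ((mem_maximalIdeal _).mp h3)

end Groth.Agent.H91.Pop
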