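import Mathlib
import Groth.Agent.H91.PopE
import Groth.Agent.H91.PopF

/-!
# Generic lemmas on regular local rings: independent families of full size generate; flatness from
generators mapping to an independent family
-/

set_option autoImplicit false
set_option linter.style.haveILetI false
universe u

open IsLocalRing RingTheory.Sequence

namespace Groth.Agent.H91.Pop

section Span

variable (R : Type u) [CommRing R] [IsLocalRing R] [IsNoetherianRing R]

theorem span_eq_maximalIdeal_of_indep {n : ℕ} (a : Fin n → R) (ha : ∀ i, a i ∈ maximalIdeal R)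
    (hli : ∀ r : Fin n → R, ∑ i, r i * a i ∈ maximalIdeal R ^ 2 → ∀ i, r i ∈ maximalIdeal R)
    (hn : n = (maximalIdeal R).spanFinrank) : Ideal.span (Set.range a) = maximalIdeal R := by
  classical
  have hv := (linearIndependent_toCotangent_iff a ha).mpr hli
  have hcard : Fintype.card (Fin n) = Module.finrank (ResidueField R) (CotangentSpace R) := by
    rw [Fintype.card_fin, hn, IsLocalRing.spanFinrank_maximalIdeal_eq_finrank_cotangentSpace]
  have htop := hv.span_eq_top_of_card_eq_finrank' hcard
  let a' : Fin n → ↥(maximalIdeal R) := fun i => ⟨a i, ha i⟩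
  have h1 : (maximalIdeal R).toCotangent '' (Set.range a') =
      Set.range fun i => (maximalIdeal R).toCotangent ⟨a i, ha i⟩ := by
    rw [← Set.range_comp]
    rfl
  have hspan : Submodule.span R (Set.range a') = ⊤ := by
    rw [← IsLocalRing.CotangentSpace.span_image_eq_top_iff, h1]
    exact htop
  have h2 : Submodule.map (maximalIdeal R).subtype (Submodule.span R (Set.range a')) =
      maximalIdeal R := by
    rw [hspan, Submodule.map_top, Submodule.range_subtype]
  rw [Submodule.map_span, ← Set.range_comp] at h2
  exact h2

/-- generating and independent families have the size of the cotangent space -/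
theorem card_eq_spanFinrank_of_indep_of_span {n : ℕ} (a : Fin n → R)
    (ha : ∀ i, a i ∈ maximalIdeal R)
    (hli : ∀ r : Fin n → R, ∑ i, r i * a i ∈ maximalIdeal R ^ 2 → ∀ i, r i ∈ maximalIdeal R)
    (hspan : Ideal.span (Set.range a) = maximalIdeal R) : n = (maximalIdeal R).spanFinrank := by
  classical
  have hv := (linearIndependent_toCotangent_iff a ha).mpr hli
  have h1 : n ≤ (maximalIdeal R).spanFinrank := by
    rw [IsLocalRing.spanFinrank_maximalIdeal_eq_finrank_cotangentSpace]
    have := hv.fintype_card_le_finrank
    rwa [Fintype.card_fin] at this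
  have h2 : (maximalIdeal R).spanFinrank ≤ n := by
    rw [← hspan]
    refine (Submodule.spanFinrank_span_le_ncard_of_finite (Set.finite_range _)).trans ?_
    have h3 : (Set.range a).ncard ≤ (Set.univ : Set (Fin n)).ncard := by
      rw [← Set.image_univ]
      exact Set.ncard_image_le Set.finite_univ
    refine h3.trans ?_
    rw [Set.ncard_univ, Nat.card_fin]
  omega

end Span

section Flat

variable (P S : Type u) [CommRing P] [IsRegularLocalRing P] [CommRing S] [IsRegularLocalRing S]
  [Algebra P S] [IsLocalHom (algebraMap P S)]

/-- generators of the maximal ideal of `P` mapping to an independent family of `S`: `P → S` is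
flat and the family is a regular system of parameters of `P` -/
theorem flat_of_generators {n : ℕ} (π' : Fin n → P)
    (hspan : Ideal.span (Set.range π') = maximalIdeal P)
    (hli : ∀ c : Fin n → S, ∑ i, c i * algebraMap P S (π' i) ∈ maximalIdeal S ^ 2 →
      ∀ i, c i ∈ maximalIdeal S) :
    ringKrullDim P = n ∧ Module.Flat P S := by
  classical
  have hm : ∀ i, π' i ∈ maximalIdeal P := fun i => hspan ▸ Ideal.subset_span ⟨i, rfl⟩
  have hmS : ∀ i, algebraMap P S (π' i) ∈ maximalIdeal S := by
    intro i
    by_contra hcon
    have hu : IsUnit (algebraMap P S (π' i)) := by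
      by_contra hnu
      exact hcon ((mem_maximalIdeal _).mpr hnu)
    exact (mem_maximalIdeal _).mp (hm i) ((isUnit_map_iff (algebraMap P S) _).mp hu)
  have hliP : ∀ r : Fin n → P, ∑ i, r i * π' i ∈ maximalIdeal P ^ 2 →
      ∀ i, r i ∈ maximalIdeal P := by
    intro r hr i
    have h1 : ∑ i, algebraMap P S (r i) * algebraMap P S (π' i) ∈ maximalIdeal S ^ 2 := by
      have h2 : algebraMap P S (∑ i, r i * π' i) ∈
          (maximalIdeal P ^ 2).map (algebraMap P S) := Ideal.mem_map_of_mem _ hr
      rw [Ideal.map_pow] at h2
      have h3 : (maximalIdeal P).map (algebraMap P S) ≤ maximalIdeal S :=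
        IsLocalRing.map_maximalIdeal_le (algebraMap P S)
      have h4 := Ideal.pow_right_mono h3 2 h2
      simpa only [map_sum, map_mul] using h4
    have h5 := hli _ h1 i
    by_contra hcon
    have hu : IsUnit (r i) := by
      by_contra hnu
      exact hcon ((mem_maximalIdeal _).mpr hnu)
    exact (mem_maximalIdeal _).mp h5 (hu.map (algebraMap P S))
  have hn := card_eq_spanFinrank_of_indep_of_span P π' hm hliP hspan
  have hd : ringKrullDim P = n := by
    rw [Groth.Agent.Lead.RLR.ringKrullDim_eq_spanFinrank P, ← hn]
  refine ⟨hd, ?_⟩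
  obtain ⟨hwr, -⟩ := isWeaklyRegular_and_quotient_regular S
    (fun i => algebraMap P S (π' i)) hmS hli
  have hreg := Groth.Agent.Lead.RLR.isRegular_ofFn P n hd π' hspan
  have hof : Ideal.ofList (List.ofFn π') = maximalIdeal P := by
    rw [ofList_ofFn, hspan]
  have hmemfs : ∀ f ∈ List.ofFn π', f ∈ maximalIdeal P := by
    intro f hf
    rw [← hof]
    exact Ideal.subset_span hf
  rw [Groth.Agent.S5777.result P S S (List.ofFn π') hmemfs hreg.toIsWeaklyRegular]
  constructor
  · have hmax : (Ideal.ofList (List.ofFn π')).IsMaximal := hof ▸ inferInstance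
    let _ := Ideal.Quotient.field (Ideal.ofList (List.ofFn π'))
    infer_instance
  · rw [← isWeaklyRegular_map_algebraMap_iff S S (List.ofFn π'), List.map_ofFn]
    exact hwr

end Flat

end Groth.Agent.H91.Pop
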