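import Mathlib
import Groth.Prelude.Def_Found
import Groth.Agent.H91.PopL
import Groth.Agent.H91.PopM
import Groth.Agent.H91.PopN
import Groth.Agent.H91.ElemStdLocA

/-!
# Stage 2 of the inseparable case: the polynomial ring and its regular system of parameters
-/

set_option autoImplicit false
set_option linter.style.haveILetI false
universe u

open IsLocalRing MvPolynomial

namespace Groth.Agent.H91.Pop

theorem stage2 (p : ℕ) [Fact p.Prime] {k : Type u} [Field k] [CharP k p]
    (S : Type u) [CommRing S] [IsLocalRing S] [IsNoetherianRing S] [Algebra k S]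
    (hS : CAlg.IsGeometricallyRegular k S)
    {Λ : Type u} [CommRing Λ] [Algebra k Λ] (𝔮 : Ideal Λ) [𝔮.IsPrime] [Algebra Λ S]
    [IsScalarTower k Λ S] [IsLocalization.AtPrime S 𝔮]
    {d₀ : ℕ} (u : Fin d₀ → Λ)
    (hu : Ideal.span (Set.range fun i => algebraMap Λ S (u i)) = maximalIdeal S)
    (F : IntermediateField k (ResidueField S)) {m₀ : ℕ} (y : Fin m₀ → Λ)
    (hF : F = IntermediateField.adjoin k (Set.range fun l => residue S (algebraMap Λ S (y l)))) :
    ∃ (t h e : ℕ) (w : Fin t ⊕ Fin h → Λ) (π : Fin (e + h) → MvPolynomial (Fin t ⊕ Fin h) k),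
      e + h = (maximalIdeal S).spanFinrank ∧
      (∀ l, w l ∈ Set.range y ∨ w l ∈ Set.range u) ∧
      Ideal.span (Set.range fun i => algebraMap (MvPolynomial (Fin t ⊕ Fin h) k)
          (Localization.AtPrime (𝔮.comap
            (aeval w : MvPolynomial (Fin t ⊕ Fin h) k →ₐ[k] Λ).toRingHom)) (π i)) =
        maximalIdeal (Localization.AtPrime (𝔮.comap
            (aeval w : MvPolynomial (Fin t ⊕ Fin h) k →ₐ[k] Λ).toRingHom)) ∧
      (∀ c : Fin (e + h) → S, ∑ i, c i * algebraMap Λ S (aeval w (π i)) ∈ maximalIdeal S ^ 2 →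
        ∀ i, c i ∈ maximalIdeal S) ∧
      ∃ wF : Fin t ⊕ Fin h → F,
        (∀ l, (wF l : ResidueField S) = residue S (algebraMap Λ S (w l))) ∧
        Submodule.span F (Set.range fun l => KaehlerDifferential.D k F (wF l)) = ⊤ := by
  classical
  haveI hregS : IsRegularRing S := by
    haveI := hS k (Module.Finite.self k)
    exact IsRegularRing.of_ringEquiv (Algebra.TensorProduct.lid k S).toRingEquiv
  haveI : IsRegularLocalRing S := IsRegularLocalRing.of_isRegularRing_of_isLocalRing S
  have hmemS : ∀ x : Λ, algebraMap Λ S x ∈ maximalIdeal S ↔ x ∈ 𝔮 :=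
    fun x => IsLocalization.AtPrime.to_map_mem_maximal_iff S 𝔮 x
  have hu𝔮 : ∀ i, u i ∈ 𝔮 := fun i => by
    rw [← hmemS, ← hu]
    exact Ideal.subset_span ⟨i, rfl⟩
  set g : Fin m₀ → ResidueField S := fun l => residue S (algebraMap Λ S (y l)) with hg_def
  have hg : ∀ l, g l ∈ F := fun l => by
    rw [hF]
    exact IntermediateField.subset_adjoin _ _ ⟨l, rfl⟩
  obtain ⟨t, sel, hli, hspanΩ⟩ := exists_sel g F hF hg
  -- the polynomial ring in the selected variables
  let φY : MvPolynomial (Fin t) k →ₐ[k] S := aeval fun i => algebraMap Λ S (y (sel i))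
  have hφYX : ∀ i, φY (X i) = algebraMap Λ S (y (sel i)) := fun i => by
    simp only [φY, aeval_X]
  have hφY : ∀ i, residue S (φY (X i)) ∈ F := fun i => by
    rw [hφYX]
    exact hg (sel i)
  have hb : LinearIndependent F
      (fun i : Fin t => KaehlerDifferential.D k F ⟨residue S (φY (X i)), hφY i⟩) := by
    have : (fun i : Fin t => KaehlerDifferential.D k F ⟨residue S (φY (X i)), hφY i⟩) =
        fun i => KaehlerDifferential.D k F ⟨g (sel i), hg (sel i)⟩ := by
      funext i
      congr 2
      exact congrArg _ (hφYX i)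
    rw [this]
    exact hli
  obtain ⟨e, gg, hggm, hggspan, hggli⟩ := exists_indep p k S hS F t φY hφY hb
  obtain ⟨h, jj, hcard, hall⟩ := exists_complement S (fun i => φY (gg i)) hggm hggli
    (fun i => algebraMap Λ S (u i)) hu
  -- the big polynomial ring
  let w : Fin t ⊕ Fin h → Λ := Sum.elim (fun i => y (sel i)) (fun j => u (jj j))
  let φR : MvPolynomial (Fin t ⊕ Fin h) k →ₐ[k] Λ := aeval w
  let ι : MvPolynomial (Fin t) k →ₐ[k] MvPolynomial (Fin t ⊕ Fin h) k := rename Sum.inl
  let θ : MvPolynomial (Fin t ⊕ Fin h) k →ₐ[k] MvPolynomial (Fin t) k :=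
    aeval (Sum.elim X (fun _ => 0))
  have hφRι : ∀ G, algebraMap Λ S (φR (ι G)) = φY G := by
    intro G
    have h1 : ((IsScalarTower.toAlgHom k Λ S).comp (φR.comp ι)) = φY := by
      apply MvPolynomial.algHom_ext
      intro i
      simp only [AlgHom.comp_apply, ι, rename_X, φR, aeval_X, w, Sum.elim_inl, φY,
        IsScalarTower.coe_toAlgHom']
    exact AlgHom.congr_fun h1 G
  let π : Fin (e + h) → MvPolynomial (Fin t ⊕ Fin h) k :=
    Fin.append (fun i => ι (gg i)) (fun j => X (Sum.inr j))
  have hπS : ∀ i, algebraMap Λ S (φR (π i)) =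
      Fin.append (fun i => φY (gg i)) (fun i => algebraMap Λ S (u (jj i))) i := by
    intro i
    refine Fin.addCases (fun i => ?_) (fun j => ?_) i
    · simp only [π, Fin.append_left]
      exact hφRι _
    · simp only [π, Fin.append_right, φR, aeval_X, w, Sum.elim_inr]
  have hπ𝔮 : ∀ i, φR (π i) ∈ 𝔮 := by
    intro i
    rw [← hmemS, hπS]
    refine Fin.addCases (fun i => ?_) (fun j => ?_) i
    · rw [Fin.append_left]
      exact hggm i
    · rw [Fin.append_right, hmemS]
      exact hu𝔮 _
  refine ⟨t, h, e, w, π, hcard, ?_, ?_, ?_, ?_⟩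
  · rintro (i | j)
    · exact Or.inl ⟨sel i, rfl⟩
    · exact Or.inr ⟨jj j, rfl⟩
  · -- the span
    let 𝔭 : Ideal (MvPolynomial (Fin t ⊕ Fin h) k) := 𝔮.comap φR.toRingHom
    haveI : 𝔭.IsPrime := Ideal.comap_isPrime _ _
    change Ideal.span (Set.range fun i => algebraMap (MvPolynomial (Fin t ⊕ Fin h) k)
      (Localization.AtPrime 𝔭) (π i)) = maximalIdeal (Localization.AtPrime 𝔭)
    let 𝔭Y : Ideal (MvPolynomial (Fin t) k) := Ideal.comap φY.toRingHom (maximalIdeal S)
    haveI : 𝔭Y.IsPrime := Ideal.comap_isPrime _ _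
    apply le_antisymm
    · rw [Ideal.span_le]
      rintro _ ⟨i, rfl⟩
      rw [SetLike.mem_coe,
        IsLocalization.AtPrime.to_map_mem_maximal_iff (Localization.AtPrime 𝔭) 𝔭]
      exact hπ𝔮 i
    · rw [← IsLocalization.AtPrime.map_eq_maximalIdeal 𝔭 (Localization.AtPrime 𝔭),
        Ideal.map_le_iff_le_comap]
      intro G hG
      rw [Ideal.mem_comap]
      -- the ideal of the extra variables
      let J : Ideal (MvPolynomial (Fin t ⊕ Fin h) k) :=
        Ideal.span (Set.range fun j : Fin h => (X (Sum.inr j) : MvPolynomial (Fin t ⊕ Fin h) k))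
      have hJ1 : G - ι (θ G) ∈ J := by
        have h1 : (Ideal.Quotient.mkₐ k J) = (Ideal.Quotient.mkₐ k J).comp (ι.comp θ) := by
          apply MvPolynomial.algHom_ext
          rintro (i | j)
          · simp only [AlgHom.comp_apply, θ, aeval_X, Sum.elim_inl, ι, rename_X]
          · simp only [AlgHom.comp_apply, θ, aeval_X, Sum.elim_inr, map_zero]
            exact Ideal.Quotient.eq_zero_iff_mem.mpr (Ideal.subset_span ⟨j, rfl⟩)
        have h2 := AlgHom.congr_fun h1 G
        rw [AlgHom.comp_apply, AlgHom.comp_apply] at h2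
        exact Ideal.Quotient.eq.mp h2
      have hJ𝔮 : ∀ G' ∈ J, φR G' ∈ 𝔮 := by
        intro G' hG'
        have : J ≤ 𝔮.comap φR.toRingHom := by
          rw [Ideal.span_le]
          rintro _ ⟨j, rfl⟩
          change φR (X (Sum.inr j)) ∈ 𝔮
          simp only [φR, aeval_X, w, Sum.elim_inr]
          exact hu𝔮 _
        exact this hG'
      have hJP : ∀ G' ∈ J, algebraMap _ (Localization.AtPrime 𝔭) G' ∈
          Ideal.span (Set.range fun i => algebraMap (MvPolynomial (Fin t ⊕ Fin h) k)
            (Localization.AtPrime 𝔭) (π i)) := by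
        intro G' hG'
        have : J ≤ (Ideal.span (Set.range fun i => algebraMap (MvPolynomial (Fin t ⊕ Fin h) k)
            (Localization.AtPrime 𝔭) (π i))).comap (algebraMap _ (Localization.AtPrime 𝔭)) := by
          rw [Ideal.span_le]
          rintro _ ⟨j, rfl⟩
          rw [SetLike.mem_coe, Ideal.mem_comap]
          refine Ideal.subset_span ⟨Fin.natAdd e j, ?_⟩
          simp only [π, Fin.append_right]
        exact this hG'
      have hθ : θ G ∈ 𝔭Y := by
        change φY (θ G) ∈ maximalIdeal S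
        rw [← hφRι, hmemS]
        have h1 : φR (ι (θ G)) = φR G - φR (G - ι (θ G)) := by
          rw [map_sub]; ring
        rw [h1]
        exact 𝔮.sub_mem hG (hJ𝔮 _ hJ1)
      have h3 : algebraMap _ (Localization.AtPrime 𝔭Y) (θ G) ∈
          (Ideal.span (Set.range gg)).map (algebraMap _ (Localization.AtPrime 𝔭Y)) := by
        rw [Ideal.map_span, ← Set.range_comp]
        change _ ∈ Ideal.span (Set.range fun i => algebraMap (MvPolynomial (Fin t) k)
          (Localization.AtPrime 𝔭Y) (gg i))
        rw [hggspan, IsLocalization.AtPrime.to_map_mem_maximal_iff (Localization.AtPrime 𝔭Y) 𝔭Y]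
        exact hθ
      obtain ⟨s, hs, hsG⟩ := Groth.Agent.H91.ElemStdLoc.exists_mul_mem_of_map_mem
        (T := Localization.AtPrime 𝔭Y) 𝔭Y.primeCompl (Ideal.span (Set.range gg)) (θ G) h3
      have hιs : ι s ∈ 𝔭.primeCompl := by
        intro hcon
        apply hs
        change φY s ∈ maximalIdeal S
        rw [← hφRι, hmemS]
        exact hcon
      have hunit : IsUnit (algebraMap _ (Localization.AtPrime 𝔭) (ι s)) :=
        IsLocalization.map_units (Localization.AtPrime 𝔭) ⟨ι s, hιs⟩
      have h4 : algebraMap _ (Localization.AtPrime 𝔭) (ι (s * θ G)) ∈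
          Ideal.span (Set.range fun i => algebraMap (MvPolynomial (Fin t ⊕ Fin h) k)
            (Localization.AtPrime 𝔭) (π i)) := by
        have h5 : Ideal.span (Set.range gg) ≤
            (Ideal.span (Set.range fun i => algebraMap (MvPolynomial (Fin t ⊕ Fin h) k)
              (Localization.AtPrime 𝔭) (π i))).comap
              ((algebraMap _ (Localization.AtPrime 𝔭)).comp ι.toRingHom) := by
          rw [Ideal.span_le]
          rintro _ ⟨i, rfl⟩
          rw [SetLike.mem_coe, Ideal.mem_comap]
          refine Ideal.subset_span ⟨Fin.castAdd h i, ?_⟩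
          simp only [π, Fin.append_left]
          rfl
        exact h5 hsG
      rw [map_mul, map_mul] at h4
      have h6 : algebraMap _ (Localization.AtPrime 𝔭) (ι (θ G)) ∈
          Ideal.span (Set.range fun i => algebraMap (MvPolynomial (Fin t ⊕ Fin h) k)
            (Localization.AtPrime 𝔭) (π i)) := by
        obtain ⟨v, hv⟩ := hunit
        have h7 : algebraMap _ (Localization.AtPrime 𝔭) (ι (θ G)) =
            (↑v⁻¹ : Localization.AtPrime 𝔭) * (algebraMap _ (Localization.AtPrime 𝔭) (ι s) *
              algebraMap _ (Localization.AtPrime 𝔭) (ι (θ G))) := by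
          rw [← hv, ← mul_assoc, Units.inv_mul, one_mul]
        rw [h7]
        exact Ideal.mul_mem_left _ _ h4
      have h8 : G = (G - ι (θ G)) + ι (θ G) := by ring
      rw [h8, map_add]
      exact Ideal.add_mem _ (hJP _ hJ1) h6
  · intro c hc i
    refine hall c ?_ i
    have : ∑ i, c i * Fin.append (fun i => φY (gg i)) (fun i => algebraMap Λ S (u (jj i))) i =
        ∑ i, c i * algebraMap Λ S (aeval w (π i)) := by
      refine Finset.sum_congr rfl fun i _ => ?_
      rw [← hπS]
    rw [this]
    exact hc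
  · refine ⟨Sum.elim (fun i => ⟨g (sel i), hg (sel i)⟩) (fun _ => 0), ?_, ?_⟩
    · rintro (i | j)
      · rfl
      · simp only [Sum.elim_inr, w]
        have : residue S (algebraMap Λ S (u (jj j))) = 0 := by
          rw [residue_eq_zero_iff, hmemS]
          exact hu𝔮 _
        rw [this]
        rfl
    · rw [eq_top_iff, ← hspanΩ, Submodule.span_le]
      rintro _ ⟨i, rfl⟩
      exact Submodule.subset_span ⟨Sum.inl i, rfl⟩

end Groth.Agent.H91.Pop
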