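import Mathlib
import Groth.Agent.H91.RegPowC

/-!
# Annihilator conditions after multiplying by powers of a single multiplier

Let `π_1, …, π_r ∈ Λ` satisfy the annihilator conditions (modulo `E`-th powers of the earlier ones)
in the localization `Λ_𝔮`.  Then for every sufficiently divisible `l ∉ 𝔮` the elements
`l ^ b_i * π_i` satisfy them in `Λ`, as soon as `b_j * E + 1 ≤ b_i` for `j < i`.
-/

set_option autoImplicit false
universe u

namespace Groth.Agent.H91.Pop

open Groth.Agent.H91.RegPow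

section Mult

variable {Λ : Type u} [CommRing Λ] [IsNoetherianRing Λ] (q : Ideal Λ) [q.IsPrime]
  {A : Type u} [CommRing A] [Algebra Λ A] [IsLocalization.AtPrime A q]

theorem K_mul_le {r : ℕ} (E : ℕ) (π : Fin r → Λ) (b : Fin r → ℕ) (l : Λ) (i : Fin r) :
    K r E (fun j => l ^ b j * π j) i ≤ K r E π i := by
  unfold K
  rw [Ideal.span_le]
  rintro _ ⟨j, rfl⟩
  change (l ^ b j * π j) ^ E ∈ _
  rw [mul_pow]
  exact Ideal.mul_mem_left _ _ (Ideal.subset_span ⟨j, rfl⟩)

theorem pow_mul_K_le {r : ℕ} (E : ℕ) (π : Fin r → Λ) (b : Fin r → ℕ) (l : Λ) (i : Fin r)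
    (hb : ∀ j : Fin r, (j : ℕ) < (i : ℕ) → b j * E + 1 ≤ b i) (z : Λ) (hz : z ∈ K r E π i) :
    l ^ (b i - 1) * z ∈ K r E (fun j => l ^ b j * π j) i := by
  unfold K at hz
  induction hz using Submodule.span_induction with
  | mem z hz =>
    obtain ⟨j, rfl⟩ := hz
    have h1 : b i - 1 = (b i - 1 - b j * E) + b j * E := by
      have := hb j j.2
      omega
    have h2 : l ^ (b i - 1) * (π j) ^ E = l ^ (b i - 1 - b j * E) * (l ^ b j * π j) ^ E := by
      rw [mul_pow, ← pow_mul, ← mul_assoc, ← pow_add, ← h1]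
    change l ^ (b i - 1) * (π j) ^ E ∈ _
    rw [h2]
    exact Ideal.mul_mem_left _ _ (Ideal.subset_span ⟨j, rfl⟩)
  | zero => rw [mul_zero]; exact Ideal.zero_mem _
  | add a c _ _ ha hc => rw [mul_add]; exact Ideal.add_mem _ ha hc
  | smul a c _ hc =>
    rw [smul_eq_mul, mul_left_comm]
    exact Ideal.mul_mem_left _ _ hc

theorem exists_mult (r E : ℕ) (π : Fin r → Λ) (b : Fin r → ℕ)
    (hb : ∀ i j : Fin r, (j : ℕ) < (i : ℕ) → b j * E + 1 ≤ b i) (hb0 : ∀ i, 0 < b i)
    (hloc : ∀ i, ∀ y : A, algebraMap Λ A (π i) ^ 2 * y ∈ (K r E π i).map (algebraMap Λ A) →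
      algebraMap Λ A (π i) * y ∈ (K r E π i).map (algebraMap Λ A)) :
    ∃ l₀ ∈ q.primeCompl, ∀ l ∈ q.primeCompl, l₀ ∣ l → ∀ i, ∀ y : Λ,
      (l ^ b i * π i) ^ 2 * y ∈ K r E (fun j => l ^ b j * π j) i →
        (l ^ b i * π i) * y ∈ K r E (fun j => l ^ b j * π j) i := by
  classical
  have hstep : ∀ i : Fin r, ∃ s ∈ q.primeCompl, ∀ t : Λ,
      algebraMap Λ A t ∈ (K r E π i).map (algebraMap Λ A) → s * t ∈ K r E π i := by
    intro i
    set T : Ideal Λ := ((K r E π i).map (algebraMap Λ A)).comap (algebraMap Λ A) with hT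
    have hTfg : T.FG := IsNoetherian.noetherian T
    obtain ⟨s, hs, hsT⟩ := exists_common_mul q.primeCompl T (K r E π i) hTfg (fun t ht =>
      Groth.Agent.H91.ElemStdLoc.exists_mul_mem_of_map_mem (T := A) q.primeCompl (K r E π i) t ht)
    exact ⟨s, hs, fun t ht => hsT t ht⟩
  choose s hs hsT using hstep
  refine ⟨∏ i, s i, Submonoid.prod_mem _ fun i _ => hs i, ?_⟩
  intro l hl hdvd i y hy
  have hsi : s i ∣ l := (Finset.dvd_prod_of_mem s (Finset.mem_univ i)).trans hdvd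
  obtain ⟨l'', hl''⟩ := hsi
  have h1 : algebraMap Λ A ((l ^ b i * π i) ^ 2 * y) ∈ (K r E π i).map (algebraMap Λ A) :=
    Ideal.mem_map_of_mem _ (K_mul_le E π b l i hy)
  have hu : IsUnit (algebraMap Λ A l) := IsLocalization.map_units A (⟨l, hl⟩ : q.primeCompl)
  obtain ⟨v, hv⟩ := hu.exists_left_inv
  have h2 : algebraMap Λ A (π i) ^ 2 * algebraMap Λ A y ∈ (K r E π i).map (algebraMap Λ A) := by
    have : algebraMap Λ A (π i) ^ 2 * algebraMap Λ A y =
        v ^ (2 * b i) * algebraMap Λ A ((l ^ b i * π i) ^ 2 * y) := by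
      rw [map_mul, map_pow, map_mul, map_pow]
      have : v ^ (2 * b i) * ((algebraMap Λ A l ^ b i * algebraMap Λ A (π i)) ^ 2 *
          algebraMap Λ A y) = (v * algebraMap Λ A l) ^ (2 * b i) *
            (algebraMap Λ A (π i) ^ 2 * algebraMap Λ A y) := by ring
      rw [this, hv, one_pow, one_mul]
    rw [this]
    exact Ideal.mul_mem_left _ _ h1
  have h3 := hloc i _ h2
  rw [← map_mul] at h3
  have h4 := hsT i _ h3
  have h5 := pow_mul_K_le E π b l i (hb i) _ h4
  have h6 : l ^ b i * π i * y = l'' * (l ^ (b i - 1) * (s i * (π i * y))) := by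
    have hbi : b i - 1 + 1 = b i := by have := hb0 i; omega
    have e : l ^ b i = l ^ (b i - 1) * (s i * l'') := by
      rw [← hl'', ← pow_succ, hbi]
    rw [e]
    ring
  rw [h6]
  exact Ideal.mul_mem_left _ _ h5

end Mult

end Groth.Agent.H91.Pop
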