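import Mathlib
import Groth.Agent.H91.PopG

/-!
# Annihilator conditions in a polynomial ring `R[M]` for the elements `M ^ b_i * p_i`
-/

set_option autoImplicit false
universe u

namespace Groth.Agent.H91.Pop

open Groth.Agent.H91.RegPow Polynomial

section Graded

variable {R : Type u} [CommRing R] (r E : ℕ) (p : Fin r → R) (b : Fin r → ℕ)

theorem Kpoly_le (i : Fin r) :
    K r E (fun j => (X : R[X]) ^ b j * C (p j)) i ≤ Ideal.map C (K r E p i) := by
  unfold K
  rw [Ideal.span_le]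
  rintro _ ⟨j, rfl⟩
  change ((X : R[X]) ^ b j * C (p j)) ^ E ∈ _
  rw [mul_pow, ← C_pow]
  exact Ideal.mul_mem_left _ _ (Ideal.mem_map_of_mem _ (Ideal.subset_span ⟨j, rfl⟩))

theorem X_pow_mul_C_mem (i : Fin r) (hb : ∀ j : Fin r, (j : ℕ) < (i : ℕ) → b j * E + 1 ≤ b i)
    (z : R) (hz : z ∈ K r E p i) :
    (X : R[X]) ^ b i * C z ∈ K r E (fun j => (X : R[X]) ^ b j * C (p j)) i := by
  unfold K at hz
  induction hz using Submodule.span_induction with
  | mem z hz =>
    obtain ⟨j, rfl⟩ := hz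
    have h1 : b i = (b i - b j * E) + b j * E := by
      have := hb j j.2
      omega
    have h2 : (X : R[X]) ^ b i * C ((p j) ^ E) =
        X ^ (b i - b j * E) * (X ^ b j * C (p j)) ^ E := by
      rw [mul_pow, ← pow_mul, ← mul_assoc, ← pow_add, ← h1, C_pow]
    change (X : R[X]) ^ b i * C ((p j) ^ E) ∈ _
    rw [h2]
    exact Ideal.mul_mem_left _ _ (Ideal.subset_span ⟨j, rfl⟩)
  | zero => rw [C_0, mul_zero]; exact Ideal.zero_mem _
  | add a c _ _ ha hc => rw [C_add, mul_add]; exact Ideal.add_mem _ ha hc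
  | smul a c _ hc =>
    rw [smul_eq_mul, C_mul, mul_left_comm]
    exact Ideal.mul_mem_left _ _ hc

theorem X_pow_mul_mem (i : Fin r) (hb : ∀ j : Fin r, (j : ℕ) < (i : ℕ) → b j * E + 1 ≤ b i)
    (v : R[X]) (hv : v ∈ Ideal.map C (K r E p i)) :
    (X : R[X]) ^ b i * v ∈ K r E (fun j => (X : R[X]) ^ b j * C (p j)) i := by
  rw [Ideal.mem_map_C_iff] at hv
  rw [v.as_sum_range_C_mul_X_pow, Finset.mul_sum]
  refine Ideal.sum_mem _ fun n _ => ?_
  have : (X : R[X]) ^ b i * (C (v.coeff n) * X ^ n) = X ^ n * (X ^ b i * C (v.coeff n)) := by ring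
  rw [this]
  exact Ideal.mul_mem_left _ _ (X_pow_mul_C_mem r E p b i hb _ (hv n))

theorem ann_polynomial (hb : ∀ i j : Fin r, (j : ℕ) < (i : ℕ) → b j * E + 1 ≤ b i)
    (hR : ∀ i, ∀ y : R, p i ^ 2 * y ∈ K r E p i → p i * y ∈ K r E p i) (i : Fin r) (y : R[X])
    (hy : ((X : R[X]) ^ b i * C (p i)) ^ 2 * y ∈ K r E (fun j => (X : R[X]) ^ b j * C (p j)) i) :
    ((X : R[X]) ^ b i * C (p i)) * y ∈ K r E (fun j => (X : R[X]) ^ b j * C (p j)) i := by
  have h1 := Kpoly_le r E p b i hy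
  rw [Ideal.mem_map_C_iff] at h1
  have h2 : C (p i) * y ∈ Ideal.map C (K r E p i) := by
    rw [Ideal.mem_map_C_iff]
    intro n
    rw [coeff_C_mul]
    apply hR
    have h3 := h1 (n + 2 * b i)
    have h4 : ((X : R[X]) ^ b i * C (p i)) ^ 2 * y = X ^ (2 * b i) * (C (p i ^ 2) * y) := by
      rw [C_pow]
      ring
    rw [h4, coeff_X_pow_mul, coeff_C_mul] at h3
    exact h3
  have h5 := X_pow_mul_mem r E p b i (hb i) _ h2
  rw [← mul_assoc] at h5
  exact h5

end Graded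

end Groth.Agent.H91.Pop
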