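import Mathlib

/-!
# Flatness descends through a faithfully flat top ring
-/

set_option autoImplicit false
universe u

open TensorProduct

namespace Groth.Agent.H91.Pop

/-- if `C` is flat over `A` and faithfully flat over the intermediate ring `B`, then `B` is flat
over `A` -/
theorem flat_of_flat_of_faithfullyFlat (A B C : Type u) [CommRing A] [CommRing B] [CommRing C]
    [Algebra A B] [Algebra B C] [Algebra A C] [IsScalarTower A B C] [Module.Flat A C]
    [Module.FaithfullyFlat B C] : Module.Flat A B := by
  rw [Module.Flat.iff_lTensor_preserves_injective_linearMap]
  intro N P _ _ _ _ f hf
  let g : B ⊗[A] N →ₗ[B] B ⊗[A] P := TensorProduct.AlgebraTensorModule.lTensor B B f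
  have hg : ∀ x, g x = LinearMap.lTensor B f x := fun x => rfl
  have hinj : Function.Injective g := by
    rw [← Module.FaithfullyFlat.lTensor_injective_iff_injective B C]
    let eN := TensorProduct.AlgebraTensorModule.cancelBaseChange A B C C N
    let eP := TensorProduct.AlgebraTensorModule.cancelBaseChange A B C C P
    have key : ∀ x, eP (LinearMap.lTensor C g x) = LinearMap.lTensor C f (eN x) := by
      intro x
      induction x using TensorProduct.induction_on with
      | zero => simp
      | add x y hx hy => simp only [map_add, hx, hy]
      | tmul c z =>
        induction z using TensorProduct.induction_on with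
        | zero => simp
        | add z w hz hw => simp only [TensorProduct.tmul_add, map_add, hz, hw]
        | tmul b n =>
          simp only [LinearMap.lTensor_tmul, hg, eN, eP,
            TensorProduct.AlgebraTensorModule.cancelBaseChange_tmul]
    have h1 : Function.Injective (LinearMap.lTensor C f) :=
      Module.Flat.lTensor_preserves_injective_linearMap f hf
    intro x y hxy
    apply eN.injective
    apply h1
    rw [← key, ← key, hxy]
  intro x y hxy
  exact hinj (by rw [hg, hg]; exact hxy)

end Groth.Agent.H91.Pop
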