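import Mathlib
import Groth.Prelude.Def_Smoothing
import Groth.Agent.S2022
import Groth.Agent.H91.SepInd
import Groth.Agent.H91.SepE
import Groth.Agent.H91.PopK
import Groth.Agent.H91.PopP

/-!
# Stage 3 of the inseparable case: the Artinian local subalgebra is ind-smooth over the truncated
local ring of the polynomial ring
-/

set_option autoImplicit false
set_option linter.style.haveILetI false
universe u

open IsLocalRing Smoothing

namespace Groth.Agent.H91.Pop

section Gamma

variable {k : Type u} [Field k] (S : Type u) [CommRing S] [IsLocalRing S] [Algebra k S] (N : ℕ)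
  (D : Subalgebra k (S ⧸ maximalIdeal S ^ N))
  (P : Type u) [CommRing P] [IsLocalRing P] [Algebra k P] [Algebra P S] [IsScalarTower k P S]
  [IsLocalHom (algebraMap P S)]
  (hPD : ∀ x : P, Ideal.Quotient.mk (maximalIdeal S ^ N) (algebraMap P S x) ∈ D)

/-- `P → D` -/
noncomputable def gammaD : P →ₐ[k] D :=
  AlgHom.codRestrict ((Ideal.Quotient.mkₐ k (maximalIdeal S ^ N)).comp
    (IsScalarTower.toAlgHom k P S)) D hPD

theorem gammaD_coe (x : P) : ((gammaD S N D P hPD x : D) : S ⧸ maximalIdeal S ^ N) =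
    Ideal.Quotient.mk _ (algebraMap P S x) := rfl

theorem map_pow_le : (maximalIdeal P ^ N).map (algebraMap P S) ≤ maximalIdeal S ^ N := by
  rw [Ideal.map_pow]
  exact Ideal.pow_right_mono (IsLocalRing.map_maximalIdeal_le (algebraMap P S)) N

theorem gammaD_eq_zero (x : P) (hx : x ∈ maximalIdeal P ^ N) : gammaD S N D P hPD x = 0 := by
  apply Subtype.ext
  rw [gammaD_coe]
  change _ = (0 : S ⧸ maximalIdeal S ^ N)
  rw [Ideal.Quotient.eq_zero_iff_mem]
  exact map_pow_le S N P (Ideal.mem_map_of_mem _ hx)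

/-- `P ⧸ 𝔪 ^ N → D` -/
noncomputable def gammaBar : (P ⧸ maximalIdeal P ^ N) →ₐ[k] D :=
  Ideal.Quotient.liftₐ _ (gammaD S N D P hPD) (gammaD_eq_zero S N D P hPD)

/-- the algebra structure of `D` over `P ⧸ 𝔪 ^ N` -/
@[instance_reducible] noncomputable def algRbarD : Algebra (P ⧸ maximalIdeal P ^ N) D :=
  (gammaBar S N D P hPD).toRingHom.toAlgebra

theorem algRbarD_coe (x : P) :
    letI := algRbarD S N D P hPD
    ((algebraMap (P ⧸ maximalIdeal P ^ N) D (Ideal.Quotient.mk _ x) : D) :
      S ⧸ maximalIdeal S ^ N) = Ideal.Quotient.mk _ (algebraMap P S x) := rfl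

end Gamma

section Main

variable {k : Type u} [Field k] (S : Type u) [CommRing S] [IsLocalRing S] [Algebra k S] (N : ℕ)
  (hN : 0 < N)
  (D : Subalgebra k (S ⧸ maximalIdeal S ^ N)) [IsLocalRing D]
  (P : Type u) [CommRing P] [IsLocalRing P] [Algebra k P] [Algebra P S] [IsScalarTower k P S]
  [IsLocalHom (algebraMap P S)]
  [Algebra (P ⧸ maximalIdeal P ^ N) D]
  (halg : ∀ x : P, ((algebraMap (P ⧸ maximalIdeal P ^ N) D (Ideal.Quotient.mk _ x) : D) :
      S ⧸ maximalIdeal S ^ N) = Ideal.Quotient.mk _ (algebraMap P S x))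
  (hmD : (maximalIdeal D).map (algebraMap D (S ⧸ maximalIdeal S ^ N)) =
    RingHom.ker (rhoBar (k := k) S N hN))

include hmD in
theorem isLocalHom_D : IsLocalHom (algebraMap D (S ⧸ maximalIdeal S ^ N)) := by
  refine ⟨fun z hz => ?_⟩
  by_contra hnu
  have h1 : z ∈ maximalIdeal D := (mem_maximalIdeal z).mpr hnu
  have h2 : algebraMap D (S ⧸ maximalIdeal S ^ N) z ∈ RingHom.ker (rhoBar (k := k) S N hN) := by
    rw [← hmD]
    exact Ideal.mem_map_of_mem _ h1
  rw [RingHom.mem_ker] at h2
  have h3 := hz.map (rhoBar (k := k) S N hN)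
  rw [h2] at h3
  exact not_isUnit_zero h3

include hN in
omit [Algebra k S] in
theorem isLocalRing_Sbar : IsLocalRing (S ⧸ maximalIdeal S ^ N) := by
  haveI : Nontrivial (S ⧸ maximalIdeal S ^ N) := by
    rw [Ideal.Quotient.nontrivial_iff]
    intro h
    have h1 : maximalIdeal S ^ N ≤ maximalIdeal S := Ideal.pow_le_self (Nat.pos_iff_ne_zero.mp hN)
    rw [h, top_le_iff] at h1
    exact (maximalIdeal.isMaximal S).ne_top h1
  exact IsLocalRing.of_surjective' (Ideal.Quotient.mk _) Ideal.Quotient.mk_surjective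

include halg hmD in
theorem stage3 (F : IntermediateField k (ResidueField S)) (hFG : F.FG)
    (hflatD : Module.Flat D (S ⧸ maximalIdeal S ^ N))
    (hDF : ∀ z ∈ D, rhoBar (k := k) S N hN z ∈ F)
    (hFD : ∀ f ∈ F, ∃ z ∈ D, rhoBar (k := k) S N hN z = f)
    [Module.Flat P S] (hmP : (maximalIdeal P).map (algebraMap P S) = maximalIdeal S)
    {σ : Type*} (wF : σ → F)
    (hwF : ∀ l, ∃ x : P, (wF l : ResidueField S) = residue S (algebraMap P S x))
    (hΩ : Submodule.span F (Set.range fun l => KaehlerDifferential.D k F (wF l)) = ⊤) :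
    IndSmooth (P ⧸ maximalIdeal P ^ N) D := by
  classical
  haveI := isLocalRing_Sbar S N hN
  haveI := isLocalHom_D S N hN D hmD
  haveI : Module.FaithfullyFlat D (S ⧸ maximalIdeal S ^ N) :=
    Module.FaithfullyFlat.of_flat_of_isLocalHom
  -- the algebra structure of the truncation of `S` over the truncation of `P`
  letI algRS : Algebra (P ⧸ maximalIdeal P ^ N) (S ⧸ maximalIdeal S ^ N) :=
    ((algebraMap D (S ⧸ maximalIdeal S ^ N)).comp
      (algebraMap (P ⧸ maximalIdeal P ^ N) D)).toAlgebra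
  haveI : IsScalarTower (P ⧸ maximalIdeal P ^ N) D (S ⧸ maximalIdeal S ^ N) :=
    IsScalarTower.of_algebraMap_eq fun _ => rfl
  haveI : IsScalarTower P (P ⧸ maximalIdeal P ^ N) (S ⧸ maximalIdeal S ^ N) :=
    IsScalarTower.of_algebraMap_eq fun x => (halg x).symm
  have hker : RingHom.ker (algebraMap S (S ⧸ maximalIdeal S ^ N)) =
      (maximalIdeal P ^ N).map (algebraMap P S) := by
    rw [Ideal.Quotient.algebraMap_eq, Ideal.mk_ker, Ideal.map_pow, hmP]
  haveI : Module.Flat (P ⧸ maximalIdeal P ^ N) (S ⧸ maximalIdeal S ^ N) :=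
    Groth.Agent.H91.SepE.flat_quotient_of_flat (S := S) (maximalIdeal P ^ N)
      Ideal.Quotient.mk_surjective hker
  haveI : Module.Flat (P ⧸ maximalIdeal P ^ N) D :=
    flat_of_flat_of_faithfullyFlat _ D (S ⧸ maximalIdeal S ^ N)
  -- the maximal ideal of the truncation
  set I : Ideal (P ⧸ maximalIdeal P ^ N) :=
    (maximalIdeal P).map (Ideal.Quotient.mk (maximalIdeal P ^ N)) with hI
  have hle : maximalIdeal P ^ N ≤ maximalIdeal P :=
    Ideal.pow_le_self (Nat.pos_iff_ne_zero.mp hN)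
  have hInil : IsNilpotent I := by
    refine ⟨N, ?_⟩
    rw [hI, ← Ideal.map_pow, Ideal.map_quotient_self]
    rfl
  haveI hImax : I.IsMaximal := by
    rcases Ideal.map_eq_top_or_isMaximal_of_surjective (Ideal.Quotient.mk (maximalIdeal P ^ N))
      Ideal.Quotient.mk_surjective (maximalIdeal.isMaximal P) with h | h
    · exfalso
      have h2 : I.comap (Ideal.Quotient.mk (maximalIdeal P ^ N)) = maximalIdeal P := by
        rw [hI, Ideal.comap_map_of_surjective _ Ideal.Quotient.mk_surjective,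
          ← RingHom.ker_eq_comap_bot, Ideal.mk_ker, sup_eq_left]
        exact hle
      rw [hI, h, Ideal.comap_top] at h2
      exact (maximalIdeal.isMaximal P).ne_top h2.symm
    · exact h
  -- the residue map of `D`
  let ρD : D →ₐ[k] F := AlgHom.codRestrict ((rhoBar (k := k) S N hN).comp D.val) F.toSubalgebra
    (fun z => hDF z z.2)
  have hρD : ∀ z : D, ((ρD z : F) : ResidueField S) = rhoBar (k := k) S N hN (z : _) :=
    fun z => rfl
  have hρDsurj : Function.Surjective ρD := by
    intro f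
    obtain ⟨z, hz, hzf⟩ := hFD f f.2
    exact ⟨⟨z, hz⟩, Subtype.ext hzf⟩
  have hkerρD : RingHom.ker (ρD : D →+* F) = maximalIdeal D :=
    IsLocalRing.eq_maximalIdeal (RingHom.ker_isMaximal_of_surjective (ρD : D →+* F) hρDsurj)
  -- the extension of the maximal ideal
  have hID : I.map (algebraMap (P ⧸ maximalIdeal P ^ N) D) = maximalIdeal D := by
    apply Ideal.map_injective_of_faithfullyFlat (B := S ⧸ maximalIdeal S ^ N)
    change Ideal.map (algebraMap D (S ⧸ maximalIdeal S ^ N)) _ =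
      Ideal.map (algebraMap D (S ⧸ maximalIdeal S ^ N)) _
    have h1 : (maximalIdeal S).map (Ideal.Quotient.mk (maximalIdeal S ^ N)) =
        ((maximalIdeal P).map (algebraMap P S)).map (Ideal.Quotient.mk (maximalIdeal S ^ N)) := by
      rw [hmP]
    rw [hmD, ker_rhoBar, h1, hI, Ideal.map_map, Ideal.map_map, Ideal.map_map]
    congr 1
    ext x
    exact halg x
  haveI hIDmax : (I.map (algebraMap (P ⧸ maximalIdeal P ^ N) D)).IsMaximal := by
    rw [hID]
    exact maximalIdeal.isMaximal D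
  -- the residue field extension
  have hIker : ∀ a ∈ I, ((ρD : D →+* F).comp (algebraMap (P ⧸ maximalIdeal P ^ N) D)) a = 0 := by
    intro a ha
    have h1 : algebraMap (P ⧸ maximalIdeal P ^ N) D a ∈ RingHom.ker (ρD : D →+* F) := by
      rw [hkerρD, ← hID]
      exact Ideal.mem_map_of_mem _ ha
    exact h1
  letI algκF : Algebra ((P ⧸ maximalIdeal P ^ N) ⧸ I) F :=
    (Ideal.Quotient.lift I ((ρD : D →+* F).comp (algebraMap (P ⧸ maximalIdeal P ^ N) D))
      hIker).toAlgebra
  have halgκF : ∀ x : P, algebraMap ((P ⧸ maximalIdeal P ^ N) ⧸ I) F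
      (Ideal.Quotient.mk I (Ideal.Quotient.mk _ x)) =
        ρD (algebraMap (P ⧸ maximalIdeal P ^ N) D (Ideal.Quotient.mk _ x)) := fun x => rfl
  -- the isomorphism of the residue field of `D` with `F`
  let e0 : (D ⧸ I.map (algebraMap (P ⧸ maximalIdeal P ^ N) D)) ≃+* F :=
    (Ideal.quotEquivOfEq (hID.trans hkerρD.symm)).trans
      (RingHom.quotientKerEquivOfSurjective hρDsurj)
  have he0 : ∀ z : D, e0 (Ideal.Quotient.mk _ z) = ρD z := fun z => rfl
  let e : (D ⧸ I.map (algebraMap (P ⧸ maximalIdeal P ^ N) D)) ≃ₐ[(P ⧸ maximalIdeal P ^ N) ⧸ I] F :=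
    AlgEquiv.ofRingEquiv (f := e0) (by
      intro x
      obtain ⟨x, rfl⟩ := Ideal.Quotient.mk_surjective x
      obtain ⟨x, rfl⟩ := Ideal.Quotient.mk_surjective x
      rw [halgκF]
      exact he0 _)
  -- formal smoothness of `F` over the residue field of `P`
  letI : Field ((P ⧸ maximalIdeal P ^ N) ⧸ I) := Ideal.Quotient.field I
  haveI : IsScalarTower k ((P ⧸ maximalIdeal P ^ N) ⧸ I) F := by
    refine IsScalarTower.of_algebraMap_eq fun c => ?_
    have h1 : algebraMap k ((P ⧸ maximalIdeal P ^ N) ⧸ I) c =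
        Ideal.Quotient.mk I (Ideal.Quotient.mk _ (algebraMap k P c)) := rfl
    rw [h1, halgκF]
    apply Subtype.ext
    rw [hρD, halg]
    change _ = rhoBar (k := k) S N hN (Ideal.Quotient.mk _ (algebraMap P S (algebraMap k P c)))
    rw [← IsScalarTower.algebraMap_apply k P S]
    exact ((rhoBar (k := k) S N hN).commutes c).symm
  haveI : Algebra.EssFiniteType k F := IntermediateField.essFiniteType_iff.mpr hFG
  haveI : Algebra.EssFiniteType ((P ⧸ maximalIdeal P ^ N) ⧸ I) F :=
    Algebra.EssFiniteType.of_comp k ((P ⧸ maximalIdeal P ^ N) ⧸ I) F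
  haveI : Algebra.FormallyUnramified ((P ⧸ maximalIdeal P ^ N) ⧸ I) F := by
    refine ⟨?_⟩
    have hsurj := KaehlerDifferential.map_surjective k ((P ⧸ maximalIdeal P ^ N) ⧸ I) F
    have hzero : KaehlerDifferential.map k ((P ⧸ maximalIdeal P ^ N) ⧸ I) F F = 0 := by
      refine LinearMap.ext_on_range hΩ fun l => ?_
      rw [KaehlerDifferential.map_D, LinearMap.zero_apply, Algebra.algebraMap_self_apply]
      obtain ⟨x, hx⟩ := hwF l
      have h1 : wF l = algebraMap ((P ⧸ maximalIdeal P ^ N) ⧸ I) F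
          (Ideal.Quotient.mk I (Ideal.Quotient.mk _ x)) := by
        rw [halgκF]
        apply Subtype.ext
        rw [hρD, halg, hx]
        rfl
      rw [h1, Derivation.map_algebraMap]
    refine ⟨fun a b => ?_⟩
    obtain ⟨a', rfl⟩ := hsurj a
    obtain ⟨b', rfl⟩ := hsurj b
    rw [hzero, LinearMap.zero_apply, LinearMap.zero_apply]
  haveI : Algebra.FormallyEtale ((P ⧸ maximalIdeal P ^ N) ⧸ I) F :=
    Algebra.FormallyEtale.of_formallyUnramified_of_field _ F
  haveI : Algebra.FormallySmooth ((P ⧸ maximalIdeal P ^ N) ⧸ I)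
      (D ⧸ I.map (algebraMap (P ⧸ maximalIdeal P ^ N) D)) :=
    Algebra.FormallySmooth.of_equiv e.symm
  letI : Field (D ⧸ I.map (algebraMap (P ⧸ maximalIdeal P ^ N) D)) := Ideal.Quotient.field _
  exact Groth.Agent.S2022.result I hInil
    (Groth.Agent.H91.SepInd.indSmooth_of_formallySmooth_field)

end Main

end Groth.Agent.H91.Pop
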