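import Mathlib
import Groth.Prelude.Def_Smoothing
import Groth.Agent.H91.SepB

/-!
# Maps out of the algebra `T[z]/(x_i^n - ∑ z_ij t_j)`, and a smooth factorization over an
ind-smooth algebra
-/

set_option autoImplicit false
set_option linter.style.haveILetI false
universe u

open TensorProduct MvPolynomial Smoothing

namespace Groth.Agent.H91.Pop

open Groth.Agent.H91.SepB

section BB

variable {R T : Type u} [CommRing R] [CommRing T] [Algebra R T] {d r n : ℕ} {x : Fin d → R}
  {t : Fin r → T}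

theorem φB_zz {Λ : Type u} [CommRing Λ] [Algebra R Λ] (ψ : T →ₐ[R] Λ) (lam : Fin d → Fin r → Λ)
    (hlam : ∀ i, algebraMap R Λ (x i) ^ n = ∑ j, lam i j * ψ (t j)) (i : Fin d) (j : Fin r) :
    φB ψ lam hlam (Ideal.Quotient.mk _ (zz T d r i j)) = lam i j := by
  unfold φB
  rw [Ideal.Quotient.liftₐ_apply, Ideal.Quotient.lift_mk]
  exact ψP_zz ψ lam i j

/-- ring homomorphisms out of `B` are determined by their values on `T` and on the `z_ij` -/
theorem BB_ringHom_ext {Y : Type*} [CommRing Y] (f g : BBq R T d r n x t →+* Y)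
    (hT : ∀ y : T, f (algebraMap T (BBq R T d r n x t) y) = g (algebraMap T (BBq R T d r n x t) y))
    (hz : ∀ i j, f (Ideal.Quotient.mk _ (zz T d r i j)) = g (Ideal.Quotient.mk _ (zz T d r i j))) :
    f = g := by
  apply Ideal.Quotient.ringHom_ext
  apply MvPolynomial.ringHom_ext
  · intro y
    exact hT y
  · intro idx
    have h := hz (finProdFinEquiv.symm idx).1 (finProdFinEquiv.symm idx).2
    unfold zz at h
    rw [Prod.mk.eta, Equiv.apply_symm_apply] at h
    exact h

end BB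

section Factor

variable {k A : Type u} [Field k] [CommRing A] [Algebra k A] [Algebra.FinitePresentation k A]
  {Rb D : Type u} [CommRing Rb] [Algebra k Rb] [CommRing D] [Algebra Rb D] [Algebra k D]
  [IsScalarTower k Rb D]

/-- a relation `x_i^n = ∑ ζ_ij α(a_j)` in an ind-smooth algebra `D` can be lifted to a smooth
algebra -/
theorem exists_smooth_factor (hind : IndSmooth Rb D) (α : A →ₐ[k] D) {d r n : ℕ} (a : Fin r → A)
    (xb : Fin d → Rb) (ζ : Fin d → Fin r → D)
    (hζ : ∀ i, algebraMap Rb D (xb i) ^ n = ∑ j, ζ i j * α (a j)) :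
    ∃ (B₀ : Type u) (_ : CommRing B₀) (_ : Algebra Rb B₀), Algebra.Smooth Rb B₀ ∧
      ∃ (αB : A →+* B₀) (β : Fin d → Fin r → B₀) (hD : B₀ →ₐ[Rb] D),
        (∀ c : k, αB (algebraMap k A c) = algebraMap Rb B₀ (algebraMap k Rb c)) ∧
        (∀ i, algebraMap Rb B₀ (xb i) ^ n = ∑ j, β i j * αB (a j)) ∧
        (∀ y, hD (αB y) = α y) ∧ (∀ i j, hD (β i j) = ζ i j) := by
  classical
  let T := Rb ⊗[k] A
  let tt : Fin r → T := fun j => (1 : Rb) ⊗ₜ[k] a j
  let ψ : T →ₐ[Rb] D := Algebra.TensorProduct.lift (Algebra.ofId Rb D) α (fun _ _ => Commute.all _ _)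
  have hψ : ∀ y : A, ψ ((1 : Rb) ⊗ₜ[k] y) = α y := by
    intro y
    rw [Algebra.TensorProduct.lift_tmul, map_one, one_mul]
  have hζ' : ∀ i, algebraMap Rb D (xb i) ^ n = ∑ j, ζ i j * ψ (tt j) := by
    intro i
    rw [hζ i]
    refine Finset.sum_congr rfl fun j _ => ?_
    rw [hψ]
  let C₁ := BBq Rb T d r n xb tt
  have hfp : Algebra.FinitePresentation Rb C₁ := finitePresentation_B
  let f : C₁ →ₐ[Rb] D := φB ψ ζ hζ'
  obtain ⟨B₀, _, _, hsm, g, hD, hgf⟩ := hind C₁ hfp f
  refine ⟨B₀, inferInstance, inferInstance, hsm,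
    (g : C₁ →+* B₀).comp ((algebraMap T C₁).comp
      (Algebra.TensorProduct.includeRight : A →ₐ[k] T).toRingHom),
    fun i j => g (Ideal.Quotient.mk _ (zz T d r i j)), hD, ?_, ?_, ?_, ?_⟩
  · intro c
    change g (algebraMap T C₁ ((1 : Rb) ⊗ₜ[k] algebraMap k A c)) = _
    have e1 : ((1 : Rb) ⊗ₜ[k] (algebraMap k A c) : T) = algebraMap Rb T (algebraMap k Rb c) := by
      rw [Algebra.TensorProduct.algebraMap_apply, Algebra.algebraMap_eq_smul_one,
        Algebra.algebraMap_eq_smul_one (R := k) (A := Rb), TensorProduct.tmul_smul,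
        TensorProduct.smul_tmul']
      rfl
    rw [e1, ← IsScalarTower.algebraMap_apply Rb T C₁, AlgHom.commutes]
  · intro i
    have h1 := algebraMap_x_pow (R := Rb) (T := T) (d := d) (r := r) (n := n) (x := xb) (t := tt) i
    have h2 := congrArg g h1
    rw [map_pow, AlgHom.commutes, map_sum] at h2
    rw [h2]
    refine Finset.sum_congr rfl fun j _ => ?_
    rw [map_mul]
    rfl
  · intro y
    change hD (g (algebraMap T C₁ ((1 : Rb) ⊗ₜ[k] y))) = _
    have h1 : hD (g (algebraMap T C₁ ((1 : Rb) ⊗ₜ[k] y))) = f (algebraMap T C₁ ((1 : Rb) ⊗ₜ[k] y)) := by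
      rw [← hgf]; rfl
    rw [h1, φB_algebraMap, hψ]
  · intro i j
    have h1 : hD (g (Ideal.Quotient.mk _ (zz T d r i j))) = f (Ideal.Quotient.mk _ (zz T d r i j)) := by
      rw [← hgf]; rfl
    rw [h1]
    exact φB_zz ψ ζ hζ' i j

end Factor

end Groth.Agent.H91.Pop
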