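import Mathlib

/-!
# Base change of a smooth factorization along a ring map of the bases
-/

set_option autoImplicit false
set_option linter.style.haveILetI false
universe u

open TensorProduct

namespace Groth.Agent.H91.Pop

theorem exists_baseChange_factor {Rb B₀ Rp Q : Type u} [CommRing Rb] [CommRing B₀] [Algebra Rb B₀]
    [Algebra.Smooth Rb B₀] [CommRing Rp] (ρ₁ : Rb →+* Rp) [CommRing Q] [Algebra Rp Q]
    (hQ : B₀ →+* Q) (hcompat : ∀ x, hQ (algebraMap Rb B₀ x) = algebraMap Rp Q (ρ₁ x)) :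
    ∃ (B : Type u) (_ : CommRing B) (_ : Algebra Rp B), Algebra.Smooth Rp B ∧
      ∃ (j : B₀ →+* B) (hB : B →ₐ[Rp] Q),
        (∀ x, j (algebraMap Rb B₀ x) = algebraMap Rp B (ρ₁ x)) ∧ (∀ b, hB (j b) = hQ b) := by
  letI : Algebra Rb Rp := ρ₁.toAlgebra
  letI : Algebra Rb Q := ((algebraMap Rp Q).comp ρ₁).toAlgebra
  haveI : IsScalarTower Rb Rp Q := IsScalarTower.of_algebraMap_eq fun _ => rfl
  let hQ' : B₀ →ₐ[Rb] Q := { hQ with commutes' := fun x => hcompat x }
  refine ⟨Rp ⊗[Rb] B₀, inferInstance, inferInstance, inferInstance,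
    (Algebra.TensorProduct.includeRight : B₀ →ₐ[Rb] Rp ⊗[Rb] B₀).toRingHom,
    Algebra.TensorProduct.lift (Algebra.ofId Rp Q) hQ' (fun _ _ => Commute.all _ _), ?_, ?_⟩
  · intro x
    change (1 : Rp) ⊗ₜ[Rb] (algebraMap Rb B₀ x) = algebraMap Rp (Rp ⊗[Rb] B₀) (ρ₁ x)
    rw [Algebra.TensorProduct.algebraMap_apply, Algebra.algebraMap_eq_smul_one (R := Rb) (A := B₀),
      TensorProduct.tmul_smul, TensorProduct.smul_tmul', Algebra.algebraMap_self_apply]
    congr 1
    change algebraMap Rb Rp x * 1 = ρ₁ x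
    rw [mul_one]
    rfl
  · intro b
    change Algebra.TensorProduct.lift (Algebra.ofId Rp Q) hQ' _ ((1 : Rp) ⊗ₜ[Rb] b) = hQ b
    rw [Algebra.TensorProduct.lift_tmul, map_one, one_mul]
    rfl

end Groth.Agent.H91.Pop
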