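import Mathlib
import Groth.Prelude.Def_Smoothing
import Groth.Agent.S2034
import Groth.Agent.H91.LocStep

/-!
# The local step: a dimension-zero local problem whose map factors through a smooth algebra over
the localized base can be resolved
-/

set_option autoImplicit false
universe u
open TensorProduct Smoothing

namespace Groth.Agent.H91.Pop

theorem resolvable_of_smooth_factor {R₁ C₁ Λ₁ Rₚ Λq : Type u} [CommRing R₁] [IsNoetherianRing R₁]
    [CommRing C₁] [Algebra R₁ C₁] [Algebra.FinitePresentation R₁ C₁] [CommRing Λ₁] [Algebra R₁ Λ₁]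
    (φ₁ : C₁ →ₐ[R₁] Λ₁) (𝔮₁ : Ideal Λ₁) [𝔮₁.IsPrime]
    [CommRing Rₚ] [Algebra R₁ Rₚ] [IsLocalization.AtPrime Rₚ (𝔮₁.comap (algebraMap R₁ Λ₁))]
    [CommRing Λq] [Algebra Λ₁ Λq] [IsLocalization.AtPrime Λq 𝔮₁] [Algebra R₁ Λq]
    [IsScalarTower R₁ Λ₁ Λq] [Algebra Rₚ Λq] [IsScalarTower R₁ Rₚ Λq]
    (hdim : ringKrullDim Λq = 0)
    (B : Type u) [CommRing B] [Algebra Rₚ B] [Algebra.Smooth Rₚ B] [Algebra R₁ B]
    [IsScalarTower R₁ Rₚ B]
    (g₀ : C₁ →ₐ[R₁] B) (h : B →ₐ[Rₚ] Λq)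
    (hgh : ∀ c, h (g₀ c) = algebraMap Λ₁ Λq (φ₁ c)) : Resolvable R₁ φ₁ 𝔮₁ := by
  classical
  by_cases hle : singRad R₁ φ₁ ≤ 𝔮₁
  · haveI : Ring.KrullDimLE 0 Λq := ⟨le_of_eq hdim⟩
    haveI : IsLocalRing Λq := IsLocalization.AtPrime.isLocalRing Λq 𝔮₁
    have hmin : 𝔮₁ ∈ (singRad R₁ φ₁).minimalPrimes := by
      refine ⟨⟨inferInstance, hle⟩, fun p' ⟨hp', _⟩ hp'q => ?_⟩
      have hdisj : Disjoint (𝔮₁.primeCompl : Set Λ₁) (p' : Set Λ₁) := by
        rw [Set.disjoint_left]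
        intro z hz hz'
        exact hz (hp'q hz')
      haveI hp'' : (p'.map (algebraMap Λ₁ Λq)).IsPrime :=
        IsLocalization.isPrime_of_isPrime_disjoint 𝔮₁.primeCompl Λq p' hp' hdisj
      have hmax : (p'.map (algebraMap Λ₁ Λq)).IsMaximal := Ideal.isMaximal_of_isPrime _
      have h1 : p'.map (algebraMap Λ₁ Λq) = IsLocalRing.maximalIdeal Λq :=
        IsLocalRing.eq_maximalIdeal hmax
      have h2 : 𝔮₁.map (algebraMap Λ₁ Λq) = IsLocalRing.maximalIdeal Λq :=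
        IsLocalization.AtPrime.map_eq_maximalIdeal 𝔮₁ Λq
      have h3 : (p'.map (algebraMap Λ₁ Λq)).comap (algebraMap Λ₁ Λq) = p' :=
        IsLocalization.comap_map_of_isPrime_disjoint 𝔮₁.primeCompl Λq hp' hdisj
      have h4 : (𝔮₁.map (algebraMap Λ₁ Λq)).comap (algebraMap Λ₁ Λq) = 𝔮₁ := by
        rw [h2]
        exact IsLocalization.AtPrime.comap_maximalIdeal Λq 𝔮₁
      rw [← h3, h1, ← h2, h4]
    refine Groth.Agent.S2034.result (Rₚ := Rₚ) (Λq := Λq) φ₁ 𝔮₁ hmin hdim ?_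
    have htop : singRad Rₚ h = ⊤ := by
      unfold singRad
      rw [Groth.Agent.H91.LocStep.singularIdeal_eq_top_of_smooth, Ideal.map_top, Ideal.radical_top]
    let g : Rₚ ⊗[R₁] C₁ →ₐ[Rₚ] B :=
      Algebra.TensorProduct.lift (Algebra.ofId Rₚ B) g₀ (fun _ _ => Commute.all _ _)
    refine ⟨B, inferInstance, inferInstance, inferInstance, g, h, ?_, ?_, ?_⟩
    · apply Algebra.TensorProduct.ext'
      intro a c
      simp only [AlgHom.comp_apply, g, Algebra.TensorProduct.lift_tmul, map_mul, hgh,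
        Algebra.ofId_apply, AlgHom.commutes, IsScalarTower.coe_toAlgHom']
    · rw [htop]; exact le_top
    · rw [htop]
      intro hcon
      have h2 : 𝔮₁.map (algebraMap Λ₁ Λq) = IsLocalRing.maximalIdeal Λq :=
        IsLocalization.AtPrime.map_eq_maximalIdeal 𝔮₁ Λq
      rw [h2] at hcon
      exact (IsLocalRing.maximalIdeal.isMaximal Λq).ne_top (top_le_iff.mp hcon)
  · exact ⟨C₁, inferInstance, inferInstance, inferInstance, AlgHom.id R₁ C₁, φ₁,
      AlgHom.comp_id φ₁, le_rfl, hle⟩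

end Groth.Agent.H91.Pop
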