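import Mathlib
import Groth.Agent.H91.SepF

/-!
# Phase 2 of the separable-residue-field resolution (Stacks 07F3): the reduced problem
-/

set_option autoImplicit false
universe u

open TensorProduct Smoothing IsLocalRing

namespace Groth.Agent.H91.SepG

section M2

variable {k R Λ : Type u} [Field k] [CommRing R] [IsNoetherianRing R] [Algebra k R]
    [CommRing Λ] [Algebra k Λ] [Algebra R Λ] [IsScalarTower k R Λ]
    (K M : Ideal R) [hMmax : M.IsMaximal] (hKM : K ≤ M) (hMK : M ≤ K.radical)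
    (hsurj : Function.Surjective (algebraMap k (R ⧸ M)))
    (𝔮 : Ideal Λ) [h𝔮 : 𝔮.IsPrime]
    (hM : M.map (algebraMap R (Localization.AtPrime 𝔮)) = maximalIdeal (Localization.AtPrime 𝔮))

/-- the maximal ideal of `R ⧸ K` -/
abbrev M₁ : Ideal (R ⧸ K) := M.map (Ideal.Quotient.mk K)

include hKM in
theorem M₁_isMaximal : (M₁ K M).IsMaximal := by
  rcases Ideal.map_eq_top_or_isMaximal_of_surjective (Ideal.Quotient.mk K)
    Ideal.Quotient.mk_surjective hMmax with h | h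
  · exfalso
    have h2 : (M₁ K M).comap (Ideal.Quotient.mk K) = M := by
      rw [Ideal.comap_map_of_surjective _ Ideal.Quotient.mk_surjective,
        ← RingHom.ker_eq_comap_bot, Ideal.mk_ker, sup_eq_left]
      exact hKM
    change M₁ K M = ⊤ at h
    rw [h, Ideal.comap_top] at h2
    exact hMmax.ne_top h2.symm
  · exact h

include hMK in
theorem M₁_le_nilradical : M₁ K M ≤ nilradical (R ⧸ K) := by
  obtain ⟨N, hN⟩ := Ideal.exists_pow_le_of_le_radical_of_fg hMK (IsNoetherian.noetherian M)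
  rw [Ideal.map_le_iff_le_comap]
  intro x hx
  refine ⟨N, ?_⟩
  rw [← map_pow]
  exact Ideal.Quotient.eq_zero_iff_mem.mpr (hN (Ideal.pow_mem_pow hx N))

include hMK in
theorem M₁_isNilpotent : IsNilpotent (M₁ K M) := by
  obtain ⟨N, hN⟩ := Ideal.exists_pow_le_of_le_radical_of_fg hMK (IsNoetherian.noetherian M)
  refine ⟨N, ?_⟩
  rw [Ideal.zero_eq_bot, eq_bot_iff]
  change (M.map (Ideal.Quotient.mk K)) ^ N ≤ ⊥
  rw [← Ideal.map_pow]
  refine le_trans (Ideal.map_mono hN) ?_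
  rw [Ideal.map_quotient_self]

include hsurj in
theorem surjective_M₁ : Function.Surjective (algebraMap k ((R ⧸ K) ⧸ M₁ K M)) := by
  intro z
  obtain ⟨z', rfl⟩ := Ideal.Quotient.mk_surjective z
  obtain ⟨r, rfl⟩ := Ideal.Quotient.mk_surjective z'
  obtain ⟨s, hs⟩ := hsurj (Ideal.Quotient.mk M r)
  refine ⟨s, ?_⟩
  have h1 : algebraMap k R s - r ∈ M := by
    rw [← Ideal.Quotient.eq]
    exact hs
  have h2 : Ideal.Quotient.mk K (algebraMap k R s) - Ideal.Quotient.mk K r ∈ M₁ K M := by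
    rw [← map_sub]
    exact Ideal.mem_map_of_mem _ h1
  rw [← Ideal.Quotient.eq] at h2
  exact h2

local notation "Sq" => Localization.AtPrime 𝔮
local notation "Jq" => Ideal.map (algebraMap Λ (Localization.AtPrime 𝔮)) (Ideal.map (algebraMap R Λ) K)

include hKM hM in
theorem map_le : K.map (algebraMap R Λ) ≤ 𝔮 := by
  rw [Ideal.map_le_iff_le_comap]
  intro r hr
  rw [Ideal.mem_comap, ← IsLocalization.AtPrime.to_map_mem_maximal_iff Sq 𝔮,
    ← IsScalarTower.algebraMap_apply R Λ Sq, ← hM]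
  exact Ideal.mem_map_of_mem _ (hKM hr)

theorem Jq_eq : Jq = K.map (algebraMap R Sq) := by
  rw [Ideal.map_map, ← IsScalarTower.algebraMap_eq R Λ Sq]

include hKM hM in
theorem Jq_le : Jq ≤ maximalIdeal Sq := by
  rw [Jq_eq, ← hM]
  exact Ideal.map_mono hKM

/-- the `R ⧸ K`-algebra structure on `Sq ⧸ Jq` -/
@[instance_reducible] noncomputable def algQ : Algebra (R ⧸ K) (Sq ⧸ Jq) :=
  ((algebraMap (Λ ⧸ K.map (algebraMap R Λ)) (Sq ⧸ Jq)).comp
    (algebraMap (R ⧸ K) (Λ ⧸ K.map (algebraMap R Λ)))).toAlgebra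

attribute [local instance] algQ

theorem towerQ : IsScalarTower (R ⧸ K) (Λ ⧸ K.map (algebraMap R Λ)) (Sq ⧸ Jq) :=
  IsScalarTower.of_algebraMap_eq fun _ => rfl

theorem algebraMapQ_mk (r : R) :
    algebraMap (R ⧸ K) (Sq ⧸ Jq) (Ideal.Quotient.mk K r) =
      Ideal.Quotient.mk Jq (algebraMap R Sq r) := by
  rw [IsScalarTower.algebraMap_apply R Λ Sq]
  rfl

theorem towerRQ : IsScalarTower R (R ⧸ K) (Sq ⧸ Jq) :=
  IsScalarTower.of_algebraMap_eq fun r => by
    rw [Ideal.Quotient.algebraMap_eq, algebraMapQ_mk]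
    rfl

theorem towerkQ : IsScalarTower k (R ⧸ K) (Sq ⧸ Jq) :=
  IsScalarTower.of_algebraMap_eq fun s => by
    rw [IsScalarTower.algebraMap_apply k R (R ⧸ K), Ideal.Quotient.algebraMap_eq, algebraMapQ_mk,
      ← IsScalarTower.algebraMap_apply k R Sq]
    rfl

theorem flatQ [Module.Flat R Sq] : Module.Flat (R ⧸ K) (Sq ⧸ Jq) := by
  haveI := towerRQ K 𝔮
  refine Groth.Agent.H91.SepE.flat_quotient_of_flat (S := Sq) K ?_ ?_
  · exact Ideal.Quotient.mk_surjective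
  · rw [Ideal.Quotient.algebraMap_eq, Ideal.mk_ker, Jq_eq]

include hM in
theorem map_M₁ : (M₁ K M).map (algebraMap (R ⧸ K) (Sq ⧸ Jq)) =
    (maximalIdeal Sq).map (Ideal.Quotient.mk Jq) := by
  have h1 : (algebraMap (R ⧸ K) (Sq ⧸ Jq)).comp (Ideal.Quotient.mk K) =
      (Ideal.Quotient.mk Jq).comp (algebraMap R Sq) := by
    ext r
    exact algebraMapQ_mk K 𝔮 r
  rw [← hM, Ideal.map_map (algebraMap R Sq) (Ideal.Quotient.mk Jq), ← h1,
    ← Ideal.map_map (Ideal.Quotient.mk K) (algebraMap (R ⧸ K) (Sq ⧸ Jq))]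

include hKM hM in
theorem map_M₁_isMaximal : ((M₁ K M).map (algebraMap (R ⧸ K) (Sq ⧸ Jq))).IsMaximal := by
  rw [map_M₁ K M 𝔮 hM]
  rcases Ideal.map_eq_top_or_isMaximal_of_surjective (Ideal.Quotient.mk Jq)
    Ideal.Quotient.mk_surjective (maximalIdeal.isMaximal Sq) with h | h
  · exfalso
    have h2 : ((maximalIdeal Sq).map (Ideal.Quotient.mk Jq)).comap (Ideal.Quotient.mk Jq) =
        maximalIdeal Sq := by
      rw [Ideal.comap_map_of_surjective _ Ideal.Quotient.mk_surjective,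
        ← RingHom.ker_eq_comap_bot, Ideal.mk_ker, sup_eq_left]
      exact Jq_le K M hKM 𝔮 hM
    rw [h, Ideal.comap_top] at h2
    exact (maximalIdeal.isMaximal Sq).ne_top h2.symm
  · exact h

include hKM hMK hM in
theorem ringKrullDim_Q : ringKrullDim (Sq ⧸ Jq) = 0 := by
  haveI := map_M₁_isMaximal K M hKM 𝔮 hM
  refine Groth.Agent.H91.SepF.ringKrullDim_eq_zero_of_le_nilradical
    ((M₁ K M).map (algebraMap (R ⧸ K) (Sq ⧸ Jq))) ?_
  rw [Ideal.map_le_iff_le_comap]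
  intro x hx
  have h1 : IsNilpotent x := M₁_le_nilradical K M hMK hx
  exact h1.map _

include hKM hM in
theorem formallySmooth_Q [Algebra.FormallySmooth k (IsLocalRing.ResidueField Sq)] :
    Algebra.FormallySmooth k ((Sq ⧸ Jq) ⧸ (M₁ K M).map (algebraMap (R ⧸ K) (Sq ⧸ Jq))) := by
  have h1 : (M₁ K M).map (algebraMap (R ⧸ K) (Sq ⧸ Jq)) =
      (maximalIdeal Sq).map (Ideal.Quotient.mkₐ k Jq) := map_M₁ K M 𝔮 hM
  let e₁ := Ideal.quotientEquivAlgOfEq k h1
  let e₂ := DoubleQuot.quotQuotEquivQuotOfLEₐ k (Jq_le K M hKM 𝔮 hM)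
  have : Algebra.FormallySmooth k (Sq ⧸ maximalIdeal Sq) :=
    inferInstanceAs (Algebra.FormallySmooth k (IsLocalRing.ResidueField Sq))
  exact Algebra.FormallySmooth.of_equiv (e₁.trans e₂).symm

include hKM hMK hsurj hM in
theorem main [Module.Flat R Sq] [Algebra.FormallySmooth k (IsLocalRing.ResidueField Sq)]
    {C₁ : Type u} [CommRing C₁] [Algebra (R ⧸ K) C₁] [Algebra.FinitePresentation (R ⧸ K) C₁]
    (φ₁ : C₁ →ₐ[R ⧸ K] (Λ ⧸ K.map (algebraMap R Λ)))
    [h𝔮₁ : (𝔮.map (Ideal.Quotient.mk (K.map (algebraMap R Λ)))).IsPrime] :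
    Resolvable (R ⧸ K) φ₁ (𝔮.map (Ideal.Quotient.mk (K.map (algebraMap R Λ)))) := by
  haveI := M₁_isMaximal K M hKM
  haveI := map_M₁_isMaximal K M hKM 𝔮 hM
  haveI := towerQ K 𝔮
  haveI := towerkQ (k := k) K 𝔮
  haveI := flatQ K 𝔮
  haveI := formallySmooth_Q (k := k) K M hKM 𝔮 hM
  haveI : IsLocalization.AtPrime (Sq ⧸ Jq) (𝔮.map (Ideal.Quotient.mk (K.map (algebraMap R Λ)))) :=
    Groth.Agent.H47.CMSlice.isLocalization_atPrime_quotient (K.map (algebraMap R Λ)) Sq 𝔮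
      (map_le K M hKM 𝔮 hM)
  refine Groth.Agent.H91.LocStep.resolvable_of_indSmooth (Λq := Sq ⧸ Jq) φ₁ _ ?_
    (ringKrullDim_Q K M hKM hMK 𝔮 hM) ?_
  · exact Groth.Agent.H91.SepF.isLocalization_atPrime_of_le_nilradical (M₁ K M)
      (M₁_le_nilradical K M hMK) _
  · exact Groth.Agent.H91.LocStep.indSmooth_of_flat_of_residue (k := k) (M₁ K M)
      (M₁_isNilpotent K M hMK) (surjective_M₁ K M hsurj)

end M2

end Groth.Agent.H91.SepG
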