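import Groth.Agent.H91.RegFlatA
import Groth.Agent.H91.RegPowB

/-!
# A regular local ring is flat over the polynomial ring on a regular system of parameters
(helper91)

`flat_mvPolynomial`: `S` regular local of dimension `d`, `x : Fin d → S` generating the maximal
ideal, `S` an algebra over `k[X₁..X_d]` (`k` a field) with `X i ↦ x i`. Then `S` is flat over
`k[X₁..X_d]`.
-/

set_option autoImplicit false
universe u
open scoped TensorProduct
open Function (Injective Surjective Exact)
open MvPolynomial IsLocalRing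

namespace Groth.Agent.H91.RegFlat

open Groth.Agent.H2

section

variable (k : Type u) [Field k] (d : ℕ)

/-- the ideal `(X_i : i < j)` of the polynomial ring -/
noncomputable def Ij (j : ℕ) : Ideal (MvPolynomial (Fin d) k) :=
  Ideal.span (X '' {i : Fin d | (i : ℕ) < j})

theorem Ij_mono {j j' : ℕ} (h : j ≤ j') : Ij k d j ≤ Ij k d j' :=
  Ideal.span_mono (Set.image_mono fun i (hi : (i : ℕ) < j) => lt_of_lt_of_le hi h)

theorem Ij_zero : Ij k d 0 = ⊥ := by
  unfold Ij
  have : {i : Fin d | (i : ℕ) < 0} = ∅ := by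
    ext i; simp
  rw [this, Set.image_empty, Ideal.span_empty]

theorem Ij_succ (j₀ : Fin d) : Ij k d ((j₀ : ℕ) + 1) = Ij k d j₀ ⊔ Ideal.span {X j₀} := by
  unfold Ij
  have : {i : Fin d | (i : ℕ) < (j₀ : ℕ) + 1} = {i : Fin d | (i : ℕ) < j₀} ∪ {j₀} := by
    ext i
    simp only [Set.mem_setOf_eq, Set.mem_union, Set.mem_singleton_iff, Nat.lt_succ_iff,
      le_iff_lt_or_eq, Fin.ext_iff]
  rw [this, Set.image_union, Ideal.span_union, Set.image_singleton]

/-- `X j₀` is a nonzerodivisor modulo `(X_i : i < j₀)`. -/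
theorem mem_Ij_of_mul_mem (j₀ : Fin d) (y : MvPolynomial (Fin d) k)
    (hy : X j₀ * y ∈ Ij k d j₀) : y ∈ Ij k d j₀ := by
  classical
  have himg : (X '' {i : Fin d | (i : ℕ) < j₀} : Set (MvPolynomial (Fin d) k)) =
      (fun s => monomial s (1 : k)) ''
        ((fun i => Finsupp.single i 1) '' {i : Fin d | (i : ℕ) < j₀}) := by
    rw [Set.image_image]
    rfl
  unfold Ij at hy ⊢
  rw [himg] at hy ⊢
  refine mem_of_monomial_mul_mem _ j₀ ?_ 1 y hy
  rintro _ ⟨i, hi, rfl⟩
  have hne : i ≠ j₀ := fun h => by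
    rw [h] at hi
    exact lt_irrefl _ (show (j₀ : ℕ) < j₀ from hi)
  rw [Finsupp.single_apply, if_neg hne]

theorem Ij_top_isMaximal : (Ij k d d).IsMaximal := by
  classical
  have hker : Ij k d d = RingHom.ker (constantCoeff : MvPolynomial (Fin d) k →+* k) := by
    ext p
    have huniv : {i : Fin d | (i : ℕ) < d} = Set.univ := by
      ext i; simp
    unfold Ij
    rw [huniv, mem_ideal_span_X_image, RingHom.mem_ker, constantCoeff_eq]
    constructor
    · intro h
      by_contra hne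
      have h0 : (0 : Fin d →₀ ℕ) ∈ p.support := mem_support_iff.mpr hne
      obtain ⟨i, -, hi⟩ := h 0 h0
      exact hi rfl
    · intro h m hm
      have hm0 : m ≠ 0 := by
        rintro rfl
        exact (mem_support_iff.mp hm) h
      obtain ⟨i, hi⟩ : ∃ i, m i ≠ 0 := by
        by_contra hcon
        push Not at hcon
        exact hm0 (Finsupp.ext hcon)
      exact ⟨i, Set.mem_univ i, hi⟩
  rw [hker]
  exact RingHom.ker_isMaximal_of_surjective _ (fun c => ⟨C c, constantCoeff_C _ c⟩)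

end

section Main

variable {k : Type u} [Field k] {S : Type u} [CommRing S] [IsRegularLocalRing S] (d : ℕ)
  (hd : ringKrullDim S = d) (x : Fin d → S) (hx : Ideal.span (Set.range x) = maximalIdeal S)
  [Algebra (MvPolynomial (Fin d) k) S]
  (hX : ∀ i, algebraMap (MvPolynomial (Fin d) k) S (X i) = x i)

include hX in
theorem map_Ij (j₀ : Fin d) :
    (Ij k d j₀).map (algebraMap (MvPolynomial (Fin d) k) S) =
      Groth.Agent.H91.RegPow.KK d x 1 j₀ := by
  unfold Ij Groth.Agent.H91.RegPow.KK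
  rw [Ideal.map_span]
  congr 1
  ext z
  constructor
  · rintro ⟨_, ⟨i, hi, rfl⟩, rfl⟩
    exact ⟨⟨i, hi⟩, by simp only [pow_one, hX]⟩
  · rintro ⟨⟨i, hi⟩, rfl⟩
    exact ⟨X i, ⟨i, hi, rfl⟩, by simp only [pow_one, hX]⟩

include hd hx hX in
theorem mem_map_Ij_of_mul_mem (j₀ : Fin d) (y : S)
    (hy : x j₀ * y ∈ (Ij k d j₀).map (algebraMap (MvPolynomial (Fin d) k) S)) :
    y ∈ (Ij k d j₀).map (algebraMap (MvPolynomial (Fin d) k) S) := by
  rw [map_Ij d x hX] at hy ⊢
  exact Groth.Agent.H91.RegPow.mem_KK_of_mul_mem d hd x hx 1 Nat.one_pos j₀ y hy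

include hd hx hX in
theorem tor1Zero_step (j₀ : Fin d)
    (h : Tor1Zero (MvPolynomial (Fin d) k) (MvPolynomial (Fin d) k ⧸ Ij k d j₀) S) :
    Tor1Zero (MvPolynomial (Fin d) k) (MvPolynomial (Fin d) k ⧸ Ij k d ((j₀ : ℕ) + 1)) S := by
  let f : (MvPolynomial (Fin d) k ⧸ Ij k d j₀) →ₗ[MvPolynomial (Fin d) k]
      (MvPolynomial (Fin d) k ⧸ Ij k d j₀) := (X j₀ : MvPolynomial (Fin d) k) • LinearMap.id
  let g : (MvPolynomial (Fin d) k ⧸ Ij k d j₀) →ₗ[MvPolynomial (Fin d) k]
      (MvPolynomial (Fin d) k ⧸ Ij k d ((j₀ : ℕ) + 1)) :=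
    Submodule.mapQ (Ij k d j₀) (Ij k d ((j₀ : ℕ) + 1)) LinearMap.id
      (by rw [Submodule.comap_id]; exact Ij_mono k d (Nat.le_succ _))
  have hg : Surjective g := by
    intro z
    obtain ⟨r, rfl⟩ := Submodule.Quotient.mk_surjective _ z
    exact ⟨Submodule.Quotient.mk r, rfl⟩
  have hfg : Exact f g := by
    intro z
    obtain ⟨r, rfl⟩ := Submodule.Quotient.mk_surjective _ z
    constructor
    · intro hz
      have hr : r ∈ Ij k d ((j₀ : ℕ) + 1) := by
        have : (Submodule.Quotient.mk r : MvPolynomial (Fin d) k ⧸ Ij k d ((j₀ : ℕ) + 1)) = 0 := hz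
        rwa [Submodule.Quotient.mk_eq_zero] at this
      rw [Ij_succ, Submodule.mem_sup] at hr
      obtain ⟨a, ha, b, hb, rfl⟩ := hr
      obtain ⟨s, rfl⟩ := Ideal.mem_span_singleton'.mp hb
      refine ⟨Submodule.Quotient.mk s, ?_⟩
      change (X j₀ : MvPolynomial (Fin d) k) • (Submodule.Quotient.mk s :
        MvPolynomial (Fin d) k ⧸ Ij k d j₀) = _
      rw [← Submodule.Quotient.mk_smul, eq_comm, Submodule.Quotient.eq, smul_eq_mul]
      have : a + s * X j₀ - X j₀ * s = a := by ring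
      rw [this]
      exact ha
    · rintro ⟨w, hw⟩
      rw [← hw]
      obtain ⟨s, rfl⟩ := Submodule.Quotient.mk_surjective _ w
      change g ((X j₀ : MvPolynomial (Fin d) k) • (Submodule.Quotient.mk s :
        MvPolynomial (Fin d) k ⧸ Ij k d j₀)) = 0
      rw [← Submodule.Quotient.mk_smul]
      change (Submodule.Quotient.mk ((X j₀ : MvPolynomial (Fin d) k) • s) :
        MvPolynomial (Fin d) k ⧸ Ij k d ((j₀ : ℕ) + 1)) = 0
      rw [Submodule.Quotient.mk_eq_zero, Ij_succ, smul_eq_mul]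
      exact Ideal.mem_sup_right (Ideal.mul_mem_right _ _ (Ideal.subset_span rfl))
  have hinj : Injective (f.rTensor S) := by
    have hf : f.rTensor S = (X j₀ : MvPolynomial (Fin d) k) • LinearMap.id := by
      apply TensorProduct.ext'
      intro a b
      simp [f, TensorProduct.smul_tmul']
    rw [hf, injective_iff_map_eq_zero]
    intro z hz
    let Φ := TensorProduct.quotTensorEquivQuotSMul S (Ij k d j₀)
    have h1 : (X j₀ : MvPolynomial (Fin d) k) • Φ z = 0 := by
      rw [← map_smul]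
      have : (X j₀ : MvPolynomial (Fin d) k) • z = 0 := hz
      rw [this, map_zero]
    obtain ⟨y, hy⟩ := Submodule.Quotient.mk_surjective _ (Φ z)
    rw [← hy, ← Submodule.Quotient.mk_smul, Submodule.Quotient.mk_eq_zero,
      Ideal.smul_top_eq_map, Submodule.restrictScalars_mem, Algebra.smul_def, hX] at h1
    have h2 := mem_map_Ij_of_mul_mem d hd x hx hX j₀ y h1
    have h3 : Φ z = 0 := by
      rw [← hy, Submodule.Quotient.mk_eq_zero, Ideal.smul_top_eq_map,
        Submodule.restrictScalars_mem]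
      exact h2
    exact Φ.injective (by rw [h3, map_zero])
  exact tor1Zero_of_cokernel f g hfg hg h hinj

include hd hx hX in
theorem tor1Zero_Ij (j : ℕ) (hj : j ≤ d) :
    Tor1Zero (MvPolynomial (Fin d) k) (MvPolynomial (Fin d) k ⧸ Ij k d j) S := by
  induction j with
  | zero =>
    haveI : Module.Flat (MvPolynomial (Fin d) k) (MvPolynomial (Fin d) k ⧸ Ij k d 0) :=
      Module.Flat.of_linearEquiv (Submodule.quotEquivOfEqBot _ (Ij_zero k d))
    exact tor1Zero_of_flat_left
  | succ j ih =>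
    exact tor1Zero_step d hd x hx hX ⟨j, hj⟩ (ih (Nat.le_of_succ_le hj))

include hd hx hX in
theorem flat_mvPolynomial : Module.Flat (MvPolynomial (Fin d) k) S := by
  haveI hmax : (Ij k d d).IsMaximal := Ij_top_isMaximal k d
  letI : Field (MvPolynomial (Fin d) k ⧸ Ij k d d) := Ideal.Quotient.field _
  have hT := (tor1Zero_quotient_iff (M := S) (Ij k d d)).mp (tor1Zero_Ij d hd x hx hX d le_rfl)
  have hI : (Ij k d d).map (algebraMap (MvPolynomial (Fin d) k) S) ≤ Ideal.jacobson ⊥ := by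
    rw [IsLocalRing.jacobson_eq_maximalIdeal ⊥ bot_ne_top, ← hx]
    unfold Ij
    rw [Ideal.map_span, Ideal.span_le]
    rintro _ ⟨_, ⟨i, -, rfl⟩, rfl⟩
    rw [hX]
    exact Ideal.subset_span ⟨i, rfl⟩
  haveI : IsNoetherianRing S := inferInstance
  exact flat_of_rTensor_injective_of_flat_quotient (S := S) (Ij k d d) hI hT

end Main

end Groth.Agent.H91.RegFlat
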