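import Mathlib
import Groth.Prelude.Def_Smoothing
import Groth.Agent.H91.DesingA

/-!
# The desingularization lemma (Stacks 07CR): assembly for S2028
-/

set_option autoImplicit false

namespace Groth.Agent.H91.Desing

open Smoothing TensorProduct

universe u

theorem main {R Λ A D : Type u} [CommRing R] [IsNoetherianRing R]
    [CommRing Λ] [Algebra R Λ] (π : R) (hR : ∀ r : R, π ^ 2 * r = 0 → π * r = 0)
    (hΛ : ∀ x : Λ, π ^ 2 • x = 0 → π • x = 0) [CommRing A] [Algebra R A]
    [CommRing D] [Algebra R D] [Algebra.FinitePresentation R D]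
    (φ : A →ₐ[R] Λ) (δ : D →ₐ[R] Λ) (hπ : Smoothing.IsStrictlyStandard R A (algebraMap R A π))
    (ψ : A →ₐ[R] D ⧸ Ideal.span {algebraMap R D (π ^ 4)})
    (hψ : ∀ (a : A) (d : D), Ideal.Quotient.mk (Ideal.span {algebraMap R D (π ^ 4)}) d = ψ a →
      δ d - φ a ∈ Ideal.span {algebraMap R Λ (π ^ 4)}) :
    ∃ (B : Type u) (_ : CommRing B) (_ : Algebra R B) (_ : Algebra D B) (_ : IsScalarTower R D B),
      Algebra.FinitePresentation R B ∧
      ∃ (α : A →ₐ[R] B) (β : B →ₐ[R] Λ), β.comp α = φ ∧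
        β.comp (IsScalarTower.toAlgHom R D B) = δ ∧
        (Smoothing.singularIdeal R D).map (algebraMap D B) ≤ Smoothing.singularIdeal D B ∧
        (Smoothing.singularIdeal R D).map (algebraMap D B) ≤ Smoothing.singularIdeal R B := by
  classical
  -- `Λ` as a `D`-algebra
  letI algDΛ : Algebra D Λ := δ.toRingHom.toAlgebra
  haveI : IsScalarTower R D Λ := IsScalarTower.of_algebraMap_eq fun r => (δ.commutes r).symm
  have hδ : ∀ d, algebraMap D Λ d = δ d := fun d => rfl
  let πD : D := algebraMap R D π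
  have hπDpow : ∀ k : ℕ, algebraMap D Λ (πD ^ k) = algebraMap R Λ (π ^ k) := by
    intro k
    rw [hδ, ← map_pow, δ.commutes]
  let φ' : D ⊗[R] A →ₐ[D] Λ :=
    Algebra.TensorProduct.lift (Algebra.ofId D Λ) φ (fun _ _ => Commute.all _ _)
  have hφ' : ∀ (d : D) (a : A), φ' (d ⊗ₜ a) = δ d * φ a := by
    intro d a
    simp only [φ', Algebra.TensorProduct.lift_tmul]
    rfl
  have hΛ' : ∀ x : Λ, πD ^ 2 • x = 0 → πD • x = 0 := by
    intro x hx
    have h1 : ∀ (k : ℕ) (y : Λ), πD ^ k • y = π ^ k • y := by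
      intro k y
      rw [Algebra.smul_def, Algebra.smul_def, hπDpow]
    have h2 := h1 1 x
    rw [pow_one, pow_one] at h2
    rw [h2]
    apply hΛ
    rw [← h1]
    exact hx
  have hπ' : IsStrictlyStandard D (D ⊗[R] A) (algebraMap D (D ⊗[R] A) πD) := by
    have h1 := Groth.Agent.H91.StdBC.isStrictlyStandard_baseChange D (algebraMap R A π) hπ
    have h2 : algebraMap D (D ⊗[R] A) πD = (1 : D) ⊗ₜ[R] algebraMap R A π := by
      rw [Algebra.TensorProduct.algebraMap_apply, Algebra.algebraMap_self, RingHom.id_apply]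
      change (algebraMap R D π) ⊗ₜ[R] (1 : A) = _
      rw [Algebra.algebraMap_eq_smul_one (A := D) π, Algebra.algebraMap_eq_smul_one (A := A) π,
        TensorProduct.smul_tmul]
    rw [h2]
    exact h1
  -- the section `ρ'`
  have hI : Ideal.span {algebraMap R D (π ^ 4)} = Ideal.span {πD ^ 4} := by rw [map_pow]
  let e : (D ⧸ Ideal.span {algebraMap R D (π ^ 4)}) ≃ₐ[D] D ⧸ Ideal.span {πD ^ 4} :=
    Ideal.quotientEquivAlgOfEq D hI
  let ψ' : A →ₐ[R] D ⧸ Ideal.span {πD ^ 4} := (e.toAlgHom.restrictScalars R).comp ψ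
  let ρ' : D ⊗[R] A →ₐ[D] D ⧸ Ideal.span {πD ^ 4} :=
    Algebra.TensorProduct.lift (Algebra.ofId D _) ψ' (fun _ _ => Commute.all _ _)
  -- compatibility
  let JΛ : Ideal Λ := Ideal.span {algebraMap D Λ (πD ^ 4)}
  have hJΛ : JΛ = Ideal.span {algebraMap R Λ (π ^ 4)} := by
    change Ideal.span {algebraMap D Λ (πD ^ 4)} = _
    rw [hπDpow]
  let δbar : D ⧸ Ideal.span {πD ^ 4} →ₐ[D] Λ ⧸ JΛ :=
    Ideal.Quotient.liftₐ _ ((Ideal.Quotient.mkₐ D JΛ).comp (Algebra.ofId D Λ)) (by
      intro d hd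
      obtain ⟨c, rfl⟩ := Ideal.mem_span_singleton'.1 hd
      rw [AlgHom.comp_apply, Ideal.Quotient.mkₐ_eq_mk, Ideal.Quotient.eq_zero_iff_mem, map_mul]
      exact Ideal.mul_mem_left _ _ (Ideal.subset_span rfl))
  have hδbar : ∀ d : D, δbar (Ideal.Quotient.mk _ d) = Ideal.Quotient.mk JΛ (δ d) := fun d => rfl
  have hF : δbar.comp ρ' = (Ideal.Quotient.mkₐ D JΛ).comp φ' := by
    apply Algebra.TensorProduct.ext'
    intro d a
    rw [AlgHom.comp_apply, AlgHom.comp_apply, hφ']
    simp only [ρ', Algebra.TensorProduct.lift_tmul]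
    obtain ⟨d₀, hd₀⟩ := Ideal.Quotient.mk_surjective (ψ a)
    have h1 : ψ' a = Ideal.Quotient.mk _ d₀ := by
      simp only [ψ', AlgHom.comp_apply, ← hd₀]
      rfl
    have h2 : Algebra.ofId D (D ⧸ Ideal.span {πD ^ 4}) d = Ideal.Quotient.mk _ d := rfl
    rw [h1, h2, ← map_mul, hδbar, Ideal.Quotient.mkₐ_eq_mk, Ideal.Quotient.eq, map_mul, ← mul_sub]
    refine Ideal.mul_mem_left _ _ ?_
    rw [hJΛ]
    exact hψ a d₀ hd₀
  have hρ' : ∀ (a' : D ⊗[R] A) (d : D),
      Ideal.Quotient.mk (Ideal.span {πD ^ 4}) d = ρ' a' →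
        algebraMap D Λ d - φ' a' ∈ Ideal.span {algebraMap D Λ (πD ^ 4)} := by
    intro a' d hd
    have h1 := DFunLike.congr_fun hF a'
    rw [AlgHom.comp_apply, AlgHom.comp_apply, ← hd, hδbar, Ideal.Quotient.mkₐ_eq_mk,
      Ideal.Quotient.eq] at h1
    exact h1
  obtain ⟨B, _, _, hfpB, α', β', hαβ', hsing⟩ :=
    Groth.Agent.H91.LiftLem.main (R := D) (Λ := Λ) (A := D ⊗[R] A) πD hΛ' φ' hπ' ρ' hρ'
  -- `B` as an `R`-algebra
  letI algRB : Algebra R B := ((algebraMap D B).comp (algebraMap R D)).toAlgebra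
  haveI towerB : IsScalarTower R D B := IsScalarTower.of_algebraMap_eq fun _ => rfl
  haveI hfpRB : Algebra.FinitePresentation R B := Algebra.FinitePresentation.trans R D B
  let α : A →ₐ[R] B := (α'.restrictScalars R).comp Algebra.TensorProduct.includeRight
  let β : B →ₐ[R] Λ := β'.restrictScalars R
  have hradD : (singularIdeal D B).IsRadical := by
    unfold singularIdeal
    exact PrimeSpectrum.isRadical_vanishingIdeal _
  have hincl : ∀ d ∈ singularIdeal R D, algebraMap D B d ∈ singularIdeal D B := by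
    intro d hd
    obtain ⟨K, hK⟩ := exists_pow_kill π hR d hd
    have h1 := hsing (d ^ K) hK
    rw [map_pow] at h1
    exact hradD ⟨K, h1⟩
  refine ⟨B, inferInstance, algRB, inferInstance, towerB, hfpRB, α, β, ?_, ?_, ?_, ?_⟩
  · ext a
    have h1 := DFunLike.congr_fun hαβ' ((1 : D) ⊗ₜ[R] a)
    rw [AlgHom.comp_apply, hφ', map_one, one_mul] at h1
    exact h1
  · ext d
    change β' (algebraMap D B d) = δ d
    rw [β'.commutes]
    exact hδ d
  · rw [Ideal.map_le_iff_le_comap]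
    intro d hd
    exact hincl d hd
  · rw [Ideal.map_le_iff_le_comap]
    intro d hd
    rw [Ideal.mem_comap]
    apply Groth.Agent.H91.Glue.mem_singularIdeal_of_formallySmooth_away
    apply formallySmooth_away_of_tower d
    · exact Groth.Agent.H91.Glue.formallySmooth_away_of_mem_singularIdeal hd
    · exact Groth.Agent.H91.Glue.formallySmooth_away_of_mem_singularIdeal (hincl d hd)

end Groth.Agent.H91.Desing
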