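import Mathlib

/-!
# The lifting problem (Stacks 07CM), part A: general algebra lemmas
-/

set_option autoImplicit false

namespace Groth.Agent.H91.LProb

/-- Flatness trick: if `(S/𝔩)_Δ` is flat over `R`, the annihilators of `π` and `π²` in `R` agree,
and `π² ε ∈ 𝔩`, then `Δ^M π ε ∈ 𝔩` for some `M`. -/
theorem exists_pow_mul_mem_of_flat {R S : Type*} [CommRing R] [CommRing S] [Algebra R S] (π : R)
    (hR : ∀ r : R, π ^ 2 * r = 0 → π * r = 0) (𝔩 : Ideal S) (Δ : S)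
    [Module.Flat R (Localization.Away (Ideal.Quotient.mk 𝔩 Δ))] (ε : S)
    (hε : algebraMap R S (π ^ 2) * ε ∈ 𝔩) :
    ∃ M : ℕ, Δ ^ M * (algebraMap R S π * ε) ∈ 𝔩 := by
  let B₀ := S ⧸ 𝔩
  let L := Localization.Away (Ideal.Quotient.mk 𝔩 Δ)
  let x : L := algebraMap B₀ L (Ideal.Quotient.mk 𝔩 ε)
  have hmk : ∀ (a : R) (p : S),
      algebraMap B₀ L (Ideal.Quotient.mk 𝔩 (algebraMap R S a * p)) =
        algebraMap R L a * algebraMap B₀ L (Ideal.Quotient.mk 𝔩 p) := by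
    intro a p
    rw [map_mul, map_mul, IsScalarTower.algebraMap_apply R B₀ L]
    rfl
  have hx : algebraMap R L (π ^ 2) * x = 0 := by
    rw [← hmk, Ideal.Quotient.eq_zero_iff_mem.2 hε, map_zero]
  obtain ⟨k, a, y, hxy, ha⟩ := Module.Flat.isTrivialRelation_of_sum_smul_eq_zero (R := R) (M := L)
    (ι := Unit) (f := fun _ => π ^ 2) (x := fun _ => x) (by
      rw [Finset.univ_unique, Finset.sum_singleton, Algebra.smul_def]
      exact hx)
  have hx2 : algebraMap R L π * x = 0 := by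
    have h1 := hxy ()
    simp only at h1
    rw [h1, Finset.mul_sum]
    refine Finset.sum_eq_zero fun j _ => ?_
    have haj := ha j
    simp only [Finset.univ_unique, Finset.sum_singleton] at haj
    rw [Algebra.smul_def, ← mul_assoc, ← map_mul, hR _ haj, map_zero, zero_mul]
  rw [← hmk] at hx2
  have hx3 : algebraMap B₀ L (Ideal.Quotient.mk 𝔩 (algebraMap R S π * ε)) =
      algebraMap B₀ L 0 := by rw [hx2, map_zero]
  obtain ⟨M, hM⟩ := IsLocalization.Away.exists_of_eq (Ideal.Quotient.mk 𝔩 Δ) hx3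
  refine ⟨M, ?_⟩
  rw [mul_zero, ← map_pow, ← map_mul] at hM
  exact Ideal.Quotient.eq_zero_iff_mem.1 hM

/-- Adjugate trick: if `κ M` has entries in `𝔠` then `det M · κ` has entries in `𝔠`. -/
theorem det_mul_mem_of_vecMul_mem {P : Type*} [CommRing P] {ι : Type*} [Fintype ι] [DecidableEq ι]
    (M : Matrix ι ι P) (κ : ι → P) (𝔠 : Ideal P) (h : ∀ k, ∑ i, κ i * M i k ∈ 𝔠) (i : ι) :
    M.det * κ i ∈ 𝔠 := by
  have h1 : Matrix.vecMul (Matrix.vecMul κ M) M.adjugate = M.det • κ := by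
    rw [Matrix.vecMul_vecMul, Matrix.mul_adjugate, Matrix.vecMul_smul, Matrix.vecMul_one]
  have h2 : M.det * κ i = ∑ k, (∑ i', κ i' * M i' k) * M.adjugate k i := by
    have := congrFun h1 i
    rw [Pi.smul_apply, smul_eq_mul] at this
    rw [← this]
    rfl
  rw [h2]
  exact Ideal.sum_mem _ fun k _ => Ideal.mul_mem_right _ _ (h k)

/-- If all entries of `M - a • 1` lie in an ideal, so does `det M - a ^ card`. -/
theorem det_sub_pow_mem {S : Type*} [CommRing S] {ι : Type*} [Fintype ι] [DecidableEq ι]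
    (M : Matrix ι ι S) (a : S) (𝔞 : Ideal S) (h : ∀ j k, M j k - (a • (1 : Matrix ι ι S)) j k ∈ 𝔞) :
    M.det - a ^ Fintype.card ι ∈ 𝔞 := by
  have h1 : (Ideal.Quotient.mk 𝔞).mapMatrix M = (Ideal.Quotient.mk 𝔞 a) • (1 : Matrix ι ι (S ⧸ 𝔞)) := by
    ext j k
    rw [RingHom.mapMatrix_apply, Matrix.map_apply]
    have := Ideal.Quotient.eq.2 (h j k)
    rw [this]
    by_cases hjk : j = k
    · subst hjk; simp
    · simp [Matrix.one_apply_ne hjk]
  have h2 : Ideal.Quotient.mk 𝔞 M.det = Ideal.Quotient.mk 𝔞 (a ^ Fintype.card ι) := by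
    rw [RingHom.map_det, h1, Matrix.det_smul, Matrix.det_one, mul_one, map_pow]
  exact Ideal.Quotient.eq.1 h2

/-- Determinant trick: if `a f_ℓ ∈ 𝔫 + I²` for all generators `f_ℓ` of `I`, then some
`b ≡ a^m mod I` satisfies `b f_ℓ ∈ 𝔫`. -/
theorem exists_mul_mem_of_mul_mem_sup_sq {P : Type*} [CommRing P] {m : ℕ} (f : Fin m → P)
    (𝔫 : Ideal P) (a : P)
    (h : ∀ ℓ, a * f ℓ ∈ 𝔫 ⊔ Ideal.span (Set.range f) ^ 2) :
    ∃ b : P, b - a ^ m ∈ Ideal.span (Set.range f) ∧ ∀ ℓ, b * f ℓ ∈ 𝔫 := by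
  classical
  set I := Ideal.span (Set.range f) with hI
  -- write `a f_ℓ = y_ℓ + Σ_k u_{ℓk} f_k` with `u_{ℓk} ∈ I`
  have h1 : ∀ ℓ, ∃ u : Fin m → P, (∀ k, u k ∈ I) ∧ a * f ℓ - ∑ k, u k * f k ∈ 𝔫 := by
    intro ℓ
    obtain ⟨y, hy, z, hz, hyz⟩ := Submodule.mem_sup.1 (h ℓ)
    rw [pow_two] at hz
    have hz' : z ∈ I • Submodule.span P (Set.range f) := hz
    obtain ⟨c, hc, hcz⟩ := (Submodule.mem_ideal_smul_span_iff_exists_sum I f z).1 hz'
    refine ⟨fun k => c k, fun k => hc k, ?_⟩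
    have hcz' : ∑ k, c k * f k = z := by
      rw [← hcz, Finsupp.sum_fintype]
      · rfl
      · intro i; exact zero_smul _ _
    simp only
    rw [hcz', ← hyz, add_sub_cancel_right]
    exact hy
  choose u hu hmem using h1
  let U : Matrix (Fin m) (Fin m) P := Matrix.of fun ℓ k => u ℓ k
  let Mx : Matrix (Fin m) (Fin m) P := a • (1 : Matrix (Fin m) (Fin m) P) - U
  have hMxf : ∀ ℓ, (Mx.mulVec f) ℓ ∈ 𝔫 := by
    intro ℓ
    have : (Mx.mulVec f) ℓ = a * f ℓ - ∑ k, u ℓ k * f k := by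
      simp only [Mx, U, Matrix.sub_mulVec, Matrix.smul_mulVec, Matrix.one_mulVec, Pi.sub_apply,
        Pi.smul_apply, smul_eq_mul]
      rfl
    rw [this]
    exact hmem ℓ
  refine ⟨Mx.det, ?_, fun ℓ => ?_⟩
  · have := det_sub_pow_mem Mx a I (fun j k => by
      have : Mx j k - (a • (1 : Matrix (Fin m) (Fin m) P)) j k = - u j k := by
        simp only [Mx, U, Matrix.sub_apply, Matrix.of_apply]
        ring
      rw [this]
      exact I.neg_mem (hu j k))
    rwa [Fintype.card_fin] at this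
  · have h1 : (Mx.adjugate * Mx).mulVec f = Mx.det • f := by
      rw [Matrix.adjugate_mul, Matrix.smul_mulVec, Matrix.one_mulVec]
    have h2 : (Mx.det • f) ℓ = ∑ j, Mx.adjugate ℓ j * (Mx.mulVec f) j := by
      rw [← h1, ← Matrix.mulVec_mulVec]
      rfl
    have h3 : Mx.det * f ℓ = (Mx.det • f) ℓ := rfl
    rw [h3, h2]
    exact Ideal.sum_mem _ fun j _ => Ideal.mul_mem_left _ _ (hMxf j)

end Groth.Agent.H91.LProb
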