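import Mathlib
import Groth.Agent.H91.LProbA

/-!
# The lifting problem (Stacks 07CM), part B: the relations of `D`
-/

set_option autoImplicit false

namespace Groth.Agent.H91.LProb

open MvPolynomial

universe u

variable {R : Type u} [CommRing R] {n m : ℕ} (π : R) (f : Fin m → MvPolynomial (Fin n) R)

/-- Inclusion of the `x`-variables. -/
noncomputable def ιx (R : Type u) [CommRing R] (n m : ℕ) :
    MvPolynomial (Fin n) R →ₐ[R] MvPolynomial (Fin (n + m)) R := rename (Fin.castAdd m)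

/-- The variable `z_j`. -/
noncomputable def zv (R : Type u) [CommRing R] (n m : ℕ) (j : Fin m) :
    MvPolynomial (Fin (n + m)) R := X (Fin.natAdd n j)

/-- The relation `f_j - π z_j`. -/
noncomputable def q₁ (j : Fin m) : MvPolynomial (Fin (n + m)) R :=
  ιx R n m (f j) - C π * zv R n m j

/-- The data of an identity `a f_ℓ = Σ_{j ∈ E} h_{ℓ j} f_j + π² g_ℓ`. -/
structure Tuple where
  E : Finset (Fin m)
  a : MvPolynomial (Fin n) R
  h : Fin m → Fin m → MvPolynomial (Fin n) R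
  g₀ : Fin m → MvPolynomial (Fin n) R
  id : ∀ ℓ, a * f ℓ = ∑ j ∈ E, h ℓ j * f j + C (π ^ 2) * g₀ ℓ

variable {π f}

/-- The relation `a z_ℓ - Σ_{j ∈ E} h_{ℓ j} z_j - π g_ℓ`. -/
noncomputable def q₂ (T : Tuple π f) (ℓ : Fin m) : MvPolynomial (Fin (n + m)) R :=
  ιx R n m T.a * zv R n m ℓ - ∑ j ∈ T.E, ιx R n m (T.h ℓ j) * zv R n m j - C π * ιx R n m (T.g₀ ℓ)

theorem ιx_C (a : R) : ιx R n m (C a) = C a := by
  simp [ιx]

theorem pi_mul_q₂ (T : Tuple π f) (ℓ : Fin m) :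
    C π * q₂ T ℓ = - ιx R n m T.a * q₁ π f ℓ + ∑ j ∈ T.E, ιx R n m (T.h ℓ j) * q₁ π f j := by
  have h1 := congrArg (ιx R n m) (T.id ℓ)
  rw [map_mul, map_add, map_sum, map_mul, ιx_C] at h1
  simp only [map_mul] at h1
  unfold q₁ q₂
  simp only [mul_sub, Finset.sum_sub_distrib, map_pow] at h1 ⊢
  have h2 : ∑ j ∈ T.E, ιx R n m (T.h ℓ j) * (C π * zv R n m j) =
      C π * ∑ j ∈ T.E, ιx R n m (T.h ℓ j) * zv R n m j := by
    rw [Finset.mul_sum]
    refine Finset.sum_congr rfl fun j _ => ?_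
    ring
  rw [h2]
  linear_combination h1

section Point

variable {Λ : Type u} [CommRing Λ] [Algebra R Λ] (lam : Fin n → Λ) (mu : Fin m → Λ)

/-- The `Λ`-point of `R[x, z]`. -/
noncomputable def δ₀ : MvPolynomial (Fin (n + m)) R →ₐ[R] Λ :=
  aeval (Fin.addCases lam (fun j => algebraMap R Λ π * mu j))

theorem δ₀_ιx (F : MvPolynomial (Fin n) R) : δ₀ (π := π) lam mu (ιx R n m F) = aeval lam F := by
  unfold δ₀ ιx
  rw [aeval_rename]
  have : (Fin.addCases lam (fun j => algebraMap R Λ π * mu j) : Fin (n + m) → Λ) ∘ Fin.castAdd m =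
      lam := by
    funext i
    simp [Fin.addCases_left]
  rw [this]

theorem δ₀_zv (j : Fin m) : δ₀ (π := π) lam mu (zv R n m j) = algebraMap R Λ π * mu j := by
  unfold δ₀ zv
  rw [aeval_X, Fin.addCases_right]

theorem δ₀_C (a : R) : δ₀ (π := π) lam mu (C a : MvPolynomial (Fin (n + m)) R) = algebraMap R Λ a := by
  unfold δ₀
  rw [aeval_C]

variable (hmu : ∀ j, aeval lam (f j) = algebraMap R Λ (π ^ 2) * mu j)

include hmu in
theorem δ₀_q₁ (j : Fin m) : δ₀ (π := π) lam mu (q₁ π f j) = 0 := by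
  unfold q₁
  rw [map_sub, map_mul, δ₀_ιx, δ₀_zv, δ₀_C, hmu, map_pow]
  ring

include hmu in
theorem δ₀_q₂ (hΛ : ∀ x : Λ, π ^ 2 • x = 0 → π • x = 0) (T : Tuple π f) (ℓ : Fin m) :
    δ₀ (π := π) lam mu (q₂ T ℓ) = 0 := by
  have h1 : algebraMap R Λ π * δ₀ (π := π) lam mu (q₂ T ℓ) = 0 := by
    rw [← δ₀_C (π := π) lam mu, ← map_mul, pi_mul_q₂, map_add, map_mul, map_sum,
      δ₀_q₁ lam mu hmu, mul_zero, zero_add]
    refine Finset.sum_eq_zero fun j _ => ?_
    rw [map_mul, δ₀_q₁ lam mu hmu, mul_zero]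
  have h2 : δ₀ (π := π) lam mu (q₂ T ℓ) = algebraMap R Λ π *
      (aeval lam T.a * mu ℓ - ∑ j ∈ T.E, aeval lam (T.h ℓ j) * mu j - aeval lam (T.g₀ ℓ)) := by
    unfold q₂
    rw [map_sub, map_sub, map_mul, map_sum, map_mul, δ₀_ιx, δ₀_zv, δ₀_C, δ₀_ιx, mul_sub, mul_sub,
      Finset.mul_sum]
    congr 1
    · congr 1
      · ring
      · refine Finset.sum_congr rfl fun j _ => ?_
        rw [map_mul, δ₀_ιx, δ₀_zv]
        ring
  rw [h2] at h1 ⊢
  set u := aeval lam T.a * mu ℓ - ∑ j ∈ T.E, aeval lam (T.h ℓ j) * mu j - aeval lam (T.g₀ ℓ)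
    with hu
  have h3 := hΛ u (by
    rw [Algebra.smul_def, map_pow, ← h1]
    ring)
  rwa [Algebra.smul_def] at h3

end Point

end Groth.Agent.H91.LProb
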