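import Mathlib
import Groth.Prelude.Def_Smoothing
import Groth.Agent.H91.LProbB
import Groth.Agent.H11.StdSing

/-!
# The lifting problem (Stacks 07CM), part C: the algebra `D` and smoothness away from `π`
-/

set_option autoImplicit false

namespace Groth.Agent.H91.LProb

open MvPolynomial Smoothing

universe u

variable {R : Type u} [CommRing R] {n m : ℕ} {π : R} {f : Fin m → MvPolynomial (Fin n) R}
  {Fam : Type} [Fintype Fam] (T : Fam → Tuple π f)

/-- All relations of `D`. -/
noncomputable def relτ : Fin m ⊕ (Fam × Fin m) → MvPolynomial (Fin (n + m)) R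
  | Sum.inl j => q₁ π f j
  | Sum.inr p => q₂ (T p.1) p.2

/-- The ideal of relations of `D`. -/
noncomputable def idD : Ideal (MvPolynomial (Fin (n + m)) R) := Ideal.span (Set.range (relτ T))

instance : Algebra.FinitePresentation R (MvPolynomial (Fin (n + m)) R ⧸ idD T) :=
  Algebra.FinitePresentation.quotient (Submodule.fg_span (Set.finite_range _))

theorem q₁_mem_idD (j : Fin m) : q₁ π f j ∈ idD T :=
  Ideal.subset_span ⟨Sum.inl j, rfl⟩

theorem q₂_mem_idD (k : Fam) (ℓ : Fin m) : q₂ (T k) ℓ ∈ idD T :=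
  Ideal.subset_span ⟨Sum.inr (k, ℓ), rfl⟩

/-- Wrapper around the reindexing lemma: elementary standardness in `D`. -/
theorem isElementaryStandard_D {c : ℕ} (ρ : Fin c ↪ Fin m ⊕ (Fam × Fin m))
    (cols : Fin c ↪ Fin (n + m)) (w w' : MvPolynomial (Fin (n + m)) R)
    (hw : w = w' * Matrix.det (Matrix.of fun j k : Fin c => pderiv (cols k) (relτ T (ρ j))))
    (hkill : ∀ t, w * relτ T t ∈ Ideal.span (Set.range (relτ T ∘ ρ)) ⊔ idD T ^ 2) :
    IsElementaryStandard R (MvPolynomial (Fin (n + m)) R ⧸ idD T)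
      (Ideal.Quotient.mk (idD T) w) := by
  classical
  let τ := Fin m ⊕ (Fam × Fin m)
  let e : Fin (Fintype.card τ) ≃ τ := (Fintype.equivFin τ).symm
  let relFin : Fin (Fintype.card τ) → MvPolynomial (Fin (n + m)) R := relτ T ∘ e
  have hrange : Set.range relFin = Set.range (relτ T) := by
    ext x
    constructor
    · rintro ⟨t, rfl⟩
      exact ⟨e t, rfl⟩
    · rintro ⟨t, rfl⟩
      exact ⟨e.symm t, by simp [relFin]⟩
  let rows : Fin c ↪ Fin (Fintype.card τ) := ρ.trans e.symm.toEmbedding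
  have hrows : ∀ j, relFin (rows j) = relτ T (ρ j) := by
    intro j
    simp [relFin, rows]
  refine Groth.Agent.H11.StdReindex.isElementaryStandard_of_rows_cols relFin
    (Ideal.Quotient.mkₐ R (idD T)) (Ideal.Quotient.mkₐ_surjective R _) ?_ rows cols
    (Ideal.Quotient.mk (idD T) w) (Ideal.Quotient.mk (idD T) w') ?_ ?_
  · rw [hrange]
    ext x
    rw [RingHom.mem_ker]
    change Ideal.Quotient.mk (idD T) x = 0 ↔ _
    rw [Ideal.Quotient.eq_zero_iff_mem]
    rfl
  · rw [hw, map_mul]
    congr 1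
    change _ = Ideal.Quotient.mk (idD T) (jacobianMinor relFin rows cols)
    congr 1
    unfold jacobianMinor
    congr 1
    ext j k
    simp only [Matrix.of_apply]
    rw [hrows]
  · intro a₁ ha₁ ℓ
    have hdiff : a₁ - w ∈ idD T := Ideal.Quotient.eq.1 ha₁
    have h1 : a₁ * relFin ℓ = w * relFin ℓ + (a₁ - w) * relFin ℓ := by ring
    have h2 : Set.range (relFin ∘ rows) = Set.range (relτ T ∘ ρ) := by
      congr 1
      funext j
      exact hrows j
    rw [h1, h2, hrange]
    refine Ideal.add_mem _ (hkill (e ℓ)) (Ideal.mem_sup_right ?_)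
    rw [pow_two]
    exact Ideal.mul_mem_mul hdiff (Ideal.subset_span ⟨e ℓ, rfl⟩)

/-! ### Partial derivatives -/

theorem castAdd_ne_natAdd (i : Fin n) (k : Fin m) : Fin.castAdd m i ≠ Fin.natAdd n k := by
  intro h
  have := congrArg Fin.val h
  simp only [Fin.val_castAdd, Fin.val_natAdd] at this
  omega

theorem pderiv_z_ιx (k : Fin m) (F : MvPolynomial (Fin n) R) :
    pderiv (Fin.natAdd n k) (ιx R n m F) = 0 := by
  classical
  apply pderiv_eq_zero_of_notMem_vars
  intro h
  have h1 := vars_rename (Fin.castAdd m) F h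
  rw [Finset.mem_image] at h1
  obtain ⟨i, _, hi⟩ := h1
  exact castAdd_ne_natAdd i k hi

theorem pderiv_x_ιx (i : Fin n) (F : MvPolynomial (Fin n) R) :
    pderiv (Fin.castAdd m i) (ιx R n m F) = ιx R n m (pderiv i F) :=
  pderiv_rename (Fin.castAdd_injective n m) _ _

theorem pderiv_x_zv (i : Fin n) (j : Fin m) : pderiv (Fin.castAdd m i) (zv R n m j) = 0 := by
  classical
  unfold zv
  rw [pderiv_X, Pi.single_apply, if_neg]
  exact fun h => castAdd_ne_natAdd i j h.symm

theorem pderiv_z_zv (k j : Fin m) :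
    pderiv (Fin.natAdd n k) (zv R n m j) = if j = k then 1 else 0 := by
  classical
  unfold zv
  rw [pderiv_X, Pi.single_apply]
  by_cases h : j = k
  · subst h; simp
  · rw [if_neg h, if_neg]
    intro h'
    exact h (Fin.natAdd_injective _ _ h')

theorem pderiv_z_q₁ (k j : Fin m) :
    pderiv (Fin.natAdd n k) (q₁ π f j) = if j = k then - C π else 0 := by
  unfold q₁
  rw [map_sub, pderiv_z_ιx, Derivation.leibniz, pderiv_C, smul_zero, add_zero, pderiv_z_zv,
    smul_eq_mul]
  split_ifs <;> simp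

/-- `π^(m+1)` is elementary standard in `D`. -/
theorem isElementaryStandard_pi_pow :
    IsElementaryStandard R (MvPolynomial (Fin (n + m)) R ⧸ idD T)
      (Ideal.Quotient.mk (idD T) (C (π ^ (m + 1)))) := by
  classical
  let ρ : Fin m ↪ Fin m ⊕ (Fam × Fin m) := ⟨Sum.inl, Sum.inl_injective⟩
  let cols : Fin m ↪ Fin (n + m) := ⟨Fin.natAdd n, Fin.natAdd_injective _ _⟩
  have hdet : Matrix.det (Matrix.of fun j k : Fin m => pderiv (cols k) (relτ T (ρ j))) =
      (- C π : MvPolynomial (Fin (n + m)) R) ^ m := by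
    have : (Matrix.of fun j k : Fin m => pderiv (cols k) (relτ T (ρ j))) =
        (- C π : MvPolynomial (Fin (n + m)) R) • (1 : Matrix (Fin m) (Fin m) _) := by
      apply Matrix.ext
      intro j k
      rw [Matrix.of_apply, Matrix.smul_apply, Matrix.one_apply, smul_eq_mul]
      change pderiv (Fin.natAdd n k) (q₁ π f j) = _
      rw [pderiv_z_q₁]
      split_ifs <;> simp
    rw [this, Matrix.det_smul, Matrix.det_one, mul_one, Fintype.card_fin]
  refine isElementaryStandard_D T ρ cols _ (C ((-1) ^ m * π)) ?_ ?_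
  · rw [hdet]
    simp only [map_mul, map_pow, map_neg, map_one]
    have h1 : ((-1 : MvPolynomial (Fin (n + m)) R) ^ m) * (-1) ^ m = 1 := by
      rw [← mul_pow]; simp
    have h2 : (- C π : MvPolynomial (Fin (n + m)) R) ^ m = (-1) ^ m * C π ^ m := by
      rw [← mul_pow]; simp
    rw [h2]
    linear_combination (- C π ^ (m+1)) * h1
  · have hspan : ∀ j, q₁ π f j ∈ Ideal.span (Set.range (relτ T ∘ ρ)) := fun j =>
      Ideal.subset_span ⟨j, rfl⟩
    intro t
    refine Ideal.mem_sup_left ?_
    rcases t with j | ⟨k, ℓ⟩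
    · exact Ideal.mul_mem_left _ _ (hspan j)
    · change C (π ^ (m + 1)) * q₂ (T k) ℓ ∈ _
      have : (C (π ^ (m + 1)) : MvPolynomial (Fin (n + m)) R) * q₂ (T k) ℓ =
          C (π ^ m) * (C π * q₂ (T k) ℓ) := by
        rw [← mul_assoc, ← map_mul, pow_succ]
      rw [this, pi_mul_q₂]
      refine Ideal.mul_mem_left _ _ (Ideal.add_mem _ (Ideal.mul_mem_left _ _ (hspan ℓ)) ?_)
      exact Ideal.sum_mem _ fun j _ => Ideal.mul_mem_left _ _ (hspan j)

end Groth.Agent.H91.LProb
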