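import Mathlib
import Groth.Prelude.Def_Smoothing
import Groth.Agent.H91.LProbC
import Groth.Agent.H91.GlueB
import Groth.Agent.H91.LiftLemG

/-!
# The lifting problem (Stacks 07CM), part D: smoothness at primes over smooth points of `C`
-/

set_option autoImplicit false

namespace Groth.Agent.H91.LProb

open MvPolynomial Smoothing

universe u

section Wrapper

variable {R : Type u} [CommRing R]

/-- General wrapper: elementary standardness in a quotient of a polynomial ring, with relations and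
leading relations indexed by finite types. -/
theorem isElementaryStandard_quot {N : ℕ} {τ ι : Type} [Fintype τ] [Fintype ι] [DecidableEq ι]
    (rel : τ → MvPolynomial (Fin N) R) (ρ : ι ↪ τ) (cols : ι ↪ Fin N)
    (w w' : MvPolynomial (Fin N) R)
    (hw : w = w' * Matrix.det (Matrix.of fun j k : ι => pderiv (cols k) (rel (ρ j))))
    (hkill : ∀ t, w * rel t ∈ Ideal.span (Set.range (rel ∘ ρ)) ⊔ Ideal.span (Set.range rel) ^ 2) :
    IsElementaryStandard R (MvPolynomial (Fin N) R ⧸ Ideal.span (Set.range rel))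
      (Ideal.Quotient.mk (Ideal.span (Set.range rel)) w) := by
  classical
  set J := Ideal.span (Set.range rel) with hJ
  let e : Fin (Fintype.card τ) ≃ τ := (Fintype.equivFin τ).symm
  let e' : Fin (Fintype.card ι) ≃ ι := (Fintype.equivFin ι).symm
  let relFin : Fin (Fintype.card τ) → MvPolynomial (Fin N) R := rel ∘ e
  have hrange : Set.range relFin = Set.range rel := by
    ext x
    constructor
    · rintro ⟨t, rfl⟩
      exact ⟨e t, rfl⟩
    · rintro ⟨t, rfl⟩
      exact ⟨e.symm t, by simp [relFin]⟩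
  let rows : Fin (Fintype.card ι) ↪ Fin (Fintype.card τ) :=
    (e'.toEmbedding.trans ρ).trans e.symm.toEmbedding
  let cols' : Fin (Fintype.card ι) ↪ Fin N := e'.toEmbedding.trans cols
  have hrows : ∀ j, relFin (rows j) = rel (ρ (e' j)) := by
    intro j
    simp [relFin, rows]
  refine Groth.Agent.H11.StdReindex.isElementaryStandard_of_rows_cols relFin
    (Ideal.Quotient.mkₐ R J) (Ideal.Quotient.mkₐ_surjective R _) ?_ rows cols'
    (Ideal.Quotient.mk J w) (Ideal.Quotient.mk J w') ?_ ?_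
  · rw [hrange]
    ext x
    rw [RingHom.mem_ker]
    change Ideal.Quotient.mk J x = 0 ↔ _
    rw [Ideal.Quotient.eq_zero_iff_mem]
  · rw [hw, map_mul]
    congr 1
    change _ = Ideal.Quotient.mk J (jacobianMinor relFin rows cols')
    congr 1
    unfold jacobianMinor
    rw [← Matrix.det_submatrix_equiv_self e'
      (Matrix.of fun j k : ι => pderiv (cols k) (rel (ρ j)))]
    congr 1
    apply Matrix.ext
    intro j k
    rw [Matrix.submatrix_apply, Matrix.of_apply, Matrix.of_apply, hrows]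
    rfl
  · intro a₁ ha₁ ℓ
    have hdiff : a₁ - w ∈ J := Ideal.Quotient.eq.1 ha₁
    have h1 : a₁ * relFin ℓ = w * relFin ℓ + (a₁ - w) * relFin ℓ := by ring
    have h2 : Set.range (relFin ∘ rows) = Set.range (rel ∘ ρ) := by
      ext x
      constructor
      · rintro ⟨j, rfl⟩
        exact ⟨e' j, (hrows j).symm⟩
      · rintro ⟨j, rfl⟩
        refine ⟨e'.symm j, ?_⟩
        change relFin (rows (e'.symm j)) = _
        rw [hrows, Equiv.apply_symm_apply]
        rfl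
    rw [h1, h2, hrange]
    refine Ideal.add_mem _ (hkill (e ℓ)) (Ideal.mem_sup_right ?_)
    rw [pow_two]
    exact Ideal.mul_mem_mul hdiff (Ideal.subset_span ⟨e ℓ, rfl⟩)

end Wrapper

section Core

variable {R : Type u} [CommRing R] {n m : ℕ} {π : R} {f : Fin m → MvPolynomial (Fin n) R}

/-! ### More partial derivatives -/

theorem pderiv_x_q₁ (i : Fin n) (j : Fin m) :
    pderiv (Fin.castAdd m i) (q₁ π f j) = ιx R n m (pderiv i (f j)) := by
  unfold q₁
  rw [map_sub, pderiv_x_ιx, Derivation.leibniz, pderiv_C, smul_zero, add_zero, pderiv_x_zv,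
    smul_zero, sub_zero]

theorem pderiv_z_q₂ (T : Tuple π f) (ℓ k : Fin m) (hk : k ∉ T.E) :
    pderiv (Fin.natAdd n k) (q₂ T ℓ) = if ℓ = k then ιx R n m T.a else 0 := by
  unfold q₂
  rw [map_sub, map_sub, Derivation.leibniz, pderiv_z_ιx, smul_zero, add_zero, pderiv_z_zv,
    map_sum, Derivation.leibniz, pderiv_z_ιx, pderiv_C, smul_zero, smul_zero, add_zero, sub_zero]
  have h0 : ∑ j ∈ T.E, pderiv (Fin.natAdd n k) (ιx R n m (T.h ℓ j) * zv R n m j) = 0 := by
    refine Finset.sum_eq_zero fun j hj => ?_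
    rw [Derivation.leibniz, pderiv_z_ιx, smul_zero, add_zero, pderiv_z_zv, if_neg, smul_zero]
    intro h
    exact hk (h ▸ hj)
  rw [h0, sub_zero, smul_eq_mul]
  split_ifs <;> simp

/-! ### Linear forms in the `z`-variables and their values -/

/-- The form `Σ_{k ∈ E} κ_k z_k + π γ`. -/
noncomputable def lin (π : R) (E : Finset (Fin m)) (κ : Fin m → MvPolynomial (Fin n) R)
    (γ : MvPolynomial (Fin n) R) : MvPolynomial (Fin (n + m)) R :=
  ∑ k ∈ E, ιx R n m (κ k) * zv R n m k + C π * ιx R n m γ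

/-- The value `Σ_{k ∈ E} κ_k f_k + π² γ`. -/
noncomputable def val (π : R) (f : Fin m → MvPolynomial (Fin n) R) (E : Finset (Fin m))
    (κ : Fin m → MvPolynomial (Fin n) R) (γ : MvPolynomial (Fin n) R) : MvPolynomial (Fin n) R :=
  ∑ k ∈ E, κ k * f k + C (π ^ 2) * γ

theorem pi_mul_lin (E : Finset (Fin m)) (κ : Fin m → MvPolynomial (Fin n) R)
    (γ : MvPolynomial (Fin n) R) :
    C π * lin π E κ γ = ιx R n m (val π f E κ γ) - ∑ k ∈ E, ιx R n m (κ k) * q₁ π f k := by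
  unfold lin val
  have h : ∀ k, C π * (ιx R n m (κ k) * zv R n m k) =
      ιx R n m (κ k * f k) - ιx R n m (κ k) * q₁ π f k := by
    intro k
    unfold q₁
    rw [map_mul]
    ring
  rw [mul_add, Finset.mul_sum, Finset.sum_congr rfl (fun k _ => h k), Finset.sum_sub_distrib,
    map_add, map_sum, map_mul, ιx_C, C_pow]
  ring

theorem lin_add (E : Finset (Fin m)) (κ₁ κ₂ : Fin m → MvPolynomial (Fin n) R)
    (γ₁ γ₂ : MvPolynomial (Fin n) R) :
    lin π E (κ₁ + κ₂) (γ₁ + γ₂) = lin π E κ₁ γ₁ + lin π E κ₂ γ₂ := by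
  unfold lin
  simp only [Pi.add_apply, map_add, add_mul, mul_add, Finset.sum_add_distrib]
  ring

theorem lin_smul (E : Finset (Fin m)) (p : MvPolynomial (Fin n) R)
    (κ : Fin m → MvPolynomial (Fin n) R) (γ : MvPolynomial (Fin n) R) :
    lin π E (fun k => p * κ k) (p * γ) = ιx R n m p * lin π E κ γ := by
  unfold lin
  rw [mul_add, Finset.mul_sum]
  congr 1
  · refine Finset.sum_congr rfl fun k _ => ?_
    rw [map_mul]
    ring
  · rw [map_mul]
    ring

theorem val_add (E : Finset (Fin m)) (κ₁ κ₂ : Fin m → MvPolynomial (Fin n) R)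
    (γ₁ γ₂ : MvPolynomial (Fin n) R) :
    val π f E (κ₁ + κ₂) (γ₁ + γ₂) = val π f E κ₁ γ₁ + val π f E κ₂ γ₂ := by
  unfold val
  simp only [Pi.add_apply, add_mul, mul_add, Finset.sum_add_distrib]
  ring

theorem val_smul (E : Finset (Fin m)) (p : MvPolynomial (Fin n) R)
    (κ : Fin m → MvPolynomial (Fin n) R) (γ : MvPolynomial (Fin n) R) :
    val π f E (fun k => p * κ k) (p * γ) = p * val π f E κ γ := by
  unfold val
  rw [mul_add, Finset.mul_sum]
  congr 1
  · refine Finset.sum_congr rfl fun k _ => ?_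
    ring
  · ring

variable {Fam : Type} [Fintype Fam] (T : Fam → Tuple π f) {c : ℕ} (rows₀ : Fin c ↪ Fin m)
  (cols₀ : Fin c ↪ Fin n) (k₀ : Fam)

/-- Index type of the leading relations. -/
abbrev Idx (T : Fam → Tuple π f) (k₀ : Fam) (c : ℕ) : Type :=
  Fin c ⊕ {j : Fin m // j ∉ (T k₀).E}

/-- The leading relations. -/
def ρL : Idx T k₀ c ↪ Fin m ⊕ (Fam × Fin m) where
  toFun := Sum.elim (fun i => Sum.inl (rows₀ i)) (fun j => Sum.inr (k₀, j.1))
  inj' := by
    rintro (i | j) (i' | j') h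
    · simp only [Sum.elim_inl, Sum.inl.injEq] at h
      rw [rows₀.injective h]
    · simp at h
    · simp at h
    · simp only [Sum.elim_inr, Sum.inr.injEq, Prod.mk.injEq, true_and] at h
      rw [Subtype.ext h]

/-- The leading columns. -/
def colsL : Idx T k₀ c ↪ Fin (n + m) where
  toFun := Sum.elim (fun i => Fin.castAdd m (cols₀ i)) (fun j => Fin.natAdd n j.1)
  inj' := by
    rintro (i | j) (i' | j') h
    · simp only [Sum.elim_inl] at h
      rw [cols₀.injective (Fin.castAdd_injective n m h)]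
    · simp only [Sum.elim_inl, Sum.elim_inr] at h
      exact absurd h (castAdd_ne_natAdd _ _)
    · simp only [Sum.elim_inl, Sum.elim_inr] at h
      exact absurd h.symm (castAdd_ne_natAdd _ _)
    · simp only [Sum.elim_inr] at h
      rw [Subtype.ext (Fin.natAdd_injective _ _ h)]

/-- The ideal generated by the leading relations. -/
noncomputable def idL : Ideal (MvPolynomial (Fin (n + m)) R) :=
  Ideal.span (Set.range (relτ T ∘ ⇑(ρL T rows₀ k₀)))

theorem q₁_rows_mem_idL (i : Fin c) : q₁ π f (rows₀ i) ∈ idL T rows₀ k₀ :=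
  Ideal.subset_span ⟨Sum.inl i, rfl⟩

theorem q₂_mem_idL (j : Fin m) (hj : j ∉ (T k₀).E) : q₂ (T k₀) j ∈ idL T rows₀ k₀ :=
  Ideal.subset_span ⟨Sum.inr ⟨j, hj⟩, rfl⟩

theorem idL_le_idD : idL T rows₀ k₀ ≤ idD T := by
  unfold idL idD
  refine Ideal.span_mono ?_
  rintro _ ⟨t, rfl⟩
  exact ⟨_, rfl⟩

section withE

variable (hE : (T k₀).E = Finset.univ.map rows₀)

include hE in
theorem q₁_mem_idL_of_mem {j : Fin m} (hj : j ∈ (T k₀).E) : q₁ π f j ∈ idL T rows₀ k₀ := by
  rw [hE, Finset.mem_map] at hj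
  obtain ⟨i, _, rfl⟩ := hj
  exact q₁_rows_mem_idL T rows₀ k₀ i

include hE in
theorem rows_mem_E (i : Fin c) : rows₀ i ∈ (T k₀).E := by
  rw [hE]
  exact Finset.mem_map_of_mem _ (Finset.mem_univ i)

include hE in
theorem sum_E_eq {M : Type*} [AddCommMonoid M] (F : Fin m → M) :
    ∑ k ∈ (T k₀).E, F k = ∑ i, F (rows₀ i) := by
  rw [hE, Finset.sum_map]

/-- The full Jacobian minor of the leading relations. -/
noncomputable def Δ₀ : MvPolynomial (Fin (n + m)) R :=
  ιx R n m (jacobianMinor f rows₀ cols₀) *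
    ιx R n m (T k₀).a ^ Fintype.card {j : Fin m // j ∉ (T k₀).E}

include hE in
theorem det_leading :
    Matrix.det (Matrix.of fun j k : Idx T k₀ c =>
      pderiv (colsL T cols₀ k₀ k) (relτ T (ρL T rows₀ k₀ j))) = Δ₀ T rows₀ cols₀ k₀ := by
  classical
  set M : Matrix (Idx T k₀ c) (Idx T k₀ c) (MvPolynomial (Fin (n + m)) R) :=
    Matrix.of fun j k : Idx T k₀ c =>
      pderiv (colsL T cols₀ k₀ k) (relτ T (ρL T rows₀ k₀ j)) with hM
  have h12 : M.toBlocks₁₂ = 0 := by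
    apply Matrix.ext
    intro i j
    change pderiv (Fin.natAdd n j.1) (q₁ π f (rows₀ i)) = 0
    rw [pderiv_z_q₁, if_neg]
    intro h
    exact j.2 (h ▸ rows_mem_E T rows₀ k₀ hE i)
  have h11 : M.toBlocks₁₁ = (ιx R n m).mapMatrix
      (Matrix.of fun i i' : Fin c => pderiv (cols₀ i') (f (rows₀ i))) := by
    apply Matrix.ext
    intro i i'
    change pderiv (Fin.castAdd m (cols₀ i')) (q₁ π f (rows₀ i)) =
      ιx R n m (pderiv (cols₀ i') (f (rows₀ i)))
    rw [pderiv_x_q₁]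
  have h22 : M.toBlocks₂₂ = ιx R n m (T k₀).a • (1 : Matrix _ _ _) := by
    apply Matrix.ext
    intro j j'
    change pderiv (Fin.natAdd n j'.1) (q₂ (T k₀) j.1) = _
    rw [pderiv_z_q₂ _ _ _ j'.2, Matrix.smul_apply, Matrix.one_apply, smul_eq_mul]
    by_cases h : j = j'
    · subst h
      simp
    · have h' : j.1 ≠ j'.1 := fun h'' => h (Subtype.ext h'')
      rw [if_neg h', if_neg h, mul_zero]
  rw [← Matrix.fromBlocks_toBlocks M, h12, Matrix.det_fromBlocks_zero₁₂, h11, h22,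
    ← AlgHom.map_det, Matrix.det_smul, Matrix.det_one, mul_one]
  rfl

include hE in
/-- `(S/𝔩)_{Δ₀}` is flat over `R`. -/
theorem flat_away :
    Module.Flat R (Localization.Away
      (Ideal.Quotient.mk (idL T rows₀ k₀) (Δ₀ T rows₀ cols₀ k₀))) := by
  classical
  have hA : IsElementaryStandard R (MvPolynomial (Fin (n + m)) R ⧸ idL T rows₀ k₀)
      (Ideal.Quotient.mk (idL T rows₀ k₀) (Δ₀ T rows₀ cols₀ k₀)) := by
    refine isElementaryStandard_quot (relτ T ∘ ⇑(ρL T rows₀ k₀)) (Function.Embedding.refl _)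
      (colsL T cols₀ k₀) (Δ₀ T rows₀ cols₀ k₀) 1 ?_ ?_
    · rw [one_mul, ← det_leading T rows₀ cols₀ k₀ hE]
      rfl
    · intro t
      exact Ideal.mem_sup_left (Ideal.mul_mem_left _ _ (Ideal.subset_span ⟨t, rfl⟩))
  haveI : Algebra.FinitePresentation R (MvPolynomial (Fin (n + m)) R ⧸ idL T rows₀ k₀) :=
    Algebra.FinitePresentation.quotient (Submodule.fg_span (Set.finite_range _))
  haveI hfs : Algebra.FormallySmooth R (Localization.Away
      (Ideal.Quotient.mk (idL T rows₀ k₀) (Δ₀ T rows₀ cols₀ k₀))) :=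
    Groth.Agent.H91.Glue.formallySmooth_away_of_mem_singularIdeal
      (Groth.Agent.H91.LiftLem.mem_singularIdeal_of_isStrictlyStandard
        (Groth.Agent.H11.StdSing.isStrictlyStandard_of_isElementaryStandard _ hA))
  haveI : Algebra.FinitePresentation (MvPolynomial (Fin (n + m)) R ⧸ idL T rows₀ k₀)
      (Localization.Away (Ideal.Quotient.mk (idL T rows₀ k₀) (Δ₀ T rows₀ cols₀ k₀))) :=
    IsLocalization.Away.finitePresentation
      (Ideal.Quotient.mk (idL T rows₀ k₀) (Δ₀ T rows₀ cols₀ k₀))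
  haveI : Algebra.FinitePresentation R (Localization.Away
      (Ideal.Quotient.mk (idL T rows₀ k₀) (Δ₀ T rows₀ cols₀ k₀))) :=
    Algebra.FinitePresentation.trans R (MvPolynomial (Fin (n + m)) R ⧸ idL T rows₀ k₀) _
  haveI : Algebra.Smooth R (Localization.Away
      (Ideal.Quotient.mk (idL T rows₀ k₀) (Δ₀ T rows₀ cols₀ k₀))) := ⟨hfs, inferInstance⟩
  infer_instance

include hE in
theorem a_mul_q₁_mem (j : Fin m) : ιx R n m (T k₀).a * q₁ π f j ∈ idL T rows₀ k₀ := by
  by_cases hj : j ∈ (T k₀).E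
  · exact Ideal.mul_mem_left _ _ (q₁_mem_idL_of_mem T rows₀ k₀ hE hj)
  · have h1 := pi_mul_q₂ (T k₀) j
    have h2 : ιx R n m (T k₀).a * q₁ π f j =
        ∑ k ∈ (T k₀).E, ιx R n m ((T k₀).h j k) * q₁ π f k - C π * q₂ (T k₀) j := by
      rw [h1]
      ring
    rw [h2]
    refine sub_mem (Ideal.sum_mem _ fun k hk => Ideal.mul_mem_left _ _
      (q₁_mem_idL_of_mem T rows₀ k₀ hE hk)) (Ideal.mul_mem_left _ _ (q₂_mem_idL T rows₀ k₀ j hj))

/-- `θ` is congruent modulo `𝔩` to a form `Σ κ_k z_k + π γ` with value `v`. -/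
def InL (θ : MvPolynomial (Fin (n + m)) R) (v : MvPolynomial (Fin n) R) : Prop :=
  ∃ (κ : Fin m → MvPolynomial (Fin n) R) (γ : MvPolynomial (Fin n) R),
    θ - lin π (T k₀).E κ γ ∈ idL T rows₀ k₀ ∧ v = val π f (T k₀).E κ γ

theorem InL.zero : InL T rows₀ k₀ 0 0 := by
  refine ⟨0, 0, ?_, ?_⟩
  · have : lin π (T k₀).E (0 : Fin m → MvPolynomial (Fin n) R) 0 = 0 := by
      unfold lin
      simp
    rw [this, sub_zero]
    exact zero_mem _
  · unfold val
    simp

theorem InL.add {θ₁ θ₂ : MvPolynomial (Fin (n + m)) R} {v₁ v₂ : MvPolynomial (Fin n) R}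
    (h₁ : InL T rows₀ k₀ θ₁ v₁) (h₂ : InL T rows₀ k₀ θ₂ v₂) :
    InL T rows₀ k₀ (θ₁ + θ₂) (v₁ + v₂) := by
  obtain ⟨κ₁, γ₁, h₁, rfl⟩ := h₁
  obtain ⟨κ₂, γ₂, h₂, rfl⟩ := h₂
  refine ⟨κ₁ + κ₂, γ₁ + γ₂, ?_, (val_add _ _ _ _ _).symm⟩
  rw [lin_add]
  have : θ₁ + θ₂ - (lin π (T k₀).E κ₁ γ₁ + lin π (T k₀).E κ₂ γ₂) =
      (θ₁ - lin π (T k₀).E κ₁ γ₁) + (θ₂ - lin π (T k₀).E κ₂ γ₂) := by ring
  rw [this]
  exact add_mem h₁ h₂

theorem InL.smul (p : MvPolynomial (Fin n) R) {θ : MvPolynomial (Fin (n + m)) R}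
    {v : MvPolynomial (Fin n) R} (h : InL T rows₀ k₀ θ v) :
    InL T rows₀ k₀ (ιx R n m p * θ) (p * v) := by
  obtain ⟨κ, γ, h, rfl⟩ := h
  refine ⟨fun k => p * κ k, p * γ, ?_, (val_smul _ _ _ _).symm⟩
  rw [lin_smul, ← mul_sub]
  exact Ideal.mul_mem_left _ _ h

theorem InL.neg {θ : MvPolynomial (Fin (n + m)) R} {v : MvPolynomial (Fin n) R}
    (h : InL T rows₀ k₀ θ v) : InL T rows₀ k₀ (-θ) (-v) := by
  have := InL.smul T rows₀ k₀ (-1) h
  rwa [map_neg, map_one, neg_one_mul, neg_one_mul] at this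

theorem InL.sub {θ₁ θ₂ : MvPolynomial (Fin (n + m)) R} {v₁ v₂ : MvPolynomial (Fin n) R}
    (h₁ : InL T rows₀ k₀ θ₁ v₁) (h₂ : InL T rows₀ k₀ θ₂ v₂) :
    InL T rows₀ k₀ (θ₁ - θ₂) (v₁ - v₂) := by
  rw [sub_eq_add_neg, sub_eq_add_neg]
  exact InL.add T rows₀ k₀ h₁ (InL.neg T rows₀ k₀ h₂)

theorem InL.sum (s : Finset (Fin m)) (θ : Fin m → MvPolynomial (Fin (n + m)) R)
    (v : Fin m → MvPolynomial (Fin n) R) (h : ∀ j ∈ s, InL T rows₀ k₀ (θ j) (v j)) :
    InL T rows₀ k₀ (∑ j ∈ s, θ j) (∑ j ∈ s, v j) := by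
  classical
  induction s using Finset.induction_on with
  | empty => simpa using InL.zero T rows₀ k₀
  | insert j s hj ih =>
    rw [Finset.sum_insert hj, Finset.sum_insert hj]
    exact InL.add T rows₀ k₀ (h j (Finset.mem_insert_self _ _))
      (ih fun j' hj' => h j' (Finset.mem_insert_of_mem hj'))

theorem InL.pi (g : MvPolynomial (Fin n) R) :
    InL T rows₀ k₀ (C π * ιx R n m g) (C (π ^ 2) * g) := by
  refine ⟨0, g, ?_, ?_⟩
  · have : lin π (T k₀).E (0 : Fin m → MvPolynomial (Fin n) R) g = C π * ιx R n m g := by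
      unfold lin
      simp
    rw [this, sub_self]
    exact zero_mem _
  · unfold val
    simp

theorem InL.az (j : Fin m) :
    InL T rows₀ k₀ (ιx R n m (T k₀).a * zv R n m j) ((T k₀).a * f j) := by
  classical
  by_cases hj : j ∈ (T k₀).E
  · refine ⟨fun k => if k = j then (T k₀).a else 0, 0, ?_, ?_⟩
    · have : lin π (T k₀).E (fun k => if k = j then (T k₀).a else 0) 0 =
          ιx R n m (T k₀).a * zv R n m j := by
        unfold lin
        rw [map_zero, mul_zero, add_zero, Finset.sum_eq_single_of_mem j hj]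
        · dsimp only
          rw [if_pos rfl]
        · intro k _ hk
          dsimp only
          rw [if_neg hk, map_zero, zero_mul]
      rw [this, sub_self]
      exact zero_mem _
    · unfold val
      rw [mul_zero, add_zero, Finset.sum_eq_single_of_mem j hj]
      · dsimp only
        rw [if_pos rfl]
      · intro k _ hk
        dsimp only
        rw [if_neg hk, zero_mul]
  · refine ⟨(T k₀).h j, (T k₀).g₀ j, ?_, ?_⟩
    · have : ιx R n m (T k₀).a * zv R n m j - lin π (T k₀).E ((T k₀).h j) ((T k₀).g₀ j) =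
          q₂ (T k₀) j := by
        unfold lin q₂
        ring
      rw [this]
      exact q₂_mem_idL T rows₀ k₀ j hj
    · unfold val
      exact (T k₀).id j

/-- `a · q₂ T' ℓ` is congruent to a form with value zero. -/
theorem inL_a_mul_q₂ (k' : Fam) (ℓ : Fin m) :
    InL T rows₀ k₀ (ιx R n m (T k₀).a * q₂ (T k') ℓ) 0 := by
  have h1 := InL.smul T rows₀ k₀ (T k').a (InL.az T rows₀ k₀ ℓ)
  have h2 := InL.sum T rows₀ k₀ (T k').E
    (fun j => ιx R n m ((T k').h ℓ j) * (ιx R n m (T k₀).a * zv R n m j))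
    (fun j => (T k').h ℓ j * ((T k₀).a * f j))
    (fun j _ => InL.smul T rows₀ k₀ ((T k').h ℓ j) (InL.az T rows₀ k₀ j))
  have h3 := InL.smul T rows₀ k₀ (T k₀).a (InL.pi T rows₀ k₀ ((T k').g₀ ℓ))
  have h4 := InL.sub T rows₀ k₀ (InL.sub T rows₀ k₀ h1 h2) h3
  have e1 : ιx R n m (T k').a * (ιx R n m (T k₀).a * zv R n m ℓ) -
      ∑ j ∈ (T k').E, ιx R n m ((T k').h ℓ j) * (ιx R n m (T k₀).a * zv R n m j) -
      ιx R n m (T k₀).a * (C π * ιx R n m ((T k').g₀ ℓ)) =
      ιx R n m (T k₀).a * q₂ (T k') ℓ := by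
    unfold q₂
    rw [mul_sub, mul_sub, Finset.mul_sum]
    congr 1
    congr 1
    · ring
    · refine Finset.sum_congr rfl fun j _ => ?_
      ring
  have e2 : (T k').a * ((T k₀).a * f ℓ) - ∑ j ∈ (T k').E, (T k').h ℓ j * ((T k₀).a * f j) -
      (T k₀).a * (C (π ^ 2) * (T k').g₀ ℓ) = 0 := by
    have h5 := (T k').id ℓ
    have h6 : ∑ j ∈ (T k').E, (T k').h ℓ j * ((T k₀).a * f j) =
        (T k₀).a * ∑ j ∈ (T k').E, (T k').h ℓ j * f j := by
      rw [Finset.mul_sum]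
      refine Finset.sum_congr rfl fun j _ => ?_
      ring
    rw [h6]
    linear_combination (T k₀).a * h5
  rw [e1, e2] at h4
  exact h4

include hE in
/-- The key lemma: forms of value zero are killed by `Δ_f Δ₀^M` modulo `𝔩`. -/
theorem key (hR : ∀ r : R, π ^ 2 * r = 0 → π * r = 0) {θ : MvPolynomial (Fin (n + m)) R}
    (hθ : InL T rows₀ k₀ θ 0) :
    ∃ M : ℕ, Δ₀ T rows₀ cols₀ k₀ ^ M * (ιx R n m (jacobianMinor f rows₀ cols₀) * θ) ∈
      idL T rows₀ k₀ := by
  classical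
  obtain ⟨κ, γ, hθκ, hval⟩ := hθ
  set 𝔠 : Ideal (MvPolynomial (Fin n) R) :=
    Ideal.span (Set.range (f ∘ rows₀)) ⊔ Ideal.span {C (π ^ 2)} with h𝔠
  have hsum : ∑ i, κ (rows₀ i) * f (rows₀ i) + C (π ^ 2) * γ = 0 := by
    have h := hval.symm
    unfold val at h
    rwa [sum_E_eq T rows₀ k₀ hE] at h
  have hπ2 : C (π ^ 2) ∈ 𝔠 := Ideal.mem_sup_right (Ideal.mem_span_singleton_self _)
  have hf𝔠 : ∀ i, f (rows₀ i) ∈ 𝔠 := fun i => Ideal.mem_sup_left (Ideal.subset_span ⟨i, rfl⟩)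
  have h1 : ∀ i' : Fin c, ∑ i, κ (rows₀ i) * pderiv (cols₀ i') (f (rows₀ i)) ∈ 𝔠 := by
    intro i'
    have hd := congrArg (pderiv (cols₀ i')) hsum
    rw [map_add, map_sum, map_zero] at hd
    simp only [Derivation.leibniz, pderiv_C, smul_eq_mul] at hd
    rw [Finset.sum_add_distrib] at hd
    have h2 : ∑ i, κ (rows₀ i) * pderiv (cols₀ i') (f (rows₀ i)) =
        - (∑ i, f (rows₀ i) * pderiv (cols₀ i') (κ (rows₀ i))) -
          C (π ^ 2) * pderiv (cols₀ i') γ := by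
      linear_combination hd
    rw [h2]
    exact sub_mem (neg_mem (Ideal.sum_mem _ fun i _ => Ideal.mul_mem_right _ _ (hf𝔠 i)))
      (Ideal.mul_mem_right _ _ hπ2)
  have h2 : ∀ i, jacobianMinor f rows₀ cols₀ * κ (rows₀ i) ∈ 𝔠 := fun i =>
    det_mul_mem_of_vecMul_mem (Matrix.of fun i i' : Fin c => pderiv (cols₀ i') (f (rows₀ i)))
      (fun i => κ (rows₀ i)) 𝔠 h1 i
  have h3 : ∀ p ∈ 𝔠, ιx R n m p ∈ Ideal.span {C π} ⊔ idL T rows₀ k₀ := by
    intro p hp
    have hle : 𝔠 ≤ (Ideal.span {(C π : MvPolynomial (Fin (n + m)) R)} ⊔ idL T rows₀ k₀).comap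
        (ιx R n m) := by
      rw [h𝔠]
      refine sup_le (Ideal.span_le.2 ?_) (Ideal.span_le.2 ?_)
      · rintro _ ⟨i, rfl⟩
        rw [SetLike.mem_coe, Ideal.mem_comap, Function.comp_apply]
        have : ιx R n m (f (rows₀ i)) = C π * zv R n m (rows₀ i) + q₁ π f (rows₀ i) := by
          unfold q₁
          ring
        rw [this]
        exact add_mem (Ideal.mem_sup_left (Ideal.mul_mem_right _ _
          (Ideal.mem_span_singleton_self _))) (Ideal.mem_sup_right (q₁_rows_mem_idL T rows₀ k₀ i))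
      · intro x hx
        rw [Set.mem_singleton_iff] at hx
        subst hx
        rw [SetLike.mem_coe, Ideal.mem_comap, ιx_C, pow_two, C_mul]
        exact Ideal.mem_sup_left (Ideal.mul_mem_left _ _ (Ideal.mem_span_singleton_self _))
    exact hle hp
  have h4 : ιx R n m (jacobianMinor f rows₀ cols₀) * lin π (T k₀).E κ γ ∈
      Ideal.span {C π} ⊔ idL T rows₀ k₀ := by
    unfold lin
    rw [mul_add, Finset.mul_sum, sum_E_eq T rows₀ k₀ hE]
    refine add_mem (Ideal.sum_mem _ fun i _ => ?_) ?_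
    · have : ιx R n m (jacobianMinor f rows₀ cols₀) *
          (ιx R n m (κ (rows₀ i)) * zv R n m (rows₀ i)) =
          ιx R n m (jacobianMinor f rows₀ cols₀ * κ (rows₀ i)) * zv R n m (rows₀ i) := by
        rw [map_mul]
        ring
      rw [this]
      exact Ideal.mul_mem_right _ _ (h3 _ (h2 i))
    · exact Ideal.mem_sup_left (Ideal.mul_mem_left _ _ (Ideal.mul_mem_right _ _
        (Ideal.mem_span_singleton_self _)))
  have h5 : ιx R n m (jacobianMinor f rows₀ cols₀) * θ ∈ Ideal.span {C π} ⊔ idL T rows₀ k₀ := by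
    have : ιx R n m (jacobianMinor f rows₀ cols₀) * θ =
        ιx R n m (jacobianMinor f rows₀ cols₀) * (θ - lin π (T k₀).E κ γ) +
          ιx R n m (jacobianMinor f rows₀ cols₀) * lin π (T k₀).E κ γ := by ring
    rw [this]
    exact add_mem (Ideal.mem_sup_right (Ideal.mul_mem_left _ _ hθκ)) h4
  obtain ⟨y, hy, z, hz, hyz⟩ := Submodule.mem_sup.1 h5
  obtain ⟨ε, rfl⟩ := Ideal.mem_span_singleton'.1 hy
  -- `π θ ∈ 𝔩`
  have h6 : C π * θ ∈ idL T rows₀ k₀ := by
    have : C π * θ = C π * (θ - lin π (T k₀).E κ γ) + C π * lin π (T k₀).E κ γ := by ring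
    rw [this, pi_mul_lin (f := f), ← hval, map_zero, zero_sub]
    exact add_mem (Ideal.mul_mem_left _ _ hθκ) (neg_mem (Ideal.sum_mem _ fun k hk =>
      Ideal.mul_mem_left _ _ (q₁_mem_idL_of_mem T rows₀ k₀ hE hk)))
  have h7 : algebraMap R (MvPolynomial (Fin (n + m)) R) (π ^ 2) * ε ∈ idL T rows₀ k₀ := by
    rw [MvPolynomial.algebraMap_eq]
    have : C (π ^ 2) * ε = ιx R n m (jacobianMinor f rows₀ cols₀) * (C π * θ) - C π * z := by
      rw [pow_two, C_mul]
      linear_combination (C π) * hyz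
    rw [this]
    exact sub_mem (Ideal.mul_mem_left _ _ h6) (Ideal.mul_mem_left _ _ hz)
  have hflat := flat_away T rows₀ cols₀ k₀ hE
  obtain ⟨M, hM⟩ := exists_pow_mul_mem_of_flat π hR (idL T rows₀ k₀) (Δ₀ T rows₀ cols₀ k₀) ε h7
  refine ⟨M, ?_⟩
  rw [MvPolynomial.algebraMap_eq] at hM
  have : Δ₀ T rows₀ cols₀ k₀ ^ M * (ιx R n m (jacobianMinor f rows₀ cols₀) * θ) =
      Δ₀ T rows₀ cols₀ k₀ ^ M * (C π * ε) + Δ₀ T rows₀ cols₀ k₀ ^ M * z := by
    rw [← hyz]
    ring
  rw [this]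
  exact add_mem hM (Ideal.mul_mem_left _ _ hz)

include hE in
/-- The core of part (c): a product of powers of `Δ_f` and `a` is elementary standard in `D`. -/
theorem exists_isElementaryStandard (hR : ∀ r : R, π ^ 2 * r = 0 → π * r = 0) :
    ∃ N₁ N₂ : ℕ, IsElementaryStandard R (MvPolynomial (Fin (n + m)) R ⧸ idD T)
      (Ideal.Quotient.mk (idD T)
        (ιx R n m (jacobianMinor f rows₀ cols₀) ^ N₁ * ιx R n m (T k₀).a ^ N₂)) := by
  classical
  have hex : ∀ t : Fam × Fin m, ∃ M : ℕ, Δ₀ T rows₀ cols₀ k₀ ^ M *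
      (ιx R n m (jacobianMinor f rows₀ cols₀) * (ιx R n m (T k₀).a * q₂ (T t.1) t.2)) ∈
        idL T rows₀ k₀ := fun t => key T rows₀ cols₀ k₀ hE hR (inL_a_mul_q₂ T rows₀ k₀ t.1 t.2)
  choose Mf hMf using hex
  set M := Finset.univ.sup Mf with hMdef
  have hM : ∀ t : Fam × Fin m, Δ₀ T rows₀ cols₀ k₀ ^ M *
      (ιx R n m (jacobianMinor f rows₀ cols₀) * (ιx R n m (T k₀).a * q₂ (T t.1) t.2)) ∈
        idL T rows₀ k₀ := by
    intro t
    have hle : Mf t ≤ M := Finset.le_sup (Finset.mem_univ t)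
    rw [← Nat.sub_add_cancel hle, pow_add, mul_assoc]
    exact Ideal.mul_mem_left _ _ (hMf t)
  set e := Fintype.card {j : Fin m // j ∉ (T k₀).E} with he
  refine ⟨M + 2, e * (M + 1) + 1, ?_⟩
  set Δf := ιx R n m (jacobianMinor f rows₀ cols₀) with hΔf
  set av := ιx R n m (T k₀).a with hav
  have hΔ₀ : Δ₀ T rows₀ cols₀ k₀ = Δf * av ^ e := rfl
  have hw : Δf ^ (M + 2) * av ^ (e * (M + 1) + 1) =
      (Δ₀ T rows₀ cols₀ k₀ ^ M * (Δf * av)) * Δ₀ T rows₀ cols₀ k₀ := by
    rw [hΔ₀]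
    ring
  have := isElementaryStandard_quot (relτ T) (ρL T rows₀ k₀) (colsL T cols₀ k₀)
    (Δf ^ (M + 2) * av ^ (e * (M + 1) + 1)) (Δ₀ T rows₀ cols₀ k₀ ^ M * (Δf * av))
    (by rw [det_leading T rows₀ cols₀ k₀ hE]; exact hw) ?_
  · exact this
  · intro t
    refine Ideal.mem_sup_left ?_
    change _ ∈ idL T rows₀ k₀
    rcases t with j | ⟨k', ℓ⟩
    · change _ * q₁ π f j ∈ _
      have : Δf ^ (M + 2) * av ^ (e * (M + 1) + 1) * q₁ π f j =
          (Δ₀ T rows₀ cols₀ k₀ ^ M * Δf * Δ₀ T rows₀ cols₀ k₀) * (av * q₁ π f j) := by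
        rw [hw]
        ring
      rw [this]
      exact Ideal.mul_mem_left _ _ (a_mul_q₁_mem T rows₀ k₀ hE j)
    · change _ * q₂ (T k') ℓ ∈ _
      have : Δf ^ (M + 2) * av ^ (e * (M + 1) + 1) * q₂ (T k') ℓ =
          Δ₀ T rows₀ cols₀ k₀ * (Δ₀ T rows₀ cols₀ k₀ ^ M * (Δf * (av * q₂ (T k') ℓ))) := by
        rw [hw]
        ring
      rw [this]
      exact Ideal.mul_mem_left _ _ (hM (k', ℓ))

end withE

end Core

end Groth.Agent.H91.LProb
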