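import Mathlib
import Groth.Prelude.Def_Smoothing
import Groth.Agent.H91.LProbD

/-!
# The lifting problem (Stacks 07CM), part E: the family of relations and the assembly
-/

set_option autoImplicit false

namespace Groth.Agent.H91.LProb

open MvPolynomial Smoothing

universe u

section Family

variable {R : Type u} [CommRing R] {n m : ℕ} (π : R) (f : Fin m → MvPolynomial (Fin n) R)

/-- The ideal `I_E + (π²)`. -/
noncomputable def idE (E : Finset (Fin m)) : Ideal (MvPolynomial (Fin n) R) :=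
  Ideal.span (Set.range fun j : Fin m => if j ∈ E then f j else 0) ⊔ Ideal.span {C (π ^ 2)}

/-- The ideal of multipliers `a` with `a f_ℓ ∈ I_E + (π²)` for all `ℓ`. -/
noncomputable def idA (E : Finset (Fin m)) : Ideal (MvPolynomial (Fin n) R) where
  carrier := {a | ∀ ℓ, a * f ℓ ∈ idE π f E}
  add_mem' := fun {a b} ha hb ℓ => by
    rw [add_mul]
    exact add_mem (ha ℓ) (hb ℓ)
  zero_mem' := fun ℓ => by
    rw [zero_mul]
    exact zero_mem _
  smul_mem' := fun c a ha ℓ => by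
    rw [smul_eq_mul, mul_assoc]
    exact Ideal.mul_mem_left _ _ (ha ℓ)

theorem mem_idA_iff (E : Finset (Fin m)) (a : MvPolynomial (Fin n) R) :
    a ∈ idA π f E ↔ ∀ ℓ, a * f ℓ ∈ idE π f E := Iff.rfl

theorem exists_of_mem_idE (E : Finset (Fin m)) (x : MvPolynomial (Fin n) R)
    (hx : x ∈ idE π f E) :
    ∃ (h : Fin m → MvPolynomial (Fin n) R) (g : MvPolynomial (Fin n) R),
      x = ∑ j ∈ E, h j * f j + C (π ^ 2) * g := by
  classical
  obtain ⟨y, hy, z, hz, rfl⟩ := Submodule.mem_sup.1 hx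
  obtain ⟨c, rfl⟩ := (Ideal.mem_span_range_iff_exists_fun).1 hy
  obtain ⟨g, rfl⟩ := Ideal.mem_span_singleton'.1 hz
  refine ⟨c, g, ?_⟩
  simp only [mul_ite, mul_zero, Finset.sum_ite_mem, Finset.univ_inter]
  ring

theorem span_rows_le_idE {c : ℕ} (rows₀ : Fin c ↪ Fin m) :
    Ideal.span (Set.range (f ∘ rows₀)) ⊔ Ideal.span {C (π ^ 2)} ≤
      idE π f (Finset.univ.map rows₀) := by
  unfold idE
  refine sup_le_sup_right (Ideal.span_mono ?_) _
  rintro _ ⟨i, rfl⟩
  refine ⟨rows₀ i, ?_⟩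
  dsimp only
  rw [if_pos (Finset.mem_map_of_mem _ (Finset.mem_univ i))]
  rfl

/-- The finite family of tuples: for every `E`, the multipliers of the tuples with that `E`
generate the ideal of all multipliers. -/
theorem exists_family [IsNoetherianRing R] :
    ∃ (Fam : Type) (_ : Fintype Fam) (T : Fam → Tuple π f),
      ∀ E : Finset (Fin m), idA π f E ≤
        Ideal.span ((fun k => (T k).a) '' {k | (T k).E = E}) := by
  classical
  have hfg : ∀ E : Finset (Fin m), ∃ (r : ℕ) (a : Fin r → MvPolynomial (Fin n) R),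
      Ideal.span (Set.range a) = idA π f E := fun E =>
    Submodule.fg_iff_exists_fin_generating_family.1
      ((isNoetherianRing_iff_ideal_fg _).1 inferInstance (idA π f E))
  choose rE aE haE using hfg
  have hmem : ∀ (E : Finset (Fin m)) (i : Fin (rE E)), aE E i ∈ idA π f E := fun E i => by
    rw [← haE E]
    exact Ideal.subset_span ⟨i, rfl⟩
  have hex : ∀ (E : Finset (Fin m)) (i : Fin (rE E)) (ℓ : Fin m),
      ∃ (h : Fin m → MvPolynomial (Fin n) R) (g : MvPolynomial (Fin n) R),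
        aE E i * f ℓ = ∑ j ∈ E, h j * f j + C (π ^ 2) * g := fun E i ℓ =>
    exists_of_mem_idE π f E _ (hmem E i ℓ)
  choose hh gg hid using hex
  refine ⟨Σ E : Finset (Fin m), Fin (rE E), inferInstance,
    fun k => ⟨k.1, aE k.1 k.2, hh k.1 k.2, gg k.1 k.2, hid k.1 k.2⟩, ?_⟩
  intro E
  rw [← haE E]
  refine Ideal.span_mono ?_
  rintro _ ⟨i, rfl⟩
  exact ⟨⟨E, i⟩, rfl, rfl⟩

end Family

section Assemble

variable {R Λ C' D : Type u} [CommRing R] [CommRing Λ] [Algebra R Λ] [CommRing C'] [Algebra R C']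
  [CommRing D] [Algebra R D] {n m : ℕ} {π : R} {f : Fin m → MvPolynomial (Fin n) R}

/-- Generic assembly of `ψ`, the compatibility and part (c). -/
theorem assemble [Algebra (R ⧸ Ideal.span {π ^ 2}) C']
    (φ : MvPolynomial (Fin n) R →ₐ[R] C') (hφ : Function.Surjective φ)
    (hker : RingHom.ker φ.toRingHom = Ideal.span (Set.range f) ⊔ Ideal.span {C (π ^ 2)})
    (ι : MvPolynomial (Fin n) R →ₐ[R] D) (hιf : ∀ j, ι (f j) ∈ Ideal.span {algebraMap R D π})
    (δ : D →ₐ[R] Λ) (lam : Fin n → Λ) (hδι : ∀ p, δ (ι p) = aeval lam p)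
    (g : C' →ₐ[R] Λ ⧸ Ideal.span {algebraMap R Λ (π ^ 2)})
    (hgφ : ∀ p, g (φ p) =
      Ideal.Quotient.mk (Ideal.span {algebraMap R Λ (π ^ 2)}) (aeval lam p))
    (hc : ∀ (𝔮 : Ideal D) [𝔮.IsPrime] (𝔭 : Ideal C') [𝔭.IsPrime], 𝔭.comap φ = 𝔮.comap ι →
      Algebra.IsSmoothAt (R ⧸ Ideal.span {π ^ 2}) 𝔭 → Algebra.IsSmoothAt R 𝔮) :
    ∃ ψ : C' →ₐ[R] D ⧸ Ideal.span {algebraMap R D π},
      (∀ (c : C') (d : D) (l : Λ), Ideal.Quotient.mk (Ideal.span {algebraMap R D π}) d = ψ c →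
          Ideal.Quotient.mk (Ideal.span {algebraMap R Λ (π ^ 2)}) l = g c →
            δ d - l ∈ Ideal.span {algebraMap R Λ π}) ∧
      (∀ (Q : Ideal (D ⧸ Ideal.span {algebraMap R D π})) [Q.IsPrime],
          Algebra.IsSmoothAt (R ⧸ Ideal.span {π ^ 2}) (Q.comap ψ) →
            Algebra.IsSmoothAt R
              (Q.comap (Ideal.Quotient.mk (Ideal.span {algebraMap R D π})))) := by
  let ψ₀ : MvPolynomial (Fin n) R →ₐ[R] D ⧸ Ideal.span {algebraMap R D π} :=
    (Ideal.Quotient.mkₐ R (Ideal.span {algebraMap R D π})).comp ι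
  have hψ₀ : ∀ p, ψ₀ p = Ideal.Quotient.mk (Ideal.span {algebraMap R D π}) (ι p) := fun p => rfl
  have hH : RingHom.ker φ.toRingHom ≤ RingHom.ker ψ₀.toRingHom := by
    rw [hker]
    refine sup_le (Ideal.span_le.2 ?_) (Ideal.span_le.2 ?_)
    · rintro _ ⟨j, rfl⟩
      rw [SetLike.mem_coe, RingHom.mem_ker]
      change ψ₀ (f j) = 0
      rw [hψ₀, Ideal.Quotient.eq_zero_iff_mem]
      exact hιf j
    · intro x hx
      rw [Set.mem_singleton_iff] at hx
      subst hx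
      rw [SetLike.mem_coe, RingHom.mem_ker]
      change ψ₀ (C (π ^ 2)) = 0
      rw [hψ₀, Ideal.Quotient.eq_zero_iff_mem]
      have : ι (C (π ^ 2)) = algebraMap R D π * algebraMap R D π := by
        rw [← MvPolynomial.algebraMap_eq, AlgHom.commutes, pow_two, map_mul]
      rw [this]
      exact Ideal.mul_mem_left _ _ (Ideal.mem_span_singleton_self _)
  have hψφ : ∀ p, AlgHom.liftOfSurjective φ hφ ψ₀ hH (φ p) =
      Ideal.Quotient.mk (Ideal.span {algebraMap R D π}) (ι p) := fun p => by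
    rw [← hψ₀]
    exact AlgHom.liftOfSurjective_apply φ hφ ψ₀ hH p
  refine ⟨AlgHom.liftOfSurjective φ hφ ψ₀ hH, ?_, ?_⟩
  · intro c d l hd hl
    obtain ⟨p, rfl⟩ := hφ c
    rw [hψφ] at hd
    rw [hgφ] at hl
    obtain ⟨e, he⟩ := Ideal.mem_span_singleton'.1 (Ideal.Quotient.eq.1 hd)
    obtain ⟨e', he'⟩ := Ideal.mem_span_singleton'.1 (Ideal.Quotient.eq.1 hl)
    have h1 : δ d = δ e * algebraMap R Λ π + aeval lam p := by
      have : d = e * algebraMap R D π + ι p := by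
        rw [he]
        ring
      rw [this, map_add, map_mul, AlgHom.commutes, hδι]
    rw [Ideal.mem_span_singleton']
    refine ⟨δ e - e' * algebraMap R Λ π, ?_⟩
    rw [h1]
    have h2 : l = e' * algebraMap R Λ (π ^ 2) + aeval lam p := by
      rw [he']
      ring
    rw [h2, map_pow]
    ring
  · intro Q _ hQ
    refine hc _ _ ?_ hQ
    ext p
    rw [Ideal.mem_comap, Ideal.mem_comap, Ideal.mem_comap, Ideal.mem_comap, hψφ]

end Assemble

section MainD

variable {R Λ C' : Type u} [CommRing R] [CommRing Λ] [Algebra R Λ] [CommRing C'] [Algebra R C']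
  {n m : ℕ} {π : R} {f : Fin m → MvPolynomial (Fin n) R} {Fam : Type} [Fintype Fam]
  (T : Fam → Tuple π f)

/-- The algebra `D`. -/
abbrev DD : Type u := MvPolynomial (Fin (n + m)) R ⧸ idD T

omit [Fintype Fam] in
theorem algebraMap_DD (r : R) : algebraMap R (DD T) r = Ideal.Quotient.mk (idD T) (C r) := rfl

section delta

variable (lam : Fin n → Λ) (mu : Fin m → Λ)
  (hmu : ∀ j, aeval lam (f j) = algebraMap R Λ (π ^ 2) * mu j)
  (hΛ : ∀ x : Λ, π ^ 2 • x = 0 → π • x = 0)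

omit [Fintype Fam] in
include hmu hΛ in
theorem δ₀_idD : ∀ a ∈ idD T, δ₀ (π := π) lam mu a = 0 := by
  intro a ha
  have hle : idD T ≤ RingHom.ker (δ₀ (π := π) lam mu).toRingHom := by
    unfold idD
    rw [Ideal.span_le]
    rintro _ ⟨t, rfl⟩
    rw [SetLike.mem_coe, RingHom.mem_ker]
    rcases t with j | ⟨k, ℓ⟩
    · exact δ₀_q₁ lam mu hmu j
    · exact δ₀_q₂ lam mu hmu hΛ (T k) ℓ
  exact hle ha

/-- The map `δ : D → Λ`. -/
noncomputable def δD : DD T →ₐ[R] Λ :=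
  Ideal.Quotient.liftₐ (idD T) (δ₀ (π := π) lam mu) (δ₀_idD T lam mu hmu hΛ)

omit [Fintype Fam] in
theorem δD_mk (p : MvPolynomial (Fin (n + m)) R) :
    δD T lam mu hmu hΛ (Ideal.Quotient.mk (idD T) p) = δ₀ (π := π) lam mu p := rfl

end delta

/-- The map `R[x] → D`. -/
noncomputable def ιD : MvPolynomial (Fin n) R →ₐ[R] DD T :=
  (Ideal.Quotient.mkₐ R (idD T)).comp (ιx R n m)

omit [Fintype Fam] in
theorem ιD_apply (p : MvPolynomial (Fin n) R) :
    ιD T p = Ideal.Quotient.mk (idD T) (ιx R n m p) := rfl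

theorem ιD_f (j : Fin m) : ιD T (f j) ∈ Ideal.span {algebraMap R (DD T) π} := by
  rw [ιD_apply]
  have h1 : ιx R n m (f j) = q₁ π f j + C π * zv R n m j := by
    unfold q₁
    ring
  rw [h1, map_add, Ideal.Quotient.eq_zero_iff_mem.2 (q₁_mem_idD T j), zero_add, map_mul,
    ← algebraMap_DD]
  exact Ideal.mul_mem_right _ _ (Ideal.mem_span_singleton_self _)

/-- Part (b): `D` is smooth over `R` away from `π`. -/
theorem smooth_away_pi (Q : Ideal (DD T)) [Q.IsPrime] (hQ : algebraMap R (DD T) π ∉ Q) :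
    Algebra.IsSmoothAt R Q := by
  have hstd := isElementaryStandard_pi_pow T
  refine Groth.Agent.H11.StdSing.isSmoothAt_of_isStrictlyStandard _
    (Groth.Agent.H11.StdSing.isStrictlyStandard_of_isElementaryStandard _ hstd) Q ?_
  intro hmem
  have h1 : Ideal.Quotient.mk (idD T) (C (π ^ (m + 1))) = (algebraMap R (DD T) π) ^ (m + 1) := by
    rw [algebraMap_DD, ← map_pow, ← C_pow]
  rw [h1] at hmem
  exact hQ (Ideal.IsPrime.mem_of_pow_mem inferInstance _ hmem)

/-- Part (c): `D` is smooth over `R` at primes over suitable primes of `R[x]`. -/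
theorem smooth_over (hR : ∀ r : R, π ^ 2 * r = 0 → π * r = 0)
    (hT : ∀ E : Finset (Fin m), idA π f E ≤
        Ideal.span ((fun k => (T k).a) '' {k | (T k).E = E}))
    (𝔮 : Ideal (DD T)) [𝔮.IsPrime]
    {c : ℕ} (rows₀ : Fin c ↪ Fin m) (cols₀ : Fin c ↪ Fin n) (b : MvPolynomial (Fin n) R)
    (hΔ : jacobianMinor f rows₀ cols₀ ∉ 𝔮.comap (ιD T))
    (hb : b ∉ 𝔮.comap (ιD T))
    (hbf : ∀ ℓ, b * f ℓ ∈ Ideal.span (Set.range (f ∘ rows₀)) ⊔ Ideal.span {C (π ^ 2)}) :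
    Algebra.IsSmoothAt R 𝔮 := by
  classical
  have hbA : b ∈ idA π f (Finset.univ.map rows₀) := fun ℓ =>
    span_rows_le_idE π f rows₀ (hbf ℓ)
  obtain ⟨k₀, hk₀E, hk₀a⟩ : ∃ k₀, (T k₀).E = Finset.univ.map rows₀ ∧
      (T k₀).a ∉ 𝔮.comap (ιD T) := by
    by_contra hne
    push Not at hne
    apply hb
    have hle : Ideal.span ((fun k => (T k).a) '' {k | (T k).E = Finset.univ.map rows₀}) ≤
        𝔮.comap (ιD T) := by
      rw [Ideal.span_le]
      rintro _ ⟨k, hk, rfl⟩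
      exact hne k hk
    exact hle (hT _ hbA)
  obtain ⟨N₁, N₂, hstd⟩ := exists_isElementaryStandard T rows₀ cols₀ k₀ hk₀E hR
  refine Groth.Agent.H11.StdSing.isSmoothAt_of_isStrictlyStandard _
    (Groth.Agent.H11.StdSing.isStrictlyStandard_of_isElementaryStandard _ hstd) _ ?_
  intro hmem
  rw [map_mul, map_pow, map_pow, ← ιD_apply, ← ιD_apply] at hmem
  rcases Ideal.IsPrime.mem_or_mem inferInstance hmem with h | h
  · exact hΔ (Ideal.mem_comap.2 (Ideal.IsPrime.mem_of_pow_mem inferInstance _ h))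
  · exact hk₀a (Ideal.mem_comap.2 (Ideal.IsPrime.mem_of_pow_mem inferInstance _ h))

end MainD

section Main

variable {R Λ C' : Type u} [CommRing R] [IsNoetherianRing R] [CommRing Λ] [Algebra R Λ]

/-- The lifting problem, in terms of a presentation of `C` over `R`. -/
theorem mainP (π : R) (hR : ∀ r : R, π ^ 2 * r = 0 → π * r = 0)
    (hΛ : ∀ x : Λ, π ^ 2 • x = 0 → π • x = 0) [CommRing C'] [Algebra R C']
    [Algebra (R ⧸ Ideal.span {π ^ 2}) C']
    (g : C' →ₐ[R] Λ ⧸ Ideal.span {algebraMap R Λ (π ^ 2)})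
    {n m : ℕ} (f : Fin m → MvPolynomial (Fin n) R) (φ : MvPolynomial (Fin n) R →ₐ[R] C')
    (hφ : Function.Surjective φ)
    (hker : RingHom.ker φ.toRingHom = Ideal.span (Set.range f) ⊔ Ideal.span {C (π ^ 2)})
    (hsm : ∀ (𝔭 : Ideal C') [𝔭.IsPrime], Algebra.IsSmoothAt (R ⧸ Ideal.span {π ^ 2}) 𝔭 →
      ∃ (c : ℕ) (rows₀ : Fin c ↪ Fin m) (cols₀ : Fin c ↪ Fin n) (b : MvPolynomial (Fin n) R),
        φ (jacobianMinor f rows₀ cols₀) ∉ 𝔭 ∧ φ b ∉ 𝔭 ∧
        ∀ ℓ, b * f ℓ ∈ Ideal.span (Set.range (f ∘ rows₀)) ⊔ Ideal.span {C (π ^ 2)}) :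
    ∃ (D : Type u) (_ : CommRing D) (_ : Algebra R D), Algebra.FinitePresentation R D ∧
      ∃ (δ : D →ₐ[R] Λ) (ψ : C' →ₐ[R] D ⧸ Ideal.span {algebraMap R D π}),
        (∀ (c : C') (d : D) (l : Λ), Ideal.Quotient.mk (Ideal.span {algebraMap R D π}) d = ψ c →
          Ideal.Quotient.mk (Ideal.span {algebraMap R Λ (π ^ 2)}) l = g c →
            δ d - l ∈ Ideal.span {algebraMap R Λ π}) ∧
        (∀ (Q : Ideal D) [Q.IsPrime], algebraMap R D π ∉ Q → Algebra.IsSmoothAt R Q) ∧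
        (∀ (Q : Ideal (D ⧸ Ideal.span {algebraMap R D π})) [Q.IsPrime],
          Algebra.IsSmoothAt (R ⧸ Ideal.span {π ^ 2}) (Q.comap ψ) →
            Algebra.IsSmoothAt R
              (Q.comap (Ideal.Quotient.mk (Ideal.span {algebraMap R D π})))) := by
  classical
  have hmemker : ∀ p, φ p = 0 ↔ p ∈ Ideal.span (Set.range f) ⊔ Ideal.span {C (π ^ 2)} := by
    intro p
    rw [← hker]
    rfl
  -- the point `λ`
  choose lam hlam using fun i => Ideal.Quotient.mk_surjective (g (φ (X i)))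
  have hgφ : ∀ p, g (φ p) =
      Ideal.Quotient.mk (Ideal.span {algebraMap R Λ (π ^ 2)}) (aeval lam p) := by
    intro p
    have : g.comp φ = (Ideal.Quotient.mkₐ R (Ideal.span {algebraMap R Λ (π ^ 2)})).comp
        (aeval lam) := by
      apply MvPolynomial.algHom_ext
      intro i
      rw [AlgHom.comp_apply, AlgHom.comp_apply, aeval_X, Ideal.Quotient.mkₐ_eq_mk, hlam]
    exact AlgHom.congr_fun this p
  have hmuex : ∀ j, ∃ μ : Λ, aeval lam (f j) = algebraMap R Λ (π ^ 2) * μ := by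
    intro j
    have h1 : φ (f j) = 0 :=
      (hmemker _).2 (Ideal.mem_sup_left (Ideal.subset_span ⟨j, rfl⟩))
    have h2 := hgφ (f j)
    rw [h1, map_zero] at h2
    have h3 := Ideal.Quotient.eq_zero_iff_mem.1 h2.symm
    obtain ⟨a, ha⟩ := Ideal.mem_span_singleton'.1 h3
    exact ⟨a, by rw [← ha, mul_comm]⟩
  choose mu hmu using hmuex
  -- the family
  obtain ⟨Fam, _, T, hT⟩ := exists_family π f
  obtain ⟨ψ, h1, h3⟩ := assemble (D := DD T) φ hφ hker (ιD T) (ιD_f T) (δD T lam mu hmu hΛ) lam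
    (fun p => by rw [ιD_apply, δD_mk, δ₀_ιx]) g hgφ (by
      intro 𝔮 _ 𝔭 _ h𝔭𝔮 hsm𝔭
      obtain ⟨c, rows₀, cols₀, b, hΔ, hb, hbf⟩ := hsm 𝔭 hsm𝔭
      refine smooth_over T hR hT 𝔮 rows₀ cols₀ b ?_ ?_ hbf
      · rw [← h𝔭𝔮]
        exact hΔ
      · rw [← h𝔭𝔮]
        exact hb)
  exact ⟨DD T, inferInstance, inferInstance, inferInstance, δD T lam mu hmu hΛ, ψ, h1,
    fun Q _ hQ => smooth_away_pi T Q hQ, h3⟩

end Main

end Groth.Agent.H91.LProb
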