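import Mathlib
import Groth.Prelude.Def_Smoothing
import Groth.Agent.H91.LProbE
import Groth.Agent.H11.StdElem
import Groth.Agent.H91.StdBC

/-!
# The lifting problem (Stacks 07CM), part F: the statement
-/

set_option autoImplicit false

namespace Groth.Agent.H91.LProb

open MvPolynomial Smoothing

universe u

section

variable {R C' : Type u} [CommRing R] (π : R) [CommRing C'] [Algebra R C']
  [Algebra (R ⧸ Ideal.span {π ^ 2}) C'] [IsScalarTower R (R ⧸ Ideal.span {π ^ 2}) C']

/-- Reduction of polynomials modulo `π²`. -/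
noncomputable def red (n : ℕ) :
    MvPolynomial (Fin n) R →+* MvPolynomial (Fin n) (R ⧸ Ideal.span {π ^ 2}) :=
  MvPolynomial.map (algebraMap R (R ⧸ Ideal.span {π ^ 2}))

theorem red_surjective (n : ℕ) : Function.Surjective (red π n) :=
  MvPolynomial.map_surjective _ Ideal.Quotient.mk_surjective

theorem ker_red (n : ℕ) : RingHom.ker (red π n) = Ideal.span {C (π ^ 2)} := by
  unfold red
  rw [MvPolynomial.ker_map]
  have : RingHom.ker (algebraMap R (R ⧸ Ideal.span {π ^ 2})) = Ideal.span {π ^ 2} :=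
    Ideal.mk_ker
  rw [this, Ideal.map_span, Set.image_singleton]

variable {n : ℕ} (φ' : MvPolynomial (Fin n) (R ⧸ Ideal.span {π ^ 2}) →ₐ[R ⧸ Ideal.span {π ^ 2}] C')

/-- The presentation of `C` over `R`. -/
noncomputable def φR : MvPolynomial (Fin n) R →ₐ[R] C' := aeval (fun i => φ' (X i))

theorem φR_eq (p : MvPolynomial (Fin n) R) : φR π φ' p = φ' (red π n p) := by
  induction p using MvPolynomial.induction_on with
  | C r =>
    have h1 : φR π φ' (C r) = algebraMap R C' r := by
      unfold φR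
      rw [aeval_C]
    have h2 : red π n (C r) = C (algebraMap R (R ⧸ Ideal.span {π ^ 2}) r) := by
      unfold red
      rw [map_C]
    rw [h1, h2, ← MvPolynomial.algebraMap_eq, AlgHom.commutes,
      ← IsScalarTower.algebraMap_apply]
  | add p q hp hq => rw [map_add, map_add, map_add, hp, hq]
  | mul_X p i hp =>
    rw [map_mul, map_mul, map_mul, hp]
    congr 1
    unfold φR red
    rw [aeval_X, map_X]

end

theorem main {R Λ C' : Type u} [CommRing R] [IsNoetherianRing R] [CommRing Λ]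
    [Algebra R Λ] (π : R) (hR : ∀ r : R, π ^ 2 * r = 0 → π * r = 0)
    (hΛ : ∀ x : Λ, π ^ 2 • x = 0 → π • x = 0) [CommRing C'] [Algebra R C']
    [Algebra (R ⧸ Ideal.span {π ^ 2}) C'] [IsScalarTower R (R ⧸ Ideal.span {π ^ 2}) C']
    [Algebra.FinitePresentation (R ⧸ Ideal.span {π ^ 2}) C']
    (g : C' →ₐ[R] Λ ⧸ Ideal.span {algebraMap R Λ (π ^ 2)}) :
    ∃ (D : Type u) (_ : CommRing D) (_ : Algebra R D), Algebra.FinitePresentation R D ∧
      ∃ (δ : D →ₐ[R] Λ) (ψ : C' →ₐ[R] D ⧸ Ideal.span {algebraMap R D π}),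
        (∀ (c : C') (d : D) (l : Λ), Ideal.Quotient.mk (Ideal.span {algebraMap R D π}) d = ψ c →
          Ideal.Quotient.mk (Ideal.span {algebraMap R Λ (π ^ 2)}) l = g c →
            δ d - l ∈ Ideal.span {algebraMap R Λ π}) ∧
        (∀ (Q : Ideal D) [Q.IsPrime], algebraMap R D π ∉ Q → Algebra.IsSmoothAt R Q) ∧
        (∀ (Q : Ideal (D ⧸ Ideal.span {algebraMap R D π})) [Q.IsPrime],
          Algebra.IsSmoothAt (R ⧸ Ideal.span {π ^ 2}) (Q.comap ψ) →
            Algebra.IsSmoothAt R
              (Q.comap (Ideal.Quotient.mk (Ideal.span {algebraMap R D π})))) := by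
  classical
  obtain ⟨n, φ', hφ'surj, hφ'fg⟩ :=
    (inferInstance : Algebra.FinitePresentation (R ⧸ Ideal.span {π ^ 2}) C').out
  obtain ⟨m, f', hf'⟩ := Submodule.fg_iff_exists_fin_generating_family.1 hφ'fg
  have hker' : RingHom.ker φ'.toRingHom = Ideal.span (Set.range f') := hf'.symm
  have hmem' : ∀ p, φ' p = 0 ↔ p ∈ Ideal.span (Set.range f') := by
    intro p
    rw [← hker']
    rfl
  choose f hf using fun j => red_surjective π n (f' j)
  have hφ : Function.Surjective (φR π φ') := by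
    intro c
    obtain ⟨p', rfl⟩ := hφ'surj c
    obtain ⟨p, rfl⟩ := red_surjective π n p'
    exact ⟨p, φR_eq π φ' p⟩
  have hmapspan : (Ideal.span (Set.range f)).map (red π n) = Ideal.span (Set.range f') := by
    rw [Ideal.map_span, ← Set.range_comp]
    congr 2
    funext j
    exact hf j
  have hφf : ∀ j, φR π φ' (f j) = 0 := by
    intro j
    rw [φR_eq, hf, hmem']
    exact Ideal.subset_span ⟨j, rfl⟩
  have hφπ : φR π φ' (C (π ^ 2)) = 0 := by
    have : C (π ^ 2) ∈ RingHom.ker (red π n) := by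
      rw [ker_red]
      exact Ideal.mem_span_singleton_self _
    rw [RingHom.mem_ker] at this
    rw [φR_eq, this, map_zero]
  have hspanle : Ideal.span (Set.range f) ≤ RingHom.ker (φR π φ').toRingHom := by
    rw [Ideal.span_le]
    rintro _ ⟨j, rfl⟩
    rw [SetLike.mem_coe, RingHom.mem_ker]
    exact hφf j
  have hker : RingHom.ker (φR π φ').toRingHom =
      Ideal.span (Set.range f) ⊔ Ideal.span {C (π ^ 2)} := by
    apply le_antisymm
    · intro p hp
      rw [RingHom.mem_ker] at hp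
      have hp' : φR π φ' p = 0 := hp
      rw [φR_eq, hmem', ← hmapspan] at hp'
      have h2 : p ∈ ((Ideal.span (Set.range f)).map (red π n)).comap (red π n) := hp'
      rw [Ideal.comap_map_of_surjective _ (red_surjective π n)] at h2
      have h3 : Ideal.comap (red π n) ⊥ = Ideal.span {C (π ^ 2)} := ker_red π n
      rwa [h3] at h2
    · refine sup_le hspanle ?_
      rw [Ideal.span_le]
      intro x hx
      rw [Set.mem_singleton_iff] at hx
      subst hx
      rw [SetLike.mem_coe, RingHom.mem_ker]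
      exact hφπ
  refine mainP π hR hΛ g f (φR π φ') hφ hker ?_
  intro 𝔭 _ hsm𝔭
  have : Algebra.IsSmoothAt (R ⧸ Ideal.span {π ^ 2}) 𝔭 := hsm𝔭
  obtain ⟨a₀, ha₀, c, rows₀, cols₀, a₀', ha₀eq, hkill⟩ :=
    Groth.Agent.H11.StdElem.main f' φ' hφ'surj hker' 𝔭
  obtain ⟨a₁, ha₁⟩ := hφ a₀
  have ha₁' : φ' (red π n a₁) = a₀ := by rw [← φR_eq, ha₁]
  -- lift the kill condition
  have hkill₁ : ∀ ℓ, a₁ * f ℓ ∈
      (Ideal.span (Set.range (f ∘ rows₀)) ⊔ Ideal.span {C (π ^ 2)}) ⊔
        Ideal.span (Set.range f) ^ 2 := by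
    intro ℓ
    have h1 := hkill (red π n a₁) ha₁' ℓ
    have h2 : (Ideal.span (Set.range (f ∘ rows₀)) ⊔ Ideal.span (Set.range f) ^ 2).map (red π n) =
        Ideal.span (Set.range (f' ∘ rows₀)) ⊔ Ideal.span (Set.range f') ^ 2 := by
      rw [Ideal.map_sup, Ideal.map_pow, hmapspan, Ideal.map_span, ← Set.range_comp]
      congr 3
      funext i
      exact hf (rows₀ i)
    rw [← h2, ← hf ℓ, ← map_mul] at h1
    have h3 : a₁ * f ℓ ∈ ((Ideal.span (Set.range (f ∘ rows₀)) ⊔
        Ideal.span (Set.range f) ^ 2).map (red π n)).comap (red π n) := h1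
    rw [Ideal.comap_map_of_surjective _ (red_surjective π n)] at h3
    have h4 : Ideal.comap (red π n) ⊥ = Ideal.span {C (π ^ 2)} := ker_red π n
    rw [h4, sup_right_comm] at h3
    exact h3
  obtain ⟨b, hb1, hb2⟩ := exists_mul_mem_of_mul_mem_sup_sq f _ a₁ hkill₁
  refine ⟨c, rows₀, cols₀, b, ?_, ?_, hb2⟩
  · -- the minor
    have h1 : φR π φ' (jacobianMinor f rows₀ cols₀) = φ' (jacobianMinor f' rows₀ cols₀) := by
      rw [φR_eq]
      congr 1
      have := Groth.Agent.H91.StdBC.jacobianMinor_map (R ⧸ Ideal.span {π ^ 2}) f rows₀ cols₀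
      have h3 : (fun j => MvPolynomial.map (algebraMap R (R ⧸ Ideal.span {π ^ 2})) (f j)) = f' :=
        funext hf
      rw [h3] at this
      exact this.symm
    rw [h1]
    intro hmem
    apply ha₀
    rw [ha₀eq]
    exact Ideal.mul_mem_left _ _ hmem
  · have h1 : φR π φ' b = a₀ ^ m := by
      have h2 : φR π φ' (b - a₁ ^ m) = 0 := hspanle hb1
      rw [map_sub, map_pow, ha₁, sub_eq_zero] at h2
      exact h2
    rw [h1]
    intro hmem
    exact ha₀ (Ideal.IsPrime.mem_of_pow_mem inferInstance _ hmem)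

end Groth.Agent.H91.LProb
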