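import Mathlib
import Groth.Prelude.Def_Smoothing
import Groth.Agent.H91.LProbF
import Groth.Agent.H91.DesingB

/-!
# Desingularization after lifting (Stacks 07F0)
-/

set_option autoImplicit false

namespace Groth.Agent.H91.DesLift

open Smoothing

universe u

theorem smul_eq_zero_of_pow {R M : Type*} [CommRing R] [AddCommGroup M] [Module R M] (π : R)
    (h : ∀ x : M, π ^ 2 • x = 0 → π • x = 0) :
    ∀ (k : ℕ) (x : M), π ^ (k + 1) • x = 0 → π • x = 0 := by
  intro k
  induction k with
  | zero =>
    intro x hx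
    simpa using hx
  | succ k ih =>
    intro x hx
    apply ih
    have h1 : π ^ (k + 1 + 1) • x = π ^ 2 • (π ^ k • x) := by
      rw [← mul_smul, ← pow_add]
      congr 2
      omega
    rw [h1] at hx
    have h2 := h _ hx
    rwa [← mul_smul, ← pow_succ'] at h2

theorem smul_pow_four_eq_zero {R M : Type*} [CommRing R] [AddCommGroup M] [Module R M] (π : R)
    (h : ∀ x : M, π ^ 2 • x = 0 → π • x = 0) (x : M) (hx : (π ^ 4) ^ 2 • x = 0) :
    π ^ 4 • x = 0 := by
  have h1 : (π ^ 4) ^ 2 = π ^ (7 + 1) := by ring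
  rw [h1] at hx
  have h2 := smul_eq_zero_of_pow π h 7 x hx
  have h3 : π ^ 4 • x = π ^ 3 • (π • x) := by
    rw [← mul_smul, ← pow_succ]
  rw [h3, h2, smul_zero]

theorem aux {R Λ A C' : Type u} [CommRing R] [IsNoetherianRing R] [CommRing Λ]
    [Algebra R Λ] (π : R) (hR : ∀ r : R, π ^ 2 * r = 0 → π * r = 0)
    (hΛ : ∀ x : Λ, π ^ 2 • x = 0 → π • x = 0) [CommRing A] [Algebra R A]
    (φ : A →ₐ[R] Λ)
    (hπ : Smoothing.IsStrictlyStandard R A (algebraMap R A π))
    (e : R) (he : e = (π ^ 4) ^ 2)
    [CommRing C'] [Algebra R C'] [Algebra (R ⧸ Ideal.span {e}) C']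
    [IsScalarTower R (R ⧸ Ideal.span {e}) C']
    [Algebra.FinitePresentation (R ⧸ Ideal.span {e}) C']
    (γ : A →ₐ[R] C') (g : C' →ₐ[R] Λ ⧸ Ideal.span {algebraMap R Λ e})
    (hfac : ∀ a : A, g (γ a) = Ideal.Quotient.mk (Ideal.span {algebraMap R Λ e}) (φ a)) :
    ∃ (B : Type u) (_ : CommRing B) (_ : Algebra R B), Algebra.FinitePresentation R B ∧
      ∃ (α : A →ₐ[R] B) (β : B →ₐ[R] Λ), β.comp α = φ ∧
        (∀ (Q : Ideal B) [Q.IsPrime], algebraMap R B π ∉ Q → Algebra.IsSmoothAt R Q) ∧
        (Smoothing.singularIdeal (R ⧸ Ideal.span {e}) C').map g ≤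
          ((Smoothing.singularIdeal R B).map β).radical.map
            (Ideal.Quotient.mk (Ideal.span {algebraMap R Λ e})) := by
  classical
  subst he
  have hR' : ∀ r : R, (π ^ 4) ^ 2 * r = 0 → π ^ 4 * r = 0 := fun r hr => by
    have := smul_pow_four_eq_zero (M := R) π (fun x hx => by
      rw [smul_eq_mul] at hx ⊢
      exact hR x hx) r (by rw [smul_eq_mul]; exact hr)
    rwa [smul_eq_mul] at this
  have hΛ' : ∀ x : Λ, (π ^ 4) ^ 2 • x = 0 → π ^ 4 • x = 0 := fun x hx =>
    smul_pow_four_eq_zero π hΛ x hx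
  obtain ⟨D, _, _, hDfp, δ, ψ, hcompat, hsmD, hsmC⟩ :=
    Groth.Agent.H91.LProb.main (π ^ 4) hR' hΛ' g
  obtain ⟨B, _, _, _, _, hBfp, α, β, hβα, hβD, _, hB2⟩ :=
    Groth.Agent.H91.Desing.main π hR hΛ φ δ hπ (ψ.comp γ)
      (fun a d hd => hcompat (γ a) d (φ a) hd (hfac a).symm)
  have hδ : ∀ d : D, β (algebraMap D B d) = δ d := fun d => by
    rw [← hβD]
    rfl
  -- `π` lies in the singular ideal of `D`
  have hπD : algebraMap R D π ∈ singularIdeal R D := by
    unfold singularIdeal
    rw [PrimeSpectrum.mem_vanishingIdeal]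
    intro x hx
    by_contra hx'
    apply hx
    have h4 : algebraMap R D (π ^ 4) ∉ x.asIdeal := by
      rw [map_pow]
      exact fun h => hx' (Ideal.IsPrime.mem_of_pow_mem x.2 _ h)
    exact hsmD x.asIdeal h4
  have hπB : algebraMap R B π ∈ singularIdeal R B := by
    have := hB2 (Ideal.mem_map_of_mem _ hπD)
    rwa [← IsScalarTower.algebraMap_apply] at this
  refine ⟨B, inferInstance, inferInstance, hBfp, α, β, hβα, ?_, ?_⟩
  · intro Q _ hQ
    by_contra hns
    apply hQ
    unfold singularIdeal at hπB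
    rw [PrimeSpectrum.mem_vanishingIdeal] at hπB
    exact hπB ⟨Q, inferInstance⟩ hns
  · rw [Ideal.map_le_iff_le_comap]
    intro c hc
    rw [Ideal.mem_comap]
    obtain ⟨d, hd⟩ := Ideal.Quotient.mk_surjective (ψ c)
    obtain ⟨l, hl⟩ := Ideal.Quotient.mk_surjective (g c)
    -- `d` lies in the singular ideal of `D`
    have hdD : d ∈ singularIdeal R D := by
      unfold singularIdeal
      rw [PrimeSpectrum.mem_vanishingIdeal]
      intro x hx
      by_contra hdx
      apply hx
      by_cases h4 : algebraMap R D (π ^ 4) ∈ x.asIdeal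
      · -- `x` comes from a prime of `D/π⁴`
        have hle : Ideal.span {algebraMap R D (π ^ 4)} ≤ x.asIdeal := by
          rw [Ideal.span_le]
          intro y hy
          rw [Set.mem_singleton_iff] at hy
          rw [hy]
          exact h4
        have hker : RingHom.ker (Ideal.Quotient.mk (Ideal.span {algebraMap R D (π ^ 4)})) ≤
            x.asIdeal := by
          rw [Ideal.mk_ker]
          exact hle
        obtain ⟨Q, hQdef⟩ : ∃ Q : Ideal (D ⧸ Ideal.span {algebraMap R D (π ^ 4)}),
            Q = x.asIdeal.map (Ideal.Quotient.mk (Ideal.span {algebraMap R D (π ^ 4)})) := ⟨_, rfl⟩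
        haveI hQprime : Q.IsPrime := by
          rw [hQdef]
          exact Ideal.map_isPrime_of_surjective Ideal.Quotient.mk_surjective hker
        have hcomap : Q.comap (Ideal.Quotient.mk (Ideal.span {algebraMap R D (π ^ 4)})) =
            x.asIdeal := by
          rw [hQdef, Ideal.comap_map_of_surjective _ Ideal.Quotient.mk_surjective]
          apply le_antisymm
          · exact sup_le le_rfl hker
          · exact le_sup_left
        have hsm := hsmC Q (by
          -- `C` is smooth at the preimage, since `c` is not in it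
          by_contra hnsC
          unfold singularIdeal at hc
          rw [PrimeSpectrum.mem_vanishingIdeal] at hc
          have h5 := hc ⟨Q.comap ψ, Ideal.comap_isPrime ψ Q⟩ hnsC
          change c ∈ Ideal.comap ψ Q at h5
          rw [Ideal.mem_comap, ← hd] at h5
          have h6 : d ∈ Q.comap (Ideal.Quotient.mk (Ideal.span {algebraMap R D (π ^ 4)})) := h5
          rw [hcomap] at h6
          exact hdx h6)
        change Algebra.IsSmoothAt R x.asIdeal
        have key : ∀ (I : Ideal D) [I.IsPrime], I = x.asIdeal → Algebra.IsSmoothAt R I →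
            Algebra.IsSmoothAt R x.asIdeal := by
          intro I _ hI h
          subst hI
          exact h
        exact key _ hcomap hsm
      · exact hsmD x.asIdeal h4
    have hδd : δ d ∈ (singularIdeal R B).map β := by
      rw [← hδ]
      exact Ideal.mem_map_of_mem _ (hB2 (Ideal.mem_map_of_mem _ hdD))
    have hπΛ : algebraMap R Λ π ∈ (singularIdeal R B).map β := by
      rw [← β.commutes]
      exact Ideal.mem_map_of_mem _ hπB
    have hl' : l ∈ (singularIdeal R B).map β := by
      obtain ⟨t, ht⟩ := Ideal.mem_span_singleton'.1 (hcompat c d l hd hl)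
      have : l = δ d - t * algebraMap R Λ (π ^ 4) := by
        rw [ht]
        ring
      rw [this, map_pow]
      refine sub_mem hδd (Ideal.mul_mem_left _ _ ?_)
      have : algebraMap R Λ π ^ 4 = algebraMap R Λ π ^ 3 * algebraMap R Λ π := by ring
      rw [this]
      exact Ideal.mul_mem_left _ _ hπΛ
    rw [← hl]
    exact Ideal.mem_map_of_mem _ (Ideal.le_radical hl')

end Groth.Agent.H91.DesLift
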