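import Mathlib
import Groth.Prelude.Def_Smoothing
import Groth.Agent.H91.LProbF

/-!
# The lifting problem (Stacks 07CM), part G: versions for an abstract quotient `R → R₂` of `R` by `π²`
-/

set_option autoImplicit false

namespace Groth.Agent.H91.LProb

open MvPolynomial Smoothing

universe u

section AssembleS

variable {R Λ C' D : Type u} [CommRing R] [CommRing Λ] [Algebra R Λ] [CommRing C'] [Algebra R C']
  [CommRing D] [Algebra R D] {n m : ℕ} {π : R} {f : Fin m → MvPolynomial (Fin n) R}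

/-- Generic assembly of `ψ`, the compatibility and part (c), for an arbitrary predicate on primes
of `C`. -/
theorem assembleS (Sm : ∀ 𝔭 : Ideal C', 𝔭.IsPrime → Prop)
    (φ : MvPolynomial (Fin n) R →ₐ[R] C') (hφ : Function.Surjective φ)
    (hker : RingHom.ker φ.toRingHom = Ideal.span (Set.range f) ⊔ Ideal.span {C (π ^ 2)})
    (ι : MvPolynomial (Fin n) R →ₐ[R] D) (hιf : ∀ j, ι (f j) ∈ Ideal.span {algebraMap R D π})
    (δ : D →ₐ[R] Λ) (lam : Fin n → Λ) (hδι : ∀ p, δ (ι p) = aeval lam p)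
    (g : C' →ₐ[R] Λ ⧸ Ideal.span {algebraMap R Λ (π ^ 2)})
    (hgφ : ∀ p, g (φ p) =
      Ideal.Quotient.mk (Ideal.span {algebraMap R Λ (π ^ 2)}) (aeval lam p))
    (hc : ∀ (𝔮 : Ideal D) [𝔮.IsPrime] (𝔭 : Ideal C') [h𝔭 : 𝔭.IsPrime], 𝔭.comap φ = 𝔮.comap ι →
      Sm 𝔭 h𝔭 → Algebra.IsSmoothAt R 𝔮) :
    ∃ ψ : C' →ₐ[R] D ⧸ Ideal.span {algebraMap R D π},
      (∀ (c : C') (d : D) (l : Λ), Ideal.Quotient.mk (Ideal.span {algebraMap R D π}) d = ψ c →
          Ideal.Quotient.mk (Ideal.span {algebraMap R Λ (π ^ 2)}) l = g c →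
            δ d - l ∈ Ideal.span {algebraMap R Λ π}) ∧
      (∀ (Q : Ideal (D ⧸ Ideal.span {algebraMap R D π})) [Q.IsPrime],
          Sm (Q.comap ψ) (Ideal.comap_isPrime ψ Q) →
            Algebra.IsSmoothAt R
              (Q.comap (Ideal.Quotient.mk (Ideal.span {algebraMap R D π})))) := by
  let ψ₀ : MvPolynomial (Fin n) R →ₐ[R] D ⧸ Ideal.span {algebraMap R D π} :=
    (Ideal.Quotient.mkₐ R (Ideal.span {algebraMap R D π})).comp ι
  have hψ₀ : ∀ p, ψ₀ p = Ideal.Quotient.mk (Ideal.span {algebraMap R D π}) (ι p) := fun p => rfl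
  have hH : RingHom.ker φ.toRingHom ≤ RingHom.ker ψ₀.toRingHom := by
    rw [hker]
    refine sup_le (Ideal.span_le.2 ?_) (Ideal.span_le.2 ?_)
    · rintro _ ⟨j, rfl⟩
      rw [SetLike.mem_coe, RingHom.mem_ker]
      change ψ₀ (f j) = 0
      rw [hψ₀, Ideal.Quotient.eq_zero_iff_mem]
      exact hιf j
    · intro x hx
      rw [Set.mem_singleton_iff] at hx
      subst hx
      rw [SetLike.mem_coe, RingHom.mem_ker]
      change ψ₀ (C (π ^ 2)) = 0
      rw [hψ₀, Ideal.Quotient.eq_zero_iff_mem]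
      have : ι (C (π ^ 2)) = algebraMap R D π * algebraMap R D π := by
        rw [← MvPolynomial.algebraMap_eq, AlgHom.commutes, pow_two, map_mul]
      rw [this]
      exact Ideal.mul_mem_left _ _ (Ideal.mem_span_singleton_self _)
  have hψφ : ∀ p, AlgHom.liftOfSurjective φ hφ ψ₀ hH (φ p) =
      Ideal.Quotient.mk (Ideal.span {algebraMap R D π}) (ι p) := fun p => by
    rw [← hψ₀]
    exact AlgHom.liftOfSurjective_apply φ hφ ψ₀ hH p
  refine ⟨AlgHom.liftOfSurjective φ hφ ψ₀ hH, ?_, ?_⟩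
  · intro c d l hd hl
    obtain ⟨p, rfl⟩ := hφ c
    rw [hψφ] at hd
    rw [hgφ] at hl
    obtain ⟨e, he⟩ := Ideal.mem_span_singleton'.1 (Ideal.Quotient.eq.1 hd)
    obtain ⟨e', he'⟩ := Ideal.mem_span_singleton'.1 (Ideal.Quotient.eq.1 hl)
    have h1 : δ d = δ e * algebraMap R Λ π + aeval lam p := by
      have : d = e * algebraMap R D π + ι p := by
        rw [he]
        ring
      rw [this, map_add, map_mul, AlgHom.commutes, hδι]
    rw [Ideal.mem_span_singleton']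
    refine ⟨δ e - e' * algebraMap R Λ π, ?_⟩
    rw [h1]
    have h2 : l = e' * algebraMap R Λ (π ^ 2) + aeval lam p := by
      rw [he']
      ring
    rw [h2, map_pow]
    ring
  · intro Q _ hQ
    refine hc _ _ ?_ hQ
    ext p
    rw [Ideal.mem_comap, Ideal.mem_comap, Ideal.mem_comap, Ideal.mem_comap, hψφ]

end AssembleS

section MainS

variable {R Λ C' : Type u} [CommRing R] [IsNoetherianRing R] [CommRing Λ] [Algebra R Λ]

/-- The lifting problem, in terms of a presentation of `C` over `R` and an arbitrary predicate on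
the primes of `C`. -/
theorem mainPS (π : R) (hR : ∀ r : R, π ^ 2 * r = 0 → π * r = 0)
    (hΛ : ∀ x : Λ, π ^ 2 • x = 0 → π • x = 0) [CommRing C'] [Algebra R C']
    (Sm : ∀ 𝔭 : Ideal C', 𝔭.IsPrime → Prop)
    (g : C' →ₐ[R] Λ ⧸ Ideal.span {algebraMap R Λ (π ^ 2)})
    {n m : ℕ} (f : Fin m → MvPolynomial (Fin n) R) (φ : MvPolynomial (Fin n) R →ₐ[R] C')
    (hφ : Function.Surjective φ)
    (hker : RingHom.ker φ.toRingHom = Ideal.span (Set.range f) ⊔ Ideal.span {C (π ^ 2)})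
    (hsm : ∀ (𝔭 : Ideal C') [h𝔭 : 𝔭.IsPrime], Sm 𝔭 h𝔭 →
      ∃ (c : ℕ) (rows₀ : Fin c ↪ Fin m) (cols₀ : Fin c ↪ Fin n) (b : MvPolynomial (Fin n) R),
        φ (jacobianMinor f rows₀ cols₀) ∉ 𝔭 ∧ φ b ∉ 𝔭 ∧
        ∀ ℓ, b * f ℓ ∈ Ideal.span (Set.range (f ∘ rows₀)) ⊔ Ideal.span {C (π ^ 2)}) :
    ∃ (D : Type u) (_ : CommRing D) (_ : Algebra R D), Algebra.FinitePresentation R D ∧
      ∃ (δ : D →ₐ[R] Λ) (ψ : C' →ₐ[R] D ⧸ Ideal.span {algebraMap R D π}),
        (∀ (c : C') (d : D) (l : Λ), Ideal.Quotient.mk (Ideal.span {algebraMap R D π}) d = ψ c →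
          Ideal.Quotient.mk (Ideal.span {algebraMap R Λ (π ^ 2)}) l = g c →
            δ d - l ∈ Ideal.span {algebraMap R Λ π}) ∧
        (∀ (Q : Ideal D) [Q.IsPrime], algebraMap R D π ∉ Q → Algebra.IsSmoothAt R Q) ∧
        (∀ (Q : Ideal (D ⧸ Ideal.span {algebraMap R D π})) [Q.IsPrime],
          Sm (Q.comap ψ) (Ideal.comap_isPrime ψ Q) →
            Algebra.IsSmoothAt R
              (Q.comap (Ideal.Quotient.mk (Ideal.span {algebraMap R D π})))) := by
  classical
  have hmemker : ∀ p, φ p = 0 ↔ p ∈ Ideal.span (Set.range f) ⊔ Ideal.span {C (π ^ 2)} := by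
    intro p
    rw [← hker]
    rfl
  -- the point `λ`
  choose lam hlam using fun i => Ideal.Quotient.mk_surjective (g (φ (X i)))
  have hgφ : ∀ p, g (φ p) =
      Ideal.Quotient.mk (Ideal.span {algebraMap R Λ (π ^ 2)}) (aeval lam p) := by
    intro p
    have : g.comp φ = (Ideal.Quotient.mkₐ R (Ideal.span {algebraMap R Λ (π ^ 2)})).comp
        (aeval lam) := by
      apply MvPolynomial.algHom_ext
      intro i
      rw [AlgHom.comp_apply, AlgHom.comp_apply, aeval_X, Ideal.Quotient.mkₐ_eq_mk, hlam]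
    exact AlgHom.congr_fun this p
  have hmuex : ∀ j, ∃ μ : Λ, aeval lam (f j) = algebraMap R Λ (π ^ 2) * μ := by
    intro j
    have h1 : φ (f j) = 0 :=
      (hmemker _).2 (Ideal.mem_sup_left (Ideal.subset_span ⟨j, rfl⟩))
    have h2 := hgφ (f j)
    rw [h1, map_zero] at h2
    have h3 := Ideal.Quotient.eq_zero_iff_mem.1 h2.symm
    obtain ⟨a, ha⟩ := Ideal.mem_span_singleton'.1 h3
    exact ⟨a, by rw [← ha, mul_comm]⟩
  choose mu hmu using hmuex
  -- the family
  obtain ⟨Fam, _, T, hT⟩ := exists_family π f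
  obtain ⟨ψ, h1, h3⟩ := assembleS (D := DD T) Sm φ hφ hker (ιD T) (ιD_f T) (δD T lam mu hmu hΛ) lam
    (fun p => by rw [ιD_apply, δD_mk, δ₀_ιx]) g hgφ (by
      intro 𝔮 _ 𝔭 _ h𝔭𝔮 hsm𝔭
      obtain ⟨c, rows₀, cols₀, b, hΔ, hb, hbf⟩ := hsm 𝔭 hsm𝔭
      refine smooth_over T hR hT 𝔮 rows₀ cols₀ b ?_ ?_ hbf
      · rw [← h𝔭𝔮]
        exact hΔ
      · rw [← h𝔭𝔮]
        exact hb)
  exact ⟨DD T, inferInstance, inferInstance, inferInstance, δD T lam mu hmu hΛ, ψ, h1,
    fun Q _ hQ => smooth_away_pi T Q hQ, h3⟩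

end MainS

section

variable {R C' : Type u} [CommRing R] [CommRing C'] [Algebra R C']
  (R₂ : Type u) [CommRing R₂] [Algebra R R₂] [Algebra R₂ C'] [IsScalarTower R R₂ C']

/-- Reduction of polynomials to `R₂`. -/
noncomputable def redQ (n : ℕ) : MvPolynomial (Fin n) R →+* MvPolynomial (Fin n) R₂ :=
  MvPolynomial.map (algebraMap R R₂)

variable {R₂}

theorem redQ_surjective (hsurj : Function.Surjective (algebraMap R R₂)) (n : ℕ) :
    Function.Surjective (redQ (R := R) R₂ n) :=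
  MvPolynomial.map_surjective _ hsurj

theorem ker_redQ (π : R) (hkerR : RingHom.ker (algebraMap R R₂) = Ideal.span {π ^ 2}) (n : ℕ) :
    RingHom.ker (redQ (R := R) R₂ n) = Ideal.span {C (π ^ 2)} := by
  unfold redQ
  rw [MvPolynomial.ker_map, hkerR, Ideal.map_span, Set.image_singleton]

variable {n : ℕ} (φ' : MvPolynomial (Fin n) R₂ →ₐ[R₂] C')

variable (R) in
/-- The presentation of `C` over `R`. -/
noncomputable def φRQ : MvPolynomial (Fin n) R →ₐ[R] C' := aeval (fun i => φ' (X i))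

theorem φRQ_eq (p : MvPolynomial (Fin n) R) : φRQ R φ' p = φ' (redQ R₂ n p) := by
  induction p using MvPolynomial.induction_on with
  | C r =>
    have h1 : φRQ R φ' (C r) = algebraMap R C' r := by
      unfold φRQ
      rw [aeval_C]
    have h2 : redQ R₂ n (C r) = C (algebraMap R R₂ r) := by
      unfold redQ
      rw [map_C]
    rw [h1, h2, ← MvPolynomial.algebraMap_eq, AlgHom.commutes,
      ← IsScalarTower.algebraMap_apply]
  | add p q hp hq => rw [map_add, map_add, map_add, hp, hq]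
  | mul_X p i hp =>
    rw [map_mul, map_mul, map_mul, hp]
    congr 1
    unfold φRQ redQ
    rw [aeval_X, map_X]

end

/-- The lifting problem for an abstract quotient `R₂` of `R` by `π²`. -/
theorem mainQ {R Λ C' R₂ : Type u} [CommRing R] [IsNoetherianRing R] [CommRing Λ]
    [Algebra R Λ] (π : R) (hR : ∀ r : R, π ^ 2 * r = 0 → π * r = 0)
    (hΛ : ∀ x : Λ, π ^ 2 • x = 0 → π • x = 0)
    [CommRing R₂] [Algebra R R₂] (hsurj : Function.Surjective (algebraMap R R₂))
    (hkerR : RingHom.ker (algebraMap R R₂) = Ideal.span {π ^ 2})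
    [CommRing C'] [Algebra R C'] [Algebra R₂ C'] [IsScalarTower R R₂ C']
    [Algebra.FinitePresentation R₂ C']
    (g : C' →ₐ[R] Λ ⧸ Ideal.span {algebraMap R Λ (π ^ 2)}) :
    ∃ (D : Type u) (_ : CommRing D) (_ : Algebra R D), Algebra.FinitePresentation R D ∧
      ∃ (δ : D →ₐ[R] Λ) (ψ : C' →ₐ[R] D ⧸ Ideal.span {algebraMap R D π}),
        (∀ (c : C') (d : D) (l : Λ), Ideal.Quotient.mk (Ideal.span {algebraMap R D π}) d = ψ c →
          Ideal.Quotient.mk (Ideal.span {algebraMap R Λ (π ^ 2)}) l = g c →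
            δ d - l ∈ Ideal.span {algebraMap R Λ π}) ∧
        (∀ (Q : Ideal D) [Q.IsPrime], algebraMap R D π ∉ Q → Algebra.IsSmoothAt R Q) ∧
        (∀ (Q : Ideal (D ⧸ Ideal.span {algebraMap R D π})) [Q.IsPrime],
          Algebra.IsSmoothAt R₂ (Q.comap ψ) →
            Algebra.IsSmoothAt R
              (Q.comap (Ideal.Quotient.mk (Ideal.span {algebraMap R D π})))) := by
  classical
  obtain ⟨n, φ', hφ'surj, hφ'fg⟩ := (inferInstance : Algebra.FinitePresentation R₂ C').out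
  obtain ⟨m, f', hf'⟩ := Submodule.fg_iff_exists_fin_generating_family.1 hφ'fg
  have hker' : RingHom.ker φ'.toRingHom = Ideal.span (Set.range f') := hf'.symm
  have hmem' : ∀ p, φ' p = 0 ↔ p ∈ Ideal.span (Set.range f') := by
    intro p
    rw [← hker']
    rfl
  choose f hf using fun j => redQ_surjective hsurj n (f' j)
  have hφ : Function.Surjective (φRQ R φ') := by
    intro c
    obtain ⟨p', rfl⟩ := hφ'surj c
    obtain ⟨p, rfl⟩ := redQ_surjective hsurj n p'
    exact ⟨p, φRQ_eq φ' p⟩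
  have hmapspan : (Ideal.span (Set.range f)).map (redQ R₂ n) = Ideal.span (Set.range f') := by
    rw [Ideal.map_span, ← Set.range_comp]
    congr 2
    funext j
    exact hf j
  have hφf : ∀ j, φRQ R φ' (f j) = 0 := by
    intro j
    rw [φRQ_eq, hf, hmem']
    exact Ideal.subset_span ⟨j, rfl⟩
  have hφπ : φRQ R φ' (C (π ^ 2)) = 0 := by
    have : C (π ^ 2) ∈ RingHom.ker (redQ (R := R) R₂ n) := by
      rw [ker_redQ π hkerR]
      exact Ideal.mem_span_singleton_self _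
    rw [RingHom.mem_ker] at this
    rw [φRQ_eq, this, map_zero]
  have hspanle : Ideal.span (Set.range f) ≤ RingHom.ker (φRQ R φ').toRingHom := by
    rw [Ideal.span_le]
    rintro _ ⟨j, rfl⟩
    rw [SetLike.mem_coe, RingHom.mem_ker]
    exact hφf j
  have hker : RingHom.ker (φRQ R φ').toRingHom =
      Ideal.span (Set.range f) ⊔ Ideal.span {C (π ^ 2)} := by
    apply le_antisymm
    · intro p hp
      rw [RingHom.mem_ker] at hp
      have hp' : φRQ R φ' p = 0 := hp
      rw [φRQ_eq, hmem', ← hmapspan] at hp'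
      have h2 : p ∈ ((Ideal.span (Set.range f)).map (redQ R₂ n)).comap (redQ R₂ n) := hp'
      rw [Ideal.comap_map_of_surjective _ (redQ_surjective hsurj n)] at h2
      have h3 : Ideal.comap (redQ (R := R) R₂ n) ⊥ = Ideal.span {C (π ^ 2)} :=
        ker_redQ π hkerR n
      rwa [h3] at h2
    · refine sup_le hspanle ?_
      rw [Ideal.span_le]
      intro x hx
      rw [Set.mem_singleton_iff] at hx
      subst hx
      rw [SetLike.mem_coe, RingHom.mem_ker]
      exact hφπ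
  refine mainPS π hR hΛ (fun 𝔭 h𝔭 => haveI := h𝔭; Algebra.IsSmoothAt R₂ 𝔭) g f (φRQ R φ') hφ hker ?_
  intro 𝔭 _ hsm𝔭
  have : Algebra.IsSmoothAt R₂ 𝔭 := hsm𝔭
  obtain ⟨a₀, ha₀, c, rows₀, cols₀, a₀', ha₀eq, hkill⟩ :=
    Groth.Agent.H11.StdElem.main f' φ' hφ'surj hker' 𝔭
  obtain ⟨a₁, ha₁⟩ := hφ a₀
  have ha₁' : φ' (redQ R₂ n a₁) = a₀ := by rw [← φRQ_eq, ha₁]
  -- lift the kill condition
  have hkill₁ : ∀ ℓ, a₁ * f ℓ ∈
      (Ideal.span (Set.range (f ∘ rows₀)) ⊔ Ideal.span {C (π ^ 2)}) ⊔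
        Ideal.span (Set.range f) ^ 2 := by
    intro ℓ
    have h1 := hkill (redQ R₂ n a₁) ha₁' ℓ
    have h2 : (Ideal.span (Set.range (f ∘ rows₀)) ⊔ Ideal.span (Set.range f) ^ 2).map
        (redQ R₂ n) =
        Ideal.span (Set.range (f' ∘ rows₀)) ⊔ Ideal.span (Set.range f') ^ 2 := by
      rw [Ideal.map_sup, Ideal.map_pow, hmapspan, Ideal.map_span, ← Set.range_comp]
      congr 3
      funext i
      exact hf (rows₀ i)
    rw [← h2, ← hf ℓ, ← map_mul] at h1
    have h3 : a₁ * f ℓ ∈ ((Ideal.span (Set.range (f ∘ rows₀)) ⊔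
        Ideal.span (Set.range f) ^ 2).map (redQ R₂ n)).comap (redQ R₂ n) := h1
    rw [Ideal.comap_map_of_surjective _ (redQ_surjective hsurj n)] at h3
    have h4 : Ideal.comap (redQ (R := R) R₂ n) ⊥ = Ideal.span {C (π ^ 2)} := ker_redQ π hkerR n
    rw [h4, sup_right_comm] at h3
    exact h3
  obtain ⟨b, hb1, hb2⟩ := exists_mul_mem_of_mul_mem_sup_sq f _ a₁ hkill₁
  refine ⟨c, rows₀, cols₀, b, ?_, ?_, hb2⟩
  · -- the minor
    have h1 : φRQ R φ' (jacobianMinor f rows₀ cols₀) = φ' (jacobianMinor f' rows₀ cols₀) := by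
      rw [φRQ_eq]
      congr 1
      have := Groth.Agent.H91.StdBC.jacobianMinor_map R₂ f rows₀ cols₀
      have h3 : (fun j => MvPolynomial.map (algebraMap R R₂) (f j)) = f' := funext hf
      rw [h3] at this
      exact this.symm
    rw [h1]
    intro hmem
    apply ha₀
    rw [ha₀eq]
    exact Ideal.mul_mem_left _ _ hmem
  · have h1 : φRQ R φ' b = a₀ ^ m := by
      have h2 : φRQ R φ' (b - a₁ ^ m) = 0 := hspanle hb1
      rw [map_sub, map_pow, ha₁, sub_eq_zero] at h2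
      exact h2
    rw [h1]
    intro hmem
    exact ha₀ (Ideal.IsPrime.mem_of_pow_mem inferInstance _ hmem)

end Groth.Agent.H91.LProb
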