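import Mathlib
import Groth.Prelude.Def_Smoothing
import Groth.Agent.H91.DesLiftB
import Groth.Agent.H91.StdBC
import Groth.Agent.H91.LiftLemG
import Groth.Agent.H11.StdSing

/-!
# Resolving modulo `π⁸` (Stacks 07F2): the one-step lemma for abstract quotients
-/

set_option autoImplicit false

namespace Groth.Agent.H91.ResStep

open Smoothing TensorProduct

universe u

/-- Strict standardness is transported along algebra isomorphisms. -/
theorem isStrictlyStandard_of_algEquiv {D B B' : Type u} [CommRing D] [CommRing B] [CommRing B']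
    [Algebra D B] [Algebra D B'] (e : B ≃ₐ[D] B') (b : B) (hb : IsStrictlyStandard D B b) :
    IsStrictlyStandard D B' (e b) := by
  obtain ⟨P, hspan, hKT⟩ := hb
  let P' : MarkedPresentation D B' :=
    { n := P.n, m := P.m, c := P.c, hcn := P.hcn, hcm := P.hcm, rel := P.rel
      hom := e.toAlgHom.comp P.hom
      surj := e.surjective.comp P.surj
      ker_eq := by
        ext p
        rw [← P.ker_eq, RingHom.mem_ker, RingHom.mem_ker]
        change e (P.hom p) = 0 ↔ P.hom p = 0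
        exact EmbeddingLike.map_eq_zero_iff }
  refine ⟨P', ?_, ?_⟩
  · have h1 : e b ∈ (Ideal.span (Set.range fun cols : Fin P.c → Fin P.n =>
        P.hom (jacobianMinor P.rel (Fin.castLE P.hcm) cols))).map e.toAlgHom :=
      Ideal.mem_map_of_mem _ hspan
    rw [Ideal.map_span, ← Set.range_comp] at h1
    exact h1
  · intro a' ha' j hj
    have h2 : P.hom a' = b := e.injective ha'
    exact hKT a' h2 j hj

section Quot

variable {R A R₂ A₂ : Type u} [CommRing R] [CommRing A] [Algebra R A]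
  [CommRing R₂] [CommRing A₂] [Algebra R R₂] [Algebra R₂ A₂] [Algebra R A₂] [IsScalarTower R R₂ A₂]
  (hsurj : Function.Surjective (algebraMap R R₂))
  (qA : A →ₐ[R] A₂) (hqA : Function.Surjective qA)
  (hkerA : ∀ a, qA a = 0 ↔ a ∈ (RingHom.ker (algebraMap R R₂)).map (algebraMap R A))

include hsurj hqA hkerA in
/-- `A₂` is the base change of `A` to `R₂`. -/
theorem exists_equiv : ∃ e : R₂ ⊗[R] A ≃ₐ[R₂] A₂, ∀ a, e ((1 : R₂) ⊗ₜ[R] a) = qA a := by
  let θ : R₂ ⊗[R] A →ₐ[R₂] A₂ :=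
    Algebra.TensorProduct.lift (Algebra.ofId R₂ A₂) qA (fun _ _ => Commute.all _ _)
  have hθ : ∀ a, θ ((1 : R₂) ⊗ₜ[R] a) = qA a := by
    intro a
    change Algebra.TensorProduct.lift (Algebra.ofId R₂ A₂) qA _ ((1 : R₂) ⊗ₜ[R] a) = _
    rw [Algebra.TensorProduct.lift_tmul, map_one, one_mul]
  have h1 : ∀ x : R₂ ⊗[R] A, ∃ a, x = (1 : R₂) ⊗ₜ[R] a := by
    intro x
    induction x using TensorProduct.induction_on with
    | zero => exact ⟨0, (TensorProduct.tmul_zero _ _).symm⟩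
    | tmul r₂ a =>
      obtain ⟨r, rfl⟩ := hsurj r₂
      refine ⟨r • a, ?_⟩
      rw [Algebra.algebraMap_eq_smul_one, TensorProduct.smul_tmul]
    | add x y hx hy =>
      obtain ⟨a, rfl⟩ := hx
      obtain ⟨b, rfl⟩ := hy
      exact ⟨a + b, (TensorProduct.tmul_add _ _ _).symm⟩
  have h2 : ∀ a ∈ (RingHom.ker (algebraMap R R₂)).map (algebraMap R A),
      (1 : R₂) ⊗ₜ[R] a = 0 := by
    have hle : (RingHom.ker (algebraMap R R₂)).map (algebraMap R A) ≤
        RingHom.ker (Algebra.TensorProduct.includeRight (R := R) (A := R₂) (B := A)) := by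
      rw [Ideal.map_le_iff_le_comap]
      intro k hk
      rw [RingHom.mem_ker] at hk
      rw [Ideal.mem_comap, RingHom.mem_ker, Algebra.TensorProduct.includeRight_apply,
        Algebra.algebraMap_eq_smul_one, ← TensorProduct.smul_tmul,
        ← Algebra.algebraMap_eq_smul_one, hk, TensorProduct.zero_tmul]
    intro a ha
    have := hle ha
    rwa [RingHom.mem_ker, Algebra.TensorProduct.includeRight_apply] at this
  have hbij : Function.Bijective θ := by
    constructor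
    · rw [injective_iff_map_eq_zero]
      intro x hx
      obtain ⟨a, rfl⟩ := h1 x
      rw [hθ, hkerA] at hx
      exact h2 a hx
    · intro y
      obtain ⟨a, rfl⟩ := hqA y
      exact ⟨(1 : R₂) ⊗ₜ[R] a, hθ a⟩
  exact ⟨AlgEquiv.ofBijective θ hbij, hθ⟩

include hsurj hqA hkerA in
/-- Strict standardness passes to quotients of the base. -/
theorem isStrictlyStandard_quot (a : A) (ha : IsStrictlyStandard R A a) :
    IsStrictlyStandard R₂ A₂ (qA a) := by
  obtain ⟨e, he⟩ := exists_equiv hsurj qA hqA hkerA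
  rw [← he]
  exact isStrictlyStandard_of_algEquiv e _
    (Groth.Agent.H91.StdBC.isStrictlyStandard_baseChange R₂ a ha)

include hsurj hqA hkerA in
/-- The singular ideal maps into the singular ideal of the quotient. -/
theorem map_singularIdeal_mem [Algebra.FinitePresentation R A] (a : A)
    (ha : a ∈ singularIdeal R A) : qA a ∈ singularIdeal R₂ A₂ := by
  rw [(Groth.Agent.H11.StdSing.main (R := R) (A := A)).1] at ha
  obtain ⟨N, hN⟩ := ha
  have h1 : qA (a ^ N) ∈ (Ideal.span {a : A | IsStrictlyStandard R A a}).map qA :=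
    Ideal.mem_map_of_mem _ hN
  have h2 : (Ideal.span {a : A | IsStrictlyStandard R A a}).map qA ≤ singularIdeal R₂ A₂ := by
    rw [Ideal.map_span, Ideal.span_le]
    rintro _ ⟨s, hs, rfl⟩
    exact Groth.Agent.H91.LiftLem.mem_singularIdeal_of_isStrictlyStandard
      (isStrictlyStandard_quot hsurj qA hqA hkerA s hs)
  have h3 := h2 h1
  rw [map_pow] at h3
  have hrad : (singularIdeal R₂ A₂).IsRadical := by
    unfold singularIdeal
    exact PrimeSpectrum.isRadical_vanishingIdeal _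
  exact hrad ⟨N, h3⟩

end Quot

/-- The one-step lemma: if the problem can be resolved modulo `π⁸`, it can be resolved. -/
theorem step {R₁ A₁ Λ₁ R₂ A₂ Λ₂ : Type u} [CommRing R₁] [IsNoetherianRing R₁] [CommRing A₁]
    [Algebra R₁ A₁] [Algebra.FinitePresentation R₁ A₁] [CommRing Λ₁] [Algebra R₁ Λ₁]
    (φ₁ : A₁ →ₐ[R₁] Λ₁) (𝔮₁ : Ideal Λ₁) [𝔮₁.IsPrime] (π : R₁)
    (hπ𝔮 : algebraMap R₁ Λ₁ π ∈ 𝔮₁)
    (hR : ∀ r : R₁, π ^ 2 * r = 0 → π * r = 0) (hΛ : ∀ x : Λ₁, π ^ 2 • x = 0 → π • x = 0)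
    (hstd : IsStrictlyStandard R₁ A₁ (algebraMap R₁ A₁ π))
    [CommRing R₂] [CommRing A₂] [Algebra R₂ A₂] [CommRing Λ₂] [Algebra R₂ Λ₂]
    (φ₂ : A₂ →ₐ[R₂] Λ₂) (𝔮₂ : Ideal Λ₂)
    [Algebra R₁ R₂] [Algebra R₁ A₂] [IsScalarTower R₁ R₂ A₂] [Algebra R₁ Λ₂]
    [IsScalarTower R₁ R₂ Λ₂]
    (hsurjR : Function.Surjective (algebraMap R₁ R₂))
    (hkerR : RingHom.ker (algebraMap R₁ R₂) = Ideal.span {π ^ 8})
    (qA : A₁ →ₐ[R₁] A₂) (hqA : Function.Surjective qA)
    (hkerA : ∀ a, qA a = 0 ↔ a ∈ Ideal.span {algebraMap R₁ A₁ (π ^ 8)})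
    (qΛ : Λ₁ →ₐ[R₁] Λ₂) (hqΛ : Function.Surjective qΛ)
    (hkerΛ : ∀ l, qΛ l = 0 ↔ l ∈ Ideal.span {algebraMap R₁ Λ₁ (π ^ 8)})
    (hφ : ∀ a, φ₂ (qA a) = qΛ (φ₁ a)) (h𝔮₂ : 𝔮₂ = 𝔮₁.map qΛ)
    (hres : Resolvable R₂ φ₂ 𝔮₂) : Resolvable R₁ φ₁ 𝔮₁ := by
  classical
  obtain ⟨B₂, _, _, hB₂fp, g₂, h₂, hcomp, hle, hnle⟩ := hres
  letI : Algebra R₁ B₂ := ((algebraMap R₂ B₂).comp (algebraMap R₁ R₂)).toAlgebra
  haveI : IsScalarTower R₁ R₂ B₂ := IsScalarTower.of_algebraMap_eq (fun r => rfl)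
  let γ : A₁ →ₐ[R₁] B₂ := (g₂.restrictScalars R₁).comp qA
  let g : B₂ →ₐ[R₁] Λ₂ := h₂.restrictScalars R₁
  have hfac : ∀ a : A₁, g (γ a) = qΛ (φ₁ a) := by
    intro a
    change h₂ (g₂ (qA a)) = _
    rw [← hφ, ← hcomp]
    rfl
  have hkerA' : ∀ a, qA a = 0 ↔
      a ∈ (RingHom.ker (algebraMap R₁ R₂)).map (algebraMap R₁ A₁) := by
    intro a
    rw [hkerA, hkerR, Ideal.map_span, Set.image_singleton]
  obtain ⟨B, _, _, hBfp, α, β, hβα, _, hπB, hincl⟩ :=
    Groth.Agent.H91.DesLift.auxQ π hR hΛ φ₁ hstd hsurjR hkerR qΛ hqΛ hkerΛ γ g hfac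
  have hincl' : (singularIdeal R₂ B₂).map h₂ ≤
      ((singularIdeal R₁ B).map β).radical.map qΛ := hincl
  refine ⟨B, inferInstance, inferInstance, hBfp, α, β, hβα, ?_, ?_⟩
  · -- the singular radical grows
    have hπJ : algebraMap R₁ Λ₁ π ∈ ((singularIdeal R₁ B).map β).radical := by
      apply Ideal.le_radical
      rw [← β.commutes]
      exact Ideal.mem_map_of_mem _ hπB
    have hkerJ : ∀ l, qΛ l = 0 → l ∈ ((singularIdeal R₁ B).map β).radical := by
      intro l hl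
      obtain ⟨t, rfl⟩ := Ideal.mem_span_singleton'.1 ((hkerΛ l).1 hl)
      rw [map_pow]
      have : algebraMap R₁ Λ₁ π ^ 8 = algebraMap R₁ Λ₁ π ^ 7 * algebraMap R₁ Λ₁ π := by ring
      rw [this]
      exact Ideal.mul_mem_left _ _ (Ideal.mul_mem_left _ _ hπJ)
    unfold singRad
    rw [Ideal.radical_le_radical_iff, Ideal.map_le_iff_le_comap]
    intro a ha
    rw [Ideal.mem_comap]
    have h1 : qA a ∈ singularIdeal R₂ A₂ :=
      map_singularIdeal_mem hsurjR qA hqA hkerA' a ha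
    have h2 : φ₂ (qA a) ∈ singRad R₂ φ₂ := Ideal.le_radical (Ideal.mem_map_of_mem _ h1)
    have h3 : φ₂ (qA a) ∈ ((singularIdeal R₂ B₂).map h₂).radical := hle h2
    have h4 : φ₂ (qA a) ∈ (((singularIdeal R₁ B).map β).radical.map qΛ).radical :=
      Ideal.radical_mono hincl' h3
    rw [hφ] at h4
    obtain ⟨N, hN⟩ := h4
    obtain ⟨y, hy, hyN⟩ := (Ideal.mem_map_iff_of_surjective qΛ hqΛ).1 hN
    have h5 : qΛ (φ₁ a ^ N - y) = 0 := by
      rw [map_sub, map_pow, hyN, sub_self]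
    have h6 : φ₁ a ^ N ∈ ((singularIdeal R₁ B).map β).radical := by
      have := add_mem (hkerJ _ h5) hy
      rwa [sub_add_cancel] at this
    exact (Ideal.radical_isRadical _) ⟨N, h6⟩
  · -- the singular radical is not contained in `𝔮₁`
    intro hJ
    apply hnle
    have hker𝔮 : RingHom.ker qΛ ≤ 𝔮₁ := by
      intro l hl
      rw [RingHom.mem_ker] at hl
      obtain ⟨t, rfl⟩ := Ideal.mem_span_singleton'.1 ((hkerΛ l).1 hl)
      rw [map_pow]
      have : algebraMap R₁ Λ₁ π ^ 8 = algebraMap R₁ Λ₁ π ^ 7 * algebraMap R₁ Λ₁ π := by ring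
      rw [this]
      exact Ideal.mul_mem_left _ _ (Ideal.mul_mem_left _ _ hπ𝔮)
    haveI : 𝔮₂.IsPrime := by
      rw [h𝔮₂]
      exact Ideal.map_isPrime_of_surjective hqΛ hker𝔮
    unfold singRad
    rw [Ideal.IsPrime.radical_le_iff inferInstance]
    refine hincl'.trans ?_
    rw [h𝔮₂]
    exact Ideal.map_mono hJ

end Groth.Agent.H91.ResStep
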