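import Mathlib
import Groth.Prelude.Def_Smoothing
import Groth.Agent.H91.ResStepA

/-!
# Resolving modulo `π⁸` (Stacks 07F2): the one-step lemma for the concrete quotients
-/

set_option autoImplicit false

namespace Groth.Agent.H91.ResStep

open Smoothing

universe u

theorem finitePresentation_of_isStrictlyStandard {R B : Type u} [CommRing R] [CommRing B]
    [Algebra R B] {b : B} (hb : IsStrictlyStandard R B b) : Algebra.FinitePresentation R B := by
  obtain ⟨P, -, -⟩ := hb
  refine Algebra.FinitePresentation.of_surjective (f := P.hom) P.surj ?_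
  rw [P.ker_eq]
  exact Submodule.fg_span (Set.finite_range _)

section

variable {R A Λ : Type u} [CommRing R] [CommRing A] [Algebra R A] [CommRing Λ] [Algebra R Λ]
  (φ : A →ₐ[R] Λ)

theorem map_le_comap (K : Ideal R) :
    K.map (algebraMap R A) ≤ (K.map (algebraMap R Λ)).comap (φ : A →+* Λ) := by
  rw [← Ideal.map_le_iff_le_comap, Ideal.map_map]
  have : (φ : A →+* Λ).comp (algebraMap R A) = algebraMap R Λ := φ.comp_algebraMap
  rw [this]

/-- The map induced by `φ` on the quotients by `K`. -/
noncomputable def φQ (K : Ideal R) :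
    (A ⧸ K.map (algebraMap R A)) →ₐ[R ⧸ K] (Λ ⧸ K.map (algebraMap R Λ)) :=
  { Ideal.quotientMap (K.map (algebraMap R Λ)) (φ : A →+* Λ) (map_le_comap φ K) with
    commutes' := by
      intro r
      obtain ⟨r, rfl⟩ := Ideal.Quotient.mk_surjective r
      change Ideal.quotientMap (K.map (algebraMap R Λ)) (φ : A →+* Λ) (map_le_comap φ K)
        (Ideal.Quotient.mk _ (algebraMap R A r)) = Ideal.Quotient.mk _ (algebraMap R Λ r)
      rw [Ideal.quotientMap_mk]
      congr 1
      exact φ.commutes r }

theorem φQ_mk (K : Ideal R) (a : A) :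
    φQ φ K (Ideal.Quotient.mk _ a) = Ideal.Quotient.mk _ (φ a) := rfl

/-- The problem modulo `K` can be resolved. -/
def PK (𝔮 : Ideal Λ) (K : Ideal R) : Prop :=
  Resolvable (R ⧸ K) (φQ φ K) (𝔮.map (Ideal.Quotient.mk (K.map (algebraMap R Λ))))

end

section Factor

variable {R : Type u} [CommRing R] (M : Type u) [CommRing M] [Algebra R M]
  {K K' : Ideal R} (hKK' : K ≤ K')

/-- The transition map `M/KM → M/K'M`. -/
noncomputable def fac : (M ⧸ K.map (algebraMap R M)) →+* (M ⧸ K'.map (algebraMap R M)) :=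
  Ideal.Quotient.factor (Ideal.map_mono hKK')

theorem fac_mk (x : M) : fac M hKK' (Ideal.Quotient.mk _ x) = Ideal.Quotient.mk _ x := rfl

theorem fac_surjective : Function.Surjective (fac M hKK') :=
  Ideal.Quotient.factor_surjective _

theorem fac_eq_zero_iff (p : R) (hK' : K' = K ⊔ Ideal.span {p ^ 8})
    (x : M ⧸ K.map (algebraMap R M)) :
    fac M hKK' x = 0 ↔ x ∈ Ideal.span {algebraMap (R ⧸ K) (M ⧸ K.map (algebraMap R M))
      (Ideal.Quotient.mk K p ^ 8)} := by
  have h1 : RingHom.ker (fac M hKK') =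
      (K'.map (algebraMap R M)).map (Ideal.Quotient.mk (K.map (algebraMap R M))) :=
    Ideal.Quotient.factor_ker _
  have h2 : (K'.map (algebraMap R M)).map (Ideal.Quotient.mk (K.map (algebraMap R M))) =
      Ideal.span {algebraMap (R ⧸ K) (M ⧸ K.map (algebraMap R M))
        (Ideal.Quotient.mk K p ^ 8)} := by
    rw [hK', Ideal.map_sup, Ideal.map_sup, Ideal.map_quotient_self, bot_sup_eq, Ideal.map_span,
      Ideal.map_span, Set.image_singleton, Set.image_singleton, ← map_pow]
    rfl
  rw [← RingHom.mem_ker, h1, h2]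

end Factor

end Groth.Agent.H91.ResStep
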