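import Mathlib
import Groth.Prelude.Def_Smoothing
import Groth.Agent.H91.ResStepB

/-!
# Resolving modulo `π⁸` (Stacks 07F2): the step between concrete quotients
-/

set_option autoImplicit false

namespace Groth.Agent.H91.ResStep

open Smoothing

universe u

variable {R A Λ : Type u} [CommRing R] [IsNoetherianRing R] [CommRing A] [Algebra R A]
  [CommRing Λ] [Algebra R Λ] (φ : A →ₐ[R] Λ) (𝔮 : Ideal Λ) [𝔮.IsPrime]

/-- Strict standardness modulo `K`. -/
theorem isStrictlyStandard_mk (K : Ideal R) (a : A) (ha : IsStrictlyStandard R A a) :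
    IsStrictlyStandard (R ⧸ K) (A ⧸ K.map (algebraMap R A)) (Ideal.Quotient.mk _ a) := by
  have h := isStrictlyStandard_quot (R := R) (A := A) (R₂ := R ⧸ K)
    (A₂ := A ⧸ K.map (algebraMap R A)) Ideal.Quotient.mk_surjective
    (Ideal.Quotient.mkₐ R (K.map (algebraMap R A))) (Ideal.Quotient.mkₐ_surjective R _)
    (fun a => by
      rw [Ideal.Quotient.mkₐ_eq_mk, Ideal.Quotient.eq_zero_iff_mem]
      have : RingHom.ker (algebraMap R (R ⧸ K)) = K := Ideal.mk_ker
      rw [this]) a ha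
  exact h

/-- One step between the concrete quotients. -/
theorem stepK (K K' : Ideal R) (p : R) (hK' : K' = K ⊔ Ideal.span {p ^ 8})
    (hK𝔮 : K.map (algebraMap R Λ) ≤ 𝔮) (hp𝔮 : algebraMap R Λ p ∈ 𝔮)
    (hRp : ∀ x : R, p ^ 2 * x ∈ K → p * x ∈ K)
    (hΛp : ∀ l : Λ, algebraMap R Λ p ^ 2 * l ∈ K.map (algebraMap R Λ) →
      algebraMap R Λ p * l ∈ K.map (algebraMap R Λ))
    (hstd : IsStrictlyStandard R A (algebraMap R A p))
    (h : PK φ 𝔮 K') : PK φ 𝔮 K := by
  classical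
  have hKK' : K ≤ K' := by
    rw [hK']
    exact le_sup_left
  have hstd₁ := isStrictlyStandard_mk K _ hstd
  haveI : Algebra.FinitePresentation (R ⧸ K) (A ⧸ K.map (algebraMap R A)) :=
    finitePresentation_of_isStrictlyStandard hstd₁
  haveI : (𝔮.map (Ideal.Quotient.mk (K.map (algebraMap R Λ)))).IsPrime :=
    Ideal.map_isPrime_of_surjective Ideal.Quotient.mk_surjective (by
      rw [Ideal.mk_ker]
      exact hK𝔮)
  -- algebra structures
  letI : Algebra (R ⧸ K) (R ⧸ K') := (Ideal.Quotient.factor hKK').toAlgebra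
  letI : Algebra (R ⧸ K) (A ⧸ K'.map (algebraMap R A)) :=
    ((algebraMap (R ⧸ K') (A ⧸ K'.map (algebraMap R A))).comp
      (algebraMap (R ⧸ K) (R ⧸ K'))).toAlgebra
  haveI : IsScalarTower (R ⧸ K) (R ⧸ K') (A ⧸ K'.map (algebraMap R A)) :=
    IsScalarTower.of_algebraMap_eq (fun r => rfl)
  letI : Algebra (R ⧸ K) (Λ ⧸ K'.map (algebraMap R Λ)) :=
    ((algebraMap (R ⧸ K') (Λ ⧸ K'.map (algebraMap R Λ))).comp
      (algebraMap (R ⧸ K) (R ⧸ K'))).toAlgebra
  haveI : IsScalarTower (R ⧸ K) (R ⧸ K') (Λ ⧸ K'.map (algebraMap R Λ)) :=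
    IsScalarTower.of_algebraMap_eq (fun r => rfl)
  let qA : (A ⧸ K.map (algebraMap R A)) →ₐ[R ⧸ K] (A ⧸ K'.map (algebraMap R A)) :=
    { fac A hKK' with
      commutes' := by
        intro r
        obtain ⟨r, rfl⟩ := Ideal.Quotient.mk_surjective r
        rfl }
  let qΛ : (Λ ⧸ K.map (algebraMap R Λ)) →ₐ[R ⧸ K] (Λ ⧸ K'.map (algebraMap R Λ)) :=
    { fac Λ hKK' with
      commutes' := by
        intro r
        obtain ⟨r, rfl⟩ := Ideal.Quotient.mk_surjective r
        rfl }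
  refine step (φQ φ K) (𝔮.map (Ideal.Quotient.mk (K.map (algebraMap R Λ))))
    (Ideal.Quotient.mk K p) ?_ ?_ ?_ hstd₁ (φQ φ K')
    (𝔮.map (Ideal.Quotient.mk (K'.map (algebraMap R Λ))))
    (Ideal.Quotient.factor_surjective hKK') ?_ qA (fac_surjective A hKK') ?_ qΛ
    (fac_surjective Λ hKK') ?_ ?_ ?_ h
  · exact Ideal.mem_map_of_mem _ hp𝔮
  · intro r hr
    obtain ⟨x, rfl⟩ := Ideal.Quotient.mk_surjective r
    rw [← map_pow, ← map_mul, Ideal.Quotient.eq_zero_iff_mem] at hr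
    rw [← map_mul, Ideal.Quotient.eq_zero_iff_mem]
    exact hRp x hr
  · intro x hx
    obtain ⟨l, rfl⟩ := Ideal.Quotient.mk_surjective x
    rw [← map_pow, Ideal.Quotient.mk_smul_mk_quotient_map_quotient,
      Ideal.Quotient.eq_zero_iff_mem, map_pow] at hx
    rw [Ideal.Quotient.mk_smul_mk_quotient_map_quotient, Ideal.Quotient.eq_zero_iff_mem]
    exact hΛp l hx
  · change RingHom.ker (Ideal.Quotient.factor hKK') = _
    rw [Ideal.Quotient.factor_ker, hK', Ideal.map_sup, Ideal.map_quotient_self, bot_sup_eq,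
      Ideal.map_span, Set.image_singleton, map_pow]
  · exact fun a => fac_eq_zero_iff A hKK' p hK' a
  · exact fun l => fac_eq_zero_iff Λ hKK' p hK' l
  · intro a
    obtain ⟨a, rfl⟩ := Ideal.Quotient.mk_surjective a
    rfl
  · have h1 : Ideal.map qΛ (𝔮.map (Ideal.Quotient.mk (K.map (algebraMap R Λ)))) =
        Ideal.map (fac Λ hKK') (𝔮.map (Ideal.Quotient.mk (K.map (algebraMap R Λ)))) := rfl
    rw [h1, Ideal.map_map]
    rfl

end Groth.Agent.H91.ResStep
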