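import Mathlib
import Groth.Prelude.Def_Smoothing
import Groth.Agent.H91.ResStepC

/-!
# Resolving modulo `π⁸` (Stacks 07F2): the chain
-/

set_option autoImplicit false

namespace Groth.Agent.H91.ResStep

open Smoothing

universe u

variable {R A Λ : Type u} [CommRing R] [IsNoetherianRing R] [CommRing A] [Algebra R A]
  [CommRing Λ] [Algebra R Λ] (φ : A →ₐ[R] Λ) (𝔮 : Ideal Λ) [𝔮.IsPrime]

/-- The last step, from the quotient by `p⁸` to the original problem. -/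
theorem lastK [Algebra.FinitePresentation R A] (K' : Ideal R) (p : R)
    (hK' : K' = Ideal.span {p ^ 8}) (hp𝔮 : algebraMap R Λ p ∈ 𝔮)
    (hRp : ∀ x : R, p ^ 2 * x = 0 → p * x = 0)
    (hΛp : ∀ l : Λ, p ^ 2 • l = 0 → p • l = 0)
    (hstd : IsStrictlyStandard R A (algebraMap R A p))
    (h : PK φ 𝔮 K') : Resolvable R φ 𝔮 := by
  classical
  refine step φ 𝔮 p hp𝔮 hRp hΛp hstd (φQ φ K')
    (𝔮.map (Ideal.Quotient.mk (K'.map (algebraMap R Λ))))
    Ideal.Quotient.mk_surjective ?_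
    (Ideal.Quotient.mkₐ R (K'.map (algebraMap R A))) (Ideal.Quotient.mkₐ_surjective R _) ?_
    (Ideal.Quotient.mkₐ R (K'.map (algebraMap R Λ))) (Ideal.Quotient.mkₐ_surjective R _) ?_
    ?_ ?_ h
  · have : RingHom.ker (algebraMap R (R ⧸ K')) = K' := Ideal.mk_ker
    rw [this, hK']
  · intro a
    rw [Ideal.Quotient.mkₐ_eq_mk, Ideal.Quotient.eq_zero_iff_mem, hK', Ideal.map_span,
      Set.image_singleton]
  · intro l
    rw [Ideal.Quotient.mkₐ_eq_mk, Ideal.Quotient.eq_zero_iff_mem, hK', Ideal.map_span,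
      Set.image_singleton]
  · intro a
    rfl
  · rfl

section Chain

variable {r : ℕ} (π : Fin r → R)

/-- The ideal generated by the eighth powers of the first `i` elements. -/
def Kc (i : ℕ) : Ideal R :=
  Ideal.span (Set.range fun j : {j : Fin r // (j : ℕ) < i} => π j ^ 8)

theorem Kc_zero : Kc π 0 = ⊥ := by
  unfold Kc
  rw [Ideal.span_eq_bot]
  rintro _ ⟨⟨j, hj⟩, rfl⟩
  exact absurd hj (Nat.not_lt_zero _)

theorem Kc_succ (i : ℕ) (hi : i < r) : Kc π (i + 1) = Kc π i ⊔ Ideal.span {π ⟨i, hi⟩ ^ 8} := by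
  unfold Kc
  apply le_antisymm
  · rw [Ideal.span_le]
    rintro _ ⟨⟨j, hj⟩, rfl⟩
    by_cases hji : (j : ℕ) < i
    · exact Ideal.mem_sup_left (Ideal.subset_span ⟨⟨j, hji⟩, rfl⟩)
    · have : j = ⟨i, hi⟩ := Fin.ext (by simp only; omega)
      subst this
      exact Ideal.mem_sup_right (Ideal.mem_span_singleton_self _)
  · refine sup_le (Ideal.span_mono ?_) ?_
    · rintro _ ⟨⟨j, hj⟩, rfl⟩
      exact ⟨⟨j, Nat.lt_succ_of_lt hj⟩, rfl⟩
    · rw [Ideal.span_le]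
      intro x hx
      rw [Set.mem_singleton_iff] at hx
      subst hx
      exact Ideal.subset_span ⟨⟨⟨i, hi⟩, Nat.lt_succ_self i⟩, rfl⟩

theorem Kc_top : Kc π r = Ideal.span (Set.range fun i => π i ^ 8) := by
  unfold Kc
  congr 1
  ext x
  constructor
  · rintro ⟨⟨j, _⟩, rfl⟩
    exact ⟨j, rfl⟩
  · rintro ⟨j, rfl⟩
    exact ⟨⟨j, j.2⟩, rfl⟩

theorem Kc_map (i : ℕ) : (Kc π i).map (algebraMap R Λ) =
    Ideal.span (Set.range fun j : {j : Fin r // (j : ℕ) < i} => algebraMap R Λ (π j) ^ 8) := by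
  unfold Kc
  rw [Ideal.map_span, ← Set.range_comp]
  congr 2
  funext j
  simp only [Function.comp_apply, map_pow]

theorem Kc_map_le (hπ𝔮 : ∀ i, algebraMap R Λ (π i) ∈ 𝔮) (i : ℕ) :
    (Kc π i).map (algebraMap R Λ) ≤ 𝔮 := by
  rw [Kc_map, Ideal.span_le]
  rintro _ ⟨j, rfl⟩
  exact Ideal.pow_mem_of_mem _ (hπ𝔮 j) 8 (by norm_num)

end Chain

/-- Stacks 07F2. -/
theorem main [Algebra.FinitePresentation R A] {r : ℕ} (hr : 0 < r) (π : Fin r → R)
    (hπ𝔮 : ∀ i, algebraMap R Λ (π i) ∈ 𝔮)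
    (hR : ∀ i : Fin r, ∀ x : R ⧸ Ideal.span (Set.range fun j : {j : Fin r // (j : ℕ) < (i : ℕ)} =>
        π j ^ 8),
      Ideal.Quotient.mk _ (π i) ^ 2 * x = 0 → Ideal.Quotient.mk _ (π i) * x = 0)
    (hΛ : ∀ i : Fin r, ∀ x : Λ ⧸ Ideal.span (Set.range fun j : {j : Fin r // (j : ℕ) < (i : ℕ)} =>
        algebraMap R Λ (π j) ^ 8),
      Ideal.Quotient.mk _ (algebraMap R Λ (π i)) ^ 2 * x = 0 →
        Ideal.Quotient.mk _ (algebraMap R Λ (π i)) * x = 0)
    (hstd : ∀ i, Smoothing.IsStrictlyStandard R A (algebraMap R A (π i)))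
    (K : Ideal R) (hK : K = Ideal.span (Set.range fun i => π i ^ 8))
    (φK : (A ⧸ K.map (algebraMap R A)) →ₐ[R ⧸ K] (Λ ⧸ K.map (algebraMap R Λ)))
    (hφK : ∀ a : A, φK (Ideal.Quotient.mk _ a) = Ideal.Quotient.mk _ (φ a))
    (hres : Smoothing.Resolvable (R ⧸ K) φK
      (𝔮.map (Ideal.Quotient.mk (K.map (algebraMap R Λ))))) :
    Smoothing.Resolvable R φ 𝔮 := by
  classical
  have hR' : ∀ i : Fin r, ∀ x : R, π i ^ 2 * x ∈ Kc π i → π i * x ∈ Kc π i := by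
    intro i x hx
    have h := hR i (Ideal.Quotient.mk _ x)
    rw [← map_pow, ← map_mul, Ideal.Quotient.eq_zero_iff_mem, ← map_mul,
      Ideal.Quotient.eq_zero_iff_mem] at h
    exact h hx
  have hΛ' : ∀ i : Fin r, ∀ l : Λ,
      algebraMap R Λ (π i) ^ 2 * l ∈ (Kc π i).map (algebraMap R Λ) →
        algebraMap R Λ (π i) * l ∈ (Kc π i).map (algebraMap R Λ) := by
    intro i l hl
    have h := hΛ i (Ideal.Quotient.mk _ l)
    rw [← map_pow, ← map_mul, Ideal.Quotient.eq_zero_iff_mem, ← map_mul,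
      Ideal.Quotient.eq_zero_iff_mem] at h
    rw [Kc_map] at hl ⊢
    exact h hl
  -- the top of the chain
  have htop : PK φ 𝔮 (Kc π r) := by
    rw [Kc_top, ← hK]
    have : φK = φQ φ K := by
      apply AlgHom.ext
      intro a
      obtain ⟨a, rfl⟩ := Ideal.Quotient.mk_surjective a
      rw [hφK, φQ_mk]
    rw [this] at hres
    exact hres
  -- the chain
  have key : ∀ d i : ℕ, i + d = r → PK φ 𝔮 (Kc π i) := by
    intro d
    induction d with
    | zero =>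
      intro i hi
      have : i = r := by omega
      subst this
      exact htop
    | succ d ih =>
      intro i hi
      have hir : i < r := by omega
      have h1 := ih (i + 1) (by omega)
      exact stepK φ 𝔮 (Kc π i) (Kc π (i + 1)) (π ⟨i, hir⟩) (Kc_succ π i hir)
        (Kc_map_le 𝔮 π hπ𝔮 i) (hπ𝔮 _) (hR' ⟨i, hir⟩) (hΛ' ⟨i, hir⟩) (hstd _) h1
  have h1 := key (r - 1) 1 (by omega)
  refine lastK φ 𝔮 (Kc π 1) (π ⟨0, hr⟩) ?_ (hπ𝔮 _) ?_ ?_ (hstd _) h1
  · rw [Kc_succ π 0 hr, Kc_zero, bot_sup_eq]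
  · intro x hx
    have h := hR' ⟨0, hr⟩ x
    rw [Kc_zero, Ideal.mem_bot, Ideal.mem_bot] at h
    exact h hx
  · intro l hl
    have h := hΛ' ⟨0, hr⟩ l
    rw [Kc_zero, Ideal.map_bot, Ideal.mem_bot, Ideal.mem_bot] at h
    rw [Algebra.smul_def, map_pow] at hl
    rw [Algebra.smul_def]
    exact h hl

end Groth.Agent.H91.ResStep
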