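import Mathlib
import Groth.Agent.H91.SepG
import Groth.Agent.H91.RegFlatB
import Groth.Agent.H91.RegPowC
import Groth.Agent.H91.ResStepD

/-!
# Phase 3 of the separable-residue-field resolution (Stacks 07F3): polynomial ring facts
-/

set_option autoImplicit false
universe u

open MvPolynomial Smoothing IsLocalRing

namespace Groth.Agent.H91.SepH

open Groth.Agent.H91.RegFlat

section Poly

variable (k : Type u) [Field k] (d : ℕ)

theorem Ij_top_eq : Ij k d d = Ideal.span (Set.range (X : Fin d → MvPolynomial (Fin d) k)) := by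
  unfold Ij
  have huniv : {i : Fin d | (i : ℕ) < d} = Set.univ := by
    ext i; simp
  rw [huniv, Set.image_univ]

theorem X_mem_Ij_top (i : Fin d) : (X i : MvPolynomial (Fin d) k) ∈ Ij k d d := by
  rw [Ij_top_eq]
  exact Ideal.subset_span ⟨i, rfl⟩

theorem surjective_algebraMap_Ij :
    Function.Surjective (algebraMap k (MvPolynomial (Fin d) k ⧸ Ij k d d)) := by
  intro z
  obtain ⟨p, rfl⟩ := Ideal.Quotient.mk_surjective z
  induction p using MvPolynomial.induction_on with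
  | C a => exact ⟨a, rfl⟩
  | add p q hp hq =>
    obtain ⟨a, ha⟩ := hp
    obtain ⟨b, hb⟩ := hq
    exact ⟨a + b, by rw [map_add, map_add, ha, hb]⟩
  | mul_X p i _ =>
    refine ⟨0, ?_⟩
    rw [map_zero, map_mul]
    have : Ideal.Quotient.mk (Ij k d d) (X i) = 0 :=
      Ideal.Quotient.eq_zero_iff_mem.mpr (X_mem_Ij_top k d i)
    rw [this, mul_zero]

/-- the ideal `K = (X_i^{8c})` -/
noncomputable def KK (c : ℕ) : Ideal (MvPolynomial (Fin d) k) :=
  Ideal.span (Set.range fun i : Fin d => ((X i : MvPolynomial (Fin d) k) ^ c) ^ 8)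

theorem KK_le (c : ℕ) (hc : 0 < c) : KK k d c ≤ Ij k d d := by
  unfold KK
  rw [Ideal.span_le]
  rintro _ ⟨i, rfl⟩
  change ((X i : MvPolynomial (Fin d) k) ^ c) ^ 8 ∈ Ij k d d
  rw [← pow_mul]
  exact Ideal.pow_mem_of_mem _ (X_mem_Ij_top k d i) _ (Nat.mul_pos hc (by norm_num))

theorem Ij_le_radical (c : ℕ) : Ij k d d ≤ (KK k d c).radical := by
  rw [Ij_top_eq, Ideal.span_le]
  rintro _ ⟨i, rfl⟩
  refine ⟨c * 8, ?_⟩
  rw [pow_mul]
  exact Ideal.subset_span ⟨i, rfl⟩

/-- the condition `hR` of the reduction step -/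
theorem hR (c : ℕ) (i : Fin d) (x : MvPolynomial (Fin d) k ⧸ Ideal.span (Set.range
      fun j : {j : Fin d // (j : ℕ) < (i : ℕ)} => ((X (j : Fin d) : MvPolynomial (Fin d) k) ^ c) ^ 8))
    (hx : Ideal.Quotient.mk _ ((X i : MvPolynomial (Fin d) k) ^ c) ^ 2 * x = 0) :
    Ideal.Quotient.mk _ ((X i : MvPolynomial (Fin d) k) ^ c) * x = 0 := by
  classical
  obtain ⟨y, rfl⟩ := Ideal.Quotient.mk_surjective x
  rw [← map_pow, ← map_mul, Ideal.Quotient.eq_zero_iff_mem] at hx
  rw [← map_mul, Ideal.Quotient.eq_zero_iff_mem]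
  let S : Set (Fin d →₀ ℕ) := {s | ∃ j : Fin d, (j : ℕ) < (i : ℕ) ∧ s = Finsupp.single j (c * 8)}
  have hS : Ideal.span (Set.range
      fun j : {j : Fin d // (j : ℕ) < (i : ℕ)} => ((X (j : Fin d) : MvPolynomial (Fin d) k) ^ c) ^ 8) =
      Ideal.span ((fun s => monomial s (1 : k)) '' S) := by
    congr 1
    ext p
    constructor
    · rintro ⟨j, rfl⟩
      refine ⟨Finsupp.single (j : Fin d) (c * 8), ⟨j, j.2, rfl⟩, ?_⟩
      change monomial _ 1 = ((X (j : Fin d) : MvPolynomial (Fin d) k) ^ c) ^ 8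
      rw [← pow_mul, X_pow_eq_monomial]
    · rintro ⟨s, ⟨j, hj, rfl⟩, rfl⟩
      refine ⟨⟨j, hj⟩, ?_⟩
      change ((X j : MvPolynomial (Fin d) k) ^ c) ^ 8 = monomial _ 1
      rw [← pow_mul, X_pow_eq_monomial]
  rw [hS] at hx ⊢
  have hy : y ∈ Ideal.span ((fun s => monomial s (1 : k)) '' S) := by
    refine mem_of_monomial_mul_mem S i ?_ (c * 2) y ?_
    · rintro s ⟨j, hj, rfl⟩
      rw [Finsupp.single_apply, if_neg]
      intro h
      rw [h] at hj
      exact lt_irrefl _ hj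
    · rw [← X_pow_eq_monomial, pow_mul]
      exact hx
  exact Ideal.mul_mem_left _ _ hy

end Poly

end Groth.Agent.H91.SepH
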