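import Mathlib
import Groth.Agent.H91.SepH
import Groth.Agent.S6822

/-!
# Phase 4 of the separable-residue-field resolution (Stacks 07F3): resolving over the
polynomial ring
-/

set_option autoImplicit false
universe u

open MvPolynomial Smoothing IsLocalRing

namespace Groth.Agent.H91.SepI

open Groth.Agent.H91.RegFlat Groth.Agent.H91.SepH

theorem ann_pow {Λ : Type*} [CommRing Λ] (I : Ideal Λ) (p : Λ)
    (h : ∀ y, p ^ 2 * y ∈ I → p * y ∈ I) (c : ℕ) (hc : 0 < c) (y : Λ)
    (hy : (p ^ c) ^ 2 * y ∈ I) : p ^ c * y ∈ I := by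
  have aux : ∀ m : ℕ, ∀ y, p ^ (m + 1) * y ∈ I → p * y ∈ I := by
    intro m
    induction m with
    | zero => intro y hy; rwa [zero_add, pow_one] at hy
    | succ m ih =>
      intro y hy
      apply ih
      have h1 : p ^ (m + 1 + 1) * y = p ^ 2 * (p ^ m * y) := by ring
      rw [h1] at hy
      have h2 := h _ hy
      have h3 : p * (p ^ m * y) = p ^ (m + 1) * y := by ring
      rwa [h3] at h2
  obtain ⟨c', rfl⟩ : ∃ c', c = c' + 1 := ⟨c - 1, by omega⟩
  have h1 : (p ^ (c' + 1)) ^ 2 * y = p ^ (2 * c' + 1 + 1) * y := by ring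
  rw [h1] at hy
  have h2 := aux _ _ hy
  have h3 : p ^ (c' + 1) * y = p ^ c' * (p * y) := by ring
  rw [h3]
  exact Ideal.mul_mem_left _ _ h2

theorem resolvable_poly {k Λ : Type u} [Field k] [CommRing Λ] [Algebra k Λ] [IsNoetherianRing Λ]
    (d : ℕ) (hd0 : 0 < d)
    [Algebra (MvPolynomial (Fin d) k) Λ] [IsScalarTower k (MvPolynomial (Fin d) k) Λ]
    (𝔮 : Ideal Λ) [𝔮.IsPrime] [IsRegularLocalRing (Localization.AtPrime 𝔮)]
    (hd : ringKrullDim (Localization.AtPrime 𝔮) = d)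
    [Algebra.FormallySmooth k (IsLocalRing.ResidueField (Localization.AtPrime 𝔮))]
    (c : ℕ) (hc : 0 < c) (π : Fin d → Λ)
    (hπ : ∀ i, algebraMap (MvPolynomial (Fin d) k) Λ (X i) = π i)
    (hgen : Ideal.span (Set.range fun i => algebraMap Λ (Localization.AtPrime 𝔮) (π i)) =
        𝔮.map (algebraMap Λ (Localization.AtPrime 𝔮)))
    (hann : ∀ i : Fin d, ∀ y : Λ, π i ^ 2 * y ∈ Groth.Agent.H91.RegPow.K d (c * 8) π i →
        π i * y ∈ Groth.Agent.H91.RegPow.K d (c * 8) π i)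
    {C : Type u} [CommRing C] [Algebra (MvPolynomial (Fin d) k) C]
    [Algebra.FinitePresentation (MvPolynomial (Fin d) k) C]
    (hstd : ∀ i : Fin d, IsStrictlyStandard (MvPolynomial (Fin d) k) C
      (algebraMap (MvPolynomial (Fin d) k) C (X i ^ c)))
    (φC : C →ₐ[MvPolynomial (Fin d) k] Λ) : Resolvable (MvPolynomial (Fin d) k) φC 𝔮 := by
  classical
  let x : Fin d → Localization.AtPrime 𝔮 := fun i => algebraMap Λ (Localization.AtPrime 𝔮) (π i)
  have hx : Ideal.span (Set.range x) = maximalIdeal (Localization.AtPrime 𝔮) :=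
    hgen.trans (IsLocalization.AtPrime.map_eq_maximalIdeal 𝔮 (Localization.AtPrime 𝔮))
  have hX : ∀ i, algebraMap (MvPolynomial (Fin d) k) (Localization.AtPrime 𝔮) (X i) = x i := by
    intro i
    rw [IsScalarTower.algebraMap_apply (MvPolynomial (Fin d) k) Λ (Localization.AtPrime 𝔮), hπ]
  haveI hflat : Module.Flat (MvPolynomial (Fin d) k) (Localization.AtPrime 𝔮) :=
    flat_mvPolynomial d hd x hx hX
  haveI hMmax : (Ij k d d).IsMaximal := Ij_top_isMaximal k d
  have hM : (Ij k d d).map (algebraMap (MvPolynomial (Fin d) k) (Localization.AtPrime 𝔮)) =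
      maximalIdeal (Localization.AtPrime 𝔮) := by
    rw [Ij_top_eq, Ideal.map_span, ← Set.range_comp, ← hx]
    congr 2
    funext i
    exact hX i
  have hπ𝔮 : ∀ i, π i ∈ 𝔮 := by
    intro i
    rw [← IsLocalization.AtPrime.to_map_mem_maximal_iff (Localization.AtPrime 𝔮) 𝔮, ← hx]
    exact Ideal.subset_span ⟨i, rfl⟩
  have hKle := Groth.Agent.H91.SepG.map_le (KK k d c) (Ij k d d) (KK_le k d c hc) 𝔮 hM
  haveI : Algebra.FinitePresentation (MvPolynomial (Fin d) k ⧸ KK k d c)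
      (C ⧸ (KK k d c).map (algebraMap (MvPolynomial (Fin d) k) C)) :=
    Groth.Agent.H91.ResStep.finitePresentation_of_isStrictlyStandard
      (Groth.Agent.H91.ResStep.isStrictlyStandard_mk (KK k d c) _ (hstd ⟨0, hd0⟩))
  haveI : (𝔮.map (Ideal.Quotient.mk ((KK k d c).map
      (algebraMap (MvPolynomial (Fin d) k) Λ)))).IsPrime :=
    Ideal.map_isPrime_of_surjective Ideal.Quotient.mk_surjective (by
      rw [Ideal.mk_ker]
      exact hKle)
  refine Groth.Agent.S6822.result φC 𝔮 hd0 (fun i => X i ^ c) ?_ ?_ ?_ hstd (KK k d c) rfl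
    (Groth.Agent.H91.ResStep.φQ φC (KK k d c)) (fun a => rfl) ?_
  · intro i
    rw [map_pow, hπ]
    exact Ideal.pow_mem_of_mem _ (hπ𝔮 i) _ hc
  · exact fun i x hx => hR k d c i x hx
  · intro i y hy
    obtain ⟨y, rfl⟩ := Ideal.Quotient.mk_surjective y
    have hK : Ideal.span (Set.range fun j : {j : Fin d // (j : ℕ) < (i : ℕ)} =>
        algebraMap (MvPolynomial (Fin d) k) Λ ((fun i => X i ^ c) (j : Fin d)) ^ 8) =
        Groth.Agent.H91.RegPow.K d (c * 8) π i := by
      unfold Groth.Agent.H91.RegPow.K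
      congr 2
      funext j
      change algebraMap (MvPolynomial (Fin d) k) Λ (X (j : Fin d) ^ c) ^ 8 = _
      rw [map_pow, hπ, ← pow_mul]
    rw [← map_pow, ← map_mul, Ideal.Quotient.eq_zero_iff_mem] at hy
    rw [← map_mul, Ideal.Quotient.eq_zero_iff_mem]
    change algebraMap (MvPolynomial (Fin d) k) Λ (X i ^ c) ^ 2 * y ∈ _ at hy
    change algebraMap (MvPolynomial (Fin d) k) Λ (X i ^ c) * y ∈ _
    rw [hK, map_pow, hπ] at hy ⊢
    exact ann_pow _ _ (hann i) c hc y hy
  · exact Groth.Agent.H91.SepG.main (KK k d c) (Ij k d d) (KK_le k d c hc) (Ij_le_radical k d c)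
      (surjective_algebraMap_Ij k d) 𝔮 hM _

end Groth.Agent.H91.SepI
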