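import Mathlib
import Groth.Agent.S6822
import Groth.Agent.H91.SepG
import Groth.Agent.H91.SepI
import Groth.Agent.H91.PopI
import Groth.Agent.H91.PopG

/-!
# The lifting step: resolving `R' → C' → Λ ⊇ 𝔮` from a smooth factorization of the reduced local
problem
-/

set_option autoImplicit false
set_option linter.style.haveILetI false
universe u

open Smoothing IsLocalRing

namespace Groth.Agent.H91.Pop

open Groth.Agent.H91.RegPow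

section Step

variable {R' Λ : Type u} [CommRing R'] [IsNoetherianRing R'] [CommRing Λ] [Algebra R' Λ]
  (Kp : Ideal R')
  (𝔮 : Ideal Λ) [h𝔮 : 𝔮.IsPrime]

local notation "Sq" => Localization.AtPrime 𝔮
local notation "Jq" =>
  Ideal.map (algebraMap Λ (Localization.AtPrime 𝔮)) (Ideal.map (algebraMap R' Λ) Kp)
local notation "Λ₁" => Λ ⧸ Kp.map (algebraMap R' Λ)

attribute [local instance] Groth.Agent.H91.SepG.algQ

/-- the image of `𝔮` in `Λ ⧸ Kp Λ` -/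
abbrev qOne : Ideal (Λ ⧸ Kp.map (algebraMap R' Λ)) :=
  𝔮.map (Ideal.Quotient.mk (Kp.map (algebraMap R' Λ)))

theorem isPrime_map_mk (hle : Kp.map (algebraMap R' Λ) ≤ 𝔮) : (qOne Kp 𝔮).IsPrime :=
  Ideal.map_isPrime_of_surjective Ideal.Quotient.mk_surjective (by
    rw [Ideal.mk_ker]
    exact hle)

/-- the contraction of `𝔮` to `R' ⧸ Kp` -/
abbrev pTilde : Ideal (R' ⧸ Kp) := (qOne Kp 𝔮).comap (algebraMap (R' ⧸ Kp) Λ₁)

theorem isLocalization_Sq_Jq (hle : Kp.map (algebraMap R' Λ) ≤ 𝔮) [(qOne Kp 𝔮).IsPrime] :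
    IsLocalization.AtPrime (Sq ⧸ Jq) (qOne Kp 𝔮) :=
  Groth.Agent.H47.CMSlice.isLocalization_atPrime_quotient (Kp.map (algebraMap R' Λ)) Sq 𝔮 hle

theorem isUnit_algebraMap_of_notMem (hle : Kp.map (algebraMap R' Λ) ≤ 𝔮) [(qOne Kp 𝔮).IsPrime]
    (y : (pTilde Kp 𝔮).primeCompl) :
    IsUnit (algebraMap (R' ⧸ Kp) (Sq ⧸ Jq) (y : R' ⧸ Kp)) := by
  haveI := isLocalization_Sq_Jq Kp 𝔮 hle
  haveI := Groth.Agent.H91.SepG.towerQ Kp 𝔮
  rw [IsScalarTower.algebraMap_apply (R' ⧸ Kp) Λ₁ (Sq ⧸ Jq)]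
  exact IsLocalization.map_units (Sq ⧸ Jq)
    (⟨algebraMap (R' ⧸ Kp) Λ₁ (y : R' ⧸ Kp), y.2⟩ : (qOne Kp 𝔮).primeCompl)

/-- the algebra structure of `Sq ⧸ Jq` over the localization of `R' ⧸ Kp` -/
@[instance_reducible] noncomputable def algRp (hle : Kp.map (algebraMap R' Λ) ≤ 𝔮) [(qOne Kp 𝔮).IsPrime] :
    Algebra (Localization.AtPrime (pTilde Kp 𝔮)) (Sq ⧸ Jq) :=
  (IsLocalization.lift (M := (pTilde Kp 𝔮).primeCompl) (g := algebraMap (R' ⧸ Kp) (Sq ⧸ Jq))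
    (isUnit_algebraMap_of_notMem Kp 𝔮 hle)).toAlgebra

theorem towerRp (hle : Kp.map (algebraMap R' Λ) ≤ 𝔮) [(qOne Kp 𝔮).IsPrime] :
    letI := algRp Kp 𝔮 hle
    IsScalarTower (R' ⧸ Kp) (Localization.AtPrime (pTilde Kp 𝔮)) (Sq ⧸ Jq) := by
  letI := algRp Kp 𝔮 hle
  refine IsScalarTower.of_algebraMap_eq fun x => ?_
  exact (IsLocalization.lift_eq (M := (pTilde Kp 𝔮).primeCompl)
    (isUnit_algebraMap_of_notMem Kp 𝔮 hle) x).symm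

end Step

section Main

variable {R' C' Λ : Type u} [CommRing R'] [IsNoetherianRing R'] [CommRing C'] [Algebra R' C']
  [Algebra.FinitePresentation R' C'] [CommRing Λ] [Algebra R' Λ]
  (φ' : C' →ₐ[R'] Λ) (𝔮 : Ideal Λ) [𝔮.IsPrime]

local notation "Sq" => Localization.AtPrime 𝔮

attribute [local instance] Groth.Agent.H91.SepG.algQ

theorem step {r : ℕ} (hr : 0 < r) (ϖ : Fin r → R')
    (hϖ𝔮 : ∀ i, algebraMap R' Λ (ϖ i) ∈ 𝔮)
    (hR : ∀ i : Fin r, ∀ y : R', ϖ i ^ 2 * y ∈ K r 8 ϖ i → ϖ i * y ∈ K r 8 ϖ i)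
    (hΛ : ∀ i : Fin r, ∀ y : Λ,
      algebraMap R' Λ (ϖ i) ^ 2 * y ∈ K r 8 (fun j => algebraMap R' Λ (ϖ j)) i →
        algebraMap R' Λ (ϖ i) * y ∈ K r 8 (fun j => algebraMap R' Λ (ϖ j)) i)
    (hstd : ∀ i, IsStrictlyStandard R' C' (algebraMap R' C' (ϖ i)))
    (Kp : Ideal R') (hKp : Kp = Ideal.span (Set.range fun i => ϖ i ^ 8))
    [h𝔮₁ : (𝔮.map (Ideal.Quotient.mk (Kp.map (algebraMap R' Λ)))).IsPrime]
    (hdim : ringKrullDim (Sq ⧸ Ideal.map (algebraMap Λ Sq) (Ideal.map (algebraMap R' Λ) Kp)) = 0)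
    (Rₚ : Type u) [CommRing Rₚ] [Algebra (R' ⧸ Kp) Rₚ]
    [IsLocalization.AtPrime Rₚ (pTilde Kp 𝔮)]
    [Algebra Rₚ (Sq ⧸ Ideal.map (algebraMap Λ Sq) (Ideal.map (algebraMap R' Λ) Kp))]
    [IsScalarTower (R' ⧸ Kp) Rₚ
      (Sq ⧸ Ideal.map (algebraMap Λ Sq) (Ideal.map (algebraMap R' Λ) Kp))]
    (B : Type u) [CommRing B] [Algebra Rₚ B] [Algebra.Smooth Rₚ B] [Algebra (R' ⧸ Kp) B]
    [IsScalarTower (R' ⧸ Kp) Rₚ B]
    (g₀ : (C' ⧸ Kp.map (algebraMap R' C')) →ₐ[R' ⧸ Kp] B)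
    (h : B →ₐ[Rₚ] (Sq ⧸ Ideal.map (algebraMap Λ Sq) (Ideal.map (algebraMap R' Λ) Kp)))
    (hgh : ∀ c : C', h (g₀ (Ideal.Quotient.mk _ c)) =
      Ideal.Quotient.mk _ (algebraMap Λ Sq (φ' c))) :
    Resolvable R' φ' 𝔮 := by
  classical
  have hle : Kp.map (algebraMap R' Λ) ≤ 𝔮 := by
    rw [hKp, Ideal.map_span, Ideal.span_le]
    rintro _ ⟨_, ⟨i, rfl⟩, rfl⟩
    rw [map_pow]
    exact Ideal.pow_mem_of_mem _ (hϖ𝔮 i) 8 (by norm_num)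
  haveI : Algebra.FinitePresentation (R' ⧸ Kp) (C' ⧸ Kp.map (algebraMap R' C')) :=
    Groth.Agent.H91.ResStep.finitePresentation_of_isStrictlyStandard
      (Groth.Agent.H91.ResStep.isStrictlyStandard_mk Kp _ (hstd ⟨0, hr⟩))
  haveI := isLocalization_Sq_Jq Kp 𝔮 hle
  haveI := Groth.Agent.H91.SepG.towerQ Kp 𝔮
  refine Groth.Agent.S6822.result φ' 𝔮 hr ϖ hϖ𝔮 ?_ ?_ hstd Kp hKp
    (Groth.Agent.H91.ResStep.φQ φ' Kp) (fun a => rfl) ?_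
  · intro i x hx
    obtain ⟨y, rfl⟩ := Ideal.Quotient.mk_surjective x
    rw [← map_pow, ← map_mul, Ideal.Quotient.eq_zero_iff_mem] at hx
    rw [← map_mul, Ideal.Quotient.eq_zero_iff_mem]
    exact hR i y hx
  · intro i x hx
    obtain ⟨y, rfl⟩ := Ideal.Quotient.mk_surjective x
    rw [← map_pow, ← map_mul, Ideal.Quotient.eq_zero_iff_mem] at hx
    rw [← map_mul, Ideal.Quotient.eq_zero_iff_mem]
    exact hΛ i y hx
  · refine resolvable_of_smooth_factor (Rₚ := Rₚ)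
      (Λq := Sq ⧸ Ideal.map (algebraMap Λ Sq) (Ideal.map (algebraMap R' Λ) Kp))
      (Groth.Agent.H91.ResStep.φQ φ' Kp) _ hdim B g₀ h ?_
    intro c
    obtain ⟨c, rfl⟩ := Ideal.Quotient.mk_surjective c
    rw [hgh c]
    rfl

end Main

end Groth.Agent.H91.Pop
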