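import Mathlib
import Groth.Prelude.Def_Smoothing
import Groth.Agent.H91.PopJ
import Groth.Agent.H91.PopR
import Groth.Agent.H91.StdBC

/-!
# The lifting step for a base-changed phase-one algebra
-/

set_option autoImplicit false
set_option linter.style.haveILetI false
universe u

open TensorProduct MvPolynomial Smoothing

namespace Groth.Agent.H91.Pop

open Groth.Agent.H91.SepB Groth.Agent.H91.RegPow

section LiftStep

variable {k A Λ : Type u} [Field k] [CommRing A] [Algebra k A] [CommRing Λ] [Algebra k Λ]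
  (φ : A →ₐ[k] Λ) (𝔮 : Ideal Λ) [𝔮.IsPrime]
  {d n r : ℕ} (a : Fin r → A)
  {C₀ : Type u} [CommRing C₀] [Algebra (MvPolynomial (Fin d) k) C₀] [Algebra k C₀]
  [IsScalarTower k (MvPolynomial (Fin d) k) C₀]
  [Algebra.FinitePresentation (MvPolynomial (Fin d) k) C₀]
  (ι : A →ₐ[k] C₀)
  {R' : Type u} [CommRing R'] [IsNoetherianRing R'] [Algebra k R']
  [Algebra (MvPolynomial (Fin d) k) R'] [IsScalarTower k (MvPolynomial (Fin d) k) R']
  [Algebra R' Λ] [IsScalarTower k R' Λ] [Algebra (MvPolynomial (Fin d) k) Λ]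
  [IsScalarTower (MvPolynomial (Fin d) k) R' Λ]

local notation "R₀" => MvPolynomial (Fin d) k
local notation "Sq" => Localization.AtPrime 𝔮

attribute [local instance] Groth.Agent.H91.SepG.algQ

theorem lift_step (hd : 0 < d) (c : ℕ)
    (hstd : ∀ i : Fin d, IsStrictlyStandard R₀ C₀ (algebraMap R₀ C₀ (X i ^ c)))
    (hP : ∀ (Λ' : Type u) [CommRing Λ'] [Algebra k Λ'] [Algebra R₀ Λ'] [IsScalarTower k R₀ Λ']
      (φ' : A →ₐ[k] Λ') (lam : Fin d → Fin r → Λ'),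
      (∀ i, algebraMap R₀ Λ' (X i) ^ n = ∑ j, lam i j * φ' (a j)) →
      ∃ φC : C₀ →ₐ[R₀] Λ', ∀ y, φC (ι y) = φ' y)
    (ϖ : Fin d → R') (hϖ : ∀ i, ϖ i = algebraMap R₀ R' (X i ^ c))
    (hϖ𝔮 : ∀ i, algebraMap R' Λ (ϖ i) ∈ 𝔮)
    (hR : ∀ i : Fin d, ∀ y : R', ϖ i ^ 2 * y ∈ K d 8 ϖ i → ϖ i * y ∈ K d 8 ϖ i)
    (hΛ : ∀ i : Fin d, ∀ y : Λ,
      algebraMap R' Λ (ϖ i) ^ 2 * y ∈ K d 8 (fun j => algebraMap R' Λ (ϖ j)) i →
        algebraMap R' Λ (ϖ i) * y ∈ K d 8 (fun j => algebraMap R' Λ (ϖ j)) i)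
    (Kp : Ideal R') (hKp : Kp = Ideal.span (Set.range fun i => ϖ i ^ 8))
    [h𝔮₁ : (𝔮.map (Ideal.Quotient.mk (Kp.map (algebraMap R' Λ)))).IsPrime]
    (hdim : ringKrullDim (Sq ⧸ Ideal.map (algebraMap Λ Sq) (Ideal.map (algebraMap R' Λ) Kp)) = 0)
    (Rₚ : Type u) [CommRing Rₚ] [Algebra (R' ⧸ Kp) Rₚ]
    [IsLocalization.AtPrime Rₚ (pTilde Kp 𝔮)]
    [Algebra Rₚ (Sq ⧸ Ideal.map (algebraMap Λ Sq) (Ideal.map (algebraMap R' Λ) Kp))]
    [IsScalarTower (R' ⧸ Kp) Rₚ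
      (Sq ⧸ Ideal.map (algebraMap Λ Sq) (Ideal.map (algebraMap R' Λ) Kp))]
    (B : Type u) [CommRing B] [Algebra Rₚ B] [Algebra.Smooth Rₚ B]
    (αB : A →+* B)
    (hαk : ∀ s : k, αB (algebraMap k A s) =
      algebraMap Rₚ B (algebraMap (R' ⧸ Kp) Rₚ (Ideal.Quotient.mk Kp (algebraMap k R' s))))
    (β : Fin d → Fin r → B)
    (hβ : ∀ i, algebraMap Rₚ B (algebraMap (R' ⧸ Kp) Rₚ
      (Ideal.Quotient.mk Kp (algebraMap R₀ R' (X i)))) ^ n = ∑ j, β i j * αB (a j))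
    (hB : B →ₐ[Rₚ] (Sq ⧸ Ideal.map (algebraMap Λ Sq) (Ideal.map (algebraMap R' Λ) Kp)))
    (hBα : ∀ y, hB (αB y) = Ideal.Quotient.mk _ (algebraMap Λ Sq (φ y)))
    (lam : Fin d → Fin r → Λ)
    (hlam : ∀ i, algebraMap R₀ Λ (X i) ^ n = ∑ j, lam i j * φ (a j))
    (hBβ : ∀ i j, hB (β i j) = Ideal.Quotient.mk _ (algebraMap Λ Sq (lam i j))) :
    ∃ φ' : (R' ⊗[R₀] C₀) →ₐ[R'] Λ, (∀ y, φ' ((1 : R') ⊗ₜ[R₀] ι y) = φ y) ∧
      Resolvable R' φ' 𝔮 := by
  classical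
  -- the algebra structures of `B`
  letI aQB : Algebra (R' ⧸ Kp) B :=
    ((algebraMap Rₚ B).comp (algebraMap (R' ⧸ Kp) Rₚ)).toAlgebra
  haveI tQB : IsScalarTower (R' ⧸ Kp) Rₚ B := IsScalarTower.of_algebraMap_eq fun _ => rfl
  letI aRB : Algebra R' B := ((algebraMap (R' ⧸ Kp) B).comp (Ideal.Quotient.mk Kp)).toAlgebra
  haveI tRB : IsScalarTower R' (R' ⧸ Kp) B := IsScalarTower.of_algebraMap_eq fun _ => rfl
  letI a0B : Algebra R₀ B := ((algebraMap R' B).comp (algebraMap R₀ R')).toAlgebra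
  haveI t0B : IsScalarTower R₀ R' B := IsScalarTower.of_algebraMap_eq fun _ => rfl
  letI akB : Algebra k B := ((algebraMap R₀ B).comp (algebraMap k R₀)).toAlgebra
  haveI tkB : IsScalarTower k R₀ B := IsScalarTower.of_algebraMap_eq fun _ => rfl
  haveI tk0Λ : IsScalarTower k R₀ Λ := IsScalarTower.of_algebraMap_eq fun s => by
    rw [IsScalarTower.algebraMap_apply R₀ R' Λ, ← IsScalarTower.algebraMap_apply k R₀ R',
      ← IsScalarTower.algebraMap_apply k R' Λ]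
  haveI tQ1 := Groth.Agent.H91.SepG.towerQ Kp 𝔮
  haveI tQ2 := Groth.Agent.H91.SepG.towerRQ Kp 𝔮
  -- linearity of `hB` over `R'`
  have hBR' : ∀ x : R', hB (algebraMap R' B x) =
      Ideal.Quotient.mk _ (algebraMap Λ Sq (algebraMap R' Λ x)) := by
    intro x
    change hB (algebraMap Rₚ B (algebraMap (R' ⧸ Kp) Rₚ (Ideal.Quotient.mk Kp x))) = _
    rw [hB.commutes, ← IsScalarTower.algebraMap_apply (R' ⧸ Kp) Rₚ
      (Sq ⧸ Ideal.map (algebraMap Λ Sq) (Ideal.map (algebraMap R' Λ) Kp)),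
      Groth.Agent.H91.SepG.algebraMapQ_mk, IsScalarTower.algebraMap_apply R' Λ Sq]
  have hBR₀ : ∀ x : R₀, hB (algebraMap R₀ B x) =
      Ideal.Quotient.mk _ (algebraMap Λ Sq (algebraMap R₀ Λ x)) := by
    intro x
    change hB (algebraMap R' B (algebraMap R₀ R' x)) = _
    rw [hBR', ← IsScalarTower.algebraMap_apply R₀ R' Λ]
  -- `αB` as an algebra map
  let αBk : A →ₐ[k] B :=
    { αB with
      commutes' := fun s => by
        change αB (algebraMap k A s) = algebraMap Rₚ B (algebraMap (R' ⧸ Kp) Rₚ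
          (Ideal.Quotient.mk Kp (algebraMap R₀ R' (algebraMap k R₀ s))))
        rw [hαk, ← IsScalarTower.algebraMap_apply k R₀ R'] }
  have hαBk : ∀ y, αBk y = αB y := fun y => rfl
  -- the retraction onto the universal algebra
  let T := R₀ ⊗[k] A
  let tt : Fin r → T := fun j => (1 : R₀) ⊗ₜ[k] a j
  let xx : Fin d → R₀ := fun i => X i
  let ψ₀ : A →ₐ[k] BBq R₀ T d r n xx tt :=
    (IsScalarTower.toAlgHom k T (BBq R₀ T d r n xx tt)).comp Algebra.TensorProduct.includeRight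
  obtain ⟨ρ, hρ⟩ := hP (BBq R₀ T d r n xx tt) ψ₀
    (fun i j => Ideal.Quotient.mk _ (zz T d r i j))
    (fun i => algebraMap_x_pow (R := R₀) (T := T) (d := d) (r := r) (n := n) (x := xx) (t := tt) i)
  -- the two maps out of the universal algebra
  let ψΛ : T →ₐ[R₀] Λ := Algebra.TensorProduct.lift (Algebra.ofId R₀ Λ) φ (fun _ _ => Commute.all _ _)
  have hψΛ : ∀ (x : R₀) (y : A), ψΛ (x ⊗ₜ[k] y) = algebraMap R₀ Λ x * φ y := fun x y => by
    rw [Algebra.TensorProduct.lift_tmul]; rfl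
  have hlamΛ : ∀ i, algebraMap R₀ Λ (xx i) ^ n = ∑ j, lam i j * ψΛ (tt j) := by
    intro i
    rw [hlam i]
    refine Finset.sum_congr rfl fun j _ => ?_
    rw [hψΛ, map_one, one_mul]
  let ψB : T →ₐ[R₀] B := Algebra.TensorProduct.lift (Algebra.ofId R₀ B) αBk (fun _ _ => Commute.all _ _)
  have hψB : ∀ (x : R₀) (y : A), ψB (x ⊗ₜ[k] y) = algebraMap R₀ B x * αB y := fun x y => by
    rw [Algebra.TensorProduct.lift_tmul]; rfl
  have hβB : ∀ i, algebraMap R₀ B (xx i) ^ n = ∑ j, β i j * ψB (tt j) := by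
    intro i
    have h1 : algebraMap R₀ B (xx i) = algebraMap Rₚ B (algebraMap (R' ⧸ Kp) Rₚ
      (Ideal.Quotient.mk Kp (algebraMap R₀ R' (X i)))) := rfl
    rw [h1, hβ i]
    refine Finset.sum_congr rfl fun j _ => ?_
    rw [hψB, map_one, one_mul]
  let ΦΛ : C₀ →ₐ[R₀] Λ := (φB ψΛ lam hlamΛ).comp ρ
  let ΦB : C₀ →ₐ[R₀] B := (φB ψB β hβB).comp ρ
  have hΦΛι : ∀ y, ΦΛ (ι y) = φ y := by
    intro y
    change φB ψΛ lam hlamΛ (ρ (ι y)) = _
    rw [hρ]
    change φB ψΛ lam hlamΛ (algebraMap T _ ((1 : R₀) ⊗ₜ[k] y)) = _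
    rw [φB_algebraMap, hψΛ, map_one, one_mul]
  -- compatibility
  have hcompat : ∀ b, hB (φB ψB β hβB b) =
      Ideal.Quotient.mk _ (algebraMap Λ Sq (φB ψΛ lam hlamΛ b)) := by
    have h1 : (hB : B →+* _).comp (φB ψB β hβB : BBq R₀ T d r n xx tt →+* B) =
        ((Ideal.Quotient.mk (Ideal.map (algebraMap Λ Sq) (Ideal.map (algebraMap R' Λ) Kp))).comp
          (algebraMap Λ Sq)).comp (φB ψΛ lam hlamΛ : BBq R₀ T d r n xx tt →+* Λ) := by
      apply BB_ringHom_ext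
      · intro y
        simp only [RingHom.comp_apply, RingHom.coe_coe, φB_algebraMap]
        induction y using TensorProduct.induction_on with
        | zero => simp only [map_zero]
        | add y z hy hz => simp only [map_add, hy, hz]
        | tmul x y =>
          rw [hψB, hψΛ, map_mul, map_mul, map_mul, hBR₀, hBα]
      · intro i j
        simp only [RingHom.comp_apply, RingHom.coe_coe, φB_zz]
        exact hBβ i j
    intro b
    exact RingHom.congr_fun h1 b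
  -- the maps out of the base change
  let φ' : (R' ⊗[R₀] C₀) →ₐ[R'] Λ :=
    Algebra.TensorProduct.lift (Algebra.ofId R' Λ) ΦΛ (fun _ _ => Commute.all _ _)
  have hφ' : ∀ (x : R') (z : C₀), φ' (x ⊗ₜ[R₀] z) = algebraMap R' Λ x * ΦΛ z := fun x z => by
    rw [Algebra.TensorProduct.lift_tmul]; rfl
  let g' : (R' ⊗[R₀] C₀) →ₐ[R'] B :=
    Algebra.TensorProduct.lift (Algebra.ofId R' B) ΦB (fun _ _ => Commute.all _ _)
  have hg' : ∀ (x : R') (z : C₀), g' (x ⊗ₜ[R₀] z) = algebraMap R' B x * ΦB z := fun x z => by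
    rw [Algebra.TensorProduct.lift_tmul]; rfl
  have hg'K : ∀ z ∈ Kp.map (algebraMap R' (R' ⊗[R₀] C₀)), (g' : (R' ⊗[R₀] C₀) →+* B) z = 0 := by
    intro z hz
    have h1 : Kp.map (algebraMap R' (R' ⊗[R₀] C₀)) ≤ RingHom.ker (g' : (R' ⊗[R₀] C₀) →+* B) := by
      rw [Ideal.map_le_iff_le_comap]
      intro x hx
      rw [Ideal.mem_comap, RingHom.mem_ker]
      change g' (algebraMap R' _ x) = 0
      rw [g'.commutes]
      change algebraMap (R' ⧸ Kp) B (Ideal.Quotient.mk Kp x) = 0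
      rw [Ideal.Quotient.eq_zero_iff_mem.mpr hx, map_zero]
    exact h1 hz
  let g₀ : ((R' ⊗[R₀] C₀) ⧸ Kp.map (algebraMap R' (R' ⊗[R₀] C₀))) →ₐ[R' ⧸ Kp] B :=
    { Ideal.Quotient.lift _ (g' : (R' ⊗[R₀] C₀) →+* B) hg'K with
      commutes' := by
        intro x
        obtain ⟨x, rfl⟩ := Ideal.Quotient.mk_surjective x
        change Ideal.Quotient.lift _ (g' : (R' ⊗[R₀] C₀) →+* B) hg'K
          (Ideal.Quotient.mk _ (algebraMap R' (R' ⊗[R₀] C₀) x)) = _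
        rw [Ideal.Quotient.lift_mk]
        change g' (algebraMap R' _ x) = _
        rw [g'.commutes]
        rfl }
  have hg₀ : ∀ z, g₀ (Ideal.Quotient.mk _ z) = g' z := fun z => rfl
  have hgh : ∀ z : R' ⊗[R₀] C₀, hB (g₀ (Ideal.Quotient.mk _ z)) =
      Ideal.Quotient.mk _ (algebraMap Λ Sq (φ' z)) := by
    intro z
    rw [hg₀]
    induction z using TensorProduct.induction_on with
    | zero => simp only [map_zero]
    | add y z hy hz => simp only [map_add, hy, hz]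
    | tmul x z =>
      rw [hg', hφ', map_mul, map_mul, map_mul, hBR']
      congr 1
      exact hcompat (ρ z)
  -- strict standardness
  have hstd' : ∀ i, IsStrictlyStandard R' (R' ⊗[R₀] C₀) (algebraMap R' (R' ⊗[R₀] C₀) (ϖ i)) := by
    intro i
    have h1 := Groth.Agent.H91.StdBC.isStrictlyStandard_baseChange R' _ (hstd i)
    have h2 : algebraMap R' (R' ⊗[R₀] C₀) (ϖ i) =
        (1 : R') ⊗ₜ[R₀] (algebraMap R₀ C₀ (X i ^ c)) := by
      rw [Algebra.TensorProduct.algebraMap_apply, hϖ, Algebra.algebraMap_self_apply,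
        Algebra.algebraMap_eq_smul_one (R := R₀) (A := C₀), TensorProduct.tmul_smul,
        TensorProduct.smul_tmul', Algebra.smul_def, mul_one]
    rw [h2]
    exact h1
  haveI : Algebra.FinitePresentation R' (R' ⊗[R₀] C₀) := inferInstance
  refine ⟨φ', fun y => ?_, ?_⟩
  · rw [hφ', map_one, one_mul, hΦΛι]
  · exact step φ' 𝔮 hd ϖ hϖ𝔮 hR hΛ hstd' Kp hKp hdim Rₚ B g₀ hB hgh

end LiftStep

end Groth.Agent.H91.Pop
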