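import Mathlib

/-!
# Small lemmas for the assembly of the inseparable case
-/

set_option autoImplicit false
set_option linter.style.haveILetI false
universe u

open IsLocalRing

namespace Groth.Agent.H91.Pop

/-- pigeonhole: a high power of a finitely generated ideal lies in the ideal of powers of the
generators -/
theorem span_pow_le_span_pow {A : Type*} [CommRing A] (E : ℕ) : ∀ (d : ℕ) (x : Fin d → A),
    Ideal.span (Set.range x) ^ (d * E + 1) ≤ Ideal.span (Set.range fun i => x i ^ E) := by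
  intro d
  induction d with
  | zero =>
    intro x
    rw [Set.range_eq_empty, Ideal.span_empty, zero_mul, zero_add, pow_one]
    exact bot_le
  | succ d ih =>
    intro x
    have hx : x = Fin.cons (x 0) (Fin.tail x) := (Fin.cons_self_tail x).symm
    have h1 : Set.range x = insert (x 0) (Set.range (Fin.tail x)) := by
      conv_lhs => rw [hx]
      rw [Fin.range_cons]
    have h2 : (d + 1) * E + 1 = E + (d * E + 1) := by ring
    rw [h1, Ideal.span_insert, h2]
    refine Ideal.sup_pow_add_le_pow_sup_pow.trans (sup_le ?_ ?_)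
    · rw [Ideal.span_singleton_pow, Ideal.span_le, Set.singleton_subset_iff]
      exact Ideal.subset_span ⟨0, rfl⟩
    · refine (ih (Fin.tail x)).trans ?_
      rw [Ideal.span_le]
      rintro _ ⟨i, rfl⟩
      exact Ideal.subset_span ⟨i.succ, rfl⟩

/-- the exponents `b_0 = 1`, `b_{i+1} = b_i * E + 1` -/
def bseq (E : ℕ) : ℕ → ℕ
  | 0 => 1
  | i + 1 => bseq E i * E + 1

theorem bseq_pos (E : ℕ) (i : ℕ) : 0 < bseq E i := by
  cases i with
  | zero => exact Nat.one_pos
  | succ i => exact Nat.succ_pos _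

theorem bseq_mono (E : ℕ) (hE : 0 < E) {i j : ℕ} (h : i ≤ j) : bseq E i ≤ bseq E j := by
  induction h with
  | refl => exact le_rfl
  | step _ ih =>
    refine ih.trans ?_
    change _ ≤ bseq E _ * E + 1
    nlinarith [bseq_pos E ‹ℕ›]

theorem bseq_step (E : ℕ) (hE : 0 < E) {i j : ℕ} (h : j < i) : bseq E j * E + 1 ≤ bseq E i := by
  have h1 : bseq E (j + 1) ≤ bseq E i := bseq_mono E hE h
  exact h1

/-- lifting the coefficients of the relations `p_i^n = ∑ ζ_ij f_j` exactly, and clearing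
denominators -/
theorem exists_lam {Λ S : Type u} [CommRing Λ] (𝔮 : Ideal Λ) [𝔮.IsPrime] [CommRing S]
    [Algebra Λ S] [IsLocalization.AtPrime S 𝔮] [IsLocalRing S]
    {r d : ℕ} (f : Fin r → Λ) (p : Fin d → Λ) (n M : ℕ) (JS : Ideal S)
    (hM : maximalIdeal S ^ M ≤ JS)
    (hn : maximalIdeal S ^ n ≤ Ideal.span (Set.range fun j => algebraMap Λ S (f j)))
    (ζ' : Fin d → Fin r → S)
    (hζ' : ∀ i, algebraMap Λ S (p i) ^ n - ∑ j, ζ' i j * algebraMap Λ S (f j) ∈
      maximalIdeal S ^ (M + n)) :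
    ∃ l₂ ∈ 𝔮.primeCompl, ∃ lam' : Fin d → Fin r → Λ,
      (∀ i, l₂ * p i ^ n = ∑ j, lam' i j * f j) ∧
      ∀ i j, algebraMap Λ S (lam' i j) - algebraMap Λ S l₂ * ζ' i j ∈ JS := by
  classical
  -- the corrections
  have hε : ∀ i, ∃ ε : Fin r → S, (∀ j, ε j ∈ maximalIdeal S ^ M) ∧
      algebraMap Λ S (p i) ^ n - ∑ j, ζ' i j * algebraMap Λ S (f j) =
        ∑ j, ε j * algebraMap Λ S (f j) := by
    intro i
    have h1 : maximalIdeal S ^ (M + n) ≤
        maximalIdeal S ^ M • Ideal.span (Set.range fun j => algebraMap Λ S (f j)) := by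
      rw [pow_add, smul_eq_mul]
      exact Ideal.mul_mono_right hn
    have h2 := h1 (hζ' i)
    rw [Submodule.mem_ideal_smul_span_iff_exists_sum] at h2
    obtain ⟨c, hc, hsum⟩ := h2
    refine ⟨fun j => c j, hc, ?_⟩
    rw [← hsum, Finsupp.sum_fintype _ _ (fun j => by rw [zero_smul])]
    rfl
  choose ε hεM hεsum using hε
  let ζ : Fin d → Fin r → S := fun i j => ζ' i j + ε i j
  have hζ : ∀ i, algebraMap Λ S (p i) ^ n = ∑ j, ζ i j * algebraMap Λ S (f j) := by
    intro i
    have h1 : ∑ j, ζ i j * algebraMap Λ S (f j) =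
        ∑ j, ζ' i j * algebraMap Λ S (f j) + ∑ j, ε i j * algebraMap Λ S (f j) := by
      rw [← Finset.sum_add_distrib]
      refine Finset.sum_congr rfl fun j _ => ?_
      simp only [ζ]
      ring
    rw [h1, ← hεsum i]
    ring
  -- a common denominator
  obtain ⟨b, hb⟩ := IsLocalization.exist_integer_multiples_of_finite 𝔮.primeCompl
    (fun ij : Fin d × Fin r => ζ ij.1 ij.2)
  choose lam0 hlam0 using hb
  have hlam0' : ∀ i j, algebraMap Λ S (lam0 (i, j)) = algebraMap Λ S (b : Λ) * ζ i j := by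
    intro i j
    rw [hlam0 (i, j), Algebra.smul_def]
  -- the relations hold after multiplying by an element outside `𝔮`
  have hc : ∀ i, ∃ c : 𝔮.primeCompl,
      (c : Λ) * ((b : Λ) * p i ^ n - ∑ j, lam0 (i, j) * f j) = 0 := by
    intro i
    apply (IsLocalization.map_eq_zero_iff 𝔮.primeCompl S _).mp
    rw [map_sub, map_mul, map_pow, map_sum, hζ i, Finset.mul_sum, sub_eq_zero]
    refine Finset.sum_congr rfl fun j _ => ?_
    rw [map_mul, hlam0']
    ring
  choose c hc using hc
  let ν : Λ := ∏ i, (c i : Λ)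
  have hν : ν ∈ 𝔮.primeCompl := Submonoid.prod_mem _ fun i _ => (c i).2
  refine ⟨ν * (b : Λ), Submonoid.mul_mem _ hν b.2, fun i j => ν * lam0 (i, j), ?_, ?_⟩
  · intro i
    have h1 : ν * ((b : Λ) * p i ^ n - ∑ j, lam0 (i, j) * f j) = 0 := by
      have h2 : (c i : Λ) ∣ ν := Finset.dvd_prod_of_mem _ (Finset.mem_univ i)
      obtain ⟨ν', hν'⟩ := h2
      rw [hν', mul_comm (c i : Λ) ν', mul_assoc, hc i, mul_zero]
    have h3 : ν * (b : Λ) * p i ^ n - ∑ j, ν * lam0 (i, j) * f j =
        ν * ((b : Λ) * p i ^ n - ∑ j, lam0 (i, j) * f j) := by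
      rw [mul_sub, Finset.mul_sum]
      congr 1
      · ring
      · refine Finset.sum_congr rfl fun j _ => ?_
        ring
    rw [← sub_eq_zero, h3, h1]
  · intro i j
    have h1 : algebraMap Λ S (ν * lam0 (i, j)) - algebraMap Λ S (ν * (b : Λ)) * ζ' i j =
        algebraMap Λ S ν * algebraMap Λ S (b : Λ) * ε i j := by
      rw [map_mul, map_mul, hlam0']
      simp only [ζ]
      ring
    rw [h1]
    exact hM (Ideal.mul_mem_left _ _ (hεM i j))

end Groth.Agent.H91.Pop
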