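import Mathlib
import Groth.Agent.H91.PopQ

/-!
# The image of the localized polynomial ring lies in the Artinian subalgebra; coefficients in it
-/

set_option autoImplicit false
set_option linter.style.haveILetI false
universe u

open IsLocalRing

namespace Groth.Agent.H91.Pop

section LocD

variable {k : Type u} [Field k] {Λ : Type u} [CommRing Λ] [Algebra k Λ] (𝔮 : Ideal Λ) [𝔮.IsPrime]
  (S : Type u) [CommRing S] [IsLocalRing S] [Algebra k S] [Algebra Λ S] [IsScalarTower k Λ S]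
  [IsLocalization.AtPrime S 𝔮] (N : ℕ)
  (D : Subalgebra k (S ⧸ maximalIdeal S ^ N)) [IsLocalRing D]
  [IsLocalHom (algebraMap D (S ⧸ maximalIdeal S ^ N))]
  {R : Type u} [CommRing R] [Algebra k R] (φR : R →ₐ[k] Λ)

theorem mem_D_of_localization (P : Type u) [CommRing P] [Algebra R P] (𝔭 : Ideal R) [𝔭.IsPrime]
    [IsLocalization.AtPrime P 𝔭] (h𝔭 : 𝔭 = 𝔮.comap φR.toRingHom) [Algebra P S]
    (hPS : ∀ r : R, algebraMap P S (algebraMap R P r) = algebraMap Λ S (φR r))
    (hRD : ∀ r : R, Ideal.Quotient.mk (maximalIdeal S ^ N) (algebraMap Λ S (φR r)) ∈ D) (x : P) :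
    Ideal.Quotient.mk (maximalIdeal S ^ N) (algebraMap P S x) ∈ D := by
  obtain ⟨r, s, rfl⟩ := IsLocalization.exists_mk'_eq 𝔭.primeCompl x
  let zs : D := ⟨Ideal.Quotient.mk (maximalIdeal S ^ N) (algebraMap Λ S (φR s)), hRD s⟩
  have hs𝔮 : φR (s : R) ∈ 𝔮.primeCompl := by
    intro hcon
    apply s.2
    have h0 : (s : R) ∈ 𝔮.comap φR.toRingHom := hcon
    rw [← h𝔭] at h0
    exact h0
  have hu : IsUnit (algebraMap D (S ⧸ maximalIdeal S ^ N) zs) := by
    change IsUnit (Ideal.Quotient.mk (maximalIdeal S ^ N) (algebraMap Λ S (φR s)))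
    exact (IsLocalization.map_units S (⟨φR (s : R), hs𝔮⟩ : 𝔮.primeCompl)).map _
  have hzs : IsUnit zs := (isUnit_map_iff (algebraMap D (S ⧸ maximalIdeal S ^ N)) zs).mp hu
  obtain ⟨v, hv⟩ := hzs
  have key : Ideal.Quotient.mk (maximalIdeal S ^ N) (algebraMap P S (IsLocalization.mk' P r s)) *
      (zs : S ⧸ maximalIdeal S ^ N) =
      Ideal.Quotient.mk (maximalIdeal S ^ N) (algebraMap Λ S (φR r)) := by
    have h1 := IsLocalization.mk'_spec P r s
    have h2 := congrArg (fun z => Ideal.Quotient.mk (maximalIdeal S ^ N) (algebraMap P S z)) h1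
    simp only [map_mul, hPS] at h2
    exact h2
  have h3 : Ideal.Quotient.mk (maximalIdeal S ^ N) (algebraMap P S (IsLocalization.mk' P r s)) =
      Ideal.Quotient.mk (maximalIdeal S ^ N) (algebraMap Λ S (φR r)) *
        ((↑v⁻¹ : D) : S ⧸ maximalIdeal S ^ N) := by
    rw [← key, mul_assoc]
    have h4 : (zs : S ⧸ maximalIdeal S ^ N) * ((↑v⁻¹ : D) : S ⧸ maximalIdeal S ^ N) = 1 := by
      rw [← hv]
      have h5 : ((v : D) * (↑v⁻¹ : D) : D) = 1 := Units.mul_inv v
      have h6 := congrArg (Subtype.val : D → S ⧸ maximalIdeal S ^ N) h5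
      exact h6
    rw [h4, mul_one]
  rw [h3]
  exact D.mul_mem (hRD r) (↑v⁻¹ : D).2

end LocD

section Zeta

variable {k : Type u} [Field k] {Sb : Type u} [CommRing Sb] [Algebra k Sb] (D : Subalgebra k Sb)
  [Module.FaithfullyFlat D Sb]

theorem exists_zeta0 {r : ℕ} (g : Fin r → D) (z : D)
    (hz : (z : Sb) ∈ Ideal.span (Set.range fun j => (g j : Sb))) :
    ∃ ζ : Fin r → D, z = ∑ j, ζ j * g j := by
  have h1 : z ∈ ((Ideal.span (Set.range g)).map (algebraMap D Sb)).comap (algebraMap D Sb) := by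
    rw [Ideal.mem_comap, Ideal.map_span, ← Set.range_comp]
    exact hz
  rw [Ideal.comap_map_eq_self_of_faithfullyFlat] at h1
  obtain ⟨ζ, hζ⟩ := Ideal.mem_span_range_iff_exists_fun.mp h1
  exact ⟨ζ, hζ.symm⟩

end Zeta

end Groth.Agent.H91.Pop
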