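import Mathlib
import Groth.Agent.H91.PopJ
import Groth.Agent.H91.SepF

/-!
# Two small lemmas on quotients for the assembly
-/

set_option autoImplicit false
set_option linter.style.haveILetI false
universe u

open IsLocalRing

namespace Groth.Agent.H91.Pop

theorem ringKrullDim_quotient_eq_zero (S : Type u) [CommRing S] [IsLocalRing S] (J : Ideal S)
    (M : ℕ) (hM : maximalIdeal S ^ M ≤ J) (hJ : J ≤ maximalIdeal S) :
    ringKrullDim (S ⧸ J) = 0 := by
  haveI hmax : ((maximalIdeal S).map (Ideal.Quotient.mk J)).IsMaximal := by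
    rcases Ideal.map_eq_top_or_isMaximal_of_surjective (Ideal.Quotient.mk J)
      Ideal.Quotient.mk_surjective (maximalIdeal.isMaximal S) with h | h
    · exfalso
      have h2 : ((maximalIdeal S).map (Ideal.Quotient.mk J)).comap (Ideal.Quotient.mk J) =
          maximalIdeal S := by
        rw [Ideal.comap_map_of_surjective _ Ideal.Quotient.mk_surjective,
          ← RingHom.ker_eq_comap_bot, Ideal.mk_ker, sup_eq_left]
        exact hJ
      rw [h, Ideal.comap_top] at h2
      exact (maximalIdeal.isMaximal S).ne_top h2.symm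
    · exact h
  refine Groth.Agent.H91.SepF.ringKrullDim_eq_zero_of_le_nilradical
    ((maximalIdeal S).map (Ideal.Quotient.mk J)) ?_
  rw [Ideal.map_le_iff_le_comap]
  intro x hx
  refine ⟨M, ?_⟩
  rw [← map_pow]
  exact Ideal.Quotient.eq_zero_iff_mem.mpr (hM (Ideal.pow_mem_pow hx M))

section PT

variable {R' Λ : Type u} [CommRing R'] [CommRing Λ] [Algebra R' Λ] (Kp : Ideal R')
  (𝔮 : Ideal Λ) [𝔮.IsPrime]

theorem mem_primeCompl_pTilde (hle : Kp.map (algebraMap R' Λ) ≤ 𝔮) [(qOne Kp 𝔮).IsPrime]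
    (x : R') (hx : algebraMap R' Λ x ∉ 𝔮) :
    Ideal.Quotient.mk Kp x ∈ (pTilde Kp 𝔮).primeCompl := by
  intro hcon
  apply hx
  have h1 : Ideal.Quotient.mk (Kp.map (algebraMap R' Λ)) (algebraMap R' Λ x) ∈ qOne Kp 𝔮 := hcon
  exact (Ideal.mem_quotient_iff_mem hle).mp h1

end PT

end Groth.Agent.H91.Pop
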