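import Mathlib
import Groth.Prelude.Def_Smoothing
import Groth.Agent.H91.PopG
import Groth.Agent.H91.PopH
import Groth.Agent.H91.PopN
import Groth.Agent.H91.PopQ
import Groth.Agent.H91.PopR
import Groth.Agent.H91.PopS
import Groth.Agent.H91.PopT
import Groth.Agent.H91.PopU
import Groth.Agent.H91.PopV
import Groth.Agent.H91.PopX
import Groth.Agent.H91.SepTools
import Groth.Agent.Lead.RegularLocal

/-!
# Assembly of the inseparable case
-/

set_option autoImplicit false
set_option linter.style.haveILetI false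
set_option maxHeartbeats 1600000
universe u

open TensorProduct MvPolynomial Smoothing IsLocalRing

namespace Groth.Agent.H91.Pop

open Groth.Agent.H91.RegPow

/-- the localized base of the reduced problem -/
abbrev RpT {R' Λ : Type u} [CommRing R'] [IsNoetherianRing R'] [CommRing Λ] [Algebra R' Λ]
    (Kp : Ideal R') (𝔮 : Ideal Λ) [𝔮.IsPrime] [(qOne Kp 𝔮).IsPrime] : Type u :=
  Localization.AtPrime (pTilde Kp 𝔮)

section Assemble

variable {k A Λ : Type u} [Field k] [CommRing A] [Algebra k A] [Algebra.FinitePresentation k A]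
  [CommRing Λ] [Algebra k Λ] [IsNoetherianRing Λ] (φ : A →ₐ[k] Λ) (𝔮 : Ideal Λ) [𝔮.IsPrime]
  [IsRegularLocalRing (Localization.AtPrime 𝔮)]
  {R : Type u} [CommRing R] [IsNoetherianRing R] [Algebra k R] (φR : R →ₐ[k] Λ)
  [IsRegularLocalRing (Localization.AtPrime (𝔮.comap φR.toRingHom))]

local notation "S" => Localization.AtPrime 𝔮

attribute [local instance] Groth.Agent.H91.SepG.algQ

theorem assemble {r : ℕ} (a : Fin r → A)
    (ha : Ideal.span (Set.range a) = singularIdeal k A) (n : ℕ) (hn : 0 < n)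
    (hpow : (𝔮 ^ n).map (algebraMap Λ S) ≤ ((singularIdeal k A).map φ).map (algebraMap Λ S))
    (hFP : Algebra.FinitePresentation k R) (hFS : Algebra.FormallySmooth k R)
    {h e : ℕ} (hpos : 0 < e + h)
    (π : Fin (e + h) → R)
    (hcard : e + h = (maximalIdeal S).spanFinrank)
    (hspanP : Ideal.span (Set.range fun i => algebraMap R
        (Localization.AtPrime (𝔮.comap φR.toRingHom)) (π i)) =
      maximalIdeal (Localization.AtPrime (𝔮.comap φR.toRingHom)))
    (hindep : ∀ c : Fin (e + h) → S, ∑ i, c i * algebraMap Λ S (φR (π i)) ∈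
      maximalIdeal S ^ 2 → ∀ i, c i ∈ maximalIdeal S)
    {C₀ : Type u} [CommRing C₀] [Algebra (MvPolynomial (Fin (e + h)) k) C₀] [Algebra k C₀]
    [IsScalarTower k (MvPolynomial (Fin (e + h)) k) C₀]
    [Algebra.FinitePresentation (MvPolynomial (Fin (e + h)) k) C₀]
    (ι : A →ₐ[k] C₀)
    (hH : ∀ j, ι (a j) ∈ singularIdeal (MvPolynomial (Fin (e + h)) k) C₀)
    (c : ℕ) (hc : 0 < c)
    (hstd : ∀ i : Fin (e + h), IsStrictlyStandard (MvPolynomial (Fin (e + h)) k) C₀
      (algebraMap (MvPolynomial (Fin (e + h)) k) C₀ (X i ^ c)))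
    (hP : ∀ (Λ' : Type u) [CommRing Λ'] [Algebra k Λ'] [Algebra (MvPolynomial (Fin (e + h)) k) Λ']
      [IsScalarTower k (MvPolynomial (Fin (e + h)) k) Λ']
      (φ' : A →ₐ[k] Λ') (lam : Fin (e + h) → Fin r → Λ'),
      (∀ i, algebraMap (MvPolynomial (Fin (e + h)) k) Λ' (X i) ^ n = ∑ j, lam i j * φ' (a j)) →
      ∃ φC : C₀ →ₐ[MvPolynomial (Fin (e + h)) k] Λ', ∀ y, φC (ι y) = φ' y)
    (N : ℕ) (hN : N = (e + h) * (c * 8) + 1 + n) (hN0 : 0 < N)
    (F : IntermediateField k (ResidueField S)) (hFG : F.FG)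
    (D : Subalgebra k (S ⧸ maximalIdeal S ^ N)) [IsLocalRing D]
    (hRD : ∀ x : R, Ideal.Quotient.mk (maximalIdeal S ^ N) (algebraMap Λ S (φR x)) ∈ D)
    (hAD : ∀ y : A, Ideal.Quotient.mk (maximalIdeal S ^ N) (algebraMap Λ S (φ y)) ∈ D)
    (hflatD : Module.Flat D (S ⧸ maximalIdeal S ^ N))
    (hmD : (maximalIdeal D).map (algebraMap D (S ⧸ maximalIdeal S ^ N)) =
      RingHom.ker (rhoBar (k := k) S N hN0))
    (hDF : ∀ z ∈ D, rhoBar (k := k) S N hN0 z ∈ F)
    (hFD : ∀ f ∈ F, ∃ z ∈ D, rhoBar (k := k) S N hN0 z = f)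
    {σ : Type} (wF : σ → F)
    (hwF : ∀ l, ∃ x : R, (wF l : ResidueField S) = residue S (algebraMap Λ S (φR x)))
    (hΩ : Submodule.span F (Set.range fun l => KaehlerDifferential.D k F (wF l)) = ⊤) :
    Resolvable k φ 𝔮 := by
  classical
  -- the polynomial ring and its localization
  let 𝔭 : Ideal R := 𝔮.comap φR.toRingHom
  haveI h𝔭 : 𝔭.IsPrime := Ideal.comap_isPrime _ _
  letI algPS : Algebra (Localization.AtPrime 𝔭) S :=
    (Localization.localRingHom 𝔭 𝔮 φR.toRingHom rfl).toAlgebra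
  have hPS : ∀ x : R,
      algebraMap (Localization.AtPrime 𝔭) S (algebraMap _ (Localization.AtPrime 𝔭) x) =
        algebraMap Λ S (φR x) := fun x => Localization.localRingHom_to_map 𝔭 𝔮 φR.toRingHom rfl x
  haveI hloc : IsLocalHom (algebraMap (Localization.AtPrime 𝔭) S) :=
    Localization.isLocalHom_localRingHom 𝔭 𝔮 φR.toRingHom rfl
  haveI tkPS : IsScalarTower k (Localization.AtPrime 𝔭) S := by
    refine IsScalarTower.of_algebraMap_eq fun s => ?_
    rw [IsScalarTower.algebraMap_apply k (R) (Localization.AtPrime 𝔭),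
      hPS, AlgHom.commutes, ← IsScalarTower.algebraMap_apply k Λ S]
  have hmemS : ∀ x : Λ, algebraMap Λ S x ∈ maximalIdeal S ↔ x ∈ 𝔮 :=
    fun x => IsLocalization.AtPrime.to_map_mem_maximal_iff S 𝔮 x
  have hπ𝔭 : ∀ i, π i ∈ 𝔭 := by
    intro i
    rw [← IsLocalization.AtPrime.to_map_mem_maximal_iff (Localization.AtPrime 𝔭) 𝔭]
    have : algebraMap _ (Localization.AtPrime 𝔭) (π i) ∈ Ideal.span (Set.range fun i =>
        algebraMap (R) (Localization.AtPrime 𝔭) (π i)) :=
      Ideal.subset_span ⟨i, rfl⟩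
    rw [hspanP] at this
    exact this
  have hπ𝔮 : ∀ i, φR (π i) ∈ 𝔮 := hπ𝔭
  have hπS : ∀ i, algebraMap Λ S (φR (π i)) ∈ maximalIdeal S := fun i => (hmemS _).mpr (hπ𝔮 i)
  have hspanS : Ideal.span (Set.range fun i => algebraMap Λ S (φR (π i))) = maximalIdeal S :=
    span_eq_maximalIdeal_of_indep S _ hπS hindep hcard
  have hdimS : ringKrullDim S = ((e + h : ℕ) : WithBot ℕ∞) := by
    rw [Groth.Agent.Lead.RLR.ringKrullDim_eq_spanFinrank, hcard]
  obtain ⟨hdimP, hflatPS⟩ := flat_of_generators (Localization.AtPrime 𝔭) S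
    (fun i => algebraMap _ (Localization.AtPrime 𝔭) (π i)) hspanP (by
      intro c' hc'
      apply hindep c'
      have : ∑ i, c' i * algebraMap Λ S (φR (π i)) = ∑ i, c' i *
          algebraMap (Localization.AtPrime 𝔭) S (algebraMap _ (Localization.AtPrime 𝔭) (π i)) :=
        Finset.sum_congr rfl fun i _ => by rw [hPS]
      rw [this]
      exact hc')
  haveI := hflatPS
  have hmP : (maximalIdeal (Localization.AtPrime 𝔭)).map (algebraMap (Localization.AtPrime 𝔭) S) =
      maximalIdeal S := by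
    rw [← hspanP, Ideal.map_span, ← Set.range_comp, ← hspanS]
    congr 2
    funext i
    exact hPS _
  -- the Artinian level
  haveI hlocD := isLocalHom_D S N hN0 D hmD
  haveI hlocSb := isLocalRing_Sbar S N hN0
  haveI hffD : Module.FaithfullyFlat D (S ⧸ maximalIdeal S ^ N) :=
    Module.FaithfullyFlat.of_flat_of_isLocalHom (A := D) (B := S ⧸ maximalIdeal S ^ N)
  have hPD := mem_D_of_localization 𝔮 S N D φR (Localization.AtPrime 𝔭) 𝔭 rfl hPS hRD
  letI algRbD := algRbarD S N D (Localization.AtPrime 𝔭) hPD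
  have halg := algRbarD_coe S N D (Localization.AtPrime 𝔭) hPD
  haveI tkRbD : IsScalarTower k (Localization.AtPrime 𝔭 ⧸ maximalIdeal (Localization.AtPrime 𝔭) ^ N) D :=
    IsScalarTower.of_algebraMap_eq fun s =>
      ((gammaBar S N D (Localization.AtPrime 𝔭) hPD).commutes s).symm
  have hind : IndSmooth (Localization.AtPrime 𝔭 ⧸ maximalIdeal (Localization.AtPrime 𝔭) ^ N) D :=
    stage3 S N hN0 D (Localization.AtPrime 𝔭) halg hmD F hFG hflatD hDF hFD hmP wF
      (fun l => by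
        obtain ⟨x, hx⟩ := hwF l
        exact ⟨algebraMap _ (Localization.AtPrime 𝔭) x, by rw [hPS, hx]⟩) hΩ
  -- the map from `A` and the coefficients
  let α : A →ₐ[k] D := AlgHom.codRestrict ((Ideal.Quotient.mkₐ k (maximalIdeal S ^ N)).comp
    ((IsScalarTower.toAlgHom k Λ S).comp φ)) D hAD
  have hα : ∀ y, ((α y : D) : S ⧸ maximalIdeal S ^ N) =
      Ideal.Quotient.mk _ (algebraMap Λ S (φ y)) := fun y => rfl
  let πb : Fin (e + h) → Localization.AtPrime 𝔭 ⧸ maximalIdeal (Localization.AtPrime 𝔭) ^ N :=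
    fun i => Ideal.Quotient.mk _ (algebraMap _ (Localization.AtPrime 𝔭) (π i))
  have hπbD : ∀ i, ((algebraMap (Localization.AtPrime 𝔭 ⧸ maximalIdeal (Localization.AtPrime 𝔭) ^ N) D (πb i) : D) : S ⧸ maximalIdeal S ^ N) =
      Ideal.Quotient.mk _ (algebraMap Λ S (φR (π i))) := fun i => by
    rw [halg, hPS]
  have hHS : maximalIdeal S ^ n ≤ Ideal.span (Set.range fun j => algebraMap Λ S (φ (a j))) := by
    have h1 : (𝔮 ^ n).map (algebraMap Λ S) = maximalIdeal S ^ n := by
      rw [Ideal.map_pow, IsLocalization.AtPrime.map_eq_maximalIdeal 𝔮 S]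
    rw [← h1]
    refine hpow.trans (le_of_eq ?_)
    rw [← ha, Ideal.map_span, Ideal.map_span, ← Set.range_comp, ← Set.range_comp]
    rfl
  have hζ0 : ∀ i, ∃ ζ : Fin r → D, (@algebraMap _ D _ _ algRbD (πb i)) ^ n = ∑ j, ζ j * α (a j) := by
    intro i
    apply exists_zeta0 D (fun j => α (a j)) ((@algebraMap _ D _ _ algRbD (πb i)) ^ n)
    have h1 : (((@algebraMap _ D _ _ algRbD (πb i)) ^ n : D) : S ⧸ maximalIdeal S ^ N) =
        Ideal.Quotient.mk _ (algebraMap Λ S (φR (π i)) ^ n) := by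
      rw [map_pow, ← hπbD]
      rfl
    rw [h1]
    have h2 := hHS (Ideal.pow_mem_pow (hπS i) n)
    have h3 := Ideal.mem_map_of_mem (Ideal.Quotient.mk (maximalIdeal S ^ N)) h2
    rw [Ideal.map_span, ← Set.range_comp] at h3
    exact h3
  choose ζ0 hζ0 using hζ0
  obtain ⟨B₀, _, _, hsm, αB, β, hD, hαBk, hβ, hDα, hDβ⟩ := exists_smooth_factor hind α a πb ζ0 hζ0
  -- the exponents and the multipliers
  obtain ⟨E, hE⟩ : ∃ E : ℕ, E = c * 8 := ⟨_, rfl⟩
  have hE0 : 0 < E := by rw [hE]; exact Nat.mul_pos hc (by norm_num)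
  let b : Fin (e + h) → ℕ := fun i => bseq E i
  have hb : ∀ i j : Fin (e + h), (j : ℕ) < (i : ℕ) → b j * E + 1 ≤ b i :=
    fun i j hji => bseq_step E hE0 hji
  have hb0 : ∀ i, 0 < b i := fun i => bseq_pos E i
  have hlocP : ∀ i, ∀ y : Localization.AtPrime 𝔭,
      algebraMap _ (Localization.AtPrime 𝔭) (π i) ^ 2 * y ∈
        (K (e + h) E π i).map (algebraMap _ (Localization.AtPrime 𝔭)) →
      algebraMap _ (Localization.AtPrime 𝔭) (π i) * y ∈
        (K (e + h) E π i).map (algebraMap _ (Localization.AtPrime 𝔭)) := by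
    intro i y hy
    rw [map_K] at hy ⊢
    apply mem_KK_of_mul_mem (e + h) hdimP
      (fun j => algebraMap _ (Localization.AtPrime 𝔭) (π j)) hspanP E hE0 i
    rw [← mul_assoc, ← pow_two]
    exact hy
  obtain ⟨s₀, hs₀, hs₀ann⟩ := exists_mult (Λ := R) 𝔭
    (A := Localization.AtPrime 𝔭) (e + h) E π b hb hb0 hlocP
  have hlocS : ∀ i, ∀ y : S,
      algebraMap Λ S (φR (π i)) ^ 2 * y ∈
        (K (e + h) E (fun i => φR (π i)) i).map (algebraMap Λ S) →
      algebraMap Λ S (φR (π i)) * y ∈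
        (K (e + h) E (fun i => φR (π i)) i).map (algebraMap Λ S) := by
    intro i y hy
    rw [map_K] at hy ⊢
    apply mem_KK_of_mul_mem (e + h) hdimS
      (fun j => algebraMap Λ S (φR (π j))) hspanS E hE0 i
    rw [← mul_assoc, ← pow_two]
    exact hy
  obtain ⟨l₀, hl₀, hl₀ann⟩ := exists_mult (Λ := Λ) 𝔮 (A := S) (e + h) E (fun i => φR (π i)) b hb hb0
    hlocS
  -- lifting the coefficients
  let JS : Ideal S := Ideal.span (Set.range fun i => algebraMap Λ S (φR (π i)) ^ E)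
  have hMJS : maximalIdeal S ^ ((e + h) * E + 1) ≤ JS := by
    rw [← hspanS]
    exact span_pow_le_span_pow E (e + h) _
  have hζ' : ∀ i j, ∃ z : S, Ideal.Quotient.mk (maximalIdeal S ^ N) z = (ζ0 i j : S ⧸ maximalIdeal S ^ N) :=
    fun i j => Ideal.Quotient.mk_surjective _
  choose ζ' hζ'mk using hζ'
  have hNE : N = (e + h) * E + 1 + n := by rw [hN, hE]
  have hζ'rel : ∀ i, algebraMap Λ S (φR (π i)) ^ n - ∑ j, ζ' i j * algebraMap Λ S (φ (a j)) ∈
      maximalIdeal S ^ ((e + h) * E + 1 + n) := by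
    intro i
    rw [← hNE, ← Ideal.Quotient.eq_zero_iff_mem, map_sub, map_pow, map_sum, sub_eq_zero]
    have h1 := congrArg (Subtype.val : D → S ⧸ maximalIdeal S ^ N) (hζ0 i)
    have h2 : (Subtype.val : D → S ⧸ maximalIdeal S ^ N)
        ((@algebraMap _ D _ _ algRbD (πb i)) ^ n) =
        Ideal.Quotient.mk _ (algebraMap Λ S (φR (π i))) ^ n := by
      rw [← hπbD]
      rfl
    have h3 : (Subtype.val : D → S ⧸ maximalIdeal S ^ N) (∑ j, ζ0 i j * α (a j)) =
        ∑ j, Ideal.Quotient.mk _ (ζ' i j * algebraMap Λ S (φ (a j))) := by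
      have : (Subtype.val : D → S ⧸ maximalIdeal S ^ N) = D.val := rfl
      rw [this, map_sum]
      refine Finset.sum_congr rfl fun j _ => ?_
      rw [map_mul, map_mul, hζ'mk]
      rfl
    rw [← h2, h1, h3]
  obtain ⟨l₂, hl₂, lam', hlam', hlam'J⟩ := exists_lam 𝔮 (fun j => φ (a j)) (fun i => φR (π i)) n
    ((e + h) * E + 1) JS hMJS hHS ζ' hζ'rel
  -- the base ring `R' = R[X]`
  let lamX : Λ := l₀ * l₂
  have hlamX : lamX ∈ 𝔮.primeCompl := Submonoid.mul_mem _ hl₀ hl₂
  have hs₀𝔮 : φR s₀ ∈ 𝔮.primeCompl := hs₀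
  let l : Λ := lamX * φR s₀
  have hl : l ∈ 𝔮.primeCompl := Submonoid.mul_mem _ hlamX hs₀𝔮
  have hl₀l : l₀ ∣ l := ⟨l₂ * φR s₀, by simp only [l, lamX]; ring⟩
  have hl₂l : l₂ ∣ l := ⟨l₀ * φR s₀, by simp only [l, lamX]; ring⟩
  letI algRΛ : Algebra (R) Λ := φR.toRingHom.toAlgebra
  have halgRΛ : ∀ x, algebraMap (R) Λ x = φR x := fun x => rfl
  haveI tkRΛ : IsScalarTower k (R) Λ :=
    IsScalarTower.of_algebraMap_eq fun s => (φR.commutes s).symm
  let evX : Polynomial (R) →ₐ[R] Λ :=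
    Polynomial.aeval lamX
  letI algR'Λ : Algebra (Polynomial (R)) Λ := evX.toRingHom.toAlgebra
  have halgR'Λ : ∀ x, algebraMap (Polynomial (R)) Λ x = evX x :=
    fun x => rfl
  haveI tRR'Λ : IsScalarTower (R)
      (Polynomial (R)) Λ :=
    IsScalarTower.of_algebraMap_eq fun x => (evX.commutes x).symm
  haveI tkR'Λ : IsScalarTower k (Polynomial (R)) Λ :=
    IsScalarTower.of_algebraMap_eq fun s => by
      rw [IsScalarTower.algebraMap_apply k (R)
        (Polynomial (R)),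
        ← IsScalarTower.algebraMap_apply (R)
          (Polynomial (R)) Λ,
        ← IsScalarTower.algebraMap_apply k (R) Λ]
  let x : Fin (e + h) → Polynomial (R) :=
    fun i => Polynomial.X ^ b i * Polynomial.C (s₀ ^ b i * π i)
  have hevXC : ∀ z, evX (Polynomial.C z) = φR z := fun z => by
    simp only [evX, Polynomial.aeval_C]
    rfl
  have hxΛ : ∀ i, algebraMap (Polynomial (R)) Λ (x i) =
      l ^ b i * φR (π i) := by
    intro i
    rw [halgR'Λ]
    simp only [x, map_mul, map_pow, hevXC]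
    simp only [evX, Polynomial.aeval_X, l]
    ring
  letI algR₀R' : Algebra (MvPolynomial (Fin (e + h)) k)
      (Polynomial (R)) :=
    (aeval x : MvPolynomial (Fin (e + h)) k →ₐ[k] _).toRingHom.toAlgebra
  haveI tkR₀R' : IsScalarTower k (MvPolynomial (Fin (e + h)) k)
      (Polynomial (R)) :=
    IsScalarTower.of_algebraMap_eq fun s =>
      ((aeval x : MvPolynomial (Fin (e + h)) k →ₐ[k] _).commutes s).symm
  have hXx : ∀ i, algebraMap (MvPolynomial (Fin (e + h)) k)
      (Polynomial (R)) (X i) = x i := fun i => aeval_X x i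
  letI algR₀Λ : Algebra (MvPolynomial (Fin (e + h)) k) Λ :=
    ((algebraMap (Polynomial (R)) Λ).comp
      (algebraMap (MvPolynomial (Fin (e + h)) k)
        (Polynomial (R)))).toAlgebra
  haveI tR₀R'Λ : IsScalarTower (MvPolynomial (Fin (e + h)) k)
      (Polynomial (R)) Λ :=
    IsScalarTower.of_algebraMap_eq fun _ => rfl
  -- the conditions on `ϖ_i = x_i ^ c`
  let ϖ : Fin (e + h) → Polynomial (R) := fun i => x i ^ c
  have hϖ : ∀ i, ϖ i = algebraMap (MvPolynomial (Fin (e + h)) k)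
      (Polynomial (R)) (X i ^ c) := fun i => by
    rw [map_pow, hXx]
  have hK8 : ∀ i, K (e + h) 8 ϖ i = K (e + h) E x i := by
    intro i
    unfold K
    congr 2
    funext j
    simp only [ϖ]
    rw [← pow_mul, hE]
  have hannR := hs₀ann s₀ hs₀ (dvd_refl _)
  have hannR' : ∀ i (y : Polynomial (R)),
      x i ^ 2 * y ∈ K (e + h) E x i → x i * y ∈ K (e + h) E x i :=
    fun i y hy => ann_polynomial (e + h) E (fun i => s₀ ^ b i * π i) b hb hannR i y hy
  have hR : ∀ i y, ϖ i ^ 2 * y ∈ K (e + h) 8 ϖ i → ϖ i * y ∈ K (e + h) 8 ϖ i := by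
    intro i y hy
    rw [hK8] at hy ⊢
    exact Groth.Agent.H91.SepI.ann_pow _ _ (hannR' i) c hc y hy
  have hannΛ := hl₀ann l hl hl₀l
  have hK8Λ : ∀ i, K (e + h) 8 (fun j => algebraMap (Polynomial (R))
      Λ (ϖ j)) i = K (e + h) E (fun j => l ^ b j * φR (π j)) i := by
    intro i
    unfold K
    congr 2
    funext j
    simp only [ϖ]
    rw [map_pow, hxΛ, ← pow_mul, hE]
  have hΛ : ∀ i : Fin (e + h), ∀ y : Λ,
      algebraMap (Polynomial (R)) Λ (ϖ i) ^ 2 * y ∈
        K (e + h) 8 (fun j => algebraMap (Polynomial (R)) Λ (ϖ j)) i →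
      algebraMap (Polynomial (R)) Λ (ϖ i) * y ∈
        K (e + h) 8 (fun j => algebraMap (Polynomial (R)) Λ (ϖ j)) i := by
    intro i y hy
    rw [hK8Λ] at hy ⊢
    have h1 : algebraMap (Polynomial (R)) Λ (ϖ i) =
        (l ^ b i * φR (π i)) ^ c := by
      simp only [ϖ]
      rw [map_pow, hxΛ]
    rw [h1] at hy ⊢
    exact Groth.Agent.H91.SepI.ann_pow _ _ (hannΛ i) c hc y hy
  have hϖ𝔮 : ∀ i, algebraMap (Polynomial (R)) Λ (ϖ i) ∈ 𝔮 := by
    intro i
    simp only [ϖ]
    rw [map_pow, hxΛ]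
    exact Ideal.pow_mem_of_mem _ (Ideal.mul_mem_left _ _ (hπ𝔮 i)) c hc
  -- the coefficients `lam`
  have hμ : ∀ i, ∃ μ : Λ, l ^ (b i * n) = l₂ * μ := fun i =>
    dvd_pow hl₂l (Nat.mul_ne_zero (Nat.pos_iff_ne_zero.mp (hb0 i)) (Nat.pos_iff_ne_zero.mp hn))
  choose μ hμ using hμ
  let lam : Fin (e + h) → Fin r → Λ := fun i j => μ i * lam' i j
  have hlam : ∀ i, algebraMap (MvPolynomial (Fin (e + h)) k) Λ (X i) ^ n =
      ∑ j, lam i j * φ (a j) := by
    intro i
    change algebraMap (Polynomial (R)) Λ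
      (algebraMap (MvPolynomial (Fin (e + h)) k) _ (X i)) ^ n = _
    rw [hXx, hxΛ, mul_pow, ← pow_mul, hμ]
    have h1 : l₂ * μ i * φR (π i) ^ n = μ i * (l₂ * φR (π i) ^ n) := by ring
    rw [h1, hlam' i, Finset.mul_sum]
    refine Finset.sum_congr rfl fun j _ => ?_
    simp only [lam]
    ring
  -- the reduced problem
  let Kp : Ideal (Polynomial (R)) :=
    Ideal.span (Set.range fun i => ϖ i ^ 8)
  have hKple : Kp.map (algebraMap (Polynomial (R)) Λ) ≤ 𝔮 := by
    rw [Ideal.map_span, Ideal.span_le]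
    rintro _ ⟨_, ⟨i, rfl⟩, rfl⟩
    rw [map_pow]
    exact Ideal.pow_mem_of_mem _ (hϖ𝔮 i) 8 (by norm_num)
  haveI hq1 : (𝔮.map (Ideal.Quotient.mk (Kp.map (algebraMap
      (Polynomial (R)) Λ)))).IsPrime := isPrime_map_mk Kp 𝔮 hKple
  have hunitl : IsUnit (algebraMap Λ S l) := IsLocalization.map_units S (⟨l, hl⟩ : 𝔮.primeCompl)
  have hJq : Ideal.map (algebraMap Λ S) (Ideal.map (algebraMap
      (Polynomial (R)) Λ) Kp) = JS := by
    rw [Ideal.map_span, Ideal.map_span, ← Set.range_comp, ← Set.range_comp]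
    have h1 : ((algebraMap Λ S) ∘ (algebraMap (Polynomial (R)) Λ) ∘
        fun i => ϖ i ^ 8) = fun i => algebraMap Λ S (φR (π i)) ^ E *
          (algebraMap Λ S l ^ (b i * E)) := by
      funext i
      simp only [Function.comp_apply, ϖ]
      rw [← pow_mul, map_pow, hxΛ, map_pow, map_mul, map_pow, ← hE, mul_pow, ← pow_mul]
      ring
    rw [h1]
    exact span_range_mul_unit _ _ (fun i => hunitl.pow _)
  have hJSle : JS ≤ maximalIdeal S := by
    rw [Ideal.span_le]
    rintro _ ⟨i, rfl⟩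
    exact Ideal.pow_mem_of_mem _ (hπS i) E hE0
  have hdim : ringKrullDim (S ⧸ Ideal.map (algebraMap Λ S) (Ideal.map (algebraMap
      (Polynomial (R)) Λ) Kp)) = 0 :=
    ringKrullDim_quotient_eq_zero S _ ((e + h) * E + 1) (hJq ▸ hMJS) (hJq ▸ hJSle)
  -- the localized base of the reduced problem
  letI algRpQ := algRp Kp 𝔮 hKple
  haveI tRpQ := towerRp Kp 𝔮 hKple
  haveI tQ1 := Groth.Agent.H91.SepG.towerQ Kp 𝔮
  haveI tQ2 := Groth.Agent.H91.SepG.towerRQ Kp 𝔮
  let θ₀ : R →+* RpT Kp 𝔮 :=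
    (algebraMap (Polynomial (R) ⧸ Kp)
      (RpT Kp 𝔮)).comp
      (algebraMap (R)
        (Polynomial (R) ⧸ Kp))
  have hθ₀ : ∀ z, θ₀ z = algebraMap (Polynomial (R) ⧸ Kp)
      (RpT Kp 𝔮) (Ideal.Quotient.mk Kp (Polynomial.C z)) := fun z => rfl
  have hunitRp : ∀ z : Polynomial (R),
      algebraMap (Polynomial (R)) Λ z ∉ 𝔮 →
      IsUnit (algebraMap (Polynomial (R) ⧸ Kp)
        (RpT Kp 𝔮) (Ideal.Quotient.mk Kp z)) := fun z hz =>
    IsLocalization.map_units (RpT Kp 𝔮)
      (⟨Ideal.Quotient.mk Kp z, mem_primeCompl_pTilde Kp 𝔮 hKple z hz⟩ :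
        (pTilde Kp 𝔮).primeCompl)
  have hθ₀unit : ∀ s : 𝔭.primeCompl, IsUnit (θ₀ s) := by
    intro s
    rw [hθ₀]
    apply hunitRp
    rw [halgR'Λ, hevXC]
    exact s.2
  let θ : Localization.AtPrime 𝔭 →+* RpT Kp 𝔮 :=
    IsLocalization.lift (M := 𝔭.primeCompl) hθ₀unit
  have hθ : ∀ z, θ (algebraMap _ (Localization.AtPrime 𝔭) z) = θ₀ z :=
    fun z => IsLocalization.lift_eq hθ₀unit z
  have hθπ : ∀ i, θ (algebraMap _ (Localization.AtPrime 𝔭) (π i)) ^ E = 0 := by
    intro i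
    rw [hθ, hθ₀]
    have h1 : Ideal.Quotient.mk Kp (x i ^ E) = 0 := by
      rw [Ideal.Quotient.eq_zero_iff_mem]
      refine Ideal.subset_span ⟨i, ?_⟩
      simp only [ϖ]
      rw [← pow_mul, hE]
    have h2 : x i ^ E = (Polynomial.X ^ (b i * E) * Polynomial.C s₀ ^ (b i * E)) *
        Polynomial.C (π i) ^ E := by
      simp only [x]
      rw [map_mul, map_pow]
      ring
    have hu : IsUnit (algebraMap (Polynomial (R) ⧸ Kp)
        (RpT Kp 𝔮) (Ideal.Quotient.mk Kp
          (Polynomial.X ^ (b i * E) * Polynomial.C s₀ ^ (b i * E)))) := by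
      apply hunitRp
      rw [halgR'Λ, map_mul, map_pow, map_pow, hevXC]
      simp only [evX, Polynomial.aeval_X]
      exact (Submonoid.mul_mem _ (Submonoid.pow_mem _ hlamX _) (Submonoid.pow_mem _ hs₀𝔮 _))
    have h3 : algebraMap (Polynomial (R) ⧸ Kp)
        (RpT Kp 𝔮) (Ideal.Quotient.mk Kp
          (Polynomial.X ^ (b i * E) * Polynomial.C s₀ ^ (b i * E))) *
        algebraMap (Polynomial (R) ⧸ Kp)
          (RpT Kp 𝔮) (Ideal.Quotient.mk Kp (Polynomial.C (π i))) ^ E
          = 0 := by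
      have h4 : Ideal.Quotient.mk Kp (Polynomial.X ^ (b i * E) * Polynomial.C s₀ ^ (b i * E)) *
          Ideal.Quotient.mk Kp (Polynomial.C (π i)) ^ E = 0 := by
        have h6 : Ideal.Quotient.mk Kp (Polynomial.C (π i)) ^ E =
            Ideal.Quotient.mk Kp (Polynomial.C (π i) ^ E) := (map_pow _ _ _).symm
        rw [h6, ← map_mul, ← h2]
        exact h1
      have h5 := congrArg (algebraMap (Polynomial R ⧸ Kp) (RpT Kp 𝔮)) h4
      rw [map_mul, map_pow, map_zero] at h5
      exact h5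
    exact (hu.mul_right_eq_zero).mp h3
  have hθN : ∀ z ∈ maximalIdeal (Localization.AtPrime 𝔭) ^ N, θ z = 0 := by
    have h1 : maximalIdeal (Localization.AtPrime 𝔭) ^ N ≤ Ideal.span (Set.range fun i =>
        algebraMap (R) (Localization.AtPrime 𝔭) (π i) ^ E) := by
      rw [hNE]
      refine (Ideal.pow_le_pow_right (Nat.le_add_right _ n)).trans ?_
      rw [← hspanP]
      exact span_pow_le_span_pow E (e + h) _
    have h2 : Ideal.span (Set.range fun i =>
        algebraMap (R) (Localization.AtPrime 𝔭) (π i) ^ E) ≤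
        RingHom.ker θ := by
      rw [Ideal.span_le]
      rintro _ ⟨i, rfl⟩
      rw [SetLike.mem_coe, RingHom.mem_ker, map_pow]
      exact hθπ i
    intro z hz
    exact h2 (h1 hz)
  let ρ₁ : (Localization.AtPrime 𝔭 ⧸ maximalIdeal (Localization.AtPrime 𝔭) ^ N) →+*
      RpT Kp 𝔮 := Ideal.Quotient.lift _ θ hθN
  have hρ₁ : ∀ z, ρ₁ (Ideal.Quotient.mk _ (algebraMap _ (Localization.AtPrime 𝔭) z)) = θ₀ z :=
    fun z => by
      change θ _ = _
      exact hθ z
  -- the map from `D` to the reduced local ring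
  have hNJ : maximalIdeal S ^ N ≤ Ideal.map (algebraMap Λ S) (Ideal.map (algebraMap
      (Polynomial (R)) Λ) Kp) := by
    rw [hJq, hNE]
    exact (Ideal.pow_le_pow_right (Nat.le_add_right _ n)).trans hMJS
  let fac : (S ⧸ maximalIdeal S ^ N) →+* (S ⧸ Ideal.map (algebraMap Λ S) (Ideal.map (algebraMap
      (Polynomial (R)) Λ) Kp)) := Ideal.Quotient.factor hNJ
  have hfac : ∀ z : S, fac (Ideal.Quotient.mk _ z) = Ideal.Quotient.mk _ z := fun z => rfl
  let ρ₂ : D →+* (S ⧸ Ideal.map (algebraMap Λ S) (Ideal.map (algebraMap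
      (Polynomial (R)) Λ) Kp)) := fac.comp (algebraMap D _)
  have hρ₂ : ∀ z : D, ρ₂ z = fac (z : S ⧸ maximalIdeal S ^ N) := fun z => rfl
  -- compatibility of the two routes from the truncated local ring
  have hR'Q : ∀ z : Polynomial R, algebraMap (RpT Kp 𝔮) (S ⧸ Ideal.map (algebraMap Λ S)
      (Ideal.map (algebraMap (Polynomial R) Λ) Kp)) (algebraMap (Polynomial R ⧸ Kp) (RpT Kp 𝔮)
        (Ideal.Quotient.mk Kp z)) =
      Ideal.Quotient.mk _ (algebraMap Λ S (algebraMap (Polynomial R) Λ z)) := by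
    intro z
    rw [← IsScalarTower.algebraMap_apply (Polynomial R ⧸ Kp) (RpT Kp 𝔮)
      (S ⧸ Ideal.map (algebraMap Λ S) (Ideal.map (algebraMap (Polynomial R) Λ) Kp)),
      Groth.Agent.H91.SepG.algebraMapQ_mk, IsScalarTower.algebraMap_apply (Polynomial R) Λ S]
  have hcompat0 : ((ρ₂ : D →+* _).comp (algebraMap (Localization.AtPrime 𝔭 ⧸
      maximalIdeal (Localization.AtPrime 𝔭) ^ N) D)) =
      (algebraMap (RpT Kp 𝔮) (S ⧸ Ideal.map (algebraMap Λ S)
        (Ideal.map (algebraMap (Polynomial R) Λ) Kp))).comp ρ₁ := by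
    apply Ideal.Quotient.ringHom_ext
    apply IsLocalization.ringHom_ext 𝔭.primeCompl
    ext z
    simp only [RingHom.comp_apply]
    rw [hρ₁, hθ₀, hρ₂, halg, hfac, hPS]
    rw [hR'Q, halgR'Λ, hevXC]
  have hcompat : ∀ z, (ρ₂.comp (hD : B₀ →+* D)) (algebraMap _ B₀ z) =
      algebraMap (RpT Kp 𝔮) (S ⧸ Ideal.map (algebraMap Λ S)
        (Ideal.map (algebraMap (Polynomial R) Λ) Kp)) (ρ₁ z) := by
    intro z
    rw [RingHom.comp_apply, RingHom.coe_coe, hD.commutes]
    exact RingHom.congr_fun hcompat0 z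
  haveI := hsm
  obtain ⟨B, _, _, hsmB, jB, hB, hjB, hBj⟩ := exists_baseChange_factor
    (Rb := Localization.AtPrime 𝔭 ⧸ maximalIdeal (Localization.AtPrime 𝔭) ^ N) (B₀ := B₀)
    (Rp := RpT Kp 𝔮) (Q := S ⧸ Ideal.map (algebraMap Λ S)
        (Ideal.map (algebraMap (Polynomial R) Λ) Kp)) ρ₁
    (ρ₂.comp (hD : B₀ →+* D)) hcompat
  -- the data for the lifting step
  let αB' : A →+* B := jB.comp αB
  have hαk : ∀ s : k, αB' (algebraMap k A s) = algebraMap (RpT Kp 𝔮) B
      (algebraMap (Polynomial R ⧸ Kp) (RpT Kp 𝔮)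
        (Ideal.Quotient.mk Kp (algebraMap k (Polynomial R) s))) := by
    intro s
    change jB (αB (algebraMap k A s)) = _
    rw [hαBk, hjB]
    congr 1
    have h1 : algebraMap k (Localization.AtPrime 𝔭 ⧸ maximalIdeal (Localization.AtPrime 𝔭) ^ N) s =
        Ideal.Quotient.mk _ (algebraMap R (Localization.AtPrime 𝔭) (algebraMap k R s)) := by
      rw [← IsScalarTower.algebraMap_apply k R (Localization.AtPrime 𝔭)]
      rfl
    rw [h1, hρ₁, hθ₀, Polynomial.algebraMap_apply]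
  let v : Fin (e + h) → RpT Kp 𝔮 := fun i => algebraMap (Polynomial R ⧸ Kp) (RpT Kp 𝔮)
    (Ideal.Quotient.mk Kp (Polynomial.X ^ b i * Polynomial.C (s₀ ^ b i)))
  let β' : Fin (e + h) → Fin r → B := fun i j => algebraMap (RpT Kp 𝔮) B (v i ^ n) * jB (β i j)
  have hβ' : ∀ i, algebraMap (RpT Kp 𝔮) B (algebraMap (Polynomial R ⧸ Kp) (RpT Kp 𝔮)
      (Ideal.Quotient.mk Kp (algebraMap (MvPolynomial (Fin (e + h)) k) (Polynomial R) (X i)))) ^ n =
      ∑ j, β' i j * αB' (a j) := by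
    intro i
    have h1 : x i = (Polynomial.X ^ b i * Polynomial.C (s₀ ^ b i)) * Polynomial.C (π i) := by
      simp only [x]
      rw [map_mul]
      ring
    have h2 : algebraMap (Polynomial R ⧸ Kp) (RpT Kp 𝔮) (Ideal.Quotient.mk Kp (x i)) =
        v i * ρ₁ (πb i) := by
      rw [h1, map_mul, map_mul]
      simp only [v, πb]
      rw [hρ₁, hθ₀]
    have h3 : algebraMap (RpT Kp 𝔮) B (ρ₁ (πb i)) ^ n = ∑ j, jB (β i j) * αB' (a j) := by
      rw [← hjB, ← map_pow, hβ i, map_sum]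
      refine Finset.sum_congr rfl fun j _ => ?_
      rw [map_mul]
      rfl
    rw [hXx, h2, map_mul, mul_pow, h3, Finset.mul_sum]
    refine Finset.sum_congr rfl fun j _ => ?_
    simp only [β']
    rw [map_pow]
    ring
  have hBα : ∀ y, hB (αB' y) = Ideal.Quotient.mk _ (algebraMap Λ S (φ y)) := by
    intro y
    change hB (jB (αB y)) = _
    rw [hBj, RingHom.comp_apply, RingHom.coe_coe, hDα, hρ₂, hα, hfac]
  have hvQ : ∀ i, algebraMap (RpT Kp 𝔮) (S ⧸ Ideal.map (algebraMap Λ S)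
      (Ideal.map (algebraMap (Polynomial R) Λ) Kp)) (v i) =
      Ideal.Quotient.mk _ (algebraMap Λ S (l ^ b i)) := by
    intro i
    simp only [v]
    have h1 : evX (Polynomial.X ^ b i * Polynomial.C (s₀ ^ b i)) = l ^ b i := by
      rw [map_mul, map_pow, hevXC, map_pow]
      simp only [evX, Polynomial.aeval_X, l]
      ring
    rw [hR'Q, halgR'Λ, h1]
  have hBβ : ∀ i j, hB (β' i j) = Ideal.Quotient.mk _ (algebraMap Λ S (lam i j)) := by
    intro i j
    simp only [β', lam]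
    rw [map_mul, hB.commutes, map_pow, hvQ, hBj, RingHom.comp_apply, RingHom.coe_coe, hDβ, hρ₂,
      ← hζ'mk, hfac]
    have h1 : Ideal.Quotient.mk (Ideal.map (algebraMap Λ S)
        (Ideal.map (algebraMap (Polynomial R) Λ) Kp)) (algebraMap Λ S (lam' i j)) =
        Ideal.Quotient.mk _ (algebraMap Λ S l₂ * ζ' i j) := by
      rw [Ideal.Quotient.eq, hJq]
      exact hlam'J i j
    rw [map_mul (algebraMap Λ S), map_mul (Ideal.Quotient.mk _), h1, ← map_pow, ← map_mul,
      ← map_mul]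
    congr 1
    rw [← map_pow, ← pow_mul, hμ, map_mul]
    ring
  obtain ⟨φ', hφ'ι, hres⟩ := lift_step φ 𝔮 a ι hpos c hstd hP ϖ hϖ hϖ𝔮 hR hΛ Kp rfl hdim
    (RpT Kp 𝔮) B αB' hαk β' hβ' hB hBα lam hlam hBβ
  -- back to the base field
  obtain ⟨B', _, _, hfpB', g', h', hgh', hle', hnle'⟩ := hres
  letI algkB' : Algebra k B' :=
    ((algebraMap (Polynomial R) B').comp (algebraMap k (Polynomial R))).toAlgebra
  haveI towkB' : IsScalarTower k (Polynomial R) B' := IsScalarTower.of_algebraMap_eq fun _ => rfl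
  haveI := hfpB'
  haveI := hFP
  haveI := hFS
  haveI hFPR' : Algebra.FinitePresentation k (Polynomial R) :=
    Algebra.FinitePresentation.trans k R (Polynomial R)
  have hfpkB' : Algebra.FinitePresentation k B' :=
    Algebra.FinitePresentation.trans k (Polynomial R) B'
  haveI hFSR' : Algebra.FormallySmooth k (Polynomial R) :=
    Algebra.FormallySmooth.comp k R (Polynomial R)
  have hsing : singularIdeal (Polynomial R) B' ≤ singularIdeal k B' :=
    Groth.Agent.H91.SepTools.singularIdeal_le_of_tower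
  have hrad : singRad (Polynomial R) h' ≤ singRad k (h'.restrictScalars k) := by
    unfold singRad
    apply Ideal.radical_mono
    have : Ideal.map (h'.restrictScalars k) (singularIdeal k B') =
        Ideal.map h' (singularIdeal k B') := rfl
    rw [this]
    exact Ideal.map_mono hsing
  -- the map from `A`
  let ιC : A →ₐ[k] (Polynomial R ⊗[MvPolynomial (Fin (e + h)) k] C₀) :=
    { (Algebra.TensorProduct.includeRight :
        C₀ →ₐ[MvPolynomial (Fin (e + h)) k] Polynomial R ⊗[MvPolynomial (Fin (e + h)) k] C₀).toRingHom.comp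
        ι.toRingHom with
      commutes' := by
        intro s
        change (1 : Polynomial R) ⊗ₜ[MvPolynomial (Fin (e + h)) k] ι (algebraMap k A s) = _
        rw [ι.commutes, IsScalarTower.algebraMap_apply k (MvPolynomial (Fin (e + h)) k) C₀,
          Algebra.algebraMap_eq_smul_one (R := MvPolynomial (Fin (e + h)) k) (A := C₀),
          TensorProduct.tmul_smul, TensorProduct.smul_tmul', Algebra.smul_def, mul_one,
          ← IsScalarTower.algebraMap_apply k (MvPolynomial (Fin (e + h)) k) (Polynomial R),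
          Algebra.TensorProduct.algebraMap_apply] }
  have hιC : ∀ y, ιC y = (1 : Polynomial R) ⊗ₜ[MvPolynomial (Fin (e + h)) k] ι y := fun y => rfl
  have hmapspan : (singularIdeal k A).map φ = Ideal.span (Set.range fun j => φ (a j)) := by
    rw [← ha, Ideal.map_span, ← Set.range_comp]
    rfl
  refine ⟨B', inferInstance, algkB', hfpkB', (g'.restrictScalars k).comp ιC,
    h'.restrictScalars k, ?_, ?_, ?_⟩
  · ext y
    change h' (g' (ιC y)) = φ y
    rw [hιC, ← hφ'ι y, ← hgh']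
    rfl
  · refine le_trans ?_ hrad
    refine le_trans ?_ hle'
    unfold singRad
    rw [Ideal.radical_le_radical_iff, hmapspan, Ideal.span_le]
    rintro _ ⟨j, rfl⟩
    apply Ideal.le_radical
    change φ (a j) ∈ _
    rw [← hφ'ι]
    exact Ideal.mem_map_of_mem _
      (Groth.Agent.H91.SepTools.mem_singularIdeal_baseChange (Polynomial R) (ι (a j)) (hH j))
  · exact fun hcon => hnle' (le_trans hrad hcon)

end Assemble

end Groth.Agent.H91.Pop
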