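import Mathlib
import Groth.Agent.H91.SepC

/-!
# Phase 1 of the separable-residue-field resolution (Stacks 07F3): the algebra `C`
-/

set_option autoImplicit false
universe u

open TensorProduct MvPolynomial Smoothing

namespace Groth.Agent.H91.SepD

theorem phase1 {k A : Type u} [Field k] [CommRing A] [Algebra k A] [Algebra.FinitePresentation k A]
    (d n r : ℕ) (hr : 0 < r) (a : Fin r → A) (ha : ∀ j, a j ∈ singularIdeal k A) :
    ∃ (C : Type u) (_ : CommRing C) (_ : Algebra (MvPolynomial (Fin d) k) C) (_ : Algebra k C)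
      (_ : IsScalarTower k (MvPolynomial (Fin d) k) C),
      Algebra.FinitePresentation (MvPolynomial (Fin d) k) C ∧
      ∃ ι : A →ₐ[k] C,
        (∀ j, ι (a j) ∈ singularIdeal (MvPolynomial (Fin d) k) C) ∧
        (∃ c : ℕ, 0 < c ∧ ∀ i : Fin d, IsStrictlyStandard (MvPolynomial (Fin d) k) C
          (algebraMap (MvPolynomial (Fin d) k) C (X i ^ c))) ∧
        ∀ (Λ : Type u) [CommRing Λ] [Algebra k Λ] [Algebra (MvPolynomial (Fin d) k) Λ]
          [IsScalarTower k (MvPolynomial (Fin d) k) Λ] (φ : A →ₐ[k] Λ) (lam : Fin d → Fin r → Λ),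
          (∀ i, algebraMap (MvPolynomial (Fin d) k) Λ (X i) ^ n = ∑ j, lam i j * φ (a j)) →
          ∃ φC : C →ₐ[MvPolynomial (Fin d) k] Λ, ∀ y, φC (ι y) = φ y := by
  classical
  let R := MvPolynomial (Fin d) k
  let T := R ⊗[k] A
  let t : Fin r → T := fun j => (1 : R) ⊗ₜ[k] a j
  have ht : ∀ j, t j ∈ singularIdeal R T := fun j =>
    Groth.Agent.H91.SepTools.mem_singularIdeal_baseChange R (a j) (ha j)
  let x : Fin d → R := fun i => X i
  let B := Groth.Agent.H91.SepB.BBq R T d r n x t
  have hfpB : Algebra.FinitePresentation R B := Groth.Agent.H91.SepB.finitePresentation_B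
  obtain ⟨C, _, _, _, _, hft, ⟨ρ⟩, hC⟩ :=
    Groth.Agent.H91.SymAway.exists_retract_full (R := R) (A := B)
  have hftRC : Algebra.FiniteType R C := Algebra.FiniteType.trans (S := B) inferInstance hft
  have hfpC : Algebra.FinitePresentation R C := Algebra.FinitePresentation.of_finiteType.1 hftRC
  -- the key smoothness transfer
  have key : ∀ b : B, b ∈ singularIdeal R B →
      Module.Free (Localization.Away (algebraMap B C b))
        Ω[Localization.Away (algebraMap B C b)⁄R] ∧
      Algebra.FormallySmooth R (Localization.Away (algebraMap B C b)) := by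
    intro b hb
    have h1 : Algebra.FormallySmooth R (Localization.Away b) :=
      (Groth.Agent.H91.SepTools.mem_singularIdeal_iff b).1 hb
    have h2 : Algebra.FinitePresentation R (Localization.Away b) :=
      Algebra.FinitePresentation.trans R B (Localization.Away b)
    exact hC b ⟨h1, h2⟩
  letI algkC : Algebra k C := ((algebraMap R C).comp (algebraMap k R)).toAlgebra
  have towkC : IsScalarTower k R C := IsScalarTower.of_algebraMap_eq fun _ => rfl
  -- the map ι
  let ι₀ : A →+* C := (algebraMap B C).comp ((algebraMap T B).comp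
    (Algebra.TensorProduct.includeRight : A →ₐ[k] T).toRingHom)
  have hι₀ : ∀ y : A, ι₀ y = algebraMap B C (algebraMap T B ((1 : R) ⊗ₜ[k] y)) := fun y => rfl
  let ι : A →ₐ[k] C :=
    { ι₀ with
      commutes' := by
        intro s
        change ι₀ (algebraMap k A s) = algebraMap R C (algebraMap k R s)
        rw [hι₀]
        have e1 : ((1 : R) ⊗ₜ[k] (algebraMap k A s) : T) = algebraMap R T (algebraMap k R s) := by
          rw [Algebra.TensorProduct.algebraMap_apply, Algebra.algebraMap_eq_smul_one,
            Algebra.algebraMap_eq_smul_one (R := k) (A := R), TensorProduct.tmul_smul,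
            TensorProduct.smul_tmul']
          rfl
        rw [e1, ← IsScalarTower.algebraMap_apply R T B, ← IsScalarTower.algebraMap_apply R B C] }
  have hι : ∀ y : A, ι y = algebraMap B C (algebraMap T B ((1 : R) ⊗ₜ[k] y)) := fun y => rfl
  refine ⟨C, inferInstance, inferInstance, algkC, towkC, hfpC, ι, ?_, ?_, ?_⟩
  · intro j
    rw [hι]
    have h1 := Groth.Agent.H91.SepB.tt_mem_singularIdeal (R := R) (T := T) (d := d) (n := n)
      (x := x) (t := t) hr j (ht j)
    exact (Groth.Agent.H91.SepTools.mem_singularIdeal_iff _).2 (key _ h1).2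
  · have hx : ∀ i : Fin d, ∃ e₀ : ℕ, ∀ m : ℕ, e₀ ≤ m →
        IsStrictlyStandard R C (algebraMap R C (X i) ^ m) := by
      intro i
      have h1 := Groth.Agent.H91.SepB.x_mem_singularIdeal (R := R) (T := T) (d := d) (n := n)
        (x := x) (t := t) hr ht i
      have h2 := key _ h1
      rw [← IsScalarTower.algebraMap_apply R B C] at h2
      exact Groth.Agent.H91.SepC.exists_pow_isStrictlyStandard _ h2.1 h2.2
    choose e₀ he₀ using hx
    refine ⟨Finset.univ.sup e₀ + 1, Nat.succ_pos _, fun i => ?_⟩
    rw [map_pow]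
    exact he₀ i _ (le_trans (Finset.le_sup (Finset.mem_univ i)) (Nat.le_succ _))
  · intro Λ _ _ _ _ φ lam hlam
    let ψT : T →ₐ[R] Λ :=
      Algebra.TensorProduct.lift (Algebra.ofId R Λ) φ (fun _ _ => Commute.all _ _)
    have hψT : ∀ y : A, ψT ((1 : R) ⊗ₜ[k] y) = φ y := by
      intro y
      rw [Algebra.TensorProduct.lift_tmul, map_one, one_mul]
    have hlam' : ∀ i, algebraMap R Λ (x i) ^ n = ∑ j, lam i j * ψT (t j) := by
      intro i
      rw [hlam i]
      refine Finset.sum_congr rfl fun j _ => ?_
      rw [hψT]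
    let φB := Groth.Agent.H91.SepB.φB (R := R) (T := T) (d := d) (r := r) (n := n) (x := x)
      (t := t) ψT lam hlam'
    refine ⟨φB.comp (ρ.restrictScalars R), fun y => ?_⟩
    rw [hι, AlgHom.comp_apply, AlgHom.restrictScalars_apply, AlgHom.commutes,
      Algebra.algebraMap_self_apply, Groth.Agent.H91.SepB.φB_algebraMap, hψT]

end Groth.Agent.H91.SepD
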