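import Mathlib
import Groth.Agent.H91.SepI
import Groth.Agent.H91.SepD

/-!
# The separable-residue-field resolution (Stacks 07F3): auxiliary facts and the case `d = 0`
-/

set_option autoImplicit false
universe u

open MvPolynomial Smoothing IsLocalRing

namespace Groth.Agent.H91.SepJ

theorem exists_pow_map_le {Λ : Type u} [CommRing Λ] [IsNoetherianRing Λ] (I 𝔮 : Ideal Λ)
    [𝔮.IsPrime] (hmin : 𝔮 ∈ I.radical.minimalPrimes) :
    ∃ n : ℕ, 0 < n ∧ (𝔮 ^ n).map (algebraMap Λ (Localization.AtPrime 𝔮)) ≤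
      I.map (algebraMap Λ (Localization.AtPrime 𝔮)) := by
  rw [Ideal.radical_minimalPrimes] at hmin
  have hclaim : 𝔮.map (algebraMap Λ (Localization.AtPrime 𝔮)) ≤
      (I.map (algebraMap Λ (Localization.AtPrime 𝔮))).radical := by
    rw [Ideal.radical_eq_sInf]
    refine le_sInf ?_
    rintro P ⟨hIP, hP⟩
    rw [Ideal.map_le_iff_le_comap] at hIP ⊢
    have hPq : P.comap (algebraMap Λ (Localization.AtPrime 𝔮)) ≤ 𝔮 := by
      have h1 : P ≤ maximalIdeal (Localization.AtPrime 𝔮) := le_maximalIdeal hP.ne_top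
      have h2 := Ideal.comap_mono (f := algebraMap Λ (Localization.AtPrime 𝔮)) h1
      have h3 : Ideal.comap (algebraMap Λ (Localization.AtPrime 𝔮))
          (maximalIdeal (Localization.AtPrime 𝔮)) = 𝔮 :=
        IsLocalization.AtPrime.comap_maximalIdeal (Localization.AtPrime 𝔮) 𝔮
      rwa [h3] at h2
    exact hmin.2 ⟨Ideal.IsPrime.comap _, hIP⟩ hPq
  obtain ⟨n, hn⟩ := Ideal.exists_pow_le_of_le_radical_of_fg hclaim
    (IsNoetherian.noetherian _)
  refine ⟨n + 1, Nat.succ_pos _, ?_⟩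
  rw [Ideal.map_pow]
  exact le_trans (Ideal.pow_le_pow_right (Nat.le_succ n)) hn

/-- the Krull dimension of a Noetherian local ring is a natural number -/
theorem exists_dim (S : Type u) [CommRing S] [IsNoetherianRing S] [IsLocalRing S] :
    ∃ d : ℕ, ringKrullDim S = d := by
  obtain ⟨d, hd⟩ := ENat.ne_top_iff_exists.mp
    (Ideal.height_ne_top_of_isPrime (I := IsLocalRing.maximalIdeal S))
  refine ⟨d, ?_⟩
  rw [← IsLocalRing.maximalIdeal_height_eq_ringKrullDim, ← hd]
  rfl

/-- the case of dimension zero -/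
theorem resolvable_dim_zero {k A Λ : Type u} [Field k] [CommRing A] [Algebra k A]
    [Algebra.FinitePresentation k A] [CommRing Λ] [Algebra k Λ]
    (φ : A →ₐ[k] Λ) (𝔮 : Ideal Λ) [𝔮.IsPrime] [IsRegularLocalRing (Localization.AtPrime 𝔮)]
    (hd : ringKrullDim (Localization.AtPrime 𝔮) = 0)
    [Algebra.FormallySmooth k (IsLocalRing.ResidueField (Localization.AtPrime 𝔮))] :
    Resolvable k φ 𝔮 := by
  have hmax0 : maximalIdeal (Localization.AtPrime 𝔮) = ⊥ := by
    obtain ⟨x, hx⟩ := Groth.Agent.H91.RegPow.exists_generators (A := Localization.AtPrime 𝔮) 0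
      (by rw [hd]; rfl)
    rw [← hx, Set.range_eq_empty, Ideal.span_empty]
  have hF : IsField (Localization.AtPrime 𝔮) := IsLocalRing.isField_iff_maximalIdeal_eq.mpr hmax0
  letI : Field (Localization.AtPrime 𝔮) := hF.toField
  have hfs0 : Algebra.FormallySmooth k (Localization.AtPrime 𝔮 ⧸
      maximalIdeal (Localization.AtPrime 𝔮)) :=
    inferInstanceAs (Algebra.FormallySmooth k (IsLocalRing.ResidueField (Localization.AtPrime 𝔮)))
  haveI hfs : Algebra.FormallySmooth k (Localization.AtPrime 𝔮) :=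
    Algebra.FormallySmooth.of_equiv ((Ideal.quotientEquivAlgOfEq k hmax0).trans
      (AlgEquiv.quotientBot k (Localization.AtPrime 𝔮)))
  haveI hbot : (⊥ : Ideal k).IsMaximal := Ideal.bot_isMaximal
  refine Groth.Agent.H91.LocStep.resolvable_of_indSmooth (Λq := Localization.AtPrime 𝔮) φ 𝔮 ?_ hd
    Groth.Agent.H91.SepInd.indSmooth_of_formallySmooth_field
  exact Groth.Agent.H91.SepF.isLocalization_atPrime_of_le_nilradical (⊥ : Ideal k) bot_le _

end Groth.Agent.H91.SepJ
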