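import Mathlib
import Groth.Agent.H91.SepJ

/-!
# The separable-residue-field resolution (Stacks 07F3): main theorem
-/

set_option autoImplicit false
universe u

open MvPolynomial Smoothing IsLocalRing

namespace Groth.Agent.H91.SepK

/-- generators of the singular ideal, with at least one generator -/
theorem exists_generators_singularIdeal {k A : Type u} [Field k] [CommRing A] [Algebra k A]
    [Algebra.FinitePresentation k A] :
    ∃ (r : ℕ) (a : Fin r → A), 0 < r ∧ Ideal.span (Set.range a) = singularIdeal k A := by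
  haveI : IsNoetherianRing A := Algebra.FiniteType.isNoetherianRing k A
  obtain ⟨r', a', ha'⟩ := Submodule.fg_iff_exists_fin_generating_family.1
    (IsNoetherian.noetherian (singularIdeal k A))
  refine ⟨r' + 1, Fin.cons 0 a', Nat.succ_pos _, ?_⟩
  rw [Fin.range_cons, Ideal.span_insert_zero]
  exact ha'

theorem main_pos {k A Λ : Type u} [Field k] [CommRing A] [Algebra k A]
    [Algebra.FinitePresentation k A] [CommRing Λ] [Algebra k Λ] [IsNoetherianRing Λ]
    (φ : A →ₐ[k] Λ) (𝔮 : Ideal Λ) [𝔮.IsPrime] (hmin : 𝔮 ∈ (singRad k φ).minimalPrimes)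
    [IsRegularLocalRing (Localization.AtPrime 𝔮)] (d : ℕ) (hd0 : 0 < d)
    (hd : ringKrullDim (Localization.AtPrime 𝔮) = d)
    [Algebra.FormallySmooth k (IsLocalRing.ResidueField (Localization.AtPrime 𝔮))] :
    Resolvable k φ 𝔮 := by
  classical
  obtain ⟨r, a, hr, ha⟩ := exists_generators_singularIdeal (k := k) (A := A)
  have ha' : ∀ j, a j ∈ singularIdeal k A := fun j => by
    rw [← ha]; exact Ideal.subset_span ⟨j, rfl⟩
  obtain ⟨n, hn, hpow⟩ := Groth.Agent.H91.SepJ.exists_pow_map_le
    ((singularIdeal k A).map φ) 𝔮 hmin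
  obtain ⟨C, _, _, _, _, hfpC, ι, hH, ⟨c, hc, hstd⟩, hP⟩ :=
    Groth.Agent.H91.SepD.phase1 (k := k) (A := A) d n r hr a ha'
  obtain ⟨π, hgen, hπn, hann⟩ := Groth.Agent.H91.RegPow.main 𝔮 d hd (c * 8)
    (Nat.mul_pos hc (by norm_num)) ((singularIdeal k A).map φ) n hn hpow
  -- the coefficients
  have hmapspan : (singularIdeal k A).map φ = Ideal.span (Set.range fun j => φ (a j)) := by
    rw [← ha, Ideal.map_span, ← Set.range_comp]
    rfl
  have hlam : ∀ i, ∃ l : Fin r → Λ, ∑ j, l j * φ (a j) = π i ^ n := by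
    intro i
    have := hπn i
    rw [hmapspan] at this
    exact Ideal.mem_span_range_iff_exists_fun.mp this
  choose lam hlam using hlam
  -- the algebra structure
  letI algRΛ : Algebra (MvPolynomial (Fin d) k) Λ := (aeval π : MvPolynomial (Fin d) k →ₐ[k] Λ).toRingHom.toAlgebra
  have halg : ∀ p : MvPolynomial (Fin d) k, algebraMap (MvPolynomial (Fin d) k) Λ p = aeval π p :=
    fun p => rfl
  haveI towRΛ : IsScalarTower k (MvPolynomial (Fin d) k) Λ := IsScalarTower.of_algebraMap_eq
    fun s => by rw [halg, MvPolynomial.algebraMap_eq, aeval_C]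
  have hπ : ∀ i, algebraMap (MvPolynomial (Fin d) k) Λ (X i) = π i := fun i => by
    rw [halg, aeval_X]
  obtain ⟨φC, hφC⟩ := hP Λ φ lam (fun i => by rw [hπ, hlam])
  haveI := hfpC
  obtain ⟨B', _, _, hfpB', g', h', hgh', hle', hnle'⟩ :=
    Groth.Agent.H91.SepI.resolvable_poly d hd0 𝔮 hd c hc π hπ hgen hann hstd φC
  letI algkB : Algebra k B' :=
    ((algebraMap (MvPolynomial (Fin d) k) B').comp (algebraMap k (MvPolynomial (Fin d) k))).toAlgebra
  haveI towkB : IsScalarTower k (MvPolynomial (Fin d) k) B' :=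
    IsScalarTower.of_algebraMap_eq fun _ => rfl
  haveI := hfpB'
  have hfpkB : Algebra.FinitePresentation k B' :=
    Algebra.FinitePresentation.trans k (MvPolynomial (Fin d) k) B'
  have hsing : singularIdeal (MvPolynomial (Fin d) k) B' ≤ singularIdeal k B' :=
    Groth.Agent.H91.SepTools.singularIdeal_le_of_tower
  have hrad : singRad (MvPolynomial (Fin d) k) h' ≤ singRad k (h'.restrictScalars k) := by
    unfold singRad
    apply Ideal.radical_mono
    have : Ideal.map (h'.restrictScalars k) (singularIdeal k B') =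
        Ideal.map h' (singularIdeal k B') := rfl
    rw [this]
    exact Ideal.map_mono hsing
  refine ⟨B', inferInstance, algkB, hfpkB, (g'.restrictScalars k).comp ι,
    h'.restrictScalars k, ?_, ?_, ?_⟩
  · ext y
    change h' (g' (ι y)) = φ y
    rw [← hφC y, ← hgh']
    rfl
  · refine le_trans ?_ hrad
    refine le_trans ?_ hle'
    unfold singRad
    rw [Ideal.radical_le_radical_iff, hmapspan, Ideal.span_le]
    rintro _ ⟨j, rfl⟩
    apply Ideal.le_radical
    change φ (a j) ∈ _
    rw [← hφC]
    exact Ideal.mem_map_of_mem _ (hH j)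
  · exact fun hcon => hnle' (le_trans hrad hcon)

end Groth.Agent.H91.SepK
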