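import Mathlib
import Groth.Prelude.Def_Smoothing
import Groth.Prelude.Def_Found
import Groth.Agent.H91.PopK
import Groth.Agent.H91.PopO
import Groth.Agent.H91.PopY
import Groth.Agent.H91.SepK
import Groth.Agent.H23.GeomRegLoc

/-!
# Popescu's theorem over a field of positive characteristic: resolving at a minimal prime
-/

set_option autoImplicit false
set_option linter.style.haveILetI false
set_option maxHeartbeats 1600000
universe u

open TensorProduct MvPolynomial Smoothing IsLocalRing

namespace Groth.Agent.H91.Pop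

theorem main_charP {k A Λ : Type u} [Field k] (p : ℕ) [Fact p.Prime] [CharP k p] [CommRing A]
    [Algebra k A] [Algebra.FinitePresentation k A] [CommRing Λ] [Algebra k Λ]
    [IsNoetherianRing Λ] (hreg : CAlg.IsGeometricallyRegular k Λ) (φ : A →ₐ[k] Λ) (𝔮 : Ideal Λ)
    [𝔮.IsPrime] (hmin : 𝔮 ∈ (singRad k φ).minimalPrimes) : Resolvable k φ 𝔮 := by
  classical
  have hS : CAlg.IsGeometricallyRegular k (Localization.AtPrime 𝔮) :=
    Groth.Agent.H23.GeomRegLoc.geomReg_of_isLocalization Λ 𝔮.primeCompl _ hreg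
  haveI hregS : IsRegularRing (Localization.AtPrime 𝔮) := by
    haveI := hS k (Module.Finite.self k)
    exact IsRegularRing.of_ringEquiv (Algebra.TensorProduct.lid k (Localization.AtPrime 𝔮)).toRingEquiv
  haveI : IsRegularLocalRing (Localization.AtPrime 𝔮) :=
    IsRegularLocalRing.of_isRegularRing_of_isLocalRing (Localization.AtPrime 𝔮)
  obtain ⟨d, hd⟩ : ∃ d, d = (maximalIdeal (Localization.AtPrime 𝔮)).spanFinrank := ⟨_, rfl⟩
  have hdim : ringKrullDim (Localization.AtPrime 𝔮) = ((d : ℕ) : WithBot ℕ∞) := by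
    rw [Groth.Agent.Lead.RLR.ringKrullDim_eq_spanFinrank, hd]
  rcases Nat.eq_zero_or_pos d with h0 | h0
  · -- the residue field case
    subst h0
    have hm0 : maximalIdeal (Localization.AtPrime 𝔮) = ⊥ :=
      (Submodule.spanFinrank_eq_zero_iff_eq_bot (IsNoetherian.noetherian _)).mp hd.symm
    have hadic := Groth.Agent.H23.GeomRegFS.adic_of_geomReg p (Localization.AtPrime 𝔮) hS
    haveI hfs : Algebra.FormallySmooth k (Localization.AtPrime 𝔮) := by
      apply Algebra.FormallySmooth.of_comp_surjective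
      intro B _ _ I hI ψ
      obtain ⟨χ, hχ⟩ := hadic B I hI ψ ⟨1, fun x hx => by
        rw [pow_one, hm0, Ideal.mem_bot] at hx
        rw [hx, map_zero]⟩
      exact ⟨χ, hχ⟩
    haveI : Algebra.FormallySmooth k (IsLocalRing.ResidueField (Localization.AtPrime 𝔮)) := by
      have : Algebra.FormallySmooth k (Localization.AtPrime 𝔮 ⧸
          maximalIdeal (Localization.AtPrime 𝔮)) :=
        Algebra.FormallySmooth.of_equiv ((Ideal.quotientEquivAlgOfEq k hm0).trans
          (AlgEquiv.quotientBot k (Localization.AtPrime 𝔮))).symm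
      exact this
    exact Groth.Agent.H91.SepJ.resolvable_dim_zero φ 𝔮 (by rw [hdim]; rfl)
  · -- the main case
    obtain ⟨r, a, hr, ha⟩ := Groth.Agent.H91.SepK.exists_generators_singularIdeal (k := k) (A := A)
    have ha' : ∀ j, a j ∈ singularIdeal k A := fun j => by
      rw [← ha]; exact Ideal.subset_span ⟨j, rfl⟩
    obtain ⟨n, hn, hpow⟩ := Groth.Agent.H91.SepJ.exists_pow_map_le
      ((singularIdeal k A).map φ) 𝔮 hmin
    obtain ⟨C₀, _, _, _, _, hfpC, ι, hH, ⟨c, hc, hstd⟩, hP⟩ :=
      Groth.Agent.H91.SepD.phase1 (k := k) (A := A) d n r hr a ha'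
    haveI := hfpC
    -- generators of `𝔮`
    obtain ⟨d₀, u, hu⟩ := Submodule.fg_iff_exists_fin_generating_family.1
      (IsNoetherian.noetherian 𝔮)
    have hu' : Ideal.span (Set.range fun i => algebraMap Λ (Localization.AtPrime 𝔮) (u i)) =
        maximalIdeal (Localization.AtPrime 𝔮) := by
      rw [← IsLocalization.AtPrime.map_eq_maximalIdeal 𝔮 (Localization.AtPrime 𝔮)]
      have h1 : Ideal.span (Set.range u) = 𝔮 := hu
      have h2 : Ideal.map (algebraMap Λ (Localization.AtPrime 𝔮)) 𝔮 =
          Ideal.map (algebraMap Λ (Localization.AtPrime 𝔮)) (Ideal.span (Set.range u)) := by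
        rw [h1]
      rw [h2, Ideal.map_span, ← Set.range_comp]
      rfl
    -- generators of `A`
    obtain ⟨G, hG⟩ := (Algebra.FiniteType.out : (⊤ : Subalgebra k A).FG)
    obtain ⟨N, hN⟩ : ∃ N, N = d * (c * 8) + 1 + n := ⟨_, rfl⟩
    have hN0 : 0 < N := by omega
    obtain ⟨F, m₀, y, D, hDloc, hF, hyD, huD, hED, hflatD, hmD, hDF, hFD⟩ :=
      stage1 p (Localization.AtPrime 𝔮) hS N hN0 𝔮 u hu' (G.image φ)
    haveI := hDloc
    obtain ⟨t, h, e, w, π, hcard, hw, hspanP, hindep, wF, hwF, hΩ⟩ :=
      stage2 p (Localization.AtPrime 𝔮) hS 𝔮 u hu' F y hF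
    have hde : e + h = d := hcard.trans hd.symm
    subst hde
    have hFG : F.FG := by
      rw [hF]
      exact IntermediateField.fg_adjoin_of_finite (Set.finite_range _)
    have hwD : ∀ l, Ideal.Quotient.mk (maximalIdeal (Localization.AtPrime 𝔮) ^ N)
        (algebraMap Λ (Localization.AtPrime 𝔮) (w l)) ∈ D := by
      intro l
      rcases hw l with ⟨l', hl'⟩ | ⟨i, hi⟩
      · rw [← hl']; exact hyD l'
      · rw [← hi]; exact huD i
    have hRD : ∀ x : MvPolynomial (Fin t ⊕ Fin h) k,
        Ideal.Quotient.mk (maximalIdeal (Localization.AtPrime 𝔮) ^ N)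
          (algebraMap Λ (Localization.AtPrime 𝔮) ((aeval w : _ →ₐ[k] Λ) x)) ∈ D := by
      intro x
      induction x using MvPolynomial.induction_on with
      | C s =>
        rw [aeval_C, ← IsScalarTower.algebraMap_apply k Λ (Localization.AtPrime 𝔮)]
        exact D.algebraMap_mem s
      | add p q hp hq =>
        rw [map_add, map_add, map_add]
        exact D.add_mem hp hq
      | mul_X p l hp =>
        rw [map_mul, map_mul, map_mul, aeval_X]
        exact D.mul_mem hp (hwD l)
    have hAD : ∀ y : A, Ideal.Quotient.mk (maximalIdeal (Localization.AtPrime 𝔮) ^ N)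
        (algebraMap Λ (Localization.AtPrime 𝔮) (φ y)) ∈ D := by
      let f : A →ₐ[k] (Localization.AtPrime 𝔮 ⧸ maximalIdeal (Localization.AtPrime 𝔮) ^ N) :=
        (Ideal.Quotient.mkₐ k _).comp ((IsScalarTower.toAlgHom k Λ (Localization.AtPrime 𝔮)).comp φ)
      have h1 : Algebra.adjoin k (G : Set A) ≤ D.comap f := by
        rw [Algebra.adjoin_le_iff]
        intro g hg
        exact hED (φ g) (Finset.mem_image_of_mem φ hg)
      intro y
      have h2 : y ∈ Algebra.adjoin k (G : Set A) := by rw [hG]; exact Algebra.mem_top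
      exact h1 h2
    refine assemble φ 𝔮 (aeval w) a ha n hn hpow inferInstance inferInstance h0 π hcard hspanP
      hindep ι hH c hc hstd hP N hN hN0 F hFG D hRD hAD hflatD hmD hDF hFD wF
      (fun l => ⟨X l, by rw [hwF l, aeval_X]⟩) hΩ

end Groth.Agent.H91.Pop
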