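import Mathlib
import Groth.Prelude.Def_Smoothing
import Groth.Prelude.Def_Found
import Groth.Agent.H91.PopZ
import Groth.Agent.H91.SepK
import Groth.Agent.H91.NeronB
import Groth.Agent.H47.FSField

/-!
# Popescu's theorem over a field: a Noetherian geometrically regular algebra over a field is
ind-smooth (Stacks 07GC, field case)
-/

set_option autoImplicit false
set_option linter.style.haveILetI false
universe u

open TensorProduct Smoothing IsLocalRing

namespace Groth.Agent.H91.Gen

theorem indSmooth_field {k Λ : Type u} [Field k] [CommRing Λ] [Algebra k Λ] [IsNoetherianRing Λ]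
    (hreg : CAlg.IsGeometricallyRegular k Λ) : IndSmooth k Λ := by
  classical
  apply Groth.Agent.H91.Neron.indSmooth_of_resolvable
  intro A _ _ _ φ 𝔮 _ hmin
  obtain ⟨p, hp⟩ := CharP.exists k
  rcases CharP.char_is_prime_or_zero k p with hp' | hp'
  · haveI := Fact.mk hp'
    exact Groth.Agent.H91.Pop.main_charP p hreg φ 𝔮 hmin
  · subst hp'
    haveI : CharZero k := CharP.charP_to_charZero k
    have hS : CAlg.IsGeometricallyRegular k (Localization.AtPrime 𝔮) :=
      Groth.Agent.H23.GeomRegLoc.geomReg_of_isLocalization Λ 𝔮.primeCompl _ hreg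
    haveI hregS : IsRegularRing (Localization.AtPrime 𝔮) := by
      haveI := hS k (Module.Finite.self k)
      exact IsRegularRing.of_ringEquiv
        (Algebra.TensorProduct.lid k (Localization.AtPrime 𝔮)).toRingEquiv
    haveI : IsRegularLocalRing (Localization.AtPrime 𝔮) :=
      IsRegularLocalRing.of_isRegularRing_of_isLocalRing (Localization.AtPrime 𝔮)
    haveI hfs : Algebra.FormallySmooth k 𝔮.ResidueField :=
      Groth.Agent.H47.formallySmooth_of_perfectField_field
    haveI hfs' : Algebra.FormallySmooth k (IsLocalRing.ResidueField (Localization.AtPrime 𝔮)) := hfs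
    obtain ⟨d, hd⟩ := Groth.Agent.H91.SepJ.exists_dim (Localization.AtPrime 𝔮)
    rcases Nat.eq_zero_or_pos d with h0 | h0
    · subst h0
      exact Groth.Agent.H91.SepJ.resolvable_dim_zero φ 𝔮 (by rw [hd]; rfl)
    · exact Groth.Agent.H91.SepK.main_pos φ 𝔮 hmin d h0 hd

end Groth.Agent.H91.Gen
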