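import Mathlib
import Groth.Prelude.Def_Smoothing
import Groth.Agent.H91.DesLiftB
import Groth.Agent.H91.NeronB
import Groth.Agent.H91.LocStep

/-!
# The desingularization lemma in global form (Stacks 07CR + 07F0): if `π` is strictly standard in
`A` and the problem modulo `π⁸` factors through a smooth algebra, then `A → Λ` factors through a
smooth algebra.
-/

set_option autoImplicit false
set_option linter.style.haveILetI false
universe u

open TensorProduct Smoothing

namespace Groth.Agent.H91.Gen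

theorem desing_global {R Λ A C' R₂ Λ₂ : Type u} [CommRing R] [IsNoetherianRing R] [CommRing Λ]
    [Algebra R Λ] (π : R) (hR : ∀ r : R, π ^ 2 * r = 0 → π * r = 0)
    (hΛ : ∀ x : Λ, π ^ 2 • x = 0 → π • x = 0) [CommRing A] [Algebra R A]
    (φ : A →ₐ[R] Λ)
    (hπ : Smoothing.IsStrictlyStandard R A (algebraMap R A π))
    [CommRing R₂] [Algebra R R₂] (hsurj : Function.Surjective (algebraMap R R₂))
    (hkerR : RingHom.ker (algebraMap R R₂) = Ideal.span {π ^ 8})
    [CommRing Λ₂] [Algebra R Λ₂] (qΛ : Λ →ₐ[R] Λ₂) (hqΛ : Function.Surjective qΛ)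
    (hkerΛ : ∀ l : Λ, qΛ l = 0 ↔ l ∈ Ideal.span {algebraMap R Λ (π ^ 8)})
    [CommRing C'] [Algebra R C'] [Algebra R₂ C'] [IsScalarTower R R₂ C']
    [Algebra.Smooth R₂ C']
    (γ : A →ₐ[R] C') (g : C' →ₐ[R] Λ₂)
    (hfac : ∀ a : A, g (γ a) = qΛ (φ a)) :
    ∃ (B : Type u) (_ : CommRing B) (_ : Algebra R B), Algebra.Smooth R B ∧
      ∃ (α : A →ₐ[R] B) (β : B →ₐ[R] Λ), β.comp α = φ := by
  classical
  haveI : Algebra.FinitePresentation R₂ C' := Algebra.Smooth.finitePresentation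
  obtain ⟨B, _, _, hBfp, α, β, hβα, _, hπB, hle⟩ :=
    Groth.Agent.H91.DesLift.auxQ π hR hΛ φ hπ hsurj hkerR qΛ hqΛ hkerΛ γ g hfac
  haveI := hBfp
  have htop : singularIdeal R₂ C' = ⊤ := Groth.Agent.H91.LocStep.singularIdeal_eq_top_of_smooth
  rw [htop, Ideal.map_top] at hle
  have h1 : (1 : Λ₂) ∈ (((singularIdeal R B).map β).radical).map qΛ := hle trivial
  rw [Ideal.mem_map_iff_of_surjective _ hqΛ] at h1
  obtain ⟨x, hx, hx1⟩ := h1
  have h2 : qΛ (x - 1) = 0 := by rw [map_sub, hx1, map_one, sub_self]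
  have h3 : x - 1 ∈ Ideal.span {algebraMap R Λ (π ^ 8)} := (hkerΛ _).1 h2
  have h4 : algebraMap R Λ (π ^ 8) ∈ ((singularIdeal R B).map β).radical := by
    refine Ideal.le_radical ?_
    have h5 : β (algebraMap R B (π ^ 8)) = algebraMap R Λ (π ^ 8) := β.commutes _
    rw [← h5, map_pow]
    exact Ideal.mem_map_of_mem _ (Ideal.pow_mem_of_mem _ hπB 8 (by norm_num))
  have h6 : x - 1 ∈ ((singularIdeal R B).map β).radical :=
    (Ideal.span_singleton_le_iff_mem _ |>.2 h4) h3
  have h7 : (1 : Λ) ∈ ((singularIdeal R B).map β).radical := by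
    have : (1 : Λ) = x - (x - 1) := by ring
    rw [this]
    exact Ideal.sub_mem _ hx h6
  have h8 : (singularIdeal R B).map β = ⊤ := by
    rw [← Ideal.radical_eq_top, Ideal.eq_top_iff_one]
    exact h7
  obtain ⟨B', _, _, hB', g', h', hgh'⟩ :=
    Groth.Agent.H91.Neron.exists_smooth_of_map_eq_top β h8
  refine ⟨B', inferInstance, inferInstance, hB', g'.comp α, h', ?_⟩
  rw [← AlgHom.comp_assoc, hgh', hβα]

end Groth.Agent.H91.Gen
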