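import Mathlib
import Groth.Prelude.Def_Smoothing

/-!
# If a localization of a finitely presented algebra at a multiplicative subset of the base is
formally smooth, some element of the multiplicative subset lies in the singular ideal
-/

set_option autoImplicit false
set_option linter.style.haveILetI false
universe u

open TensorProduct Smoothing

namespace Groth.Agent.H91.Gen

theorem isSmoothAt_of_isLocalization {R B C : Type u} [CommRing R] [CommRing B]
    [Algebra R B] [CommRing C] [Algebra R C] [Algebra B C]
    [IsScalarTower R B C] (M : Submonoid B) [IsLocalization M C]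
    [Algebra.FormallySmooth R C] (Q' : Ideal C) [Q'.IsPrime] (Q : Ideal B) [hQ : Q.IsPrime]
    (h : Q'.comap (algebraMap B C) = Q) : Algebra.IsSmoothAt R Q := by
  subst h
  haveI towRBL : IsScalarTower R B (Localization.AtPrime Q') := by
    refine IsScalarTower.of_algebraMap_eq fun r => ?_
    rw [IsScalarTower.algebraMap_apply R C (Localization.AtPrime Q'),
      IsScalarTower.algebraMap_apply R B C,
      ← IsScalarTower.algebraMap_apply B C (Localization.AtPrime Q')]
  haveI hloc : IsLocalization.AtPrime (Localization.AtPrime Q')
      (Q'.comap (algebraMap B C)) :=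
    IsLocalization.isLocalization_isLocalization_atPrime_isLocalization
      M (Localization.AtPrime Q') Q'
  haveI : Algebra.FormallySmooth C (Localization.AtPrime Q') :=
    Algebra.FormallySmooth.of_isLocalization Q'.primeCompl
  haveI : Algebra.FormallySmooth R (Localization.AtPrime Q') :=
    Algebra.FormallySmooth.comp R C _
  let e : Localization.AtPrime (Q'.comap (algebraMap B C)) ≃ₐ[B] Localization.AtPrime Q' :=
    IsLocalization.algEquiv (Q'.comap (algebraMap B C)).primeCompl _ _
  exact Algebra.FormallySmooth.of_equiv (e.symm.restrictScalars R)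

theorem exists_mem_singularIdeal_of_isLocalization {R B C : Type u} [CommRing R] [CommRing B]
    [Algebra R B] [Algebra.FinitePresentation R B] [CommRing C] [Algebra R C] [Algebra B C]
    [IsScalarTower R B C] (S : Submonoid R) [IsLocalization (S.map (algebraMap R B)) C]
    [Algebra.FormallySmooth R C] :
    ∃ s ∈ S, algebraMap R B s ∈ singularIdeal R B := by
  classical
  by_contra hcon
  push_neg at hcon
  have hdisj : Disjoint ((singularIdeal R B : Ideal B) : Set B)
      ((S.map (algebraMap R B) : Submonoid B) : Set B) := by
    rw [Set.disjoint_left]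
    rintro _ hb ⟨s, hs, rfl⟩
    exact hcon s hs hb
  obtain ⟨Q, hQ, hle, hQdisj⟩ := Ideal.exists_le_prime_disjoint _ _ hdisj
  haveI := hQ
  -- `Q` is a smooth point
  have hsm : Algebra.IsSmoothAt R Q := by
    have hdisj' : Disjoint ((S.map (algebraMap R B) : Submonoid B) : Set B) (Q : Set B) :=
      hQdisj.symm
    haveI hQ' : (Q.map (algebraMap B C)).IsPrime :=
      IsLocalization.isPrime_of_isPrime_disjoint (S.map (algebraMap R B)) C Q hQ hdisj'
    have hcomap : (Q.map (algebraMap B C)).comap (algebraMap B C) = Q :=
      IsLocalization.comap_map_of_isPrime_disjoint (S.map (algebraMap R B)) C hQ hdisj'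
    exact isSmoothAt_of_isLocalization (S.map (algebraMap R B)) (Q.map (algebraMap B C)) Q hcomap
  -- but `Q` contains the singular ideal
  have hmem : (⟨Q, hQ⟩ : PrimeSpectrum B) ∈ PrimeSpectrum.zeroLocus
      ((PrimeSpectrum.vanishingIdeal (Algebra.smoothLocus R B)ᶜ : Ideal B) : Set B) := by
    rw [PrimeSpectrum.mem_zeroLocus]
    exact hle
  rw [PrimeSpectrum.zeroLocus_vanishingIdeal_eq_closure,
    (Algebra.isOpen_smoothLocus (R := R) (A := B)).isClosed_compl.closure_eq] at hmem
  exact hmem hsm

end Groth.Agent.H91.Gen
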