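import Mathlib
import Groth.Prelude.Def_Smoothing
import Groth.Agent.H91.GenC

/-!
# Spreading out a smooth factorization from a localization of the base
-/

set_option autoImplicit false
set_option linter.style.haveILetI false
universe u

open TensorProduct Smoothing

namespace Groth.Agent.H91.Gen

theorem spread_out {R Λ K ΛK : Type u} [CommRing R] [IsNoetherianRing R] [CommRing Λ]
    [Algebra R Λ] [CommRing K] [Algebra R K] [CommRing ΛK] [Algebra R ΛK] [Algebra K ΛK]
    [IsScalarTower R K ΛK] (ι : Λ →ₐ[R] ΛK) (S : Submonoid R) [IsLocalization S K]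
    (H2 : ∀ x : ΛK, ∃ s ∈ S, ∃ l : Λ, algebraMap R ΛK s * x = ι l)
    (H3 : ∀ l : Λ, ι l = 0 → ∃ s ∈ S, algebraMap R Λ s * l = 0)
    (hind : IndSmooth K ΛK)
    {A : Type u} [CommRing A] [Algebra R A] [Algebra.FinitePresentation R A] (φ : A →ₐ[R] Λ) :
    ∃ (B : Type u) (_ : CommRing B) (_ : Algebra R B), Algebra.FinitePresentation R B ∧
      ∃ (g : A →ₐ[R] B) (h : B →ₐ[R] Λ), h.comp g = φ ∧
        ∃ s ∈ S, algebraMap R B s ∈ singularIdeal R B := by
  classical
  -- Step 1: the smooth `K`-algebra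
  let fK : K ⊗[R] A →ₐ[K] ΛK :=
    Algebra.TensorProduct.lift (Algebra.ofId K ΛK) (ι.comp φ) (fun _ _ => Commute.all _ _)
  obtain ⟨C, _, _, hC, gK, hK, hgh⟩ := hind (K ⊗[R] A) inferInstance fK
  haveI := hC
  letI algRC : Algebra R C := ((algebraMap K C).comp (algebraMap R K)).toAlgebra
  haveI towRKC : IsScalarTower R K C := IsScalarTower.of_algebraMap_eq fun _ => rfl
  let gA : A →ₐ[R] C := (gK.restrictScalars R).comp Algebra.TensorProduct.includeRight
  have hgA : ∀ a, hK (gA a) = ι (φ a) := by
    intro a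
    have h1 : hK (gK ((1 : K) ⊗ₜ[R] a)) = fK ((1 : K) ⊗ₜ[R] a) := by
      rw [← hgh]; rfl
    have h2 : fK ((1 : K) ⊗ₜ[R] a) = ι (φ a) := by
      simp only [fK, Algebra.TensorProduct.lift_tmul, map_one, one_mul, AlgHom.comp_apply]
    rw [← h2, ← h1]
    rfl
  have hKR : ∀ (r : R) (c : C), hK (r • c) = algebraMap R ΛK r * hK c := by
    intro r c
    rw [Algebra.smul_def, map_mul, IsScalarTower.algebraMap_apply R K C, hK.commutes,
      ← IsScalarTower.algebraMap_apply R K ΛK]
  -- Step 2: generators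
  obtain ⟨t, ht⟩ := (inferInstance : Algebra.FiniteType K C).out
  obtain ⟨T, hT⟩ := (inferInstance : Algebra.FiniteType R A).out
  choose sC hsC lC hlC using fun c : C => H2 (hK c)
  -- Step 3: the subalgebra
  let G : Set (Λ × C) := (fun a => (φ a, gA a)) '' (T : Set A) ∪
    (fun c => (lC c, sC c • c)) '' (t : Set C)
  have hGfin : G.Finite := (T.finite_toSet.image _).union (t.finite_toSet.image _)
  let B : Subalgebra R (Λ × C) := Algebra.adjoin R G
  have hBfg : B.FG := ⟨hGfin.toFinset, by rw [Set.Finite.coe_toFinset]⟩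
  haveI hBft : Algebra.FiniteType R B := (Subalgebra.fg_iff_finiteType B).1 hBfg
  haveI hBfp : Algebra.FinitePresentation R B := Algebra.FinitePresentation.of_finiteType.1 hBft
  -- Step 4: the maps
  let ψ : A →ₐ[R] Λ × C := AlgHom.prod φ gA
  have hψB : ∀ a, ψ a ∈ B := by
    intro a
    have ha : a ∈ Algebra.adjoin R (T : Set A) := by rw [hT]; trivial
    induction ha using Algebra.adjoin_induction with
    | mem x hx => exact Algebra.subset_adjoin (Or.inl ⟨x, hx, rfl⟩)
    | algebraMap r => rw [ψ.commutes]; exact B.algebraMap_mem r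
    | add x y _ _ hx hy => rw [map_add]; exact B.add_mem hx hy
    | mul x y _ _ hx hy => rw [map_mul]; exact B.mul_mem hx hy
  let g : A →ₐ[R] B := ψ.codRestrict B hψB
  let h : B →ₐ[R] Λ := (AlgHom.fst R Λ C).comp B.val
  let pr : B →ₐ[R] C := (AlgHom.snd R Λ C).comp B.val
  have hhg : h.comp g = φ := by
    ext a
    rfl
  -- Step 5: the equalizer property
  have heq : ∀ b : Λ × C, b ∈ B → ι b.1 = hK b.2 := by
    intro b hb
    induction hb using Algebra.adjoin_induction with
    | mem x hx =>
      rcases hx with ⟨a, _, rfl⟩ | ⟨c, _, rfl⟩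
      · exact (hgA a).symm
      · change ι (lC c) = hK (sC c • c)
        rw [hKR, hlC]
    | algebraMap r =>
      change ι (algebraMap R Λ r) = hK (algebraMap R C r)
      rw [ι.commutes, IsScalarTower.algebraMap_apply R K C, hK.commutes,
        ← IsScalarTower.algebraMap_apply R K ΛK]
    | add x y _ _ hx hy =>
      change ι (x.1 + y.1) = hK (x.2 + y.2)
      rw [map_add, map_add, hx, hy]
    | mul x y _ _ hx hy =>
      change ι (x.1 * y.1) = hK (x.2 * y.2)
      rw [map_mul, map_mul, hx, hy]
  -- Step 6: `C` is the localization of `B`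
  have L1 : ∀ c : C, ∃ s ∈ S, ∃ b : B, pr b = s • c := by
    intro c
    have hc : c ∈ Algebra.adjoin K (t : Set C) := by rw [ht]; trivial
    induction hc using Algebra.adjoin_induction with
    | mem x hx =>
      exact ⟨sC x, hsC x, ⟨(lC x, sC x • x), Algebra.subset_adjoin (Or.inr ⟨x, hx, rfl⟩)⟩, rfl⟩
    | algebraMap k =>
      obtain ⟨⟨r, s⟩, hrs⟩ := IsLocalization.surj S k
      refine ⟨s, s.2, algebraMap R B r, ?_⟩
      change algebraMap R C r = (s : R) • algebraMap K C k
      rw [Algebra.smul_def, IsScalarTower.algebraMap_apply R K C,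
        IsScalarTower.algebraMap_apply R K C, ← map_mul, ← hrs, mul_comm]
    | add x y _ _ hx hy =>
      obtain ⟨s, hs, b, hb⟩ := hx
      obtain ⟨s', hs', b', hb'⟩ := hy
      refine ⟨s * s', S.mul_mem hs hs', s' • b + s • b', ?_⟩
      rw [map_add, map_smul, map_smul, hb, hb', smul_add, mul_smul, mul_smul, smul_comm s' s x]
    | mul x y _ _ hx hy =>
      obtain ⟨s, hs, b, hb⟩ := hx
      obtain ⟨s', hs', b', hb'⟩ := hy
      refine ⟨s * s', S.mul_mem hs hs', b * b', ?_⟩
      rw [map_mul, hb, hb', smul_mul_smul_comm]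
  have L2 : ∀ b : B, pr b = 0 → ∃ s ∈ S, s • b = 0 := by
    intro b hb
    have h1 : ι (b : Λ × C).1 = 0 := by
      rw [heq _ b.2]
      have : (b : Λ × C).2 = 0 := hb
      rw [this, map_zero]
    obtain ⟨s, hs, hs0⟩ := H3 _ h1
    refine ⟨s, hs, ?_⟩
    apply Subtype.ext
    apply Prod.ext
    · change s • (b : Λ × C).1 = 0
      rw [Algebra.smul_def]
      exact hs0
    · change s • (b : Λ × C).2 = 0
      have : (b : Λ × C).2 = 0 := hb
      rw [this, smul_zero]
  letI algBC : Algebra B C := pr.toRingHom.toAlgebra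
  haveI towRBC : IsScalarTower R B C := IsScalarTower.of_algebraMap_eq fun r => (pr.commutes r).symm
  have hpr : ∀ b : B, algebraMap B C b = pr b := fun _ => rfl
  haveI hloc : IsLocalization (S.map (algebraMap R B)) C := by
    rw [isLocalization_iff]
    refine ⟨?_, ?_, ?_⟩
    · rintro ⟨_, s, hs, rfl⟩
      change IsUnit (algebraMap B C (algebraMap R B s))
      rw [← IsScalarTower.algebraMap_apply R B C, IsScalarTower.algebraMap_apply R K C]
      exact (IsLocalization.map_units K (⟨s, hs⟩ : S)).map (algebraMap K C)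
    · intro c
      obtain ⟨s, hs, b, hb⟩ := L1 c
      refine ⟨(b, ⟨algebraMap R B s, s, hs, rfl⟩), ?_⟩
      change c * algebraMap B C (algebraMap R B s) = algebraMap B C b
      rw [hpr b, hb, ← IsScalarTower.algebraMap_apply R B C, Algebra.smul_def, mul_comm]
    · intro x y hxy
      have h0 : pr (x - y) = 0 := by
        rw [map_sub, sub_eq_zero]
        exact hxy
      obtain ⟨s, hs, hs0⟩ := L2 _ h0
      refine ⟨⟨algebraMap R B s, s, hs, rfl⟩, ?_⟩
      change algebraMap R B s * x = algebraMap R B s * y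
      rw [← sub_eq_zero, ← mul_sub, ← Algebra.smul_def]
      exact hs0
  -- Step 7: smoothness
  haveI : Algebra.FormallySmooth R K := Algebra.FormallySmooth.of_isLocalization S
  haveI : Algebra.FormallySmooth K C := hC.formallySmooth
  haveI : Algebra.FormallySmooth R C := Algebra.FormallySmooth.comp R K C
  obtain ⟨s, hs, hsH⟩ := exists_mem_singularIdeal_of_isLocalization (R := R) (B := B) (C := C) S
  exact ⟨B, inferInstance, inferInstance, hBfp, g, h, hhg, s, hs, hsH⟩

end Groth.Agent.H91.Gen
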