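import Mathlib
import Groth.Prelude.Def_Smoothing

/-!
# The fibre over a minimal prime of a radical ideal as a localization
-/

set_option autoImplicit false
set_option linter.style.haveILetI false
universe u

open TensorProduct

namespace Groth.Agent.H91.Gen

theorem exists_notMem_mul_mem {R₀ : Type u} [CommRing R₀] [IsNoetherianRing R₀] (I 𝔭 : Ideal R₀)
    (hrad : I.IsRadical) (hmin : 𝔭 ∈ I.minimalPrimes) :
    ∃ s ∉ 𝔭, ∀ r ∈ 𝔭, s * r ∈ I := by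
  classical
  have hfin : I.minimalPrimes.Finite := Ideal.finite_minimalPrimes_of_isNoetherianRing R₀ I
  let T : Finset (Ideal R₀) := hfin.toFinset.erase 𝔭
  let J : Ideal R₀ := T.inf id
  have hJ : ¬ J ≤ 𝔭 := by
    intro hle
    obtain ⟨𝔮, h𝔮T, h𝔮le⟩ := (Ideal.IsPrime.inf_le' (hmin.1.1)).1 hle
    rw [Finset.mem_erase, Set.Finite.mem_toFinset] at h𝔮T
    have h1 : 𝔭 ≤ 𝔮 := hmin.2 h𝔮T.2.1 h𝔮le
    exact h𝔮T.1 (le_antisymm h𝔮le h1)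
  obtain ⟨s, hsJ, hs𝔭⟩ := SetLike.not_le_iff_exists.1 hJ
  refine ⟨s, hs𝔭, fun r hr => ?_⟩
  rw [← hrad.radical, ← Ideal.sInf_minimalPrimes, Ideal.mem_sInf]
  intro 𝔮 h𝔮
  by_cases h : 𝔮 = 𝔭
  · subst h
    exact Ideal.mul_mem_left _ _ hr
  · have h1 : J ≤ 𝔮 := Finset.inf_le (f := id)
      (Finset.mem_erase.2 ⟨h, (Set.Finite.mem_toFinset hfin).2 h𝔮⟩)
    exact Ideal.mul_mem_right _ _ (h1 hsJ)

theorem exists_mul_mem_of_one_tmul_eq_zero {R₀ Λ₀ : Type u} [CommRing R₀] [CommRing Λ₀]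
    [Algebra R₀ Λ₀] (𝔭 : Ideal R₀) [𝔭.IsPrime] (l : Λ₀)
    (h : ((1 : 𝔭.ResidueField) ⊗ₜ[R₀] l : 𝔭.Fiber Λ₀) = 0) :
    ∃ s ∉ 𝔭, algebraMap R₀ Λ₀ s * l ∈ 𝔭.map (algebraMap R₀ Λ₀) := by
  classical
  letI : Algebra Λ₀ (𝔭.Fiber Λ₀) := Algebra.TensorProduct.rightAlgebra
  have e := Ideal.Fiber.algEquivAux₁ (S := Λ₀) 𝔭
  have h1 : algebraMap Λ₀ (𝔭.Fiber Λ₀) l = (1 : 𝔭.ResidueField) ⊗ₜ[R₀] l := rfl
  have h2 : e (algebraMap Λ₀ (𝔭.Fiber Λ₀) l) = 0 := by rw [h1, h, map_zero]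
  rw [e.commutes] at h2
  rw [IsScalarTower.algebraMap_apply Λ₀
    (Localization (Algebra.algebraMapSubmonoid Λ₀ 𝔭.primeCompl)), Ideal.Quotient.algebraMap_eq,
    Ideal.Quotient.eq_zero_iff_mem,
    IsLocalization.mem_map_algebraMap_iff (Algebra.algebraMapSubmonoid Λ₀ 𝔭.primeCompl)] at h2
  obtain ⟨⟨⟨a, ha⟩, ⟨m, hm⟩⟩, h3⟩ := h2
  simp only at h3
  rw [← map_mul] at h3
  obtain ⟨⟨m', hm'⟩, h4⟩ := (IsLocalization.eq_iff_exists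
    (Algebra.algebraMapSubmonoid Λ₀ 𝔭.primeCompl) _).1 h3
  simp only at h4
  obtain ⟨s, hs, rfl⟩ := hm
  obtain ⟨s', hs', rfl⟩ := hm'
  refine ⟨s' * s, 𝔭.primeCompl.mul_mem hs' hs, ?_⟩
  have h5 : algebraMap R₀ Λ₀ (s' * s) * l = algebraMap R₀ Λ₀ s' * a := by
    rw [map_mul, ← h4]
    ring
  rw [h5]
  exact Ideal.mul_mem_left _ _ ha

theorem exists_mul_mem_map {R₀ Λ₀ : Type u} [CommRing R₀] [IsNoetherianRing R₀] [CommRing Λ₀]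
    [Algebra R₀ Λ₀] (I 𝔭 : Ideal R₀) [𝔭.IsPrime]
    (hrad : I.IsRadical) (hmin : 𝔭 ∈ I.minimalPrimes) (l : Λ₀)
    (h : ((1 : 𝔭.ResidueField) ⊗ₜ[R₀] l : 𝔭.Fiber Λ₀) = 0) :
    ∃ s ∉ 𝔭, algebraMap R₀ Λ₀ s * l ∈ I.map (algebraMap R₀ Λ₀) := by
  obtain ⟨s, hs, hsl⟩ := exists_mul_mem_of_one_tmul_eq_zero 𝔭 l h
  obtain ⟨s', hs', hs'I⟩ := exists_notMem_mul_mem I 𝔭 hrad hmin
  refine ⟨s' * s, 𝔭.primeCompl.mul_mem hs' hs, ?_⟩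
  have key : ∀ x ∈ 𝔭.map (algebraMap R₀ Λ₀), algebraMap R₀ Λ₀ s' * x ∈ I.map (algebraMap R₀ Λ₀) := by
    intro x hx
    refine Submodule.span_induction ?_ ?_ ?_ ?_ hx
    · rintro _ ⟨r, hr, rfl⟩
      rw [← map_mul]
      exact Ideal.mem_map_of_mem _ (hs'I r hr)
    · rw [mul_zero]; exact Ideal.zero_mem _
    · intro x y _ _ hx hy
      rw [mul_add]; exact Ideal.add_mem _ hx hy
    · intro a x _ hx
      rw [smul_eq_mul, mul_left_comm]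
      exact Ideal.mul_mem_left _ _ hx
  have := key _ hsl
  rwa [← mul_assoc, ← map_mul] at this

end Groth.Agent.H91.Gen
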