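import Mathlib
import Groth.Prelude.Def_Smoothing
import Groth.Prelude.Def_Found
import Groth.Agent.H91.LiftOnceF

/-!
# General Popescu: auxiliary steps of the Noetherian induction
-/

set_option autoImplicit false
set_option linter.style.haveILetI false
universe u

open TensorProduct Smoothing

namespace Groth.Agent.H91.Gen

open Groth.Agent.H91.LiftOnce

theorem smul_eq_zero_of_sq_smul_eq_zero {R M : Type*} [CommRing R] [IsReduced R]
    [AddCommGroup M] [Module R M] [Module.Flat R M] (π : R) (x : M) (h : π ^ 2 • x = 0) :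
    π • x = 0 := by
  have h' : ∑ i : Fin 1, (fun _ => π ^ 2) i • (fun _ => x) i = 0 := by
    simpa using h
  obtain ⟨k, a, y, hx, ha⟩ := Module.Flat.isTrivialRelation_of_sum_smul_eq_zero h'
  have hx0 : x = ∑ j, a 0 j • y j := hx 0
  have hπa : ∀ j, π * a 0 j = 0 := fun j => by
    have h1 := ha j
    rw [Fin.sum_univ_one] at h1
    exact IsNilpotent.eq_zero ⟨2, by rw [mul_pow, pow_two (a 0 j), ← mul_assoc, h1, zero_mul]⟩
  rw [hx0, Finset.smul_sum]
  exact Finset.sum_eq_zero fun j _ => by rw [smul_smul, hπa j, zero_smul]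

theorem mul_eq_zero_of_sq_mul_eq_zero {R : Type*} [CommRing R] [IsReduced R] (π r : R)
    (h : π ^ 2 * r = 0) : π * r = 0 :=
  IsNilpotent.eq_zero ⟨2, by rw [mul_pow, pow_two r, ← mul_assoc, h, zero_mul]⟩

variable {R₀ Λ₀ : Type u} [CommRing R₀] [CommRing Λ₀] [Algebra R₀ Λ₀]

theorem P_top : P Λ₀ (⊤ : Ideal R₀) := by
  intro A _ _ hfp f
  haveI := hfp
  haveI hsR : Subsingleton (R₀ ⧸ (⊤ : Ideal R₀)) := Ideal.Quotient.subsingleton_iff.2 rfl
  haveI hsA : Subsingleton A := by
    have h01 : (0 : A) = 1 := by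
      rw [← map_one (algebraMap (R₀ ⧸ (⊤ : Ideal R₀)) A),
        Subsingleton.elim (1 : R₀ ⧸ (⊤ : Ideal R₀)) 0, map_zero]
    exact subsingleton_of_zero_eq_one h01
  let e : (R₀ ⧸ (⊤ : Ideal R₀)) ≃ₐ[R₀ ⧸ (⊤ : Ideal R₀)] A :=
    AlgEquiv.ofBijective (Algebra.ofId _ A)
      ⟨fun _ _ _ => Subsingleton.elim _ _, fun y => ⟨0, Subsingleton.elim _ _⟩⟩
  haveI : Algebra.FormallySmooth (R₀ ⧸ (⊤ : Ideal R₀)) A := Algebra.FormallySmooth.of_equiv e
  exact ⟨A, inferInstance, inferInstance, ⟨inferInstance, inferInstance⟩, AlgHom.id _ A, f,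
    AlgHom.comp_id f⟩

theorem P_of_P_radical [IsNoetherianRing R₀] [Module.Flat R₀ Λ₀] (I : Ideal R₀)
    (h : P Λ₀ I.radical) : P Λ₀ I := by
  obtain ⟨n, hn⟩ := Ideal.exists_radical_pow_le_of_fg I (IsNoetherian.noetherian _)
  have hall : ∀ m, 1 ≤ m → P Λ₀ (I ⊔ I.radical ^ m) := by
    intro m hm
    induction m, hm using Nat.le_induction with
    | base =>
      rw [pow_one, sup_eq_right.2 Ideal.le_radical]
      exact h
    | succ m hm ih =>
      refine step (sup_le_sup_left (Ideal.pow_le_pow_right (Nat.le_succ m)) I) ?_ ih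
      rw [pow_two, Ideal.sup_mul, Ideal.mul_sup, Ideal.mul_sup]
      refine sup_le (sup_le (Ideal.mul_le_left.trans le_sup_left)
        (Ideal.mul_le_left.trans le_sup_left)) (sup_le (Ideal.mul_le_right.trans le_sup_left) ?_)
      rw [← pow_add]
      exact (Ideal.pow_le_pow_right (by omega)).trans le_sup_right
  have h1 := hall (n + 1) (by omega)
  rwa [sup_eq_left.2 ((Ideal.pow_le_pow_right (Nat.le_succ n)).trans hn)] at h1

end Groth.Agent.H91.Gen
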