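import Mathlib
import Groth.Prelude.Def_Smoothing
import Groth.Prelude.Def_Found
import Groth.Agent.H91.GenA
import Groth.Agent.H91.GenB
import Groth.Agent.H91.GenD
import Groth.Agent.H91.GenE
import Groth.Agent.H91.GenF
import Groth.Agent.H91.NeronA

/-!
# General Popescu: the reduced step of the Noetherian induction and the theorem
-/

set_option autoImplicit false
set_option linter.style.haveILetI false
set_option maxHeartbeats 1000000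
universe u

open TensorProduct Smoothing

namespace Groth.Agent.H91.Gen

open Groth.Agent.H91.LiftOnce

variable {R₀ Λ₀ : Type u} [CommRing R₀] [IsNoetherianRing R₀] [CommRing Λ₀] [IsNoetherianRing Λ₀]
  [Algebra R₀ Λ₀]

theorem P_of_radical (hreg : CAlg.IsRegularHom R₀ Λ₀) (I : Ideal R₀) (hrad : I.IsRadical)
    (hne : I ≠ ⊤) (IH : ∀ J, I < J → P Λ₀ J) : P Λ₀ I := by
  classical
  haveI : Module.Flat R₀ Λ₀ := hreg.1
  -- a minimal prime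
  obtain ⟨M, hM, hIM⟩ := Ideal.exists_le_maximal I hne
  obtain ⟨𝔭, h𝔭min, -⟩ := Ideal.exists_minimalPrimes_le (I := I) (J := M) hIM
  haveI h𝔭 : 𝔭.IsPrime := h𝔭min.1.1
  have hI𝔭 : I ≤ 𝔭 := h𝔭min.1.2
  obtain ⟨hnoeth, hgeom⟩ := hreg.2 𝔭
  haveI := hnoeth
  have hindK : IndSmooth 𝔭.ResidueField (𝔭.Fiber Λ₀) := indSmooth_field hgeom
  -- algebra structures
  letI algRK : Algebra (R₀ ⧸ I) 𝔭.ResidueField :=
    (Ideal.Quotient.lift I (algebraMap R₀ 𝔭.ResidueField)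
      (fun a ha => Ideal.algebraMap_residueField_eq_zero.mpr (hI𝔭 ha))).toAlgebra
  haveI towR₀RK : IsScalarTower R₀ (R₀ ⧸ I) 𝔭.ResidueField :=
    IsScalarTower.of_algebraMap_eq fun _ => rfl
  haveI towRKF : IsScalarTower (R₀ ⧸ I) 𝔭.ResidueField (𝔭.Fiber Λ₀) := inferInstance
  have halgRK : ∀ r : R₀, algebraMap (R₀ ⧸ I) 𝔭.ResidueField (Ideal.Quotient.mk I r) =
      algebraMap R₀ 𝔭.ResidueField r := fun _ => rfl
  have halgRF : ∀ r : R₀, algebraMap (R₀ ⧸ I) (𝔭.Fiber Λ₀) (Ideal.Quotient.mk I r) =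
      algebraMap R₀ (𝔭.Fiber Λ₀) r := fun r => by
    rw [Algebra.TensorProduct.algebraMap_apply, Algebra.TensorProduct.algebraMap_apply, halgRK]
  -- the map `ι`
  let ι₀ : Λ₀ →ₐ[R₀] 𝔭.Fiber Λ₀ := Algebra.TensorProduct.includeRight
  have hι₀ : ∀ a ∈ I.map (algebraMap R₀ Λ₀), ι₀.toRingHom a = 0 := by
    intro a ha
    have hle : I.map (algebraMap R₀ Λ₀) ≤ RingHom.ker ι₀.toRingHom := by
      rw [Ideal.map_le_iff_le_comap]
      intro i hi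
      rw [Ideal.mem_comap, RingHom.mem_ker]
      change ι₀ (algebraMap R₀ Λ₀ i) = 0
      rw [ι₀.commutes, Algebra.TensorProduct.algebraMap_apply,
        Ideal.algebraMap_residueField_eq_zero.mpr (hI𝔭 hi), zero_tmul]
    exact hle ha
  let ι : (Λ₀ ⧸ I.map (algebraMap R₀ Λ₀)) →ₐ[R₀ ⧸ I] 𝔭.Fiber Λ₀ :=
    { Ideal.Quotient.lift _ ι₀.toRingHom hι₀ with
      commutes' := by
        intro r
        obtain ⟨r, rfl⟩ := Ideal.Quotient.mk_surjective r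
        rw [halgRF]
        change ι₀ (algebraMap R₀ Λ₀ r) = _
        exact ι₀.commutes r }
  have hι : ∀ l : Λ₀, ι (Ideal.Quotient.mk _ l) = (1 : 𝔭.ResidueField) ⊗ₜ[R₀] l := fun _ => rfl
  -- the multiplicative set
  let S : Submonoid (R₀ ⧸ I) := 𝔭.primeCompl.map (Ideal.Quotient.mk I)
  haveI hlocK : IsLocalization S 𝔭.ResidueField := by
    rw [isLocalization_iff]
    refine ⟨?_, ?_, ?_⟩
    · rintro ⟨_, s, hs, rfl⟩
      change IsUnit (algebraMap (R₀ ⧸ I) 𝔭.ResidueField (Ideal.Quotient.mk I s))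
      rw [halgRK]
      refine IsUnit.mk0 _ ?_
      rw [Ne, Ideal.algebraMap_residueField_eq_zero]
      exact hs
    · intro z
      obtain ⟨⟨x, ⟨y, hy⟩⟩, hxy⟩ := IsLocalization.surj (nonZeroDivisors (R₀ ⧸ 𝔭)) z
      obtain ⟨x, rfl⟩ := Ideal.Quotient.mk_surjective x
      obtain ⟨y, rfl⟩ := Ideal.Quotient.mk_surjective y
      have hy' : y ∉ 𝔭 := by
        intro hy𝔭
        have : (Ideal.Quotient.mk 𝔭 y) = 0 := Ideal.Quotient.eq_zero_iff_mem.2 hy𝔭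
        exact nonZeroDivisors.ne_zero hy this
      refine ⟨(Ideal.Quotient.mk I x, ⟨Ideal.Quotient.mk I y, y, hy', rfl⟩), ?_⟩
      change z * algebraMap (R₀ ⧸ I) 𝔭.ResidueField (Ideal.Quotient.mk I y) =
        algebraMap (R₀ ⧸ I) 𝔭.ResidueField (Ideal.Quotient.mk I x)
      rw [halgRK, halgRK]
      exact hxy
    · intro x y hxy
      obtain ⟨x, rfl⟩ := Ideal.Quotient.mk_surjective x
      obtain ⟨y, rfl⟩ := Ideal.Quotient.mk_surjective y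
      rw [halgRK, halgRK, ← sub_eq_zero, ← map_sub, Ideal.algebraMap_residueField_eq_zero] at hxy
      obtain ⟨s, hs, hsI⟩ := exists_notMem_mul_mem I 𝔭 hrad h𝔭min
      refine ⟨⟨Ideal.Quotient.mk I s, s, hs, rfl⟩, ?_⟩
      change Ideal.Quotient.mk I s * Ideal.Quotient.mk I x =
        Ideal.Quotient.mk I s * Ideal.Quotient.mk I y
      rw [← map_mul, ← map_mul, Ideal.Quotient.eq, ← mul_sub]
      exact hsI _ hxy
  have H2 : ∀ x : 𝔭.Fiber Λ₀, ∃ s ∈ S, ∃ l : Λ₀ ⧸ I.map (algebraMap R₀ Λ₀),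
      algebraMap (R₀ ⧸ I) (𝔭.Fiber Λ₀) s * x = ι l := by
    intro x
    obtain ⟨r, hr, l, hl⟩ := Ideal.Fiber.exists_smul_eq_one_tmul 𝔭 x
    refine ⟨Ideal.Quotient.mk I r, ⟨r, hr, rfl⟩, Ideal.Quotient.mk _ l, ?_⟩
    rw [halgRF, hι, ← hl, Algebra.smul_def]
  have H3 : ∀ l : Λ₀ ⧸ I.map (algebraMap R₀ Λ₀), ι l = 0 →
      ∃ s ∈ S, algebraMap (R₀ ⧸ I) (Λ₀ ⧸ I.map (algebraMap R₀ Λ₀)) s * l = 0 := by
    intro l hl
    obtain ⟨l, rfl⟩ := Ideal.Quotient.mk_surjective l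
    rw [hι] at hl
    obtain ⟨s, hs, hsl⟩ := exists_mul_mem_map I 𝔭 hrad h𝔭min l hl
    refine ⟨Ideal.Quotient.mk I s, ⟨s, hs, rfl⟩, ?_⟩
    change Ideal.Quotient.mk _ (algebraMap R₀ Λ₀ s) * Ideal.Quotient.mk _ l = 0
    rw [← map_mul, Ideal.Quotient.eq_zero_iff_mem]
    exact hsl
  -- the induction step proper
  intro A _ _ hfp f
  haveI := hfp
  obtain ⟨B, _, _, hBfp, g, h, hhg, s, hs, hsH⟩ := spread_out ι S H2 H3 hindK f
  haveI := hBfp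
  obtain ⟨s₀, hs₀, rfl⟩ := hs
  -- phase 1
  obtain ⟨C, _, _, hCfp, ιC, -, -, ⟨c, hc, hstd⟩, hφC⟩ :=
    Groth.Agent.H91.Neron.phase1 (R := R₀ ⧸ I) (A := B) 1 1 1 (by norm_num)
      (fun _ => Ideal.Quotient.mk I s₀) (fun _ => algebraMap (R₀ ⧸ I) B (Ideal.Quotient.mk I s₀))
      (fun _ => hsH)
  haveI := hCfp
  obtain ⟨φC, hφCι⟩ := hφC (Λ₀ ⧸ I.map (algebraMap R₀ Λ₀)) h (fun _ _ => 1) (by
    intro i
    rw [pow_one, Fin.sum_univ_one, one_mul, h.commutes])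
  have hstd' := hstd 0
  -- the element `π`
  haveI hred : IsReduced (R₀ ⧸ I) := (Ideal.isRadical_iff_quotient_reduced I).1 hrad
  have hR : ∀ r : R₀ ⧸ I, (Ideal.Quotient.mk I s₀ ^ c) ^ 2 * r = 0 →
      Ideal.Quotient.mk I s₀ ^ c * r = 0 := fun r hr => mul_eq_zero_of_sq_mul_eq_zero _ r hr
  have hΛ : ∀ x : Λ₀ ⧸ I.map (algebraMap R₀ Λ₀), (Ideal.Quotient.mk I s₀ ^ c) ^ 2 • x = 0 →
      Ideal.Quotient.mk I s₀ ^ c • x = 0 := fun x hx => smul_eq_zero_of_sq_smul_eq_zero _ x hx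
  -- the bigger ideal
  let J : Ideal R₀ := I ⊔ Ideal.span {(s₀ ^ c) ^ 8}
  have hIJ : I ≤ J := le_sup_left
  have hlt : I < J := by
    refine lt_of_le_of_ne hIJ fun heq => ?_
    have h1 : (s₀ ^ c) ^ 8 ∈ I := by
      rw [heq]
      exact Ideal.mem_sup_right (Ideal.subset_span rfl)
    exact hs₀ (h𝔭.mem_of_pow_mem _ (h𝔭.mem_of_pow_mem _ (hI𝔭 h1)))
  have hPJ : P Λ₀ J := IH J hlt
  letI algRR₂ : Algebra (R₀ ⧸ I) (R₀ ⧸ J) := (Ideal.Quotient.factor hIJ).toAlgebra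
  letI algRΛ₂ : Algebra (R₀ ⧸ I) (Λ₀ ⧸ J.map (algebraMap R₀ Λ₀)) :=
    ((algebraMap (R₀ ⧸ J) (Λ₀ ⧸ J.map (algebraMap R₀ Λ₀))).comp
      (algebraMap (R₀ ⧸ I) (R₀ ⧸ J))).toAlgebra
  haveI towRR₂Λ₂ : IsScalarTower (R₀ ⧸ I) (R₀ ⧸ J) (Λ₀ ⧸ J.map (algebraMap R₀ Λ₀)) :=
    IsScalarTower.of_algebraMap_eq fun _ => rfl
  have hsurj : Function.Surjective (algebraMap (R₀ ⧸ I) (R₀ ⧸ J)) :=
    Ideal.Quotient.factor_surjective hIJ
  have hkerR : RingHom.ker (algebraMap (R₀ ⧸ I) (R₀ ⧸ J)) =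
      Ideal.span {(Ideal.Quotient.mk I s₀ ^ c) ^ 8} := by
    have h1 : RingHom.ker (algebraMap (R₀ ⧸ I) (R₀ ⧸ J)) = J.map (Ideal.Quotient.mk I) :=
      ker_factor hIJ
    rw [h1, Ideal.map_sup, Ideal.map_quotient_self, bot_sup_eq, Ideal.map_span,
      Set.image_singleton, map_pow, map_pow]
  let qΛ : (Λ₀ ⧸ I.map (algebraMap R₀ Λ₀)) →ₐ[R₀ ⧸ I] (Λ₀ ⧸ J.map (algebraMap R₀ Λ₀)) :=
    { Ideal.Quotient.factor (Ideal.map_mono hIJ) with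
      commutes' := by
        intro r
        obtain ⟨r, rfl⟩ := Ideal.Quotient.mk_surjective r
        rfl }
  have hqΛ : Function.Surjective qΛ := Ideal.Quotient.factor_surjective (Ideal.map_mono hIJ)
  have hkerΛ : ∀ l : Λ₀ ⧸ I.map (algebraMap R₀ Λ₀), qΛ l = 0 ↔
      l ∈ Ideal.span {algebraMap (R₀ ⧸ I) (Λ₀ ⧸ I.map (algebraMap R₀ Λ₀))
        ((Ideal.Quotient.mk I s₀ ^ c) ^ 8)} := by
    intro l
    have h1 : RingHom.ker (Ideal.Quotient.factor (Ideal.map_mono hIJ) :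
        (Λ₀ ⧸ I.map (algebraMap R₀ Λ₀)) →+* (Λ₀ ⧸ J.map (algebraMap R₀ Λ₀))) =
        (J.map (algebraMap R₀ Λ₀)).map (Ideal.Quotient.mk (I.map (algebraMap R₀ Λ₀))) :=
      ker_factor (Ideal.map_mono hIJ)
    have h2 : (J.map (algebraMap R₀ Λ₀)).map (Ideal.Quotient.mk (I.map (algebraMap R₀ Λ₀))) =
        Ideal.span {algebraMap (R₀ ⧸ I) (Λ₀ ⧸ I.map (algebraMap R₀ Λ₀))
          ((Ideal.Quotient.mk I s₀ ^ c) ^ 8)} := by
      rw [Ideal.map_sup, Ideal.map_sup, Ideal.map_quotient_self, bot_sup_eq, Ideal.map_span,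
        Ideal.map_span, Set.image_singleton, Set.image_singleton, ← map_pow, ← map_pow]
      rfl
    rw [← h2, ← h1, RingHom.mem_ker]
    rfl
  -- the reduced problem
  let f₂ : (R₀ ⧸ J) ⊗[R₀ ⧸ I] C →ₐ[R₀ ⧸ J] (Λ₀ ⧸ J.map (algebraMap R₀ Λ₀)) :=
    Algebra.TensorProduct.lift (Algebra.ofId _ _) (qΛ.comp φC) (fun _ _ => Commute.all _ _)
  obtain ⟨C', _, _, hC', g₂, h₂, hgh₂⟩ := hPJ ((R₀ ⧸ J) ⊗[R₀ ⧸ I] C) inferInstance f₂
  haveI := hC'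
  letI algRC' : Algebra (R₀ ⧸ I) C' :=
    ((algebraMap (R₀ ⧸ J) C').comp (algebraMap (R₀ ⧸ I) (R₀ ⧸ J))).toAlgebra
  haveI towRR₂C' : IsScalarTower (R₀ ⧸ I) (R₀ ⧸ J) C' :=
    IsScalarTower.of_algebraMap_eq fun _ => rfl
  let γ : C →ₐ[R₀ ⧸ I] C' := (g₂.restrictScalars (R₀ ⧸ I)).comp Algebra.TensorProduct.includeRight
  let g' : C' →ₐ[R₀ ⧸ I] (Λ₀ ⧸ J.map (algebraMap R₀ Λ₀)) := h₂.restrictScalars (R₀ ⧸ I)
  have hfac : ∀ a : C, g' (γ a) = qΛ (φC a) := by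
    intro a
    have h1 : h₂ (g₂ ((1 : R₀ ⧸ J) ⊗ₜ[R₀ ⧸ I] a)) = f₂ ((1 : R₀ ⧸ J) ⊗ₜ[R₀ ⧸ I] a) := by
      rw [← hgh₂]; rfl
    have h2 : f₂ ((1 : R₀ ⧸ J) ⊗ₜ[R₀ ⧸ I] a) = qΛ (φC a) := by
      simp only [f₂, Algebra.TensorProduct.lift_tmul, map_one, one_mul, AlgHom.comp_apply]
    rw [← h2, ← h1]
    rfl
  obtain ⟨B', _, _, hB', α, β, hβα⟩ :=
    desing_global (Ideal.Quotient.mk I s₀ ^ c) hR hΛ φC hstd' hsurj hkerR qΛ hqΛ hkerΛ γ g' hfac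
  refine ⟨B', inferInstance, inferInstance, hB', (α.comp ιC).comp g, β, ?_⟩
  rw [← hhg]
  ext a
  simp only [AlgHom.comp_apply]
  rw [← hφCι, ← hβα]
  rfl

end Groth.Agent.H91.Gen
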