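import Mathlib
import Groth.Prelude.Def_Smoothing
import Groth.Prelude.Def_Found
import Groth.Agent.H91.GenG

/-!
# Popescu's theorem (Stacks 07GC): a regular homomorphism of Noetherian rings is ind-smooth
-/

set_option autoImplicit false
set_option linter.style.haveILetI false
universe u

open TensorProduct Smoothing

namespace Groth.Agent.H91.Gen

open Groth.Agent.H91.LiftOnce

theorem P_all {R₀ Λ₀ : Type u} [CommRing R₀] [IsNoetherianRing R₀] [CommRing Λ₀]
    [IsNoetherianRing Λ₀] [Algebra R₀ Λ₀] (hreg : CAlg.IsRegularHom R₀ Λ₀) (I : Ideal R₀) :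
    P Λ₀ I := by
  haveI : Module.Flat R₀ Λ₀ := hreg.1
  induction I using IsNoetherian.induction with
  | hgt I ih =>
    by_cases htop : (I : Ideal R₀) = ⊤
    · rw [htop]
      exact P_top
    · by_cases hrad : Ideal.IsRadical (I : Ideal R₀)
      · exact P_of_radical hreg I hrad htop ih
      · refine P_of_P_radical I (ih _ (lt_of_le_of_ne Ideal.le_radical fun heq => hrad ?_))
        have h1 : (Ideal.radical (I : Ideal R₀)).IsRadical := Ideal.radical_isRadical _
        rwa [← heq] at h1

/-- **Popescu's theorem.** -/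
theorem popescu {R₀ Λ₀ : Type u} [CommRing R₀] [IsNoetherianRing R₀] [CommRing Λ₀]
    [IsNoetherianRing Λ₀] [Algebra R₀ Λ₀] (hreg : CAlg.IsRegularHom R₀ Λ₀) :
    IndSmooth R₀ Λ₀ := by
  haveI : Module.Flat R₀ Λ₀ := hreg.1
  exact indSmooth_of_P_bot rfl (P_all hreg ⊥)

end Groth.Agent.H91.Gen
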