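import Groth.Agent.H91.SchDom

/-!
Further helper lemmas on attractors (`Magnet.attr`): the restriction of an equivariant map along
`A(M) ⟶ A(N)` is the orbit map of its value at the unit section; factorisation through closed
immersions.
-/

set_option autoImplicit false
universe u
open CategoryTheory Limits AlgebraicGeometry MonoidalCategory CartesianMonoidalCategory MonObj Opposite

namespace Groth.Agent.H91

/-- A morphism which, after precomposition with a scheme-theoretically dominant morphism, factors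
through a closed immersion, factors through it. -/
lemma exists_factor_of_isSchemeTheoreticallyDominant {P' P Y Z : Scheme.{u}} (u : P' ⟶ P)
    [IsSchemeTheoreticallyDominant u] (φ : P ⟶ Y) (f : Z ⟶ Y) [IsClosedImmersion f] (ζ : P' ⟶ Z)
    (h : u ≫ φ = ζ ≫ f) : ∃ ψ : P ⟶ Z, ψ ≫ f = φ := by
  have hfac : pullback.lift u ζ h ≫ pullback.fst φ f = u := pullback.lift_fst _ _ _
  have hker : (pullback.fst φ f).ker = ⊥ := by
    rw [eq_bot_iff]
    have := Scheme.Hom.le_ker_comp (pullback.lift u ζ h) (pullback.fst φ f)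
    rwa [hfac, u.ker_eq_bot] at this
  have := IsClosedImmersion.isIso_iff_ker_eq_bot.mpr hker
  exact ⟨inv (pullback.fst φ f) ≫ pullback.snd φ f, by
    rw [Category.assoc, ← pullback.condition, IsIso.inv_hom_id_assoc]⟩

variable {S : Scheme.{u}} {M : Type} [AddCommMonoid M] {X : Over S}

/-- On points: `φ (m|_N, t) = m • φ (1, t)` for `φ` in the attractor. -/
theorem lift_whiskerRight_attr (a : Magnet.MonAct (Magnet.AMonS S M) X) (N : AddSubmonoid M)
    {T : Over S} (φ : (Magnet.attr a N).obj (op T)) {T' : Over S} (m : T' ⟶ Magnet.AMonS S M)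
    (t : T' ⟶ T) :
    lift m t ≫ (Magnet.AMonS.map S N.subtype ▷ T) ≫ φ.1 =
      lift m (t ≫ lift (toUnit T ≫ η[Magnet.AMonS S N]) (𝟙 T) ≫ φ.1) ≫ a.act := by
  have hφeq := (Magnet.MonAct.mem_eqvHom_iff φ.1).mp φ.2 T' m (1 : T' ⟶ Magnet.AMonS S N) t
  have h1 : lift m (1 : T' ⟶ Magnet.AMonS S N) ≫ (Magnet.subAct S M N).act =
      m ≫ Magnet.AMonS.map S N.subtype := by
    rw [Magnet.subAct, Magnet.MonAct.lift_restrict_act, Magnet.MonAct.lift_regular_act,
      _root_.mul_one]
  have h2 : t ≫ lift (toUnit T ≫ η[Magnet.AMonS S N]) (𝟙 T) =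
      lift (1 : T' ⟶ Magnet.AMonS S N) t := by
    rw [comp_lift, Category.comp_id, ← Category.assoc, toUnit_unique (t ≫ toUnit T) (toUnit T'),
      Hom.one_def]
  rw [lift_whiskerRight_assoc, ← h1, hφeq, ← Category.assoc t, h2]

/-- The restriction of `φ` in the attractor along `A(M) ⟶ A(N)` is the orbit map of `φ (1, -)`. -/
theorem whiskerRight_attr_eq (a : Magnet.MonAct (Magnet.AMonS S M) X) (N : AddSubmonoid M)
    {T : Over S} (φ : (Magnet.attr a N).obj (op T)) :
    (Magnet.AMonS.map S N.subtype ▷ T) ≫ φ.1 =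
      (Magnet.AMonS S M ◁ (lift (toUnit T ≫ η[Magnet.AMonS S N]) (𝟙 T) ≫ φ.1)) ≫ a.act := by
  apply Magnet.hom_ext_lift₂
  intro T' m t
  rw [lift_whiskerRight_attr, lift_whiskerLeft_assoc]

/-- For an equivariant closed immersion `f : Z ⟶ Y`, the attractor of `Z` is the preimage of `Z`
under `Y^N ⟶ Y` (no hypothesis on `Y`). -/
theorem attr_isPullback_of_isClosedImmersion (N : AddSubmonoid M) (Y Z : Over S)
    (aY : Magnet.MonAct (Magnet.AMonS S M) Y)
    (aZ : Magnet.MonAct (Magnet.AMonS S M) Z) (f : Z ⟶ Y) [IsClosedImmersion f.left]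
    (hf : Magnet.MonAct.IsEquivariant aZ aY f) :
    IsPullback (Magnet.MonAct.eqvHom.postcomp (Magnet.subAct S M N) f hf) (Magnet.attrToX aZ N)
      (Magnet.attrToX aY N) (yoneda.map f) := by
  have hmono : Mono f := by
    have : Mono ((Over.forget S).map f) := by
      change Mono f.left
      infer_instance
    exact (Over.forget S).mono_of_mono_map this
  apply IsPullback.of_forall_isPullback_app
  intro T
  rw [Limits.Types.isPullback_iff]
  refine ⟨?_, ?_, ?_⟩
  · ext ψ
    change lift (toUnit (unop T) ≫ η[Magnet.AMonS S N]) (𝟙 (unop T)) ≫ (ψ.1 ≫ f) =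
      (lift (toUnit (unop T) ≫ η[Magnet.AMonS S N]) (𝟙 (unop T)) ≫ ψ.1) ≫ f
    rw [Category.assoc]
  · rintro ψ₁ ψ₂ ⟨h1, -⟩
    have h1' : ψ₁.1 ≫ f = ψ₂.1 ≫ f := congrArg Subtype.val h1
    apply Subtype.ext
    exact (cancel_mono f).mp h1'
  · intro φ z h
    have h' : lift (toUnit (unop T) ≫ η[Magnet.AMonS S N]) (𝟙 (unop T)) ≫ φ.1 = z ≫ f := h
    -- the orbit map of `z`
    have hcomm : (Magnet.AMonS.map S N.subtype ▷ unop T) ≫ φ.1 =
        ((Magnet.AMonS S M ◁ z) ≫ aZ.act) ≫ f := by
      rw [Groth.Agent.H91.whiskerRight_attr_eq aY N φ, h', Category.assoc, hf,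
        MonoidalCategory.whiskerLeft_comp, Category.assoc]
    have := Groth.Agent.H91.dominant_whiskerRight S N.subtype Subtype.val_injective (unop T)
    obtain ⟨ψ', hψ'⟩ := Groth.Agent.H91.exists_factor_of_isSchemeTheoreticallyDominant
      (Magnet.AMonS.map S N.subtype ▷ unop T).left φ.1.left f.left
      ((Magnet.AMonS S M ◁ z) ≫ aZ.act).left (by
        rw [← Over.comp_left, hcomm, Over.comp_left])
    let ψ : Magnet.AMonS S N ⊗ unop T ⟶ Z := Over.homMk ψ' (by
      rw [← Over.w f, ← Category.assoc, hψ', Over.w])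
    have hψf : ψ ≫ f = φ.1 := by
      ext
      exact hψ'
    have hψeq : Magnet.MonAct.IsEquivariant
        ((Magnet.subAct S M N).prod (Magnet.MonAct.trivial _ (unop T))) aZ ψ := by
      unfold Magnet.MonAct.IsEquivariant
      rw [← cancel_mono f, Category.assoc, hψf, Category.assoc, hf, ← Category.assoc,
        ← MonoidalCategory.whiskerLeft_comp, hψf]
      exact φ.2
    refine ⟨⟨ψ, hψeq⟩, ?_, ?_⟩
    · apply Subtype.ext
      exact hψf
    · change lift (toUnit (unop T) ≫ η[Magnet.AMonS S N]) (𝟙 (unop T)) ≫ ψ = z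
      rw [← cancel_mono f, Category.assoc, hψf, h']


end Groth.Agent.H91
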