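import Mathlib

/-!
# Cubic forms: the symmetric trilinear form of a homogeneous cubic polynomial

(Copy of `Groth/Agent/H99/CubicA.lean` by helper99, duplicated here under the `H91` namespace so
that the `H91` Hesse files do not depend on later changes to that file.)

For a homogeneous cubic `f` in finitely many variables over a field of characteristic zero we
construct a symmetric trilinear form `T` with `eval x f = T x x x` and
`eval x (pderiv i f) = 3 * T (Pi.single i 1) x x`.  We also translate linear substitutions.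
-/

set_option autoImplicit false

namespace Groth.Agent.H91.Cubic

open MvPolynomial

section general
variable {σ : Type*} {K : Type*} [Field K]

/-- partial derivatives commute -/
lemma pderiv_comm (i j : σ) (g : MvPolynomial σ K) :
    pderiv i (pderiv j g) = pderiv j (pderiv i g) := by
  classical
  have h : ⁅(pderiv i : Derivation K (MvPolynomial σ K) (MvPolynomial σ K)),
      (pderiv j : Derivation K (MvPolynomial σ K) (MvPolynomial σ K))⁆ = 0 := by
    apply MvPolynomial.derivation_ext
    intro k
    rw [Derivation.commutator_apply, pderiv_X, pderiv_X]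
    simp only [Derivation.coe_zero, Pi.zero_apply]
    have h1 : ∀ (a : σ) (c : K), pderiv a (C c : MvPolynomial σ K) = 0 := fun a c => pderiv_C
    have e1 : ∀ a : σ, (Pi.single a 1 : σ → MvPolynomial σ K) k
        = C ((Pi.single a (1:K) : σ → K) k) := by
      intro a
      by_cases hka : k = a
      · subst hka; simp
      · simp [Pi.single_eq_of_ne hka]
    rw [e1, e1, h1, h1, sub_zero]
  have := congrArg (fun D : Derivation K (MvPolynomial σ K) (MvPolynomial σ K) => D g) h
  simp only [Derivation.commutator_apply, Derivation.coe_zero, Pi.zero_apply] at this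
  exact sub_eq_zero.mp this

variable [Fintype σ]

/-- directional derivative in the direction `y` -/
noncomputable def dd : (σ → K) →ₗ[K] MvPolynomial σ K →ₗ[K] MvPolynomial σ K :=
  ∑ i, (LinearMap.proj i : (σ → K) →ₗ[K] K).smulRight
    ((pderiv i : Derivation K (MvPolynomial σ K) (MvPolynomial σ K)) :
      MvPolynomial σ K →ₗ[K] MvPolynomial σ K)

lemma dd_apply (y : σ → K) (g : MvPolynomial σ K) : dd y g = ∑ i, y i • pderiv i g := by
  simp [dd, LinearMap.sum_apply]

lemma dd_comm (y z : σ → K) (g : MvPolynomial σ K) : dd y (dd z g) = dd z (dd y g) := by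
  simp only [dd_apply, map_sum, map_smul, Finset.smul_sum]
  rw [Finset.sum_comm]
  refine Finset.sum_congr rfl fun i _ => Finset.sum_congr rfl fun j _ => ?_
  rw [pderiv_comm, smul_comm]

lemma dd_single [DecidableEq σ] (i : σ) (g : MvPolynomial σ K) :
    dd (Pi.single i (1:K)) g = pderiv i g := by
  rw [dd_apply, Finset.sum_eq_single i]
  · simp
  · intro j _ hj; simp [Pi.single_eq_of_ne hj]
  · intro h; exact absurd (Finset.mem_univ i) h

lemma dd_isHomogeneous {n : ℕ} (y : σ → K) {g : MvPolynomial σ K} (hg : g.IsHomogeneous n) :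
    (dd y g).IsHomogeneous (n - 1) := by
  rw [dd_apply]
  refine IsHomogeneous.sum _ _ _ fun i _ => ?_
  rw [smul_eq_C_mul]
  have := (isHomogeneous_C σ (y i)).mul (hg.pderiv (i := i))
  simpa using this

/-- Euler's identity, evaluated -/
lemma eval_dd_self {n : ℕ} (x : σ → K) {g : MvPolynomial σ K} (hg : g.IsHomogeneous n) :
    eval x (dd x g) = n * eval x g := by
  have h := congrArg (eval x) hg.sum_X_mul_pderiv
  rw [dd_apply, map_sum]
  simp only [map_sum, map_mul, eval_X, nsmul_eq_mul, map_natCast] at h
  simp only [smul_eval]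
  exact h

omit [Fintype σ] in
lemma eval_of_isHomogeneous_zero (x y : σ → K) {g : MvPolynomial σ K} (hg : g.IsHomogeneous 0) :
    eval x g = eval y g := by
  rw [← totalDegree_zero_iff_isHomogeneous, totalDegree_eq_zero_iff_eq_C] at hg
  rw [hg, eval_C, eval_C]

/-- third derivative coefficients -/
noncomputable def c3 (f : MvPolynomial σ K) (i j k : σ) : K :=
  eval 0 (pderiv i (pderiv j (pderiv k f)))

omit [Fintype σ] in
lemma c3_swap12 (f : MvPolynomial σ K) (i j k : σ) : c3 f i j k = c3 f j i k := by
  unfold c3; rw [pderiv_comm]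

omit [Fintype σ] in
lemma c3_swap23 (f : MvPolynomial σ K) (i j k : σ) : c3 f i j k = c3 f i k j := by
  unfold c3; rw [pderiv_comm j k]

/-- The symmetric trilinear form attached to a cubic polynomial. -/
noncomputable def TT (f : MvPolynomial σ K) :
    (σ → K) →ₗ[K] (σ → K) →ₗ[K] (σ → K) →ₗ[K] K :=
  (6:K)⁻¹ • ∑ i, ∑ j, ∑ k, c3 f i j k •
    (LinearMap.proj i : (σ → K) →ₗ[K] K).smulRight
      ((LinearMap.proj j : (σ → K) →ₗ[K] K).smulRight (LinearMap.proj k : (σ → K) →ₗ[K] K))

lemma TT_apply (f : MvPolynomial σ K) (x y z : σ → K) :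
    TT f x y z = (6:K)⁻¹ * ∑ i, ∑ j, ∑ k, c3 f i j k * (x i * (y j * z k)) := by
  simp [TT, LinearMap.sum_apply, mul_comm]

lemma c3_rev (f : MvPolynomial σ K) (i j k : σ) : c3 f k j i = c3 f i j k := by
  rw [c3_swap12, c3_swap23, c3_swap12]

variable [CharZero K]

lemma eval_zero_ddd' (f : MvPolynomial σ K) (x y z : σ → K) :
    eval 0 (dd z (dd y (dd x f))) = 6 * TT f x y z := by
  rw [TT_apply, ← mul_assoc, mul_inv_cancel₀ (by norm_num : (6:K) ≠ 0), one_mul]
  simp only [dd_apply, map_sum, map_smul, smul_eval, Finset.mul_sum]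
  refine Finset.sum_congr rfl fun i _ => Finset.sum_congr rfl fun j _ =>
    Finset.sum_congr rfl fun k _ => ?_
  rw [← c3_rev f i j k]
  unfold c3
  ring

lemma eval_zero_ddd (f : MvPolynomial σ K) (x y z : σ → K) :
    eval 0 (dd x (dd y (dd z f))) = 6 * TT f x y z := by
  rw [← eval_zero_ddd', dd_comm y z, dd_comm x z, dd_comm x y]

lemma TT_swap12 (f : MvPolynomial σ K) (x y z : σ → K) : TT f x y z = TT f y x z := by
  have h6 : (6:K) ≠ 0 := by norm_num
  apply mul_left_cancel₀ h6
  rw [← eval_zero_ddd, ← eval_zero_ddd, dd_comm x y]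

lemma TT_swap23 (f : MvPolynomial σ K) (x y z : σ → K) : TT f x y z = TT f x z y := by
  have h6 : (6:K) ≠ 0 := by norm_num
  apply mul_left_cancel₀ h6
  rw [← eval_zero_ddd, ← eval_zero_ddd, dd_comm y z]

/-- A homogeneous cubic is the cube of its trilinear form. -/
lemma eval_eq_TT {f : MvPolynomial σ K} (hf : f.IsHomogeneous 3) (x : σ → K) :
    eval x f = TT f x x x := by
  have h1 := eval_dd_self x hf
  have h2 := eval_dd_self x (dd_isHomogeneous x hf)
  have h3 := eval_dd_self x (dd_isHomogeneous x (dd_isHomogeneous x hf))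
  have h4 := eval_of_isHomogeneous_zero x 0
    (dd_isHomogeneous x (dd_isHomogeneous x (dd_isHomogeneous x hf)))
  rw [eval_zero_ddd] at h4
  norm_num at h1 h2 h3
  have h6 : (6:K) ≠ 0 := by norm_num
  apply mul_left_cancel₀ h6
  rw [← h4, h3, h2, h1]
  ring

/-- The gradient of a homogeneous cubic in terms of its trilinear form. -/
lemma eval_pderiv_eq_TT [DecidableEq σ] {f : MvPolynomial σ K} (hf : f.IsHomogeneous 3)
    (i : σ) (x : σ → K) :
    eval x (pderiv i f) = 3 * TT f (Pi.single i 1) x x := by
  have hg : (dd (Pi.single i (1:K)) f).IsHomogeneous 2 := dd_isHomogeneous _ hf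
  have h2 := eval_dd_self x hg
  have h3 := eval_dd_self x (dd_isHomogeneous x hg)
  have h4 := eval_of_isHomogeneous_zero x 0 (dd_isHomogeneous x (dd_isHomogeneous x hg))
  rw [eval_zero_ddd] at h4
  norm_num at h2 h3
  rw [← dd_single]
  have h2' : (2:K) ≠ 0 := by norm_num
  apply mul_left_cancel₀ h2'
  rw [← h2, ← h3, h4, TT_swap23 f x x, TT_swap12 f x]
  ring

end general

section subst
variable {σ : Type*} [Fintype σ] {K : Type*} [Field K]

lemma eval_aeval_linear (A : Matrix σ σ K) (f : MvPolynomial σ K) (x : σ → K) :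
    eval x (aeval (fun i => ∑ j, C (A i j) * X j) f) = eval (A.mulVec x) f := by
  rw [aeval_eq_bind₁]
  have h := eval₂Hom_bind₁ (RingHom.id K) x (fun i => ∑ j, C (A i j) * X j) f
  have e : (fun i => eval₂Hom (RingHom.id K) x (∑ j, C (A i j) * X j)) = A.mulVec x := by
    funext i
    simp [Matrix.mulVec, dotProduct]
  rw [e] at h
  exact h

/-- A linear substitution multiplies `f` by `c` iff it does so on values. -/
lemma aeval_linear_eq_iff [Infinite K] (A : Matrix σ σ K) (f : MvPolynomial σ K) (c : K) :
    aeval (fun i => ∑ j, C (A i j) * X j) f = C c * f ↔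
      ∀ x, eval (A.mulVec x) f = c * eval x f := by
  constructor
  · intro h x
    rw [← eval_aeval_linear, h, map_mul, eval_C]
  · intro h
    apply MvPolynomial.funext
    intro x
    rw [eval_aeval_linear, h, map_mul, eval_C]

end subst

end Groth.Agent.H91.Cubic
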