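import Mathlib

namespace Groth.Agent.H91.SymGr

universe u v w

section Descent

variable {R : Type*} [CommRing R] {ι : Type*} {N P G : Type*} [AddCommGroup N] [Module R N]
  [AddCommGroup P] [Module R P] [AddCommGroup G] [Module R G]

/-- A multilinear map that only depends on the images of its arguments under a surjection
descends. -/
theorem exists_multilinear_descent [DecidableEq ι] (q : N →ₗ[R] P) (hq : Function.Surjective q)
    (f : MultilinearMap R (fun _ : ι => N) G)
    (hf : ∀ x y : ι → N, (∀ i, q (x i) = q (y i)) → f x = f y) :
    ∃ g : MultilinearMap R (fun _ : ι => P) G, ∀ x : ι → N, g (fun i => q (x i)) = f x := by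
  classical
  let r : P → N := Function.surjInv hq
  have hr : ∀ p, q (r p) = p := Function.surjInv_eq hq
  refine ⟨{ toFun := fun p => f (fun i => r (p i))
            map_update_add' := ?_
            map_update_smul' := ?_ }, ?_⟩
  · intro _ p i a b
    have h1 : f (fun j => r (Function.update p i (a + b) j)) =
        f (Function.update (fun j => r (p j)) i (r a + r b)) := by
      apply hf
      intro j
      by_cases hj : j = i
      · subst hj; simp [hr]
      · simp [Function.update_of_ne hj]
    have h2 : ∀ c, f (fun j => r (Function.update p i c j)) =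
        f (Function.update (fun j => r (p j)) i (r c)) := by
      intro c
      apply hf
      intro j
      by_cases hj : j = i
      · subst hj; simp
      · simp [Function.update_of_ne hj]
    show f (fun j => r (Function.update p i (a + b) j)) = f (fun j => r (Function.update p i a j)) +
      f (fun j => r (Function.update p i b j))
    rw [h1, h2 a, h2 b, f.map_update_add]
  · intro _ p i c a
    have h1 : f (fun j => r (Function.update p i (c • a) j)) =
        f (Function.update (fun j => r (p j)) i (c • r a)) := by
      apply hf
      intro j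
      by_cases hj : j = i
      · subst hj; simp [hr]
      · simp [Function.update_of_ne hj]
    have h2 : f (fun j => r (Function.update p i a j)) =
        f (Function.update (fun j => r (p j)) i (r a)) := by
      apply hf
      intro j
      by_cases hj : j = i
      · subst hj; simp
      · simp [Function.update_of_ne hj]
    show f (fun j => r (Function.update p i (c • a) j)) = c • f (fun j => r (Function.update p i a j))
    rw [h1, h2, f.map_update_smul]
  · intro x
    show f (fun i => r (q (x i))) = f x
    apply hf
    intro i
    rw [hr]

end Descent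

section LemmaA

variable {T : Type*} [CommRing T] (𝔟 : Ideal T) {ι : Type*}

theorem prod_mem_pow_card (s : Finset ι) (x : ι → T) (hx : ∀ i ∈ s, x i ∈ 𝔟) :
    ∏ i ∈ s, x i ∈ 𝔟 ^ s.card := by
  classical
  induction s using Finset.induction_on with
  | empty => simp
  | insert a s ha ih =>
    rw [Finset.prod_insert ha, Finset.card_insert_of_notMem ha, pow_succ']
    exact Ideal.mul_mem_mul (hx a (by simp)) (ih fun i hi => hx i (by simp [hi]))

theorem prod_sub_prod_mem_pow (s : Finset ι) (x y : ι → T) (hx : ∀ i ∈ s, x i ∈ 𝔟)
    (hxy : ∀ i ∈ s, x i - y i ∈ 𝔟 ^ 2) :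
    ∏ i ∈ s, x i - ∏ i ∈ s, y i ∈ 𝔟 ^ (s.card + 1) := by
  classical
  have hy : ∀ i ∈ s, y i ∈ 𝔟 := by
    intro i hi
    have h1 := hxy i hi
    have h2 : 𝔟 ^ 2 ≤ 𝔟 := Ideal.pow_le_self (by norm_num)
    have : y i = x i - (x i - y i) := by ring
    rw [this]
    exact sub_mem (hx i hi) (h2 h1)
  induction s using Finset.induction_on with
  | empty => simp
  | insert a s ha ih =>
    rw [Finset.prod_insert ha, Finset.prod_insert ha, Finset.card_insert_of_notMem ha]
    have e : x a * ∏ i ∈ s, x i - y a * ∏ i ∈ s, y i =
        x a * (∏ i ∈ s, x i - ∏ i ∈ s, y i) + (x a - y a) * ∏ i ∈ s, y i := by ring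
    rw [e]
    refine add_mem ?_ ?_
    · rw [pow_succ' _ (s.card + 1)]
      exact Ideal.mul_mem_mul (hx a (by simp))
        (ih (fun i hi => hx i (by simp [hi])) (fun i hi => hxy i (by simp [hi]))
          (fun i hi => hy i (by simp [hi])))
    · have : s.card + 1 + 1 = 2 + s.card := by ring
      rw [this, pow_add]
      exact Ideal.mul_mem_mul (hxy a (by simp))
        (prod_mem_pow_card 𝔟 s y (fun i hi => hy i (by simp [hi])))

end LemmaA

end Groth.Agent.H91.SymGr
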