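import Mathlib

namespace Groth.Agent.H91.SymPow

open TensorProduct

universe u v w

section Lift

variable {R : Type u} {ι : Type u} [CommRing R] {M : Type v} [AddCommGroup M] [Module R M]
  {N : Type w} [AddCommGroup N] [Module R N]

/-- Symmetric multilinear maps factor through the symmetric power. -/
noncomputable def lift (f : MultilinearMap R (fun _ : ι => M) N)
    (hf : ∀ (e : Equiv.Perm ι) (m : ι → M), f (fun i => m (e i)) = f m) :
    Sym[R] ι M →ₗ[R] N where
  toFun := AddCon.lift _ (PiTensorProduct.lift f).toAddMonoidHom (by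
      rw [AddCon.addConGen_le]
      rintro _ _ ⟨e, m⟩
      simp [AddCon.ker_rel, hf])
  map_add' := map_add _
  map_smul' r x := by
    induction x using AddCon.induction_on with
    | H x =>
      change AddCon.lift _ _ _ (((r • x : ⨂[R] _, M)) : (addConGen (SymmetricPower.Rel R ι M)).Quotient) = _
      simp

@[simp]
theorem lift_tprod (f : MultilinearMap R (fun _ : ι => M) N)
    (hf : ∀ (e : Equiv.Perm ι) (m : ι → M), f (fun i => m (e i)) = f m) (m : ι → M) :
    lift f hf (SymmetricPower.tprod R m) = f m := by
  have : lift f hf (SymmetricPower.tprod R m) =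
      (PiTensorProduct.lift f) (PiTensorProduct.tprod R m) := rfl
  rw [this, PiTensorProduct.lift.tprod]

theorem hom_ext {f g : Sym[R] ι M →ₗ[R] N}
    (h : ∀ m : ι → M, f (SymmetricPower.tprod R m) = g (SymmetricPower.tprod R m)) : f = g := by
  apply LinearMap.ext_on_range (SymmetricPower.span_tprod_eq_top R ι M)
  exact h

variable {M' : Type w} [AddCommGroup M'] [Module R M']

/-- Functoriality of the symmetric power. -/
noncomputable def map (g : M →ₗ[R] M') : Sym[R] ι M →ₗ[R] Sym[R] ι M' :=
  lift ((SymmetricPower.tprod R).compLinearMap (fun _ => g)) (fun e m => by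
    simp only [MultilinearMap.compLinearMap_apply]
    exact SymmetricPower.tprod_equiv e (fun i => g (m i)))

@[simp]
theorem map_tprod (g : M →ₗ[R] M') (m : ι → M) :
    map g (SymmetricPower.tprod R m) = SymmetricPower.tprod R (fun i => g (m i)) := by
  simp [map]

end Lift

section ToSymAlg

variable {R : Type u} {ι : Type u} [CommRing R] [Fintype ι] {M : Type v} [AddCommGroup M] [Module R M]

/-- The canonical map from the symmetric power to the symmetric algebra. -/
noncomputable def toSymAlg : Sym[R] ι M →ₗ[R] SymmetricAlgebra R M :=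
  lift ((MultilinearMap.mkPiAlgebra R ι (SymmetricAlgebra R M)).compLinearMap
      (fun _ => SymmetricAlgebra.ι R M)) (fun e m => by
    simp only [MultilinearMap.compLinearMap_apply, MultilinearMap.mkPiAlgebra_apply]
    exact Equiv.prod_comp e (fun i => SymmetricAlgebra.ι R M (m i)))

@[simp]
theorem toSymAlg_tprod (m : ι → M) :
    toSymAlg (SymmetricPower.tprod R m) = ∏ i, SymmetricAlgebra.ι R M (m i) := by
  simp [toSymAlg]

end ToSymAlg

section Free

variable {R : Type u} {ι : Type u} [CommRing R] [Fintype ι] {M : Type v} [AddCommGroup M] [Module R M]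
  {J : Type w}

/-- the exponent vector of a word -/
noncomputable def expo (σ : ι → J) : J →₀ ℕ := ∑ i, Finsupp.single (σ i) 1

open scoped Classical in
lemma expo_apply (σ : ι → J) (j : J) : expo σ j = Fintype.card {i // σ i = j} := by
  rw [expo, Finsupp.finsetSum_apply, Fintype.card_subtype]
  simp [Finsupp.single_apply]

lemma exists_perm_of_expo_eq (σ τ : ι → J) (h : expo σ = expo τ) :
    ∃ e : Equiv.Perm ι, ∀ i, τ (e i) = σ i := by
  classical
  have hc : ∀ j, Fintype.card {i // σ i = j} = Fintype.card {i // τ i = j} := by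
    intro j
    rw [← expo_apply, ← expo_apply, h]
  exact ⟨Equiv.ofFiberEquiv (fun j => Fintype.equivOfCardEq (hc j)),
    fun i => Equiv.ofFiberEquiv_map _ i⟩

lemma expo_degree (σ : ι → J) : (expo σ).degree = Fintype.card ι := by
  simp [expo, map_sum]

variable (b : Module.Basis J R M)

open scoped Classical in
/-- A left inverse of `toSymAlg` in the free case, on the polynomial side. -/
noncomputable def leftInvFree : MvPolynomial J R →ₗ[R] Sym[R] ι M :=
  (MvPolynomial.basisMonomials J R).constr R (fun s =>
    if h : ∃ σ : ι → J, expo σ = s then SymmetricPower.tprod R (fun i => b (h.choose i)) else 0)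

open scoped Classical in
lemma leftInvFree_monomial (s : J →₀ ℕ) :
    leftInvFree (ι := ι) b (MvPolynomial.monomial s 1) =
      if h : ∃ σ : ι → J, expo σ = s then SymmetricPower.tprod R (fun i => b (h.choose i)) else 0 := by
  have := (MvPolynomial.basisMonomials J R).constr_basis R (fun s =>
    if h : ∃ σ : ι → J, expo σ = s then SymmetricPower.tprod R (fun i => b (h.choose i)) else (0 : Sym[R] ι M)) s
  rw [MvPolynomial.coe_basisMonomials] at this
  exact this

lemma leftInvFree_prod_X (σ : ι → J) :
    leftInvFree (ι := ι) b (∏ i, MvPolynomial.X (σ i)) =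
      SymmetricPower.tprod R (fun i => b (σ i)) := by
  have h1 : (∏ i, MvPolynomial.X (R := R) (σ i)) = MvPolynomial.monomial (expo σ) 1 := by
    rw [expo, MvPolynomial.monomial_sum_one]
    rfl
  rw [h1, leftInvFree_monomial]
  have h : ∃ τ : ι → J, expo τ = expo σ := ⟨σ, rfl⟩
  rw [dif_pos h]
  obtain ⟨e, he⟩ := exists_perm_of_expo_eq σ h.choose h.choose_spec.symm
  rw [← SymmetricPower.tprod_equiv e]
  congr 1
  funext i
  rw [he]

lemma leftInvFree_of_degree_ne (s : J →₀ ℕ) (hs : s.degree ≠ Fintype.card ι) (r : R) :
    leftInvFree (ι := ι) b (MvPolynomial.monomial s r) = 0 := by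
  have : MvPolynomial.monomial s r = r • MvPolynomial.monomial s (1 : R) := by
    rw [MvPolynomial.smul_monomial, smul_eq_mul, mul_one]
  rw [this, map_smul, leftInvFree_monomial, dif_neg, smul_zero]
  rintro ⟨σ, rfl⟩
  exact hs (expo_degree σ)

theorem leftInvFree_toSymAlg (x : Sym[R] ι M) :
    leftInvFree b (SymmetricAlgebra.equivMvPolynomial b (toSymAlg x)) = x := by
  suffices h : (leftInvFree (ι := ι) b ∘ₗ (SymmetricAlgebra.equivMvPolynomial b).toLinearMap) ∘ₗ toSymAlg
      = LinearMap.id from LinearMap.congr_fun h x
  apply hom_ext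
  intro m
  have key : ((leftInvFree (ι := ι) b ∘ₗ (SymmetricAlgebra.equivMvPolynomial b).toLinearMap) ∘ₗ toSymAlg).compMultilinearMap (SymmetricPower.tprod R) = SymmetricPower.tprod R := by
    apply Module.Basis.ext_multilinear (fun _ => b)
    intro v
    simp only [LinearMap.compMultilinearMap_apply, LinearMap.coe_comp, Function.comp_apply,
      toSymAlg_tprod, AlgEquiv.toLinearMap_apply, map_prod,
      SymmetricAlgebra.equivMvPolynomial_ι_apply]
    exact leftInvFree_prod_X b v
  exact congrArg (fun f => f m) key

end Free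

end Groth.Agent.H91.SymPow
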