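import Mathlib

/-!
# Symmetric algebras of finitely generated projective modules

* formally smooth;
* the powers of the augmentation ideal intersect in zero;
* every element is `b + ι c` modulo the square of the augmentation ideal.
-/

namespace Groth.Agent.H91.SymSmooth

open TensorProduct KaehlerDifferential

universe u v

section Smooth

variable {B : Type u} {Q : Type v} [CommRing B] [AddCommGroup Q] [Module B Q]

theorem formallySmooth [Module.Projective B Q] :
    Algebra.FormallySmooth B (SymmetricAlgebra B Q) := by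
  apply Algebra.FormallySmooth.of_comp_surjective
  intro C _ _ I _ g
  obtain ⟨h, hh⟩ := Module.projective_lifting_property
    ((Ideal.Quotient.mkₐ B I).toLinearMap) (g.toLinearMap ∘ₗ SymmetricAlgebra.ι B Q)
    (Ideal.Quotient.mk_surjective)
  refine ⟨SymmetricAlgebra.lift h, ?_⟩
  apply SymmetricAlgebra.algHom_ext
  ext c
  have := LinearMap.congr_fun hh c
  simpa using this

variable (B Q) in
/-- The augmentation ideal of the symmetric algebra. -/
def aug : Ideal (SymmetricAlgebra B Q) :=
  RingHom.ker (SymmetricAlgebra.algebraMapInv : SymmetricAlgebra B Q →ₐ[B] B).toRingHom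

lemma ι_mem_aug (c : Q) : SymmetricAlgebra.ι B Q c ∈ aug B Q := by
  rw [aug, RingHom.mem_ker]
  exact SymmetricAlgebra.algebraMapInv_ι c

lemma mem_aug_iff (x : SymmetricAlgebra B Q) :
    x ∈ aug B Q ↔ (SymmetricAlgebra.algebraMapInv : SymmetricAlgebra B Q →ₐ[B] B) x = 0 :=
  Iff.rfl

theorem exists_decomp (x : SymmetricAlgebra B Q) :
    ∃ (b : B) (c : Q),
      x - algebraMap B _ b - SymmetricAlgebra.ι B Q c ∈ aug B Q ^ 2 := by
  induction x using SymmetricAlgebra.induction with
  | algebraMap r => exact ⟨r, 0, by simp⟩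
  | ι c => exact ⟨0, c, by simp⟩
  | add x y hx hy =>
    obtain ⟨b, c, h⟩ := hx
    obtain ⟨b', c', h'⟩ := hy
    refine ⟨b + b', c + c', ?_⟩
    have : x + y - algebraMap B _ (b + b') - SymmetricAlgebra.ι B Q (c + c') =
        (x - algebraMap B _ b - SymmetricAlgebra.ι B Q c) +
          (y - algebraMap B _ b' - SymmetricAlgebra.ι B Q c') := by
      rw [map_add, map_add]; ring
    rw [this]
    exact Ideal.add_mem _ h h'
  | mul x y hx hy =>
    obtain ⟨b, c, h⟩ := hx
    obtain ⟨b', c', h'⟩ := hy
    refine ⟨b * b', b • c' + b' • c, ?_⟩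
    set r := x - algebraMap B _ b - SymmetricAlgebra.ι B Q c with hr
    set r' := y - algebraMap B _ b' - SymmetricAlgebra.ι B Q c' with hr'
    have hx' : x = algebraMap B _ b + SymmetricAlgebra.ι B Q c + r := by rw [hr]; ring
    have hy' : y = algebraMap B _ b' + SymmetricAlgebra.ι B Q c' + r' := by rw [hr']; ring
    have key : x * y - algebraMap B _ (b * b') - SymmetricAlgebra.ι B Q (b • c' + b' • c) =
        SymmetricAlgebra.ι B Q c * SymmetricAlgebra.ι B Q c' +
          r * y + (algebraMap B _ b + SymmetricAlgebra.ι B Q c) * r' := by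
      rw [hx', hy', map_mul, map_add, map_smul, map_smul, Algebra.smul_def, Algebra.smul_def]
      ring
    rw [key]
    refine Ideal.add_mem _ (Ideal.add_mem _ ?_ ?_) ?_
    · rw [pow_two]; exact Ideal.mul_mem_mul (ι_mem_aug c) (ι_mem_aug c')
    · exact Ideal.mul_mem_right _ _ h
    · exact Ideal.mul_mem_left _ _ h'

end Smooth

section Kaehler

variable {R P A : Type*} [CommRing R] [CommRing P] [CommRing A] [Algebra R P] [Algebra P A]

theorem tmul_D_mem_of_mem_sq (𝔞 : Ideal P) (x : P) (hx : x ∈ 𝔞 ^ 2) :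
    (1 : A) ⊗ₜ[P] KaehlerDifferential.D R P x ∈ 𝔞 • (⊤ : Submodule P (A ⊗[P] Ω[P⁄R])) := by
  rw [pow_two] at hx
  refine Submodule.mul_induction_on hx ?_ ?_
  · intro u hu v hv
    rw [Derivation.leibniz, TensorProduct.tmul_add, TensorProduct.tmul_smul,
      TensorProduct.tmul_smul]
    exact Submodule.add_mem _ (Submodule.smul_mem_smul hu trivial)
      (Submodule.smul_mem_smul hv trivial)
  · intro x y hx hy
    rw [map_add, TensorProduct.tmul_add]
    exact Submodule.add_mem _ hx hy

end Kaehler

section Inter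

open MvPolynomial

variable {B : Type u} {Q : Type v} [CommRing B] [AddCommGroup Q] [Module B Q]

theorem eq_zero_of_forall_mem_pow_idealOfVars {σ : Type*} (p : MvPolynomial σ B)
    (h : ∀ n, p ∈ idealOfVars σ B ^ n) : p = 0 := by
  ext x
  rw [coeff_zero]
  exact (mem_pow_idealOfVars_iff' (Finsupp.degree x + 1) p).mp (h _) x (Nat.lt_succ_self _)

theorem eq_zero_of_forall_mem_pow_aug [Module.Finite B Q] [Module.Projective B Q]
    (x : SymmetricAlgebra B Q) (h : ∀ n, x ∈ aug B Q ^ n) : x = 0 := by
  classical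
  obtain ⟨m, f, hf⟩ := Module.Finite.exists_fin' B Q
  obtain ⟨g, hg⟩ := Module.projective_lifting_property f LinearMap.id hf
  let E := SymmetricAlgebra.equivMvPolynomial (Pi.basisFun B (Fin m))
  let T : SymmetricAlgebra B Q →ₐ[B] MvPolynomial (Fin m) B :=
    E.toAlgHom.comp (SymmetricAlgebra.lift (SymmetricAlgebra.ι B (Fin m → B) ∘ₗ g))
  let T' : MvPolynomial (Fin m) B →ₐ[B] SymmetricAlgebra B Q :=
    (SymmetricAlgebra.lift (SymmetricAlgebra.ι B Q ∘ₗ f)).comp E.symm.toAlgHom
  have hT'T : T'.comp T = AlgHom.id B _ := by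
    apply SymmetricAlgebra.algHom_ext
    ext c
    have := LinearMap.congr_fun hg c
    simp only [LinearMap.coe_comp, Function.comp_apply, LinearMap.id_coe, id_eq] at this
    simp [T, T', E, this]
  have hTinj : Function.Injective T := by
    intro a b hab
    have := congrArg T' hab
    rwa [← AlgHom.comp_apply, ← AlgHom.comp_apply, hT'T] at this
  -- constant coefficient
  have hE : (MvPolynomial.aeval (0 : Fin m → B) : MvPolynomial (Fin m) B →ₐ[B] B).comp
      E.toAlgHom = SymmetricAlgebra.algebraMapInv := by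
    apply SymmetricAlgebra.algHom_ext
    apply (Pi.basisFun B (Fin m)).ext
    intro i
    show MvPolynomial.aeval (0 : Fin m → B)
        (E (SymmetricAlgebra.ι B (Fin m → B) (Pi.basisFun B (Fin m) i))) =
      SymmetricAlgebra.algebraMapInv (SymmetricAlgebra.ι B (Fin m → B) (Pi.basisFun B (Fin m) i))
    rw [SymmetricAlgebra.equivMvPolynomial_ι_apply, MvPolynomial.aeval_X,
      SymmetricAlgebra.algebraMapInv_ι]
    rfl
  have h2 : (MvPolynomial.aeval (0 : Fin m → B) : MvPolynomial (Fin m) B →ₐ[B] B).comp T =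
      SymmetricAlgebra.algebraMapInv := by
    apply SymmetricAlgebra.algHom_ext
    ext c
    have := AlgHom.congr_fun hE (SymmetricAlgebra.ι B (Fin m → B) (g c))
    show MvPolynomial.aeval (0 : Fin m → B)
        (E (SymmetricAlgebra.lift (SymmetricAlgebra.ι B (Fin m → B) ∘ₗ g)
          (SymmetricAlgebra.ι B Q c))) =
      SymmetricAlgebra.algebraMapInv (SymmetricAlgebra.ι B Q c)
    rw [SymmetricAlgebra.lift_ι_apply]
    refine this.trans ?_
    rw [SymmetricAlgebra.algebraMapInv_ι, SymmetricAlgebra.algebraMapInv_ι]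
  have hcc : aug B Q ≤ (idealOfVars (Fin m) B).comap T := by
    intro y hy
    rw [Ideal.mem_comap, ← pow_one (idealOfVars (Fin m) B), mem_pow_idealOfVars_iff']
    intro z hz
    have hz0 : z = 0 := (Finsupp.degree_eq_zero_iff z).mp (by omega)
    subst hz0
    have h3 := AlgHom.congr_fun h2 y
    rw [AlgHom.comp_apply, (mem_aug_iff y).mp hy, MvPolynomial.aeval_zero] at h3
    simpa [MvPolynomial.constantCoeff_eq] using h3
  have hpow : ∀ n, T x ∈ idealOfVars (Fin m) B ^ n := by
    intro n
    have h4 : (aug B Q ^ n).map T ≤ idealOfVars (Fin m) B ^ n := by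
      rw [Ideal.map_pow]
      exact Ideal.pow_right_mono (Ideal.map_le_iff_le_comap.mpr hcc) n
    exact h4 (Ideal.mem_map_of_mem T (h n))
  apply hTinj
  rw [map_zero]
  exact eq_zero_of_forall_mem_pow_idealOfVars _ hpow

end Inter

end Groth.Agent.H91.SymSmooth
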