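import Mathlib
import Groth.Agent.H91.SymSmooth
import Groth.Agent.H91.SymPow

namespace Groth.Agent.H91.SymPow

open TensorProduct

universe u v w

section FreeKill

variable {R : Type u} {ι : Type u} [CommRing R] [Fintype ι] {M : Type v} [AddCommGroup M] [Module R M]
  {J : Type w} (b : Module.Basis J R M)

open MvPolynomial in
theorem leftInvFree_of_mem_pow (p : MvPolynomial J R)
    (hp : p ∈ idealOfVars J R ^ (Fintype.card ι + 1)) : leftInvFree (ι := ι) b p = 0 := by
  rw [mem_pow_idealOfVars_iff'] at hp
  rw [p.as_sum, map_sum]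
  apply Finset.sum_eq_zero
  intro s _
  by_cases hs : s.degree = Fintype.card ι
  · rw [hp s (by omega), map_zero, map_zero]
  · exact leftInvFree_of_degree_ne b s hs _

open MvPolynomial in
theorem aeval_zero_comp_equivMvPolynomial :
    (MvPolynomial.aeval (0 : J → R) : MvPolynomial J R →ₐ[R] R).comp
      (SymmetricAlgebra.equivMvPolynomial b).toAlgHom = SymmetricAlgebra.algebraMapInv := by
  apply SymmetricAlgebra.algHom_ext
  apply b.ext
  intro i
  show MvPolynomial.aeval (0 : J → R)
      (SymmetricAlgebra.equivMvPolynomial b (SymmetricAlgebra.ι R M (b i))) =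
    SymmetricAlgebra.algebraMapInv (SymmetricAlgebra.ι R M (b i))
  rw [SymmetricAlgebra.equivMvPolynomial_ι_apply, MvPolynomial.aeval_X,
    SymmetricAlgebra.algebraMapInv_ι]
  rfl

end FreeKill

section Projective

variable {R : Type u} {ι : Type u} [CommRing R] [Fintype ι] {P : Type v} [AddCommGroup P]
  [Module R P]

open MvPolynomial in
/-- For a projective module the canonical map `Sym^n P → Sym P` has a left inverse that kills
the `(n+1)`-st power of the augmentation ideal. -/
theorem exists_leftInv [Module.Projective R P] :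
    ∃ l : SymmetricAlgebra R P →ₗ[R] Sym[R] ι P,
      (∀ x, l (toSymAlg x) = x) ∧ ∀ y ∈ SymSmooth.aug R P ^ (Fintype.card ι + 1), l y = 0 := by
  classical
  obtain ⟨s, hs⟩ := (Module.projective_def' (R := R) (P := P)).mp inferInstance
  set π : (P →₀ R) →ₗ[R] P := Finsupp.linearCombination R id with hπ
  let b : Module.Basis P R (P →₀ R) := Finsupp.basisSingleOne
  let E := SymmetricAlgebra.equivMvPolynomial b
  let T : SymmetricAlgebra R P →ₐ[R] MvPolynomial P R :=
    E.toAlgHom.comp (SymmetricAlgebra.lift (SymmetricAlgebra.ι R (P →₀ R) ∘ₗ s))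
  refine ⟨map π ∘ₗ leftInvFree (ι := ι) b ∘ₗ T.toLinearMap, ?_, ?_⟩
  · intro x
    suffices h : (map π ∘ₗ leftInvFree (ι := ι) b ∘ₗ T.toLinearMap) ∘ₗ toSymAlg = LinearMap.id from
      LinearMap.congr_fun h x
    apply hom_ext
    intro m
    have h1 : T (toSymAlg (SymmetricPower.tprod R m)) =
        E (toSymAlg (SymmetricPower.tprod R (fun i => s (m i)))) := by
      simp only [toSymAlg_tprod, map_prod]
      refine Finset.prod_congr rfl fun i _ => ?_
      simp [T]
    simp only [LinearMap.coe_comp, Function.comp_apply, AlgHom.toLinearMap_apply, LinearMap.id_coe,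
      id_eq]
    rw [h1, leftInvFree_toSymAlg, map_tprod]
    congr 1
    funext i
    exact LinearMap.congr_fun hs (m i)
  · intro y hy
    have h2 : (MvPolynomial.aeval (0 : P → R) : MvPolynomial P R →ₐ[R] R).comp T =
        SymmetricAlgebra.algebraMapInv := by
      apply SymmetricAlgebra.algHom_ext
      ext c
      have := AlgHom.congr_fun (aeval_zero_comp_equivMvPolynomial b)
        (SymmetricAlgebra.ι R (P →₀ R) (s c))
      show MvPolynomial.aeval (0 : P → R)
          (E (SymmetricAlgebra.lift (SymmetricAlgebra.ι R (P →₀ R) ∘ₗ s)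
            (SymmetricAlgebra.ι R P c))) =
        SymmetricAlgebra.algebraMapInv (SymmetricAlgebra.ι R P c)
      rw [SymmetricAlgebra.lift_ι_apply]
      refine this.trans ?_
      rw [SymmetricAlgebra.algebraMapInv_ι, SymmetricAlgebra.algebraMapInv_ι]
    have hcc : SymSmooth.aug R P ≤ (idealOfVars P R).comap T := by
      intro y hy
      rw [Ideal.mem_comap, ← pow_one (idealOfVars P R), mem_pow_idealOfVars_iff']
      intro z hz
      have hz0 : z = 0 := (Finsupp.degree_eq_zero_iff z).mp (by omega)
      subst hz0
      have h3 := AlgHom.congr_fun h2 y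
      rw [AlgHom.comp_apply, (SymSmooth.mem_aug_iff y).mp hy, MvPolynomial.aeval_zero] at h3
      simpa [MvPolynomial.constantCoeff_eq] using h3
    have h4 : (SymSmooth.aug R P ^ (Fintype.card ι + 1)).map T ≤
        idealOfVars P R ^ (Fintype.card ι + 1) := by
      rw [Ideal.map_pow]
      exact Ideal.pow_right_mono (Ideal.map_le_iff_le_comap.mpr hcc) _
    have h5 := h4 (Ideal.mem_map_of_mem T hy)
    simp only [LinearMap.coe_comp, Function.comp_apply, AlgHom.toLinearMap_apply]
    rw [leftInvFree_of_mem_pow b _ h5, map_zero]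

end Projective

end Groth.Agent.H91.SymPow
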