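import Mathlib
import Groth.Agent.H91.SymPowProj
import Groth.Agent.H91.SymGrAux

namespace Groth.Agent.H91.SymGr

open TensorProduct

universe u v

section Main

variable {R S : Type u} [CommRing R] [CommRing S] [Algebra R S]
  (σ : S →ₐ[R] R) (I : Ideal S) (hI : ∀ x, x ∈ I ↔ σ x = 0)
  {P : Type v} [AddCommGroup P] [Module R P]
  (q : ↥(I.restrictScalars R) →ₗ[R] P) (hq : Function.Surjective q)
  (hq0 : ∀ x, q x = 0 ↔ (x : S) ∈ I ^ 2)

variable (R) in
/-- The graded piece `I^n/I^(n+1)` as an `R`-module. -/
abbrev gr (n : ℕ) : Type u :=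
  ↥((I ^ n).restrictScalars R) ⧸
    (((I ^ (n + 1)).restrictScalars R).comap ((I ^ n).restrictScalars R).subtype)

variable {ι : Type u} [Fintype ι]

/-- the class of a product of elements of `I` -/
noncomputable def prodI : MultilinearMap R (fun _ : ι => ↥(I.restrictScalars R)) (gr R I (Fintype.card ι)) :=
  (Submodule.mkQ _).compMultilinearMap
    (((MultilinearMap.mkPiAlgebra R ι S).compLinearMap
      (fun _ => (I.restrictScalars R).subtype)).codRestrict ((I ^ (Fintype.card ι)).restrictScalars R)
      (fun x => by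
        simpa using prod_mem_pow_card I Finset.univ (fun i => ((x i : ↥(I.restrictScalars R)) : S))
          (fun i _ => (x i).2)))

lemma prodI_apply (x : ι → ↥(I.restrictScalars R)) :
    prodI I x = Submodule.Quotient.mk ⟨∏ i, (x i : S), by
      simpa using prod_mem_pow_card I Finset.univ (fun i => ((x i : ↥(I.restrictScalars R)) : S))
          (fun i _ => (x i).2)⟩ := rfl

include hq0 in
lemma prodI_congr (x y : ι → ↥(I.restrictScalars R)) (h : ∀ i, q (x i) = q (y i)) :
    prodI I x = prodI I y := by
  rw [prodI_apply, prodI_apply, Submodule.Quotient.eq]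
  show (∏ i, (x i : S)) - ∏ i, (y i : S) ∈ I ^ (Fintype.card ι + 1)
  have := prod_sub_prod_mem_pow I Finset.univ (fun i => (x i : S)) (fun i => (y i : S))
    (fun i _ => (x i).2) (fun i _ => by
      have h1 : q (x i - y i) = 0 := by rw [map_sub, h i, sub_self]
      exact (hq0 _).mp h1)
  simpa using this

include hq hq0 in
theorem exists_phi :
    ∃ φ : Sym[R] ι P →ₗ[R] gr R I (Fintype.card ι),
      ∀ x : ι → ↥(I.restrictScalars R),
        φ (SymmetricPower.tprod R (fun i => q (x i))) = prodI I x := by
  classical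
  obtain ⟨g, hg⟩ := exists_multilinear_descent q hq (prodI (ι := ι) I) (prodI_congr I q hq0)
  have hsymm : ∀ (e : Equiv.Perm ι) (m : ι → P), g (fun i => m (e i)) = g m := by
    intro e m
    choose x hx using fun i => hq (m i)
    have h1 : (fun i => m (e i)) = fun i => q (x (e i)) := by funext i; rw [hx]
    have h2 : m = fun i => q (x i) := by funext i; rw [hx]
    rw [h1, hg, h2, hg, prodI_apply, prodI_apply]
    congr 2
    exact Equiv.prod_comp e (fun i => (x i : S))
  exact ⟨SymPow.lift g hsymm, fun x => by rw [SymPow.lift_tprod, hg]⟩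

end Main

end Groth.Agent.H91.SymGr
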