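import Mathlib
import Groth.Agent.H91.SymGrPhi

namespace Groth.Agent.H91.SymGr

open TensorProduct Pointwise

universe u v

section Surj

variable {R S : Type u} [CommRing R] [CommRing S] [Algebra R S]
  (σ : S →ₐ[R] R) (I : Ideal S) (hI : ∀ x, x ∈ I ↔ σ x = 0)
  {P : Type v} [AddCommGroup P] [Module R P]
  (q : ↥(I.restrictScalars R) →ₗ[R] P)

variable {ι : Type u} [Fintype ι]

include hI in
theorem phi_surjective (φ : Sym[R] ι P →ₗ[R] gr R I (Fintype.card ι))
    (hφ : ∀ x : ι → ↥(I.restrictScalars R),
        φ (SymmetricPower.tprod R (fun i => q (x i))) = prodI I x) :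
    Function.Surjective φ := by
  classical
  have key : ∀ y (hy : y ∈ I ^ (Fintype.card ι)),
      (Submodule.Quotient.mk ⟨y, hy⟩ : gr R I (Fintype.card ι)) ∈ LinearMap.range φ := by
    intro y hy
    have hy' : y ∈ Submodule.span S ((I : Set S) ^ (Fintype.card ι)) := by
      rw [← Submodule.pow_eq_span_pow_set]; exact hy
    revert hy
    induction hy' using Submodule.span_induction with
    | mem x hx =>
      intro hy
      rw [Set.mem_pow] at hx
      obtain ⟨f, rfl⟩ := hx
      let e := Fintype.equivFin ι
      have h1 : (List.ofFn fun i => (f i : S)).prod = ∏ j : ι, (f (e j) : S) := by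
        rw [List.prod_ofFn]
        exact (Equiv.prod_comp e (fun i => (f i : S))).symm
      refine ⟨SymmetricPower.tprod R (fun j => q ⟨(f (e j) : S), (f (e j)).2⟩), ?_⟩
      rw [hφ, prodI_apply]
      congr 2
      exact h1.symm
    | zero =>
      intro hy
      exact ⟨0, by rw [map_zero]; rfl⟩
    | add x y hx hy ihx ihy =>
      intro hxy
      have hxI : x ∈ I ^ (Fintype.card ι) := by
        rw [Submodule.pow_eq_span_pow_set]; exact hx
      have hyI : y ∈ I ^ (Fintype.card ι) := by
        rw [Submodule.pow_eq_span_pow_set]; exact hy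
      have : (Submodule.Quotient.mk ⟨x + y, hxy⟩ : gr R I (Fintype.card ι)) =
          Submodule.Quotient.mk ⟨x, hxI⟩ + Submodule.Quotient.mk ⟨y, hyI⟩ := rfl
      rw [this]
      exact add_mem (ihx hxI) (ihy hyI)
    | smul s x hx ihx =>
      intro hsx
      have hxI : x ∈ I ^ (Fintype.card ι) := by
        rw [Submodule.pow_eq_span_pow_set]; exact hx
      have : (Submodule.Quotient.mk ⟨s • x, hsx⟩ : gr R I (Fintype.card ι)) =
          σ s • Submodule.Quotient.mk ⟨x, hxI⟩ := by
        rw [← Submodule.Quotient.mk_smul, Submodule.Quotient.eq]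
        show s • x - (σ s • x) ∈ I ^ (Fintype.card ι + 1)
        have h2 : s • x - (σ s • x) = (s - algebraMap R S (σ s)) * x := by
          rw [smul_eq_mul, Algebra.smul_def (σ s) x]; ring
        rw [h2, pow_succ']
        refine Ideal.mul_mem_mul ?_ hxI
        rw [hI, map_sub, AlgHom.commutes]
        simp
      rw [this]
      exact Submodule.smul_mem _ _ (ihx hxI)
  intro z
  obtain ⟨⟨y, hy⟩, rfl⟩ := Submodule.Quotient.mk_surjective _ z
  exact key y hy

end Surj

end Groth.Agent.H91.SymGr
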