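import Mathlib
import Groth.Agent.H91.SymGrSurj

namespace Groth.Agent.H91.SymGr

open TensorProduct

universe u v

section Inj

variable {R S : Type u} [CommRing R] [CommRing S] [Algebra R S]
  (σ : S →ₐ[R] R) (I : Ideal S) (hI : ∀ x, x ∈ I ↔ σ x = 0)
  {P : Type v} [AddCommGroup P] [Module R P]
  (q : ↥(I.restrictScalars R) →ₗ[R] P)
  (hq0 : ∀ x, q x = 0 ↔ (x : S) ∈ I ^ 2)

/-- `x ↦ x - σ x` -/
def delta : S →ₗ[R] ↥(I.restrictScalars R) where
  toFun x := ⟨x - algebraMap R S (σ x), by
    show _ ∈ I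
    rw [hI, map_sub, AlgHom.commutes]; simp⟩
  map_add' x y := by
    ext
    show x + y - algebraMap R S (σ (x + y)) = (x - algebraMap R S (σ x)) + (y - algebraMap R S (σ y))
    rw [map_add, map_add]; ring
  map_smul' c x := by
    ext
    show c • x - algebraMap R S (σ (c • x)) = c • (x - algebraMap R S (σ x))
    rw [map_smul, smul_eq_mul, map_mul, smul_sub, Algebra.smul_def c (algebraMap R S (σ x))]

lemma delta_coe (x : S) : (delta σ I hI x : S) = x - algebraMap R S (σ x) := rfl

lemma delta_of_mem (x : S) (hx : x ∈ I) : delta σ I hI x = ⟨x, hx⟩ := by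
  ext
  rw [delta_coe, (hI x).mp hx, map_zero, sub_zero]

/-- the derivation `S → P` -/
def Dq : S →ₗ[R] P := q ∘ₗ delta σ I hI

lemma Dq_of_mem (x : S) (hx : x ∈ I) : Dq σ I hI q x = q ⟨x, hx⟩ := by
  rw [Dq, LinearMap.comp_apply, delta_of_mem σ I hI x hx]

include hq0 in
lemma Dq_mul (x y : S) :
    Dq σ I hI q (x * y) = σ x • Dq σ I hI q y + σ y • Dq σ I hI q x := by
  have h : q (delta σ I hI (x * y) - σ x • delta σ I hI y - σ y • delta σ I hI x) = 0 := by
    rw [hq0]
    have : ((delta σ I hI (x * y) - σ x • delta σ I hI y - σ y • delta σ I hI x :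
        ↥(I.restrictScalars R)) : S) =
        (delta σ I hI x : S) * (delta σ I hI y : S) := by
      show (delta σ I hI (x * y) : S) - σ x • (delta σ I hI y : S) - σ y • (delta σ I hI x : S) = _
      rw [delta_coe, delta_coe, delta_coe, map_mul, map_mul, Algebra.smul_def, Algebra.smul_def]
      ring
    rw [this, pow_two]
    exact Ideal.mul_mem_mul (delta σ I hI x).2 (delta σ I hI y).2
  rw [map_sub, map_sub, map_smul, map_smul, sub_sub, sub_eq_zero] at h
  exact h

lemma Dq_one : Dq σ I hI q 1 = 0 := by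
  have : delta σ I hI 1 = 0 := by
    ext
    rw [delta_coe, map_one, map_one, sub_self]; rfl
  rw [Dq, LinearMap.comp_apply, this, map_zero]

open SymSmooth in
/-- the first-order map `S → Sym P / aug^2` -/
noncomputable def g2 (hq0 : ∀ x, q x = 0 ↔ (x : S) ∈ I ^ 2) :
    S →ₐ[R] (SymmetricAlgebra R P ⧸ aug R P ^ 2) :=
  AlgHom.ofLinearMap
    (Algebra.linearMap R _ ∘ₗ σ.toLinearMap +
      (Ideal.Quotient.mkₐ R (aug R P ^ 2)).toLinearMap ∘ₗ SymmetricAlgebra.ι R P ∘ₗ Dq σ I hI q)
    (by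
      simp only [LinearMap.add_apply, LinearMap.coe_comp, Function.comp_apply,
        AlgHom.toLinearMap_apply, map_one, Algebra.linearMap_apply, Dq_one, map_zero, add_zero])
    (by
      intro x y
      simp only [LinearMap.add_apply, LinearMap.coe_comp, Function.comp_apply,
        AlgHom.toLinearMap_apply, Algebra.linearMap_apply, Dq_mul σ I hI q hq0, map_add, map_smul,
        map_mul]
      have h0 : (Ideal.Quotient.mkₐ R (aug R P ^ 2)) (SymmetricAlgebra.ι R P (Dq σ I hI q x)) *
          (Ideal.Quotient.mkₐ R (aug R P ^ 2)) (SymmetricAlgebra.ι R P (Dq σ I hI q y)) = 0 := by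
        rw [← map_mul, Ideal.Quotient.mkₐ_eq_mk, Ideal.Quotient.eq_zero_iff_mem, pow_two]
        exact Ideal.mul_mem_mul (ι_mem_aug _) (ι_mem_aug _)
      rw [add_mul, mul_add, mul_add, h0, add_zero, Algebra.smul_def, Algebra.smul_def]
      ring)

open SymSmooth in
lemma g2_of_mem (x : S) (hx : x ∈ I) :
    g2 σ I hI q hq0 x = Ideal.Quotient.mk _ (SymmetricAlgebra.ι R P (q ⟨x, hx⟩)) := by
  show algebraMap R _ (σ x) + Ideal.Quotient.mk _ (SymmetricAlgebra.ι R P (Dq σ I hI q x)) = _
  rw [(hI x).mp hx, map_zero, zero_add, Dq_of_mem σ I hI q x hx]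

end Inj

end Groth.Agent.H91.SymGr
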