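import Mathlib
import Groth.Agent.H91.SymGrG2

namespace Groth.Agent.H91.SymGr

open TensorProduct

universe u v

section Theta

open SymSmooth

variable {R : Type u} [CommRing R] {P : Type v} [AddCommGroup P] [Module R P]

lemma factor_nilpotent (n : ℕ) :
    IsNilpotent (RingHom.ker ((Ideal.Quotient.factorₐ R
      (Ideal.pow_le_pow_right (Nat.le_add_left 2 n) :
        aug R P ^ (n + 2) ≤ aug R P ^ 2) :
        (SymmetricAlgebra R P ⧸ aug R P ^ (n + 2)) →ₐ[R]
          (SymmetricAlgebra R P ⧸ aug R P ^ 2)) :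
        (SymmetricAlgebra R P ⧸ aug R P ^ (n + 2)) →+*
          (SymmetricAlgebra R P ⧸ aug R P ^ 2))) := by
  rw [Ideal.Quotient.coe_factorₐ, Ideal.Quotient.factor_ker]
  refine ⟨n + 2, ?_⟩
  rw [← Ideal.map_pow, ← pow_mul, Ideal.zero_eq_bot, Ideal.map_eq_bot_iff_le_ker,
    Ideal.mk_ker]
  exact Ideal.pow_le_pow_right (by omega)

variable {S : Type u} [CommRing S] [Algebra R S] [Algebra.FormallySmooth R S]
  (σ : S →ₐ[R] R) (I : Ideal S) (hI : ∀ x, x ∈ I ↔ σ x = 0)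
  (q : ↥(I.restrictScalars R) →ₗ[R] P)
  (hq0 : ∀ x, q x = 0 ↔ (x : S) ∈ I ^ 2)

variable {ι : Type u} [Fintype ι]

include hI hq0 in
theorem exists_Lambda [Module.Projective R P] :
    ∃ Λ : S →ₗ[R] Sym[R] ι P,
      (∀ x : ι → ↥(I.restrictScalars R),
        Λ (∏ i, (x i : S)) = SymmetricPower.tprod R (fun i => q (x i))) ∧
      ∀ y ∈ I ^ (Fintype.card ι + 1), Λ y = 0 := by
  classical
  set n := Fintype.card ι with hn
  obtain ⟨l, hl1, hl2⟩ := SymPow.exists_leftInv (R := R) (ι := ι) (P := P)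
  rw [← hn] at hl2
  set π : (SymmetricAlgebra R P ⧸ aug R P ^ (n + 2)) →ₐ[R]
      (SymmetricAlgebra R P ⧸ aug R P ^ 2) :=
    Ideal.Quotient.factorₐ R (Ideal.pow_le_pow_right (Nat.le_add_left 2 n)) with hπ
  have hπs : Function.Surjective π :=
    Ideal.Quotient.factor_surjective (Ideal.pow_le_pow_right (Nat.le_add_left 2 n))
  set θ : S →ₐ[R] (SymmetricAlgebra R P ⧸ aug R P ^ (n + 2)) :=
    Algebra.FormallySmooth.liftOfSurjective (g2 σ I hI q hq0) π hπs (factor_nilpotent n) with hθ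
  have hθπ : ∀ s, π (θ s) = g2 σ I hI q hq0 s :=
    Algebra.FormallySmooth.liftOfSurjective_apply (g2 σ I hI q hq0) π hπs (factor_nilpotent n)
  -- the ideal 𝔟
  set mkN := Ideal.Quotient.mk (aug R P ^ (n + 2)) with hmkN
  set 𝔟 : Ideal (SymmetricAlgebra R P ⧸ aug R P ^ (n + 2)) := (aug R P).map mkN with h𝔟
  have hkerπ : ∀ z, π z = 0 → z ∈ 𝔟 ^ 2 := by
    intro z hz
    have : z ∈ RingHom.ker (Ideal.Quotient.factor (Ideal.pow_le_pow_right (Nat.le_add_left 2 n) :
        aug R P ^ (n + 2) ≤ aug R P ^ 2)) := hz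
    rw [Ideal.Quotient.factor_ker] at this
    rw [h𝔟, ← Ideal.map_pow]
    exact this
  have hπmk : ∀ t : SymmetricAlgebra R P, π (mkN t) = Ideal.Quotient.mk _ t := fun t => rfl
  -- θ x ≡ mk ι q x
  have hθx : ∀ x : ↥(I.restrictScalars R),
      mkN (SymmetricAlgebra.ι R P (q x)) - θ (x : S) ∈ 𝔟 ^ 2 := by
    intro x
    apply hkerπ
    rw [map_sub, hθπ, hπmk, g2_of_mem σ I hI q hq0 (x : S) x.2, sub_self]
  have ha𝔟 : ∀ p : P, mkN (SymmetricAlgebra.ι R P p) ∈ 𝔟 :=
    fun p => Ideal.mem_map_of_mem _ (ι_mem_aug p)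
  have hθ𝔟 : ∀ x ∈ I, θ x ∈ 𝔟 := by
    intro x hx
    have h1 := hθx ⟨x, hx⟩
    have h2 : 𝔟 ^ 2 ≤ 𝔟 := Ideal.pow_le_self (by norm_num)
    have : θ x = mkN (SymmetricAlgebra.ι R P (q ⟨x, hx⟩)) -
        (mkN (SymmetricAlgebra.ι R P (q ⟨x, hx⟩)) - θ x) := by ring
    rw [this]
    exact sub_mem (ha𝔟 _) (h2 h1)
  -- the induced linear map on the quotient
  have hlker : (aug R P ^ (n + 2)).restrictScalars R ≤ LinearMap.ker l := by
    intro y hy
    rw [LinearMap.mem_ker]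
    exact hl2 y (Ideal.pow_le_pow_right (by omega) hy)
  let lbar : (SymmetricAlgebra R P ⧸ aug R P ^ (n + 2)) →ₗ[R] Sym[R] ι P :=
    (Submodule.liftQ _ l hlker) ∘ₗ
      (Submodule.Quotient.restrictScalarsEquiv R (aug R P ^ (n + 2))).symm.toLinearMap
  have hlbar : ∀ t : SymmetricAlgebra R P, lbar (mkN t) = l t := fun t => rfl
  have hlbar0 : ∀ z ∈ 𝔟 ^ (n + 1), lbar z = 0 := by
    intro z hz
    rw [h𝔟, ← Ideal.map_pow,
      Ideal.mem_map_iff_of_surjective _ Ideal.Quotient.mk_surjective] at hz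
    obtain ⟨y, hy, rfl⟩ := hz
    rw [hlbar, hl2 y hy]
  refine ⟨lbar ∘ₗ θ.toLinearMap, ?_, ?_⟩
  · intro x
    have h1 := prod_sub_prod_mem_pow 𝔟 Finset.univ
      (fun i => mkN (SymmetricAlgebra.ι R P (q (x i)))) (fun i => θ (x i : S))
      (fun i _ => ha𝔟 _) (fun i _ => hθx (x i))
    rw [Finset.card_univ, ← hn] at h1
    have h2 := hlbar0 _ h1
    rw [map_sub, sub_eq_zero] at h2
    rw [LinearMap.comp_apply, AlgHom.toLinearMap_apply, map_prod, ← h2, ← map_prod, hlbar,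
      ← SymPow.toSymAlg_tprod, hl1]
  · intro y hy
    have h3 : I ≤ (𝔟).comap θ := fun x hx => hθ𝔟 x hx
    have h4 : (I ^ (n + 1)).map θ ≤ 𝔟 ^ (n + 1) := by
      rw [Ideal.map_pow]
      exact Ideal.pow_right_mono (Ideal.map_le_iff_le_comap.mpr h3) _
    rw [LinearMap.comp_apply, AlgHom.toLinearMap_apply]
    exact hlbar0 _ (h4 (Ideal.mem_map_of_mem θ hy))

include hI hq0 in
theorem phi_injective [Module.Projective R P] (hq : Function.Surjective q)
    (φ : Sym[R] ι P →ₗ[R] gr R I (Fintype.card ι))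
    (hφ : ∀ x : ι → ↥(I.restrictScalars R),
        φ (SymmetricPower.tprod R (fun i => q (x i))) = prodI I x) :
    Function.Injective φ := by
  obtain ⟨Λ, hΛ1, hΛ2⟩ := exists_Lambda (ι := ι) σ I hI q hq0
  have hker : ((I ^ (Fintype.card ι + 1)).restrictScalars R).comap
      ((I ^ (Fintype.card ι)).restrictScalars R).subtype ≤
      LinearMap.ker (Λ ∘ₗ ((I ^ (Fintype.card ι)).restrictScalars R).subtype) := by
    intro y hy
    rw [LinearMap.mem_ker, LinearMap.comp_apply]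
    exact hΛ2 _ hy
  let Ψ : gr R I (Fintype.card ι) →ₗ[R] Sym[R] ι P := Submodule.liftQ _ _ hker
  have hΨφ : Ψ ∘ₗ φ = LinearMap.id := by
    apply SymPow.hom_ext
    intro m
    choose x hx using fun i => hq (m i)
    have h2 : m = fun i => q (x i) := by funext i; rw [hx]
    rw [h2, LinearMap.comp_apply, hφ, prodI_apply]
    show Λ (∏ i, (x i : S)) = _
    rw [hΛ1]
    rfl
  intro a b hab
  have := congrArg Ψ hab
  rwa [← LinearMap.comp_apply, ← LinearMap.comp_apply, hΨφ] at this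

include hI hq0 in
/-- **Main theorem**: for a formally smooth `R`-algebra `S` with a retraction `σ` to `R`, with kernel
`I`, such that `P = I/I²` is projective, the canonical maps `Sym^n P → I^n/I^(n+1)` are bijective. -/
theorem phi_bijective [Module.Projective R P] (hq : Function.Surjective q)
    (φ : Sym[R] ι P →ₗ[R] gr R I (Fintype.card ι))
    (hφ : ∀ x : ι → ↥(I.restrictScalars R),
        φ (SymmetricPower.tprod R (fun i => q (x i))) = prodI I x) :
    Function.Bijective φ :=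
  ⟨phi_injective σ I hI q hq0 hq φ hφ, phi_surjective σ I hI q φ hφ⟩

end Theta

end Groth.Agent.H91.SymGr
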