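import Mathlib
import Groth.Agent.H91.SymGrMain

namespace Groth.Agent.H91.SymAlgGr

open TensorProduct Pointwise SymSmooth

universe u v

variable {C : Type u} [CommRing C] {P : Type v} [AddCommGroup P] [Module C P]

lemma exists_ι_sub_mem_sq (x : SymmetricAlgebra C P) (hx : x ∈ aug C P) :
    ∃ c : P, x - SymmetricAlgebra.ι C P c ∈ aug C P ^ 2 := by
  obtain ⟨b, c, h⟩ := exists_decomp x
  have h1 : aug C P ^ 2 ≤ aug C P := Ideal.pow_le_self (by norm_num)
  have h2 := h1 h
  rw [mem_aug_iff, map_sub, map_sub, (mem_aug_iff x).mp hx, SymmetricAlgebra.algebraMapInv_ι,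
    AlgHom.commutes, sub_zero, zero_sub, neg_eq_zero] at h2
  have hb : b = 0 := h2
  subst hb
  refine ⟨c, ?_⟩
  simpa using h

lemma sub_algebraMap_mem_aug (t : SymmetricAlgebra C P) :
    t - algebraMap C _ (SymmetricAlgebra.algebraMapInv t) ∈ aug C P := by
  rw [mem_aug_iff, map_sub, AlgHom.commutes]
  simp

variable {ι : Type u} [Fintype ι]

lemma toSymAlg_mem (u : Sym[C] ι P) : SymPow.toSymAlg u ∈ aug C P ^ (Fintype.card ι) := by
  have hu : u ∈ Submodule.span C (Set.range (SymmetricPower.tprod C (ι := ι) (M := P))) := by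
    rw [SymmetricPower.span_tprod_eq_top]; trivial
  induction hu using Submodule.span_induction with
  | mem x hx =>
    obtain ⟨m, rfl⟩ := hx
    rw [SymPow.toSymAlg_tprod]
    simpa using SymGr.prod_mem_pow_card (aug C P) Finset.univ
      (fun i => SymmetricAlgebra.ι C P (m i)) (fun i _ => ι_mem_aug _)
  | zero => rw [map_zero]; exact zero_mem _
  | add x y _ _ hx hy => rw [map_add]; exact add_mem hx hy
  | smul r x _ hx =>
    rw [map_smul, Algebra.smul_def]
    exact Ideal.mul_mem_left _ _ hx

/-- (T1) every element of `aug^n` is a symmetric tensor modulo `aug^(n+1)`. -/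
theorem exists_toSymAlg_sub_mem (x : SymmetricAlgebra C P)
    (hx : x ∈ aug C P ^ (Fintype.card ι)) :
    ∃ u : Sym[C] ι P, x - SymPow.toSymAlg u ∈ aug C P ^ (Fintype.card ι + 1) := by
  classical
  have hx' : x ∈ Submodule.span (SymmetricAlgebra C P)
      ((aug C P : Set (SymmetricAlgebra C P)) ^ (Fintype.card ι)) := by
    rw [← Submodule.pow_eq_span_pow_set]; exact hx
  clear hx
  induction hx' using Submodule.span_induction with
  | mem x hx =>
    rw [Set.mem_pow] at hx
    obtain ⟨f, rfl⟩ := hx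
    let e := Fintype.equivFin ι
    choose c hc using fun i : Fin (Fintype.card ι) =>
      exists_ι_sub_mem_sq (C := C) (P := P) (f i : SymmetricAlgebra C P) (f i).2
    refine ⟨SymmetricPower.tprod C (fun j => c (e j)), ?_⟩
    rw [SymPow.toSymAlg_tprod, List.prod_ofFn,
      ← Equiv.prod_comp e (fun i => (f i : SymmetricAlgebra C P))]
    have := SymGr.prod_sub_prod_mem_pow (aug C P) Finset.univ
      (fun j : ι => (f (e j) : SymmetricAlgebra C P))
      (fun j : ι => SymmetricAlgebra.ι C P (c (e j)))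
      (fun j _ => (f (e j)).2) (fun j _ => hc (e j))
    simpa using this
  | zero => exact ⟨0, by simp⟩
  | add x y _ _ hx hy =>
    obtain ⟨u, hu⟩ := hx
    obtain ⟨u', hu'⟩ := hy
    refine ⟨u + u', ?_⟩
    have : x + y - SymPow.toSymAlg (u + u') =
        (x - SymPow.toSymAlg u) + (y - SymPow.toSymAlg u') := by rw [map_add]; ring
    rw [this]
    exact add_mem hu hu'
  | smul t x hxs hx =>
    obtain ⟨u, hu⟩ := hx
    have hxI : x ∈ aug C P ^ (Fintype.card ι) := by
      rw [Submodule.pow_eq_span_pow_set]; exact hxs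
    refine ⟨SymmetricAlgebra.algebraMapInv t • u, ?_⟩
    have : t • x - SymPow.toSymAlg (SymmetricAlgebra.algebraMapInv t • u) =
        algebraMap C _ (SymmetricAlgebra.algebraMapInv t) * (x - SymPow.toSymAlg u) +
          (t - algebraMap C _ (SymmetricAlgebra.algebraMapInv t)) * x := by
      rw [map_smul, smul_eq_mul, Algebra.smul_def (SymmetricAlgebra.algebraMapInv t)]; ring
    rw [this]
    refine add_mem (Ideal.mul_mem_left _ _ hu) ?_
    rw [pow_succ']
    exact Ideal.mul_mem_mul (sub_algebraMap_mem_aug t) hxI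

/-- (T2) a symmetric tensor whose image lies in `aug^(n+1)` vanishes. -/
theorem eq_zero_of_toSymAlg_mem [Module.Projective C P] (u : Sym[C] ι P)
    (h : SymPow.toSymAlg u ∈ aug C P ^ (Fintype.card ι + 1)) : u = 0 := by
  obtain ⟨l, hl1, hl2⟩ := SymPow.exists_leftInv (R := C) (ι := ι) (P := P)
  rw [← hl1 u, hl2 _ h]

end Groth.Agent.H91.SymAlgGr
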