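import Mathlib
import Groth.Agent.H91.SymPow

namespace Groth.Agent.H91.SymCompare

open TensorProduct

universe u v w

section Closure

variable {R : Type u} [CommRing R] {ι : Type u} [Nonempty ι]
  {M : Type v} [AddCommGroup M] [Module R M]

lemma smul_tprod (r : R) (m : ι → M) :
    ∃ m' : ι → M, r • SymmetricPower.tprod R m = SymmetricPower.tprod R m' := by
  classical
  let i₀ : ι := Classical.arbitrary ι
  refine ⟨Function.update m i₀ (r • m i₀), ?_⟩
  rw [MultilinearMap.map_update_smul, Function.update_eq_self]

/-- For a nonempty index type, the symmetric power is additively generated by pure tensors. -/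
theorem closure_tprod :
    AddSubmonoid.closure (Set.range (SymmetricPower.tprod R (ι := ι) (M := M))) = ⊤ := by
  classical
  set S := AddSubmonoid.closure (Set.range (SymmetricPower.tprod R (ι := ι) (M := M))) with hS
  have hsmul : ∀ (r : R) (x : Sym[R] ι M), x ∈ S → r • x ∈ S := by
    intro r x hx
    induction hx using AddSubmonoid.closure_induction with
    | mem x hx =>
      obtain ⟨m, rfl⟩ := hx
      obtain ⟨m', hm'⟩ := smul_tprod r m
      rw [hm']
      exact AddSubmonoid.subset_closure ⟨m', rfl⟩
    | zero => rw [smul_zero]; exact zero_mem _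
    | add x y _ _ hx hy => rw [smul_add]; exact add_mem hx hy
  let N : Submodule R (Sym[R] ι M) :=
    { carrier := S
      add_mem' := fun ha hb => add_mem ha hb
      zero_mem' := zero_mem _
      smul_mem' := fun r x hx => hsmul r x hx }
  have hN : Submodule.span R (Set.range (SymmetricPower.tprod R (ι := ι) (M := M))) ≤ N :=
    Submodule.span_le.mpr fun x hx => AddSubmonoid.subset_closure hx
  rw [SymmetricPower.span_tprod_eq_top] at hN
  rw [eq_top_iff]
  intro x _
  exact hN (Submodule.mem_top (x := x))

theorem addHom_ext {X : Type*} [AddCommMonoid X] {f g : Sym[R] ι M →+ X}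
    (h : ∀ m : ι → M, f (SymmetricPower.tprod R m) = g (SymmetricPower.tprod R m)) : f = g := by
  apply AddMonoidHom.eq_of_eqOn_denseM (closure_tprod (R := R) (ι := ι) (M := M))
  rintro _ ⟨m, rfl⟩
  exact h m

end Closure

section Compare

variable {R : Type u} [CommRing R] (I : Ideal R) {ι : Type u} [Nonempty ι]
  {M : Type v} [AddCommGroup M] [Module R M] [Module (R ⧸ I) M] [IsScalarTower R (R ⧸ I) M]

include I in
lemma smul_eq_zero_of_mem (a : R) (ha : a ∈ I) (x : M) : a • x = 0 := by
  have : a • x = (Ideal.Quotient.mk I a) • x := by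
    rw [← Ideal.Quotient.algebraMap_eq, algebraMap_smul]
  rw [this, Ideal.Quotient.eq_zero_iff_mem.mpr ha, zero_smul]

theorem isTorsionBySet : Module.IsTorsionBySet R (Sym[R] ι M) I := by
  classical
  intro x a
  have hx : x ∈ AddSubmonoid.closure (Set.range (SymmetricPower.tprod R (ι := ι) (M := M))) := by
    rw [closure_tprod]; trivial
  induction hx using AddSubmonoid.closure_induction with
  | mem x hx =>
    obtain ⟨m, rfl⟩ := hx
    let i₀ : ι := Classical.arbitrary ι
    have h1 : (a : R) • SymmetricPower.tprod R m =
        SymmetricPower.tprod R (Function.update m i₀ ((a : R) • m i₀)) := by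
      rw [MultilinearMap.map_update_smul, Function.update_eq_self]
    rw [h1, smul_eq_zero_of_mem I a a.2]
    exact MultilinearMap.map_coord_zero _ i₀ (Function.update_self ..)
  | zero => rw [smul_zero]
  | add x y _ _ hx hy => rw [smul_add, hx, hy, add_zero]

/-- The comparison maps between the symmetric powers over `R` and over `R ⧸ I` of an
`R ⧸ I`-module. -/
theorem exists_compare :
    ∃ (c : Sym[R] ι M →+ Sym[R ⧸ I] ι M) (d : Sym[R ⧸ I] ι M →+ Sym[R] ι M),
      (∀ m, c (SymmetricPower.tprod R m) = SymmetricPower.tprod (R ⧸ I) m) ∧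
      (∀ m, d (SymmetricPower.tprod (R ⧸ I) m) = SymmetricPower.tprod R m) ∧
      (∀ x, d (c x) = x) ∧ (∀ y, c (d y) = y) := by
  classical
  -- the map c
  let modR : Module R (Sym[R ⧸ I] ι M) := Module.compHom _ (Ideal.Quotient.mk I)
  have hsm : ∀ (r : R) (y : Sym[R ⧸ I] ι M), r • y = (Ideal.Quotient.mk I r) • y := fun _ _ => rfl
  let fc : MultilinearMap R (fun _ : ι => M) (Sym[R ⧸ I] ι M) :=
    { toFun := fun m => SymmetricPower.tprod (R ⧸ I) m
      map_update_add' := fun m i x y => by
        exact (SymmetricPower.tprod (R ⧸ I)).map_update_add m i x y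
      map_update_smul' := fun m i r x => by
        have : r • x = (Ideal.Quotient.mk I r) • x := by
          rw [← Ideal.Quotient.algebraMap_eq, algebraMap_smul]
        rw [this, hsm]
        exact (SymmetricPower.tprod (R ⧸ I)).map_update_smul m i _ x }
  let c := SymPow.lift fc (fun e m => SymmetricPower.tprod_equiv e m)
  have hc : ∀ m, c (SymmetricPower.tprod R m) = SymmetricPower.tprod (R ⧸ I) m :=
    fun m => SymPow.lift_tprod fc _ m
  -- the map d
  let modC : Module (R ⧸ I) (Sym[R] ι M) := (isTorsionBySet (ι := ι) (M := M) I).module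
  have hsm' : ∀ (r : R) (y : Sym[R] ι M), (Ideal.Quotient.mk I r) • y = r • y := fun _ _ => rfl
  let fd : MultilinearMap (R ⧸ I) (fun _ : ι => M) (Sym[R] ι M) :=
    { toFun := fun m => SymmetricPower.tprod R m
      map_update_add' := fun m i x y => by
        exact (SymmetricPower.tprod R).map_update_add m i x y
      map_update_smul' := fun m i r x => by
        obtain ⟨r, rfl⟩ := Ideal.Quotient.mk_surjective r
        have : (Ideal.Quotient.mk I r) • x = r • x := by
          rw [← Ideal.Quotient.algebraMap_eq, algebraMap_smul]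
        rw [this, hsm']
        exact (SymmetricPower.tprod R).map_update_smul m i _ x }
  let d := SymPow.lift fd (fun e m => SymmetricPower.tprod_equiv e m)
  have hd : ∀ m, d (SymmetricPower.tprod (R ⧸ I) m) = SymmetricPower.tprod R m :=
    fun m => SymPow.lift_tprod fd _ m
  refine ⟨c.toAddMonoidHom, d.toAddMonoidHom, hc, hd, ?_, ?_⟩
  · intro x
    have : (d.toAddMonoidHom.comp c.toAddMonoidHom) = AddMonoidHom.id _ := by
      apply addHom_ext
      intro m
      show d (c (SymmetricPower.tprod R m)) = SymmetricPower.tprod R m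
      rw [hc, hd]
    exact DFunLike.congr_fun this x
  · intro y
    have : (c.toAddMonoidHom.comp d.toAddMonoidHom) = AddMonoidHom.id _ := by
      apply addHom_ext
      intro m
      show c (d (SymmetricPower.tprod (R ⧸ I) m)) = SymmetricPower.tprod (R ⧸ I) m
      rw [hd, hc]
    exact DFunLike.congr_fun this y

end Compare

end Groth.Agent.H91.SymCompare
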