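import Mathlib
import Groth.Agent.H91.SymAlgGr
import Groth.Agent.H91.SymCompare

namespace Groth.Agent.H91.AdicSmooth

open TensorProduct SymSmooth

universe u

section Rho

variable {A B : Type u} [CommRing A] [CommRing B] [Algebra A B] (𝔍 : Ideal B)
  [Algebra.FormallySmooth A (B ⧸ 𝔍)]
  [Algebra A (SymmetricAlgebra (B ⧸ 𝔍) 𝔍.Cotangent)]
  [IsScalarTower A (B ⧸ 𝔍) (SymmetricAlgebra (B ⧸ 𝔍) 𝔍.Cotangent)]

omit [Algebra A B] [Algebra.FormallySmooth A (B ⧸ 𝔍)]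
  [Algebra A (SymmetricAlgebra (B ⧸ 𝔍) 𝔍.Cotangent)]
  [IsScalarTower A (B ⧸ 𝔍) (SymmetricAlgebra (B ⧸ 𝔍) 𝔍.Cotangent)] in
lemma pow_le_self' {N : ℕ} (hN : 2 ≤ N) : 𝔍 ^ N ≤ 𝔍 := Ideal.pow_le_self (by omega)

omit [Algebra.FormallySmooth A (B ⧸ 𝔍)]
  [Algebra A (SymmetricAlgebra (B ⧸ 𝔍) 𝔍.Cotangent)]
  [IsScalarTower A (B ⧸ 𝔍) (SymmetricAlgebra (B ⧸ 𝔍) 𝔍.Cotangent)] in
lemma factor_nilpotent {N : ℕ} (hN : 2 ≤ N) :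
    IsNilpotent (RingHom.ker ((Ideal.Quotient.factorₐ A (pow_le_self' 𝔍 hN) :
      (B ⧸ 𝔍 ^ N) →ₐ[A] (B ⧸ 𝔍)) : (B ⧸ 𝔍 ^ N) →+* (B ⧸ 𝔍))) := by
  rw [Ideal.Quotient.coe_factorₐ, Ideal.Quotient.factor_ker]
  refine ⟨N, ?_⟩
  rw [← Ideal.map_pow, Ideal.zero_eq_bot, Ideal.map_eq_bot_iff_le_ker, Ideal.mk_ker]

theorem exists_rho [Module.Projective (B ⧸ 𝔍) 𝔍.Cotangent] (N : ℕ) (hN : 2 ≤ N) :
    ∃ (s : (B ⧸ 𝔍) →ₐ[A] (B ⧸ 𝔍 ^ N))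
      (ρ : SymmetricAlgebra (B ⧸ 𝔍) 𝔍.Cotangent →ₐ[A] (B ⧸ 𝔍 ^ N)),
      (∀ c, Ideal.Quotient.factor (pow_le_self' 𝔍 hN) (s c) = c) ∧
      (∀ c, ρ (algebraMap (B ⧸ 𝔍) _ c) = s c) ∧
      (∀ x : 𝔍, ρ (SymmetricAlgebra.ι (B ⧸ 𝔍) 𝔍.Cotangent (𝔍.toCotangent x)) -
        Ideal.Quotient.mk (𝔍 ^ N) x ∈ (𝔍 ^ 2).map (Ideal.Quotient.mk (𝔍 ^ N))) := by
  classical
  set pN : (B ⧸ 𝔍 ^ N) →ₐ[A] (B ⧸ 𝔍) := Ideal.Quotient.factorₐ A (pow_le_self' 𝔍 hN) with hpN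
  have hpNs : Function.Surjective pN := Ideal.Quotient.factor_surjective (pow_le_self' 𝔍 hN)
  set s : (B ⧸ 𝔍) →ₐ[A] (B ⧸ 𝔍 ^ N) :=
    Algebra.FormallySmooth.liftOfSurjective (AlgHom.id A (B ⧸ 𝔍)) pN hpNs (factor_nilpotent (A := A) 𝔍 hN)
    with hs
  have hsp : ∀ c, pN (s c) = c :=
    Algebra.FormallySmooth.liftOfSurjective_apply (AlgHom.id A (B ⧸ 𝔍)) pN hpNs
      (factor_nilpotent (A := A) 𝔍 hN)
  -- the map to the second level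
  have h2N : 𝔍 ^ N ≤ 𝔍 ^ 2 := Ideal.pow_le_pow_right hN
  set q2 : (B ⧸ 𝔍 ^ N) →ₐ[A] (B ⧸ 𝔍 ^ 2) := Ideal.Quotient.factorₐ A h2N with hq2
  have hq2s : Function.Surjective q2 := Ideal.Quotient.factor_surjective h2N
  have hq2mk : ∀ b : B, q2 (Ideal.Quotient.mk (𝔍 ^ N) b) = Ideal.Quotient.mk (𝔍 ^ 2) b :=
    fun b => rfl
  have hq2ker : ∀ z, q2 z = 0 → z ∈ (𝔍 ^ 2).map (Ideal.Quotient.mk (𝔍 ^ N)) := by
    intro z hz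
    have : z ∈ RingHom.ker (Ideal.Quotient.factor h2N) := hz
    rwa [Ideal.Quotient.factor_ker] at this
  -- algebra structures
  let algN : Algebra (B ⧸ 𝔍) (B ⧸ 𝔍 ^ N) := s.toRingHom.toAlgebra
  have towN : IsScalarTower A (B ⧸ 𝔍) (B ⧸ 𝔍 ^ N) :=
    IsScalarTower.of_algebraMap_eq (fun a => (s.commutes a).symm)
  let alg2 : Algebra (B ⧸ 𝔍) (B ⧸ 𝔍 ^ 2) := (q2.toRingHom.comp s.toRingHom).toAlgebra
  have hsmulN : ∀ (c : B ⧸ 𝔍) (y : B ⧸ 𝔍 ^ N), c • y = s c * y := fun c y => rfl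
  have hsmul2 : ∀ (c : B ⧸ 𝔍) (y : B ⧸ 𝔍 ^ 2), c • y = q2 (s c) * y := fun c y => rfl
  let q2lin : (B ⧸ 𝔍 ^ N) →ₗ[B ⧸ 𝔍] (B ⧸ 𝔍 ^ 2) :=
    { toFun := q2
      map_add' := map_add q2
      map_smul' := fun c y => by
        rw [hsmulN, map_mul, RingHom.id_apply, hsmul2] }
  -- q2 (s (mk b)) ≡ mk b
  have hq2s_mk : ∀ b : B, q2 (s (Ideal.Quotient.mk 𝔍 b)) - Ideal.Quotient.mk (𝔍 ^ 2) b ∈
      𝔍.map (Ideal.Quotient.mk (𝔍 ^ 2)) := by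
    intro b
    have h1 : Ideal.Quotient.factor (Ideal.pow_le_self (by norm_num) : 𝔍 ^ 2 ≤ 𝔍)
        (q2 (s (Ideal.Quotient.mk 𝔍 b)) - Ideal.Quotient.mk (𝔍 ^ 2) b) = 0 := by
      obtain ⟨z, hz⟩ := Ideal.Quotient.mk_surjective (s (Ideal.Quotient.mk 𝔍 b))
      have h3 := hsp (Ideal.Quotient.mk 𝔍 b)
      rw [← hz] at h3 ⊢
      rw [hq2mk, map_sub, Ideal.Quotient.factor_mk, Ideal.Quotient.factor_mk, sub_eq_zero]
      exact h3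
    have : (q2 (s (Ideal.Quotient.mk 𝔍 b)) - Ideal.Quotient.mk (𝔍 ^ 2) b) ∈
        RingHom.ker (Ideal.Quotient.factor (Ideal.pow_le_self (by norm_num) : 𝔍 ^ 2 ≤ 𝔍)) := h1
    rwa [Ideal.Quotient.factor_ker] at this
  let cot : 𝔍.Cotangent →ₗ[B ⧸ 𝔍] (B ⧸ 𝔍 ^ 2) :=
    { toFun := 𝔍.cotangentToQuotientSquare
      map_add' := map_add _
      map_smul' := fun c p => by
        obtain ⟨b, rfl⟩ := Ideal.Quotient.mk_surjective c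
        obtain ⟨x, rfl⟩ := 𝔍.toCotangent_surjective p
        rw [RingHom.id_apply, hsmul2]
        have e1 : (Ideal.Quotient.mk 𝔍 b) • 𝔍.toCotangent x = 𝔍.toCotangent (b • x) := by
          rw [map_smul, ← Ideal.Quotient.algebraMap_eq, algebraMap_smul]
        rw [e1, Ideal.toCotangent_to_quotient_square, Ideal.toCotangent_to_quotient_square]
        have e2 : ((𝔍 ^ 2).mkQ ((b • x : 𝔍) : B) : B ⧸ 𝔍 ^ 2) =
            Ideal.Quotient.mk (𝔍 ^ 2) b * Ideal.Quotient.mk (𝔍 ^ 2) (x : B) := by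
          rw [← map_mul]; rfl
        rw [e2]
        have e3 : (𝔍 ^ 2).mkQ (x : B) = Ideal.Quotient.mk (𝔍 ^ 2) (x : B) := rfl
        rw [e3]
        have h4 := hq2s_mk b
        have h5 : Ideal.Quotient.mk (𝔍 ^ 2) (x : B) ∈ 𝔍.map (Ideal.Quotient.mk (𝔍 ^ 2)) :=
          Ideal.mem_map_of_mem _ x.2
        have h6 := Ideal.mul_mem_mul h4 h5
        rw [← Ideal.map_mul, ← pow_two, Ideal.map_quotient_self] at h6
        have := (Ideal.mem_bot.mp h6)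
        rw [sub_mul, sub_eq_zero] at this
        exact this.symm }
  obtain ⟨t, ht⟩ := Module.projective_lifting_property q2lin cot hq2s
  have ht' : ∀ p, q2 (t p) = 𝔍.cotangentToQuotientSquare p := fun p => LinearMap.congr_fun ht p
  let ρC : SymmetricAlgebra (B ⧸ 𝔍) 𝔍.Cotangent →ₐ[B ⧸ 𝔍] (B ⧸ 𝔍 ^ N) := SymmetricAlgebra.lift t
  refine ⟨s, ρC.restrictScalars A, hsp, ?_, ?_⟩
  · intro c
    exact ρC.commutes c
  · intro x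
    apply hq2ker
    rw [AlgHom.restrictScalars_apply, map_sub, hq2mk]
    show q2 (SymmetricAlgebra.lift t (SymmetricAlgebra.ι _ _ (𝔍.toCotangent x))) - _ = 0
    rw [SymmetricAlgebra.lift_ι_apply, ht', Ideal.toCotangent_to_quotient_square, sub_eq_zero]
    rfl

end Rho

end Groth.Agent.H91.AdicSmooth
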