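import Mathlib
import Groth.Agent.H91.AdicRho

namespace Groth.Agent.H91.AdicSmooth

open TensorProduct SymSmooth

universe u

section Filt

variable {A B : Type u} [CommRing A] [CommRing B] [Algebra A B] (𝔍 : Ideal B)
  [Algebra A (SymmetricAlgebra (B ⧸ 𝔍) 𝔍.Cotangent)]
  {N : ℕ} (hN : 2 ≤ N)
  (s : (B ⧸ 𝔍) →ₐ[A] (B ⧸ 𝔍 ^ N))
  (ρ : SymmetricAlgebra (B ⧸ 𝔍) 𝔍.Cotangent →ₐ[A] (B ⧸ 𝔍 ^ N))
  (hs : ∀ c, Ideal.Quotient.factor (pow_le_self' 𝔍 hN) (s c) = c)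
  (hρ1 : ∀ c, ρ (algebraMap (B ⧸ 𝔍) _ c) = s c)
  (hρ2 : ∀ x : 𝔍, ρ (SymmetricAlgebra.ι (B ⧸ 𝔍) 𝔍.Cotangent (𝔍.toCotangent x)) -
        Ideal.Quotient.mk (𝔍 ^ N) x ∈ (𝔍 ^ 2).map (Ideal.Quotient.mk (𝔍 ^ N)))

omit [Algebra A B] [Algebra A (SymmetricAlgebra (B ⧸ 𝔍) 𝔍.Cotangent)] in
lemma factor_eq_zero_iff (z : B ⧸ 𝔍 ^ N) :
    Ideal.Quotient.factor (pow_le_self' 𝔍 hN) z = 0 ↔ z ∈ 𝔍.map (Ideal.Quotient.mk (𝔍 ^ N)) := by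
  rw [← Ideal.Quotient.factor_ker (pow_le_self' 𝔍 hN)]
  rfl

include hs hρ1 hρ2 in
lemma factor_rho (y : SymmetricAlgebra (B ⧸ 𝔍) 𝔍.Cotangent) :
    Ideal.Quotient.factor (pow_le_self' 𝔍 hN) (ρ y) = SymmetricAlgebra.algebraMapInv y := by
  induction y using SymmetricAlgebra.induction with
  | algebraMap c => rw [hρ1, hs, AlgHom.commutes]; rfl
  | ι p =>
    obtain ⟨x, rfl⟩ := 𝔍.toCotangent_surjective p
    rw [SymmetricAlgebra.algebraMapInv_ι]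
    have h1 := hρ2 x
    have h2 : (𝔍 ^ 2).map (Ideal.Quotient.mk (𝔍 ^ N)) ≤ 𝔍.map (Ideal.Quotient.mk (𝔍 ^ N)) :=
      Ideal.map_mono (Ideal.pow_le_self (by norm_num))
    have h3 := (factor_eq_zero_iff 𝔍 hN _).mpr (h2 h1)
    rw [map_sub, sub_eq_zero] at h3
    rw [h3, Ideal.Quotient.factor_mk, Ideal.Quotient.eq_zero_iff_mem]
    exact x.2
  | mul a b ha hb => rw [map_mul, map_mul, map_mul, ha, hb]
  | add a b ha hb => rw [map_add, map_add, map_add, ha, hb]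

include hs hρ1 hρ2 in
lemma rho_mem_iff (y : SymmetricAlgebra (B ⧸ 𝔍) 𝔍.Cotangent) :
    ρ y ∈ 𝔍.map (Ideal.Quotient.mk (𝔍 ^ N)) ↔ y ∈ aug (B ⧸ 𝔍) 𝔍.Cotangent := by
  rw [← factor_eq_zero_iff 𝔍 hN, factor_rho 𝔍 hN s ρ hs hρ1 hρ2, mem_aug_iff]

include hs hρ1 hρ2 in
lemma rho_mem_pow (j : ℕ) (y : SymmetricAlgebra (B ⧸ 𝔍) 𝔍.Cotangent)
    (hy : y ∈ aug (B ⧸ 𝔍) 𝔍.Cotangent ^ j) :
    ρ y ∈ (𝔍.map (Ideal.Quotient.mk (𝔍 ^ N))) ^ j := by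
  have h1 : aug (B ⧸ 𝔍) 𝔍.Cotangent ≤ (𝔍.map (Ideal.Quotient.mk (𝔍 ^ N))).comap ρ :=
    fun y hy => (rho_mem_iff 𝔍 hN s ρ hs hρ1 hρ2 y).mpr hy
  have h2 : (aug (B ⧸ 𝔍) 𝔍.Cotangent ^ j).map ρ ≤ (𝔍.map (Ideal.Quotient.mk (𝔍 ^ N))) ^ j := by
    rw [Ideal.map_pow]
    exact Ideal.pow_right_mono (Ideal.map_le_iff_le_comap.mpr h1) _
  exact h2 (Ideal.mem_map_of_mem ρ hy)

include hs hρ1 hρ2 in
/-- (R2) graded surjectivity -/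
lemma exists_rho_sub_mem (j : ℕ) :
    ∀ z ∈ (𝔍.map (Ideal.Quotient.mk (𝔍 ^ N))) ^ j,
      ∃ w ∈ aug (B ⧸ 𝔍) 𝔍.Cotangent ^ j, ρ w - z ∈ (𝔍.map (Ideal.Quotient.mk (𝔍 ^ N))) ^ (j + 1) := by
  induction j with
  | zero =>
    intro z _
    refine ⟨algebraMap (B ⧸ 𝔍) _ (Ideal.Quotient.factor (pow_le_self' 𝔍 hN) z), by simp, ?_⟩
    rw [zero_add, pow_one, ← factor_eq_zero_iff 𝔍 hN, map_sub, hρ1, hs, sub_self]
  | succ j ih =>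
    intro z hz
    rw [pow_succ'] at hz
    induction hz using Submodule.mul_induction_on' with
    | mem_mul_mem m hm n hn =>
      obtain ⟨x, hx, rfl⟩ :=
        (Ideal.mem_map_iff_of_surjective _ Ideal.Quotient.mk_surjective).mp hm
      obtain ⟨wn, hwn, hwn'⟩ := ih n hn
      set wm := SymmetricAlgebra.ι (B ⧸ 𝔍) 𝔍.Cotangent (𝔍.toCotangent ⟨x, hx⟩) with hwm
      have hwm1 : wm ∈ aug (B ⧸ 𝔍) 𝔍.Cotangent := ι_mem_aug _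
      have hwm2 : ρ wm - Ideal.Quotient.mk (𝔍 ^ N) x ∈
          (𝔍.map (Ideal.Quotient.mk (𝔍 ^ N))) ^ 2 := by
        rw [← Ideal.map_pow]; exact hρ2 ⟨x, hx⟩
      refine ⟨wm * wn, ?_, ?_⟩
      · rw [pow_succ']; exact Ideal.mul_mem_mul hwm1 hwn
      · have e : ρ (wm * wn) - Ideal.Quotient.mk (𝔍 ^ N) x * n =
            ρ wm * (ρ wn - n) + (ρ wm - Ideal.Quotient.mk (𝔍 ^ N) x) * n := by
          rw [map_mul]; ring
        rw [e]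
        refine add_mem ?_ ?_
        · rw [pow_succ' _ (j + 1)]
          exact Ideal.mul_mem_mul ((rho_mem_iff 𝔍 hN s ρ hs hρ1 hρ2 wm).mpr hwm1) hwn'
        · have : j + 1 + 1 = 2 + j := by ring
          rw [this, pow_add]
          exact Ideal.mul_mem_mul hwm2 hn
    | add x _ y _ hx hy =>
      obtain ⟨w, hw, hw'⟩ := hx
      obtain ⟨w', hw2, hw2'⟩ := hy
      refine ⟨w + w', add_mem hw hw2, ?_⟩
      have : ρ (w + w') - (x + y) = (ρ w - x) + (ρ w' - y) := by rw [map_add]; ring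
      rw [this]
      exact add_mem hw' hw2'

include hs hρ1 hρ2 in
/-- `ρ` is surjective. -/
theorem rho_surjective : Function.Surjective ρ := by
  have key : ∀ (y : B ⧸ 𝔍 ^ N) (j : ℕ), ∃ x, ρ x - y ∈ (𝔍.map (Ideal.Quotient.mk (𝔍 ^ N))) ^ j := by
    intro y j
    induction j with
    | zero => exact ⟨0, by simp⟩
    | succ j ih =>
      obtain ⟨x, hx⟩ := ih
      obtain ⟨w, _, hw⟩ := exists_rho_sub_mem 𝔍 hN s ρ hs hρ1 hρ2 j (y - ρ x)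
        (by rw [← neg_sub]; exact neg_mem hx)
      refine ⟨x + w, ?_⟩
      have : ρ (x + w) - y = ρ w - (y - ρ x) := by rw [map_add]; ring
      rw [this]
      exact hw
  intro y
  obtain ⟨x, hx⟩ := key y N
  rw [← Ideal.map_pow, Ideal.map_quotient_self, Ideal.mem_bot, sub_eq_zero] at hx
  exact ⟨x, hx⟩

end Filt

end Groth.Agent.H91.AdicSmooth
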