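import Mathlib
import Groth.Prelude.Def_CAlgX
import Groth.Agent.H91.AdicLift

namespace Groth.Agent.H91.AdicSmooth

universe u

section Theta

variable {A B : Type u} [CommRing A] [CommRing B] [Algebra A B] (𝔍 : Ideal B)

/-- Abstract lifting: for an adically formally smooth `B`, the quotient map `B → B/𝔍^(N+1)` lifts
through `T/𝔞^(N+1) → B/𝔍^(N+1)` whenever `ρ : T → B/𝔍^(N+1)` is surjective with
`ρ⁻¹(𝔍/𝔍^(N+1)) = 𝔞`. -/
theorem exists_theta (hAd : CAlgX.IsAdicFormallySmooth A B 𝔍)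
    {T : Type u} [CommRing T] [Algebra A T] (𝔞 : Ideal T) (N : ℕ)
    (ρ : T →ₐ[A] B ⧸ 𝔍 ^ (N + 1)) (hρs : Function.Surjective ρ)
    (hρ : ∀ y, ρ y ∈ 𝔍.map (Ideal.Quotient.mk (𝔍 ^ (N + 1))) ↔ y ∈ 𝔞) :
    ∃ θ : B →ₐ[A] T ⧸ 𝔞 ^ (N + 1),
      ∀ b, ∃ w, θ b = Ideal.Quotient.mk _ w ∧ ρ w = Ideal.Quotient.mk _ b := by
  have hρaug : ∀ a ∈ 𝔞 ^ (N + 1), ρ a = 0 := by
    intro a ha
    have h1 : 𝔞 ≤ (𝔍.map (Ideal.Quotient.mk (𝔍 ^ (N + 1)))).comap ρ :=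
      fun y hy => (hρ y).mpr hy
    have h2 : (𝔞 ^ (N + 1)).map ρ ≤ (𝔍.map (Ideal.Quotient.mk (𝔍 ^ (N + 1)))) ^ (N + 1) := by
      rw [Ideal.map_pow]
      exact Ideal.pow_right_mono (Ideal.map_le_iff_le_comap.mpr h1) _
    have h3 := h2 (Ideal.mem_map_of_mem ρ ha)
    rwa [← Ideal.map_pow, Ideal.map_quotient_self, Ideal.mem_bot] at h3
  let ρbar : (T ⧸ 𝔞 ^ (N + 1)) →ₐ[A] (B ⧸ 𝔍 ^ (N + 1)) := Ideal.Quotient.liftₐ _ ρ hρaug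
  have hρbar : ∀ t, ρbar (Ideal.Quotient.mk _ t) = ρ t := fun t => rfl
  have hρbars : Function.Surjective ρbar := by
    intro y
    obtain ⟨t, ht⟩ := hρs y
    exact ⟨Ideal.Quotient.mk _ t, by rw [hρbar, ht]⟩
  have hkerle : RingHom.ker ρbar.toRingHom ≤ 𝔞.map (Ideal.Quotient.mk (𝔞 ^ (N + 1))) := by
    intro z hz
    obtain ⟨t, rfl⟩ := Ideal.Quotient.mk_surjective z
    have h1 : ρ t = 0 := hz
    apply Ideal.mem_map_of_mem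
    rw [← hρ, h1]
    exact zero_mem _
  have hkerN : RingHom.ker ρbar.toRingHom ^ (N + 1) = ⊥ := by
    rw [eq_bot_iff]
    refine (Ideal.pow_right_mono hkerle _).trans ?_
    rw [← Ideal.map_pow, Ideal.map_quotient_self]
  obtain ⟨θ, hθ⟩ := exists_lift_of_nilpotent hAd N ρbar hρbars hkerN
    (Ideal.Quotient.mkₐ A (𝔍 ^ (N + 1))) (N + 1)
    (fun x hx => Ideal.Quotient.eq_zero_iff_mem.mpr hx)
  refine ⟨θ, fun b => ?_⟩
  obtain ⟨w, hw⟩ := Ideal.Quotient.mk_surjective (θ b)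
  refine ⟨w, hw.symm, ?_⟩
  rw [← hρbar, hw]
  exact AlgHom.congr_fun hθ b

end Theta

end Groth.Agent.H91.AdicSmooth
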