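import Mathlib
import Groth.Agent.H91.SymGrMain

namespace Groth.Agent.H91.SymGr

open TensorProduct SymSmooth

universe u v w

section LambdaOfTheta

variable {C : Type u} [CommRing C] {P : Type v} [AddCommGroup P] [Module C P]
  {B : Type w} [CommRing B] (𝔍 : Ideal B) {ι : Type u} [Fintype ι]

/-- From a ring map `θ : B → Sym_C(P)/aug^(n+2)` which sends `x ∈ 𝔍` to `ι (q x)` modulo `aug²`,
an additive map `Λ : B → Sym^n_C P` sending products `∏ xᵢ` to `∏ q xᵢ` and killing `𝔍^(n+1)`. -/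
theorem exists_Lambda_of_theta [Module.Projective C P]
    (θ : B →+* SymmetricAlgebra C P ⧸ aug C P ^ (Fintype.card ι + 2))
    (q : 𝔍 → P)
    (hθ : ∀ x : 𝔍, ∃ t, θ x = Ideal.Quotient.mk _ t ∧
      t - SymmetricAlgebra.ι C P (q x) ∈ aug C P ^ 2) :
    ∃ Λ : B →+ Sym[C] ι P,
      (∀ x : ι → 𝔍, Λ (∏ i, (x i : B)) = SymmetricPower.tprod C (fun i => q (x i))) ∧
      ∀ y ∈ 𝔍 ^ (Fintype.card ι + 1), Λ y = 0 := by
  classical
  obtain ⟨l, hl1, hl2⟩ := SymPow.exists_leftInv (R := C) (ι := ι) (P := P)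
  set mkN := Ideal.Quotient.mk (aug C P ^ (Fintype.card ι + 2)) with hmkN
  set 𝔟 : Ideal (SymmetricAlgebra C P ⧸ aug C P ^ (Fintype.card ι + 2)) := (aug C P).map mkN with h𝔟
  have hθx : ∀ x : 𝔍, mkN (SymmetricAlgebra.ι C P (q x)) - θ (x : B) ∈ 𝔟 ^ 2 := by
    intro x
    obtain ⟨t, ht, ht2⟩ := hθ x
    rw [ht, ← map_sub, h𝔟, ← Ideal.map_pow]
    apply Ideal.mem_map_of_mem
    rw [← neg_sub]
    exact neg_mem ht2
  have ha𝔟 : ∀ p : P, mkN (SymmetricAlgebra.ι C P p) ∈ 𝔟 :=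
    fun p => Ideal.mem_map_of_mem _ (ι_mem_aug p)
  have hθ𝔟 : ∀ x ∈ 𝔍, θ x ∈ 𝔟 := by
    intro x hx
    have h1 := hθx ⟨x, hx⟩
    have h2 : 𝔟 ^ 2 ≤ 𝔟 := Ideal.pow_le_self (by norm_num)
    have : θ x = mkN (SymmetricAlgebra.ι C P (q ⟨x, hx⟩)) -
        (mkN (SymmetricAlgebra.ι C P (q ⟨x, hx⟩)) - θ x) := by ring
    rw [this]
    exact sub_mem (ha𝔟 _) (h2 h1)
  have hlker : (aug C P ^ (Fintype.card ι + 2)).restrictScalars C ≤ LinearMap.ker l := by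
    intro y hy
    rw [LinearMap.mem_ker]
    exact hl2 y (Ideal.pow_le_pow_right (by omega) hy)
  let lbar : (SymmetricAlgebra C P ⧸ aug C P ^ (Fintype.card ι + 2)) →ₗ[C] Sym[C] ι P :=
    (Submodule.liftQ _ l hlker) ∘ₗ
      (Submodule.Quotient.restrictScalarsEquiv C (aug C P ^ (Fintype.card ι + 2))).symm.toLinearMap
  have hlbar : ∀ t : SymmetricAlgebra C P, lbar (mkN t) = l t := fun t => rfl
  have hlbar0 : ∀ z ∈ 𝔟 ^ (Fintype.card ι + 1), lbar z = 0 := by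
    intro z hz
    rw [h𝔟, ← Ideal.map_pow,
      Ideal.mem_map_iff_of_surjective _ Ideal.Quotient.mk_surjective] at hz
    obtain ⟨y, hy, rfl⟩ := hz
    rw [hlbar, hl2 y hy]
  refine ⟨lbar.toAddMonoidHom.comp θ.toAddMonoidHom, ?_, ?_⟩
  · intro x
    have h1 := prod_sub_prod_mem_pow 𝔟 Finset.univ
      (fun i => mkN (SymmetricAlgebra.ι C P (q (x i)))) (fun i => θ (x i : B))
      (fun i _ => ha𝔟 _) (fun i _ => hθx (x i))
    rw [Finset.card_univ] at h1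
    have h2 := hlbar0 _ h1
    rw [map_sub, sub_eq_zero] at h2
    show lbar (θ (∏ i, (x i : B))) = _
    rw [map_prod, ← h2, ← map_prod, hlbar, ← SymPow.toSymAlg_tprod, hl1]
  · intro y hy
    have h3 : 𝔍 ≤ (𝔟).comap θ := fun x hx => hθ𝔟 x hx
    have h4 : (𝔍 ^ (Fintype.card ι + 1)).map θ ≤ 𝔟 ^ (Fintype.card ι + 1) := by
      rw [Ideal.map_pow]
      exact Ideal.pow_right_mono (Ideal.map_le_iff_le_comap.mpr h3) _
    show lbar (θ y) = 0
    exact hlbar0 _ (h4 (Ideal.mem_map_of_mem θ hy))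

end LambdaOfTheta

end Groth.Agent.H91.SymGr
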