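import Mathlib
import Groth.Prelude.Def_PP16
import Groth.Prelude.Def_CAlgX
import Groth.Agent.H91.AdicRhoFilt
import Groth.Agent.H91.AdicTheta
import Groth.Agent.H91.SymLambda

namespace Groth.Agent.H91.AdicSmooth

open TensorProduct SymSmooth

universe u

section Lambda

variable {A B : Type u} [CommRing A] [CommRing B] [Algebra A B] (𝔍 : Ideal B)
  [Algebra.FormallySmooth A (B ⧸ 𝔍)]

theorem exists_Lambda_adic [Module.Projective (B ⧸ 𝔍) 𝔍.Cotangent]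
    (hAd : CAlgX.IsAdicFormallySmooth A B 𝔍) {ι : Type u} [Fintype ι] [Nonempty ι] :
    ∃ Λ : B →+ Sym[B] ι 𝔍.Cotangent,
      (∀ x : ι → 𝔍, Λ (∏ i, (x i : B)) =
        SymmetricPower.tprod B (fun i => 𝔍.toCotangent (x i))) ∧
      ∀ y ∈ 𝔍 ^ (Fintype.card ι + 1), Λ y = 0 := by
  classical
  let algT : Algebra A (SymmetricAlgebra (B ⧸ 𝔍) 𝔍.Cotangent) :=
    ((algebraMap (B ⧸ 𝔍) (SymmetricAlgebra (B ⧸ 𝔍) 𝔍.Cotangent)).comp
      (algebraMap A (B ⧸ 𝔍))).toAlgebra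
  have towT : IsScalarTower A (B ⧸ 𝔍) (SymmetricAlgebra (B ⧸ 𝔍) 𝔍.Cotangent) :=
    IsScalarTower.of_algebraMap_eq (fun _ => rfl)
  have hN : 2 ≤ Fintype.card ι + 2 := by omega
  obtain ⟨s, ρ, hs, hρ1, hρ2⟩ := exists_rho (A := A) 𝔍 (Fintype.card ι + 2) hN
  obtain ⟨θ, hθ⟩ := exists_theta 𝔍 hAd (aug (B ⧸ 𝔍) 𝔍.Cotangent) (Fintype.card ι + 1) ρ
    (rho_surjective 𝔍 hN s ρ hs hρ1 hρ2) (rho_mem_iff 𝔍 hN s ρ hs hρ1 hρ2)
  have hP1 : ∀ x : 𝔍, ∃ t, θ.toRingHom x = Ideal.Quotient.mk _ t ∧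
      t - SymmetricAlgebra.ι (B ⧸ 𝔍) 𝔍.Cotangent (𝔍.toCotangent x) ∈
        aug (B ⧸ 𝔍) 𝔍.Cotangent ^ 2 := by
    intro x
    obtain ⟨w, hw, hρw⟩ := hθ (x : B)
    refine ⟨w, hw, ?_⟩
    have hwaug : w ∈ aug (B ⧸ 𝔍) 𝔍.Cotangent := by
      rw [← rho_mem_iff 𝔍 hN s ρ hs hρ1 hρ2, hρw]
      exact Ideal.mem_map_of_mem _ x.2
    obtain ⟨p, hp⟩ := SymAlgGr.exists_ι_sub_mem_sq w hwaug
    obtain ⟨x', rfl⟩ := 𝔍.toCotangent_surjective p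
    have h1 := rho_mem_pow 𝔍 hN s ρ hs hρ1 hρ2 2 _ hp
    rw [← Ideal.map_pow, map_sub, hρw] at h1
    have h2 := hρ2 x'
    have h3 : Ideal.Quotient.mk (𝔍 ^ (Fintype.card ι + 2)) ((x : B) - x') ∈
        (𝔍 ^ 2).map (Ideal.Quotient.mk (𝔍 ^ (Fintype.card ι + 2))) := by
      have := add_mem h1 h2
      rw [map_sub]
      convert this using 1
      ring
    rw [Ideal.mem_map_iff_of_surjective _ Ideal.Quotient.mk_surjective] at h3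
    obtain ⟨y, hy, hyx⟩ := h3
    have h4 : (x : B) - x' ∈ 𝔍 ^ 2 := by
      have h5 : y - ((x : B) - x') ∈ 𝔍 ^ (Fintype.card ι + 2) := Ideal.Quotient.eq.mp hyx
      have h6 := Ideal.pow_le_pow_right hN h5
      have := sub_mem hy h6
      simpa using this
    have h6 : 𝔍.toCotangent x = 𝔍.toCotangent x' := by
      rw [← sub_eq_zero, ← map_sub, Ideal.toCotangent_eq_zero]
      exact h4
    rw [h6]
    exact hp
  obtain ⟨Λ, hΛ1, hΛ2⟩ := SymGr.exists_Lambda_of_theta 𝔍 (ι := ι) θ.toRingHom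
    (fun x => 𝔍.toCotangent x) hP1
  obtain ⟨c, d, hc, hd, hdc, hcd⟩ := SymCompare.exists_compare 𝔍 (ι := ι) (M := 𝔍.Cotangent)
  exact ⟨d.comp Λ, fun x => by rw [AddMonoidHom.comp_apply, hΛ1, hd],
    fun y hy => by rw [AddMonoidHom.comp_apply, hΛ2 y hy, map_zero]⟩

end Lambda

end Groth.Agent.H91.AdicSmooth
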