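import Mathlib
import Groth.Prelude.Def_PP16
import Groth.Prelude.Def_CAlgX
import Groth.Agent.H91.AdicGrInj

namespace Groth.Agent.H91.AdicSmooth

open TensorProduct SymSmooth Pointwise

universe u

section PhiJ

variable {B : Type u} [CommRing B] (𝔍 : Ideal B) {ι : Type u} [Fintype ι]

/-- The canonical map `Sym^n(𝔍/𝔍²) → 𝔍^n/𝔍^(n+1)` exists (no hypotheses). -/
theorem exists_phi_J :
    ∃ φ : Sym[B] ι 𝔍.Cotangent →ₗ[B] PP16.grJ B 𝔍 (Fintype.card ι),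
      ∀ x : ι → 𝔍, φ (SymmetricPower.tprod B (fun i => 𝔍.toCotangent (x i))) =
        PP16.zetaJ B 𝔍 x := by
  obtain ⟨φ, hφ⟩ := SymGr.exists_phi (R := B) (S := B) (ι := ι) 𝔍 (q := 𝔍.toCotangent)
    𝔍.toCotangent_surjective (fun x => 𝔍.toCotangent_eq_zero x)
  exact ⟨φ, fun x => hφ x⟩

/-- The canonical map `Sym^n(𝔍/𝔍²) → 𝔍^n/𝔍^(n+1)` is surjective. -/
theorem phi_J_surjective (φ : Sym[B] ι 𝔍.Cotangent →ₗ[B] PP16.grJ B 𝔍 (Fintype.card ι))
    (hφ : ∀ x : ι → 𝔍, φ (SymmetricPower.tprod B (fun i => 𝔍.toCotangent (x i))) =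
        PP16.zetaJ B 𝔍 x) : Function.Surjective φ := by
  classical
  have key : ∀ y (hy : y ∈ 𝔍 ^ (Fintype.card ι)),
      (Submodule.Quotient.mk ⟨y, hy⟩ : PP16.grJ B 𝔍 (Fintype.card ι)) ∈ LinearMap.range φ := by
    intro y hy
    have hy' : y ∈ Submodule.span B ((𝔍 : Set B) ^ (Fintype.card ι)) := by
      rw [← Submodule.pow_eq_span_pow_set]; exact hy
    revert hy
    induction hy' using Submodule.span_induction with
    | mem x hx =>
      intro hy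
      rw [Set.mem_pow] at hx
      obtain ⟨f, rfl⟩ := hx
      let e := Fintype.equivFin ι
      have h1 : (List.ofFn fun i => (f i : B)).prod = ∏ j : ι, (f (e j) : B) := by
        rw [List.prod_ofFn]
        exact (Equiv.prod_comp e (fun i => (f i : B))).symm
      refine ⟨SymmetricPower.tprod B (fun j => 𝔍.toCotangent ⟨(f (e j) : B), (f (e j)).2⟩), ?_⟩
      rw [hφ]
      unfold PP16.zetaJ
      congr 2
      exact h1.symm
    | zero =>
      intro hy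
      exact ⟨0, by rw [map_zero]; rfl⟩
    | add x y hx hy ihx ihy =>
      intro hxy
      have hxI : x ∈ 𝔍 ^ (Fintype.card ι) := by
        rw [Submodule.pow_eq_span_pow_set]; exact hx
      have hyI : y ∈ 𝔍 ^ (Fintype.card ι) := by
        rw [Submodule.pow_eq_span_pow_set]; exact hy
      have : (Submodule.Quotient.mk ⟨x + y, hxy⟩ : PP16.grJ B 𝔍 (Fintype.card ι)) =
          Submodule.Quotient.mk ⟨x, hxI⟩ + Submodule.Quotient.mk ⟨y, hyI⟩ := rfl
      rw [this]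
      exact add_mem (ihx hxI) (ihy hyI)
    | smul s x hx ihx =>
      intro hsx
      have hxI : x ∈ 𝔍 ^ (Fintype.card ι) := by
        rw [Submodule.pow_eq_span_pow_set]; exact hx
      have : (Submodule.Quotient.mk ⟨s • x, hsx⟩ : PP16.grJ B 𝔍 (Fintype.card ι)) =
          s • Submodule.Quotient.mk ⟨x, hxI⟩ := rfl
      rw [this]
      exact Submodule.smul_mem _ _ (ihx hxI)
  intro z
  obtain ⟨⟨y, hy⟩, rfl⟩ := Submodule.Quotient.mk_surjective _ z
  exact key y hy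

/-- Injectivity of the canonical map from an additive "symbol" map `Λ`. -/
theorem phi_J_injective_of_Lambda [Nonempty ι]
    (Λ : B →+ Sym[B] ι 𝔍.Cotangent)
    (hΛ1 : ∀ x : ι → 𝔍, Λ (∏ i, (x i : B)) =
        SymmetricPower.tprod B (fun i => 𝔍.toCotangent (x i)))
    (hΛ2 : ∀ y ∈ 𝔍 ^ (Fintype.card ι + 1), Λ y = 0)
    (φ : Sym[B] ι 𝔍.Cotangent →ₗ[B] PP16.grJ B 𝔍 (Fintype.card ι))
    (hφ : ∀ x : ι → 𝔍, φ (SymmetricPower.tprod B (fun i => 𝔍.toCotangent (x i))) =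
        PP16.zetaJ B 𝔍 x) : Function.Injective φ := by
  classical
  let K : Submodule B ↥(𝔍 ^ (Fintype.card ι)) :=
    Submodule.comap (𝔍 ^ (Fintype.card ι)).subtype (𝔍 ^ (Fintype.card ι + 1))
  let f : ↥(𝔍 ^ (Fintype.card ι)) →ₗ[ℤ] Sym[B] ι 𝔍.Cotangent :=
    Λ.toIntLinearMap ∘ₗ ((𝔍 ^ (Fintype.card ι)).subtype.restrictScalars ℤ)
  have hker : K.restrictScalars ℤ ≤ LinearMap.ker f := fun y hy => hΛ2 _ hy
  let Ψ : PP16.grJ B 𝔍 (Fintype.card ι) →ₗ[ℤ] Sym[B] ι 𝔍.Cotangent :=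
    (Submodule.liftQ _ f hker) ∘ₗ (Submodule.Quotient.restrictScalarsEquiv ℤ K).symm.toLinearMap
  have hΨ : ∀ y : ↥(𝔍 ^ (Fintype.card ι)), Ψ (Submodule.Quotient.mk y) = Λ (y : B) :=
    fun y => rfl
  have hΨφ : (Ψ.toAddMonoidHom).comp φ.toAddMonoidHom = AddMonoidHom.id _ := by
    apply SymCompare.addHom_ext
    intro m
    choose x hx using fun i => 𝔍.toCotangent_surjective (m i)
    have h2 : m = fun i => 𝔍.toCotangent (x i) := by funext i; rw [hx]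
    rw [h2]
    show Ψ (φ _) = _
    rw [hφ]
    unfold PP16.zetaJ
    rw [hΨ]
    exact hΛ1 x
  intro a b hab
  have := congrArg Ψ hab
  have ha := DFunLike.congr_fun hΨφ a
  have hb := DFunLike.congr_fun hΨφ b
  change Ψ (φ a) = a at ha
  change Ψ (φ b) = b at hb
  rw [← ha, ← hb, this]

end PhiJ

section Main

variable {A B : Type u} [CommRing A] [CommRing B] [Algebra A B] (𝔍 : Ideal B)
  [Algebra.FormallySmooth A (B ⧸ 𝔍)]

/-- (⇒)(b) of EGA 0_IV 19.5.4 (discrete base). -/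
theorem symGrBijective_of_isAdicFormallySmooth [Module.Projective (B ⧸ 𝔍) 𝔍.Cotangent]
    (hAd : CAlgX.IsAdicFormallySmooth A B 𝔍) : PP16.SymGrBijective B 𝔍 := by
  intro ι _ _
  obtain ⟨φ, hφ⟩ := exists_phi_J 𝔍 (ι := ι)
  obtain ⟨Λ, hΛ1, hΛ2⟩ := exists_Lambda_adic 𝔍 hAd (ι := ι)
  exact ⟨φ, hφ, phi_J_injective_of_Lambda 𝔍 Λ hΛ1 hΛ2 φ hφ, phi_J_surjective 𝔍 φ hφ⟩

end Main

end Groth.Agent.H91.AdicSmooth
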