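import Mathlib
import Groth.Prelude.Def_CAlgX
import Groth.Agent.H91.AdicRho
import Groth.Agent.H91.AdicLift

namespace Groth.Agent.H91.AdicSmooth

universe u

section D

variable {A B : Type u} [CommRing A] [CommRing B] [Algebra A B] (𝔍 : Ideal B)

theorem exists_section [Algebra.FormallySmooth A (B ⧸ 𝔍)] :
    ∃ s : (B ⧸ 𝔍) →ₐ[A] (B ⧸ 𝔍 ^ 2),
      ∀ c, Ideal.Quotient.factor (pow_le_self' 𝔍 (le_refl 2)) (s c) = c := by
  set pN : (B ⧸ 𝔍 ^ 2) →ₐ[A] (B ⧸ 𝔍) := Ideal.Quotient.factorₐ A (pow_le_self' 𝔍 (le_refl 2))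
    with hpN
  have hpNs : Function.Surjective pN :=
    Ideal.Quotient.factor_surjective (pow_le_self' 𝔍 (le_refl 2))
  exact ⟨Algebra.FormallySmooth.liftOfSurjective (AlgHom.id A (B ⧸ 𝔍)) pN hpNs
      (factor_nilpotent (A := A) 𝔍 (le_refl 2)),
    Algebra.FormallySmooth.liftOfSurjective_apply (AlgHom.id A (B ⧸ 𝔍)) pN hpNs
      (factor_nilpotent (A := A) 𝔍 (le_refl 2))⟩

variable (s : (B ⧸ 𝔍) →ₐ[A] (B ⧸ 𝔍 ^ 2))
  (hs : ∀ c, Ideal.Quotient.factor (pow_le_self' 𝔍 (le_refl 2)) (s c) = c)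

include hs in
lemma sub_section_mem (b : B) :
    Ideal.Quotient.mk (𝔍 ^ 2) b - s (Ideal.Quotient.mk 𝔍 b) ∈
      𝔍.map (Ideal.Quotient.mk (𝔍 ^ 2)) := by
  rw [← Ideal.Quotient.factor_ker (pow_le_self' 𝔍 (le_refl 2)), RingHom.mem_ker, map_sub, hs,
    Ideal.Quotient.factor_mk, sub_self]

include hs in
theorem exists_D :
    ∃ D : B → 𝔍.Cotangent,
      (∀ b, 𝔍.cotangentToQuotientSquare (D b) =
        Ideal.Quotient.mk (𝔍 ^ 2) b - s (Ideal.Quotient.mk 𝔍 b)) := by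
  have h : ∀ b : B, ∃ p : 𝔍.Cotangent, 𝔍.cotangentToQuotientSquare p =
      Ideal.Quotient.mk (𝔍 ^ 2) b - s (Ideal.Quotient.mk 𝔍 b) := by
    intro b
    have h1 := sub_section_mem 𝔍 s hs b
    rw [Ideal.mem_map_iff_of_surjective _ Ideal.Quotient.mk_surjective] at h1
    obtain ⟨x, hx, hxb⟩ := h1
    exact ⟨𝔍.toCotangent ⟨x, hx⟩, by rw [Ideal.toCotangent_to_quotient_square]; exact hxb⟩
  choose D hD using h
  exact ⟨D, hD⟩

variable (D : B → 𝔍.Cotangent)
  (hD : ∀ b, 𝔍.cotangentToQuotientSquare (D b) =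
        Ideal.Quotient.mk (𝔍 ^ 2) b - s (Ideal.Quotient.mk 𝔍 b))

include hD in
lemma D_add (b b' : B) : D (b + b') = D b + D b' := by
  apply 𝔍.cotangentToQuotientSquare_injective
  rw [map_add, hD, hD, hD, map_add, map_add, map_add]
  ring

include hD in
lemma D_one : D 1 = 0 := by
  apply 𝔍.cotangentToQuotientSquare_injective
  rw [hD, map_zero, map_one, map_one, map_one, sub_self]

include hD in
lemma D_zero : D 0 = 0 := by
  apply 𝔍.cotangentToQuotientSquare_injective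
  rw [hD, map_zero, map_zero, map_zero, map_zero, sub_self]

include hD in
lemma D_algebraMap (a : A) : D (algebraMap A B a) = 0 := by
  apply 𝔍.cotangentToQuotientSquare_injective
  rw [hD, map_zero]
  have h1 : Ideal.Quotient.mk (𝔍 ^ 2) (algebraMap A B a) = algebraMap A (B ⧸ 𝔍 ^ 2) a := rfl
  have h2 : Ideal.Quotient.mk 𝔍 (algebraMap A B a) = algebraMap A (B ⧸ 𝔍) a := rfl
  rw [h1, h2, s.commutes, sub_self]

include hD in
lemma D_of_mem (x : 𝔍) : D x = 𝔍.toCotangent x := by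
  apply 𝔍.cotangentToQuotientSquare_injective
  rw [hD, Ideal.toCotangent_to_quotient_square, Ideal.Quotient.eq_zero_iff_mem.mpr x.2, map_zero,
    sub_zero]
  rfl

lemma cot_smul (b : B) (p : 𝔍.Cotangent) :
    𝔍.cotangentToQuotientSquare (Ideal.Quotient.mk 𝔍 b • p) =
      Ideal.Quotient.mk (𝔍 ^ 2) b * 𝔍.cotangentToQuotientSquare p := by
  have : Ideal.Quotient.mk 𝔍 b • p = b • p := by
    rw [← Ideal.Quotient.algebraMap_eq, algebraMap_smul]
  rw [this, map_smul]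
  rfl

include hs hD in
lemma D_mul (b b' : B) :
    D (b * b') = Ideal.Quotient.mk 𝔍 b • D b' + Ideal.Quotient.mk 𝔍 b' • D b := by
  apply 𝔍.cotangentToQuotientSquare_injective
  rw [map_add, cot_smul, cot_smul, hD, hD, hD]
  have h1 := sub_section_mem 𝔍 s hs b
  have h2 := sub_section_mem 𝔍 s hs b'
  have h3 := Ideal.mul_mem_mul h1 h2
  rw [← Ideal.map_mul, ← pow_two, Ideal.map_quotient_self, Ideal.mem_bot] at h3
  rw [map_mul, map_mul, map_mul]
  linear_combination (-1 : B ⧸ 𝔍 ^ 2) * h3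

end D

end Groth.Agent.H91.AdicSmooth
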