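import Mathlib
import Groth.Prelude.Def_CAlgX
import Groth.Agent.H91.AdicD

namespace Groth.Agent.H91.AdicSmooth

universe u

open TrivSqZeroExt

section Proj

/-- the opposite action on a module over a commutative ring -/
@[instance_reducible]
def opMod (C M : Type*) [CommRing C] [AddCommGroup M] [Module C M] : Module Cᵐᵒᵖ M :=
  Module.compHom M ((RingHom.id C).fromOpposite (fun _ _ => mul_comm _ _))


variable {A B : Type u} [CommRing A] [CommRing B] [Algebra A B] (𝔍 : Ideal B)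
  [Algebra.FormallySmooth A (B ⧸ 𝔍)]

theorem projective_cotangent (hAd : CAlgX.IsAdicFormallySmooth A B 𝔍) :
    Module.Projective (B ⧸ 𝔍) 𝔍.Cotangent := by
  classical
  letI opP : Module (B ⧸ 𝔍)ᵐᵒᵖ 𝔍.Cotangent := opMod _ _
  haveI cP : IsCentralScalar (B ⧸ 𝔍) 𝔍.Cotangent := ⟨fun _ _ => rfl⟩
  obtain ⟨s, hs⟩ := exists_section (A := A) 𝔍
  obtain ⟨D, hD⟩ := exists_D 𝔍 s hs
  let πF : (𝔍.Cotangent →₀ (B ⧸ 𝔍)) →ₗ[B ⧸ 𝔍] 𝔍.Cotangent := Finsupp.linearCombination (B ⧸ 𝔍) id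
  have hπF : Function.Surjective πF := Finsupp.linearCombination_id_surjective (B ⧸ 𝔍) 𝔍.Cotangent
  -- algebra structures
  let algEP : Algebra A (TrivSqZeroExt (B ⧸ 𝔍) 𝔍.Cotangent) :=
    ((algebraMap (B ⧸ 𝔍) (TrivSqZeroExt (B ⧸ 𝔍) 𝔍.Cotangent)).comp
      (algebraMap A (B ⧸ 𝔍))).toAlgebra
  let algEF : Algebra A (TrivSqZeroExt (B ⧸ 𝔍) (𝔍.Cotangent →₀ (B ⧸ 𝔍))) :=
    ((algebraMap (B ⧸ 𝔍) (TrivSqZeroExt (B ⧸ 𝔍) (𝔍.Cotangent →₀ (B ⧸ 𝔍)))).comp
      (algebraMap A (B ⧸ 𝔍))).toAlgebra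
  let g2 : B →ₐ[A] TrivSqZeroExt (B ⧸ 𝔍) 𝔍.Cotangent :=
    { toFun := fun b => inl (Ideal.Quotient.mk 𝔍 b) + inr (D b)
      map_one' := by
        rw [D_one 𝔍 s D hD, map_one, inr_zero, add_zero]; rfl
      map_mul' := fun b b' => by
        apply TrivSqZeroExt.ext
        · simp
        · rw [D_mul 𝔍 s hs D hD]
          simp [add_comm]
      map_zero' := by
        rw [D_zero 𝔍 s D hD, map_zero, inr_zero, add_zero, inl_zero]
      map_add' := fun b b' => by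
        rw [D_add 𝔍 s D hD, map_add, inl_add, inr_add]; abel
      commutes' := fun a => by
        rw [D_algebraMap 𝔍 s D hD, inr_zero, add_zero]; rfl }
  have hg2 : ∀ b, g2 b = inl (Ideal.Quotient.mk 𝔍 b) + inr (D b) := fun b => rfl
  let πE : TrivSqZeroExt (B ⧸ 𝔍) (𝔍.Cotangent →₀ (B ⧸ 𝔍)) →ₐ[A]
      TrivSqZeroExt (B ⧸ 𝔍) 𝔍.Cotangent :=
    { (TrivSqZeroExt.map πF).toRingHom with
      commutes' := fun a => by
        show TrivSqZeroExt.map πF (inl (algebraMap A (B ⧸ 𝔍) a)) = inl (algebraMap A (B ⧸ 𝔍) a)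
        rw [map_inl] }
  have hπE : ∀ z, πE z = TrivSqZeroExt.map πF z := fun z => rfl
  have hπEs : Function.Surjective πE := by
    intro z
    obtain ⟨f, hf⟩ := hπF z.snd
    refine ⟨inl z.fst + inr f, ?_⟩
    rw [hπE, map_add, map_inl, map_inr, hf, inl_fst_add_inr_snd_eq]
  have hπEk : RingHom.ker πE.toRingHom ^ 2 = ⊥ := by
    rw [eq_bot_iff, pow_two, Ideal.mul_le]
    intro z hz z' hz'
    have h1 : z.fst = 0 := by
      have : πE z = 0 := hz
      have := congrArg TrivSqZeroExt.fst this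
      rwa [hπE, fst_map, fst_zero] at this
    have h2 : z'.fst = 0 := by
      have : πE z' = 0 := hz'
      have := congrArg TrivSqZeroExt.fst this
      rwa [hπE, fst_map, fst_zero] at this
    rw [Ideal.mem_bot]
    apply TrivSqZeroExt.ext
    · simp [h1]
    · simp [h1, h2]
  have hk : ∀ x ∈ 𝔍 ^ 2, g2 x = 0 := by
    intro x hx
    have hx1 : x ∈ 𝔍 := Ideal.pow_le_self (by norm_num) hx
    rw [hg2, Ideal.Quotient.eq_zero_iff_mem.mpr hx1, inl_zero, zero_add,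
      D_of_mem 𝔍 s D hD ⟨x, hx1⟩, (Ideal.toCotangent_eq_zero 𝔍 ⟨x, hx1⟩).mpr hx, inr_zero]
  obtain ⟨χ, hχ⟩ := exists_lift_of_sq_zero hAd πE hπEs hπEk g2 2 hk
  have hχb : ∀ b, TrivSqZeroExt.map πF (χ b) = g2 b := fun b => AlgHom.congr_fun hχ b
  have hχfst : ∀ b, (χ b).fst = Ideal.Quotient.mk 𝔍 b := by
    intro b
    have := congrArg TrivSqZeroExt.fst (hχb b)
    rwa [fst_map, hg2, fst_add, fst_inl, fst_inr, add_zero] at this
  have hχsnd : ∀ b, πF (χ b).snd = D b := by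
    intro b
    have := congrArg TrivSqZeroExt.snd (hχb b)
    rwa [snd_map, hg2, snd_add, snd_inl, snd_inr, zero_add] at this
  -- the section
  let σ0 : ↥𝔍 →ₗ[B] (𝔍.Cotangent →₀ (B ⧸ 𝔍)) :=
    { toFun := fun x => (χ (x : B)).snd
      map_add' := fun x y => by
        show (χ ((x : B) + (y : B))).snd = _
        rw [map_add, snd_add]
      map_smul' := fun b x => by
        show (χ (b * (x : B))).snd = b • (χ (x : B)).snd
        rw [map_mul, snd_mul, hχfst, hχfst, Ideal.Quotient.eq_zero_iff_mem.mpr x.2]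
        have : Ideal.Quotient.mk 𝔍 b • (χ (x : B)).snd = b • (χ (x : B)).snd := by
          rw [← Ideal.Quotient.algebraMap_eq, algebraMap_smul]
        simp [this] }
  have hσ0 : ∀ x : ↥𝔍, σ0 x = (χ (x : B)).snd := fun x => rfl
  have hker : (𝔍 • ⊤ : Submodule B ↥𝔍) ≤ LinearMap.ker σ0 := by
    rw [Submodule.smul_le]
    intro a ha x _
    rw [LinearMap.mem_ker, map_smul]
    have : a • σ0 x = Ideal.Quotient.mk 𝔍 a • σ0 x := by
      rw [← Ideal.Quotient.algebraMap_eq, algebraMap_smul]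
    rw [this, Ideal.Quotient.eq_zero_iff_mem.mpr ha, zero_smul]
  let σP : 𝔍.Cotangent →ₗ[B] (𝔍.Cotangent →₀ (B ⧸ 𝔍)) := Submodule.liftQ _ σ0 hker
  have hσP : ∀ x : ↥𝔍, σP (𝔍.toCotangent x) = σ0 x := fun x => rfl
  let σC : 𝔍.Cotangent →ₗ[B ⧸ 𝔍] (𝔍.Cotangent →₀ (B ⧸ 𝔍)) :=
    { toFun := σP
      map_add' := map_add σP
      map_smul' := fun c p => by
        obtain ⟨b, rfl⟩ := Ideal.Quotient.mk_surjective c
        rw [RingHom.id_apply]
        have e1 : Ideal.Quotient.mk 𝔍 b • p = b • p := by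
          rw [← Ideal.Quotient.algebraMap_eq, algebraMap_smul]
        have e2 : Ideal.Quotient.mk 𝔍 b • σP p = b • σP p := by
          rw [← Ideal.Quotient.algebraMap_eq, algebraMap_smul]
        rw [e1, e2, map_smul] }
  refine Module.Projective.of_split σC πF ?_
  refine LinearMap.ext fun p => ?_
  obtain ⟨x, rfl⟩ := 𝔍.toCotangent_surjective p
  show πF (σP (𝔍.toCotangent x)) = 𝔍.toCotangent x
  rw [hσP, hσ0, hχsnd, D_of_mem 𝔍 s D hD]

end Proj

end Groth.Agent.H91.AdicSmooth
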