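import Mathlib
import Groth.Prelude.Def_CAlgX
import Groth.Agent.H91.AdicProj

namespace Groth.Agent.H91.AdicJac

open TensorProduct KaehlerDifferential TrivSqZeroExt Groth.Agent.H91.AdicSmooth

universe u

set_option linter.style.haveILetI false

section Lift

variable {A B : Type u} [CommRing A] [CommRing B] [Algebra A B] (J : Ideal B)

omit [Algebra A B] in
lemma quot_smul_eq {M : Type*} [AddCommGroup M] [Module (B ⧸ J) M] [Module B M]
    [IsScalarTower B (B ⧸ J) M] (b : B) (m : M) : Ideal.Quotient.mk J b • m = b • m := by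
  rw [← Ideal.Quotient.algebraMap_eq, algebraMap_smul]

/-- Lifting derivations along surjections of `B/J`-modules, for `J`-adically formally smooth `B`. -/
theorem exists_derivation_lift (hAd : CAlgX.IsAdicFormallySmooth A B J)
    {F Q : Type u} [AddCommGroup F] [AddCommGroup Q]
    [Module (B ⧸ J) F] [Module (B ⧸ J) Q] [Module B F] [Module B Q]
    [IsScalarTower B (B ⧸ J) F] [IsScalarTower B (B ⧸ J) Q]
    [Module A F] [Module A Q] [IsScalarTower A B F] [IsScalarTower A B Q]
    (π : F →ₗ[B ⧸ J] Q) (hπ : Function.Surjective π) (D'' : Derivation A B Q) :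
    ∃ D : Derivation A B F, ∀ b, π (D b) = D'' b := by
  classical
  letI opF : Module (B ⧸ J)ᵐᵒᵖ F := opMod _ _
  haveI cF : IsCentralScalar (B ⧸ J) F := ⟨fun _ _ => rfl⟩
  letI opQ : Module (B ⧸ J)ᵐᵒᵖ Q := opMod _ _
  haveI cQ : IsCentralScalar (B ⧸ J) Q := ⟨fun _ _ => rfl⟩
  let algEF : Algebra A (TrivSqZeroExt (B ⧸ J) F) :=
    ((algebraMap (B ⧸ J) (TrivSqZeroExt (B ⧸ J) F)).comp (algebraMap A (B ⧸ J))).toAlgebra
  let algEQ : Algebra A (TrivSqZeroExt (B ⧸ J) Q) :=
    ((algebraMap (B ⧸ J) (TrivSqZeroExt (B ⧸ J) Q)).comp (algebraMap A (B ⧸ J))).toAlgebra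
  have halgF : ∀ a : A, algebraMap A (TrivSqZeroExt (B ⧸ J) F) a =
      inl (algebraMap A (B ⧸ J) a) := fun a => rfl
  let ψ : B →ₐ[A] TrivSqZeroExt (B ⧸ J) Q :=
    { toFun := fun b => inl (Ideal.Quotient.mk J b) + inr (D'' b)
      map_one' := by
        rw [D''.map_one_eq_zero, map_one, inr_zero, add_zero]; rfl
      map_mul' := fun b b' => by
        apply TrivSqZeroExt.ext
        · simp
        · rw [D''.leibniz, ← quot_smul_eq J b, ← quot_smul_eq J b']
          simp [add_comm]
      map_zero' := by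
        rw [map_zero, map_zero, inr_zero, add_zero, inl_zero]
      map_add' := fun b b' => by
        rw [map_add, map_add, inl_add, inr_add]; abel
      commutes' := fun a => by
        rw [D''.map_algebraMap, inr_zero, add_zero]; rfl }
  have hψ : ∀ b, ψ b = inl (Ideal.Quotient.mk J b) + inr (D'' b) := fun b => rfl
  let πE : TrivSqZeroExt (B ⧸ J) F →ₐ[A] TrivSqZeroExt (B ⧸ J) Q :=
    { (TrivSqZeroExt.map π).toRingHom with
      commutes' := fun a => by
        show TrivSqZeroExt.map π (inl (algebraMap A (B ⧸ J) a)) = inl (algebraMap A (B ⧸ J) a)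
        rw [map_inl] }
  have hπE : ∀ z, πE z = TrivSqZeroExt.map π z := fun z => rfl
  have hπEs : Function.Surjective πE := by
    intro z
    obtain ⟨f, hf⟩ := hπ z.snd
    refine ⟨inl z.fst + inr f, ?_⟩
    rw [hπE, map_add, map_inl, map_inr, hf, inl_fst_add_inr_snd_eq]
  have hπEk : RingHom.ker πE.toRingHom ^ 2 = ⊥ := by
    rw [eq_bot_iff, pow_two, Ideal.mul_le]
    intro z hz z' hz'
    have h1 : z.fst = 0 := by
      have : πE z = 0 := hz
      have := congrArg TrivSqZeroExt.fst this
      rwa [hπE, fst_map, fst_zero] at this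
    have h2 : z'.fst = 0 := by
      have : πE z' = 0 := hz'
      have := congrArg TrivSqZeroExt.fst this
      rwa [hπE, fst_map, fst_zero] at this
    rw [Ideal.mem_bot]
    apply TrivSqZeroExt.ext
    · simp [h1]
    · simp [h1, h2]
  have hD''J : ∀ x ∈ J ^ 2, D'' x = 0 := by
    intro x hx
    rw [pow_two] at hx
    induction hx using Submodule.mul_induction_on' with
    | mem_mul_mem y hy z hz =>
      rw [D''.leibniz, ← quot_smul_eq J y, ← quot_smul_eq J z,
        Ideal.Quotient.eq_zero_iff_mem.mpr hy, Ideal.Quotient.eq_zero_iff_mem.mpr hz, zero_smul,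
        zero_smul, add_zero]
    | add y _ z _ hy hz => rw [map_add, hy, hz, add_zero]
  have hk : ∀ x ∈ J ^ 2, ψ x = 0 := by
    intro x hx
    have hx1 : x ∈ J := Ideal.pow_le_self (by norm_num) hx
    rw [hψ, Ideal.Quotient.eq_zero_iff_mem.mpr hx1, inl_zero, zero_add, hD''J x hx, inr_zero]
  obtain ⟨χ, hχ⟩ := exists_lift_of_sq_zero hAd πE hπEs hπEk ψ 2 hk
  have hχb : ∀ b, TrivSqZeroExt.map π (χ b) = ψ b := fun b => AlgHom.congr_fun hχ b
  have hχfst : ∀ b, (χ b).fst = Ideal.Quotient.mk J b := by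
    intro b
    have := congrArg TrivSqZeroExt.fst (hχb b)
    rwa [fst_map, hψ, fst_add, fst_inl, fst_inr, add_zero] at this
  have hχsnd : ∀ b, π (χ b).snd = D'' b := by
    intro b
    have := congrArg TrivSqZeroExt.snd (hχb b)
    rwa [snd_map, hψ, snd_add, snd_inl, snd_inr, zero_add] at this
  have hAsmul : ∀ (a : A) (f : F), algebraMap A (B ⧸ J) a • f = a • f := by
    intro a f
    have : algebraMap A (B ⧸ J) a = Ideal.Quotient.mk J (algebraMap A B a) := rfl
    rw [this, quot_smul_eq, algebraMap_smul]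
  let D₀ : B →ₗ[A] F :=
    { toFun := fun b => (χ b).snd
      map_add' := fun b b' => by rw [map_add, snd_add]
      map_smul' := fun a b => by
        show (χ (a • b)).snd = a • (χ b).snd
        rw [Algebra.smul_def, map_mul, χ.commutes, halgF, snd_mul, snd_inl, fst_inl]
        simp [hAsmul] }
  refine ⟨Derivation.mk' D₀ (fun b b' => ?_), fun b => hχsnd b⟩
  show (χ (b * b')).snd = b • (χ b').snd + b' • (χ b).snd
  rw [map_mul, snd_mul, hχfst, hχfst, ← quot_smul_eq J b, ← quot_smul_eq J b']
  simp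

end Lift

section Extend

variable {Λ A B : Type u} [CommRing Λ] [CommRing A] [CommRing B] [Algebra Λ A] [Algebra A B]
  [Algebra Λ B] [IsScalarTower Λ A B] (J : Ideal B)

/-- Extending derivations `A → M` to `B → M` for `B/J`-modules `M`, for `J`-adically formally
smooth `B` over `A`. -/
theorem exists_derivation_extension (hAd : CAlgX.IsAdicFormallySmooth A B J)
    {M : Type u} [AddCommGroup M] [Module (B ⧸ J) M] [Module B M] [IsScalarTower B (B ⧸ J) M]
    [Module A M] [IsScalarTower A B M] [Module Λ M] [IsScalarTower Λ A M] [IsScalarTower Λ B M]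
    (d : Derivation Λ A M) : ∃ D : Derivation Λ B M, ∀ a, D (algebraMap A B a) = d a := by
  classical
  letI opM : Module (B ⧸ J)ᵐᵒᵖ M := opMod _ _
  haveI cM : IsCentralScalar (B ⧸ J) M := ⟨fun _ _ => rfl⟩
  have hAsmul : ∀ (a : A) (m : M), algebraMap A (B ⧸ J) a • m = a • m := by
    intro a m
    have : algebraMap A (B ⧸ J) a = Ideal.Quotient.mk J (algebraMap A B a) := rfl
    rw [this, quot_smul_eq, algebraMap_smul]
  let φA : A →+* TrivSqZeroExt (B ⧸ J) M :=
    { toFun := fun a => inl (algebraMap A (B ⧸ J) a) + inr (d a)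
      map_one' := by
        rw [d.map_one_eq_zero, map_one, inr_zero, add_zero]; rfl
      map_mul' := fun a a' => by
        apply TrivSqZeroExt.ext
        · simp
        · rw [d.leibniz, ← hAsmul a, ← hAsmul a']
          simp [add_comm]
      map_zero' := by
        rw [map_zero, map_zero, inr_zero, add_zero, inl_zero]
      map_add' := fun a a' => by
        rw [map_add, map_add, inl_add, inr_add]; abel }
  letI algE : Algebra A (TrivSqZeroExt (B ⧸ J) M) := φA.toAlgebra
  have halg : ∀ a : A, algebraMap A (TrivSqZeroExt (B ⧸ J) M) a =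
      inl (algebraMap A (B ⧸ J) a) + inr (d a) := fun a => rfl
  let πE : TrivSqZeroExt (B ⧸ J) M →ₐ[A] (B ⧸ J) :=
    { (TrivSqZeroExt.fstHom (B ⧸ J) (B ⧸ J) M).toRingHom with
      commutes' := fun a => by
        show (algebraMap A (TrivSqZeroExt (B ⧸ J) M) a).fst = _
        rw [halg, fst_add, fst_inl, fst_inr, add_zero] }
  have hπE : ∀ z, πE z = z.fst := fun z => rfl
  have hπEs : Function.Surjective πE := fun c => ⟨inl c, by rw [hπE, fst_inl]⟩
  have hπEk : RingHom.ker πE.toRingHom ^ 2 = ⊥ := by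
    rw [eq_bot_iff, pow_two, Ideal.mul_le]
    intro z hz z' hz'
    have h1 : z.fst = 0 := hz
    have h2 : z'.fst = 0 := hz'
    rw [Ideal.mem_bot]
    apply TrivSqZeroExt.ext
    · simp [h1]
    · simp [h1, h2]
  obtain ⟨χ, hχ⟩ := exists_lift_of_sq_zero hAd πE hπEs hπEk (Ideal.Quotient.mkₐ A J) 1
    (fun x hx => by
      rw [pow_one] at hx
      exact Ideal.Quotient.eq_zero_iff_mem.mpr hx)
  have hχfst : ∀ b, (χ b).fst = Ideal.Quotient.mk J b := fun b => AlgHom.congr_fun hχ b
  have hχa : ∀ a, (χ (algebraMap A B a)).snd = d a := by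
    intro a
    rw [χ.commutes, halg, snd_add, snd_inl, snd_inr, zero_add]
  have hmul : ∀ b b', (χ (b * b')).snd = b • (χ b').snd + b' • (χ b).snd := by
    intro b b'
    rw [map_mul, snd_mul, hχfst, hχfst, ← quot_smul_eq J b, ← quot_smul_eq J b']
    simp
  let D₀ : B →ₗ[Λ] M :=
    { toFun := fun b => (χ b).snd
      map_add' := fun b b' => by rw [map_add, snd_add]
      map_smul' := fun l b => by
        rw [RingHom.id_apply, Algebra.smul_def, hmul,
          IsScalarTower.algebraMap_apply Λ A B, hχa, d.map_algebraMap, smul_zero, add_zero,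
          algebraMap_smul, algebraMap_smul] }
  exact ⟨Derivation.mk' D₀ hmul, hχa⟩

end Extend

end Groth.Agent.H91.AdicJac
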