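import Mathlib
import Groth.Prelude.Def_CAlgX
import Groth.Agent.H46.AdicSmoothSmallExt

namespace Groth.Agent.H91.AdicJac

open TensorProduct KaehlerDifferential

universe u

set_option linter.style.haveILetI false

section PartI

variable {Λ A B : Type u} [CommRing Λ] [CommRing A] [CommRing B] [Algebra Λ A] [Algebra A B]
  [Algebra Λ B] [IsScalarTower Λ A B] (J : Ideal B)

set_option maxHeartbeats 800000 in
/-- Adic Jacobian criterion, sufficiency: if `B` is `J`-adically formally smooth over `Λ` and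
`C ⊗_A Ω_{A/Λ} → C ⊗_B Ω_{B/Λ}` (`C = B/J`) has a left inverse, then `B` is `J`-adically formally
smooth over `A`. -/
theorem adic_of_retraction (hΛ : CAlgX.IsAdicFormallySmooth Λ B J)
    (r : (B ⧸ J) ⊗[B] Ω[B⁄Λ] →ₗ[B] (B ⧸ J) ⊗[B] (B ⊗[A] Ω[A⁄Λ]))
    (hr : ∀ x, r ((mapBaseChange Λ A B).lTensor (B ⧸ J) x) = x) :
    CAlgX.IsAdicFormallySmooth A B J := by
  apply Groth.Agent.H46.isAdicFormallySmooth_of_gtl
  intro E _ _ K ψ k hK hk htors
  letI algΛE : Algebra Λ E := ((algebraMap A E).comp (algebraMap Λ A)).toAlgebra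
  haveI towE : IsScalarTower Λ A E := IsScalarTower.of_algebraMap_eq (fun _ => rfl)
  obtain ⟨χ₀, hχ₀⟩ := hΛ E K hK (ψ.restrictScalars Λ) ⟨k, hk⟩
  have hχ₀' : ∀ b, Ideal.Quotient.mk K (χ₀ b) = ψ b := fun b => AlgHom.congr_fun hχ₀ b
  have hKK : ∀ j ∈ K, ∀ j' ∈ K, j * j' = 0 := by
    intro j hj j' hj'
    have := Ideal.mul_mem_mul hj hj'
    rwa [← pow_two, hK, Ideal.mem_bot] at this
  -- B-module structure on K
  letI modB : Module B ↥K := Module.compHom ↥K (χ₀ : B →+* E)
  have hsmulB : ∀ (b : B) (j : ↥K), ((b • j : ↥K) : E) = χ₀ b * (j : E) := fun b j => rfl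
  have hsmulΛ : ∀ (l : Λ) (j : ↥K), ((l • j : ↥K) : E) = l • (j : E) := fun l j => rfl
  have hsmulA : ∀ (a : A) (j : ↥K), ((a • j : ↥K) : E) = a • (j : E) := fun a j => rfl
  have hdK : ∀ a : A, algebraMap A E a - χ₀ (algebraMap A B a) ∈ K := by
    intro a
    rw [← Ideal.Quotient.eq_zero_iff_mem, map_sub, hχ₀', ψ.commutes, sub_eq_zero]
    rfl
  haveI towΛB : IsScalarTower Λ B ↥K := ⟨fun l b j => by
    apply Subtype.ext
    rw [hsmulB, map_smul, hsmulΛ, hsmulB, smul_mul_assoc]⟩
  haveI towAB : IsScalarTower A B ↥K := ⟨fun a b j => by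
    apply Subtype.ext
    rw [hsmulB, hsmulA, hsmulB, Algebra.smul_def, map_mul, Algebra.smul_def]
    have h1 := hKK _ (hdK a) _ (K.mul_mem_left (χ₀ b) j.2)
    linear_combination (-1 : E) * h1⟩
  have htorsB : Module.IsTorsionBySet B ↥K (J : Set B) := by
    intro j s
    apply Subtype.ext
    rw [hsmulB]
    exact htors s s.2 (χ₀ s) (hχ₀' s) j j.2
  letI modC : Module (B ⧸ J) ↥K := htorsB.module
  haveI towBC : IsScalarTower B (B ⧸ J) ↥K := htorsB.isScalarTower
  -- the derivation d : A → K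
  let d₀ : A →ₗ[Λ] ↥K :=
    { toFun := fun a => ⟨algebraMap A E a - χ₀ (algebraMap A B a), hdK a⟩
      map_add' := fun a a' => by
        apply Subtype.ext
        simp only [map_add, Submodule.coe_add]
        ring
      map_smul' := fun l a => by
        apply Subtype.ext
        rw [RingHom.id_apply, hsmulΛ]
        show algebraMap A E (l • a) - χ₀ (algebraMap A B (l • a)) =
          l • (algebraMap A E a - χ₀ (algebraMap A B a))
        have e1 : algebraMap A E (l • a) = l • algebraMap A E a := by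
          rw [Algebra.algebraMap_eq_smul_one, smul_assoc, ← Algebra.algebraMap_eq_smul_one]
        have e2 : algebraMap A B (l • a) = l • algebraMap A B a := by
          rw [Algebra.algebraMap_eq_smul_one, smul_assoc, ← Algebra.algebraMap_eq_smul_one]
        rw [e1, e2, map_smul, smul_sub] }
  have hd₀ : ∀ a, ((d₀ a : ↥K) : E) = algebraMap A E a - χ₀ (algebraMap A B a) := fun a => rfl
  let d : Derivation Λ A ↥K := Derivation.mk' d₀ (fun a a' => by
    apply Subtype.ext
    rw [Submodule.coe_add, hsmulA, hsmulA, hd₀, hd₀, hd₀,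
      Algebra.smul_def, Algebra.smul_def, map_mul, map_mul, map_mul]
    have h1 := hKK _ (hdK a) _ (hdK a')
    linear_combination (-1 : E) * h1)
  have hd : ∀ a, ((d a : ↥K) : E) = algebraMap A E a - χ₀ (algebraMap A B a) := fun a => rfl
  let g₁ : B ⊗[A] Ω[A⁄Λ] →ₗ[B] ↥K := d.liftKaehlerDifferential.liftBaseChange B
  let g₂ : (B ⧸ J) ⊗[B] (B ⊗[A] Ω[A⁄Λ]) →ₗ[B ⧸ J] ↥K := g₁.liftBaseChange (B ⧸ J)
  let Dt : Ω[B⁄Λ] →ₗ[B] ↥K :=
    (g₂.restrictScalars B) ∘ₗ r ∘ₗ (TensorProduct.mk B (B ⧸ J) Ω[B⁄Λ] 1)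
  let D : Derivation Λ B ↥K := Dt.compDer (KaehlerDifferential.D Λ B)
  have hD : ∀ b, D b = g₂ (r ((1 : B ⧸ J) ⊗ₜ[B] KaehlerDifferential.D Λ B b)) := fun b => rfl
  have hDa : ∀ a, D (algebraMap A B a) = d a := by
    intro a
    have h1 : (mapBaseChange Λ A B).lTensor (B ⧸ J)
        ((1 : B ⧸ J) ⊗ₜ[B] ((1 : B) ⊗ₜ[A] KaehlerDifferential.D Λ A a)) =
        (1 : B ⧸ J) ⊗ₜ[B] KaehlerDifferential.D Λ B (algebraMap A B a) := by
      rw [LinearMap.lTensor_tmul, mapBaseChange_tmul, one_smul, KaehlerDifferential.map_D]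
    rw [hD, ← h1, hr]
    show g₁.liftBaseChange (B ⧸ J) _ = _
    rw [LinearMap.liftBaseChange_tmul, one_smul]
    show d.liftKaehlerDifferential.liftBaseChange B _ = _
    rw [LinearMap.liftBaseChange_tmul, one_smul, Derivation.liftKaehlerDifferential_comp_D]
  refine ⟨{ toFun := fun b => χ₀ b + ((D b : ↥K) : E)
            map_one' := by
              rw [map_one, D.map_one_eq_zero]; simp
            map_mul' := fun b b' => by
              rw [D.leibniz, Submodule.coe_add, hsmulB, hsmulB, map_mul]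
              have h1 := hKK _ (D b).2 _ (D b').2
              linear_combination (-1 : E) * h1
            map_zero' := by
              rw [map_zero, map_zero]; simp
            map_add' := fun b b' => by
              rw [map_add, map_add, Submodule.coe_add]; ring
            commutes' := fun a => by
              rw [hDa, hd]; ring }, ?_⟩
  apply AlgHom.ext
  intro b
  show Ideal.Quotient.mk K (χ₀ b + ((D b : ↥K) : E)) = ψ b
  rw [map_add, hχ₀', Ideal.Quotient.eq_zero_iff_mem.mpr (D b).2, add_zero]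

end PartI

end Groth.Agent.H91.AdicJac
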