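import Mathlib
import Groth.Prelude.Def_CAlgX
import Groth.Agent.H91.AdicDer

namespace Groth.Agent.H91.AdicJac

open TensorProduct KaehlerDifferential Groth.Agent.H91.AdicSmooth

universe u

set_option linter.style.haveILetI false

section Delta

variable {A B : Type u} [CommRing A] [CommRing B] [Algebra A B] (J : Ideal B)

/-- (δ): if `B` is `J`-adically formally smooth over `A` then `(B/J) ⊗ Ω_{B/A}` is projective. -/
theorem projective_baseChange_kaehler (hAd : CAlgX.IsAdicFormallySmooth A B J) :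
    Module.Projective (B ⧸ J) ((B ⧸ J) ⊗[B] Ω[B⁄A]) := by
  classical
  let πF : (((B ⧸ J) ⊗[B] Ω[B⁄A]) →₀ (B ⧸ J)) →ₗ[B ⧸ J] (B ⧸ J) ⊗[B] Ω[B⁄A] :=
    Finsupp.linearCombination (B ⧸ J) id
  have hπF : Function.Surjective πF := Finsupp.linearCombination_id_surjective _ _
  let D'' : Derivation A B ((B ⧸ J) ⊗[B] Ω[B⁄A]) :=
    (TensorProduct.mk B (B ⧸ J) Ω[B⁄A] 1).compDer (KaehlerDifferential.D A B)
  have hD'' : ∀ b, D'' b = (1 : B ⧸ J) ⊗ₜ[B] KaehlerDifferential.D A B b := fun b => rfl
  obtain ⟨D, hD⟩ := exists_derivation_lift J hAd πF hπF D''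
  have key : ∀ ω : Ω[B⁄A], πF (D.liftKaehlerDifferential ω) = (1 : B ⧸ J) ⊗ₜ[B] ω := by
    intro ω
    have hω : ω ∈ Submodule.span B (Set.range (KaehlerDifferential.D A B)) := by
      rw [KaehlerDifferential.span_range_derivation]; trivial
    induction hω using Submodule.span_induction with
    | mem x hx =>
      obtain ⟨b, rfl⟩ := hx
      rw [Derivation.liftKaehlerDifferential_comp_D, hD, hD'']
    | zero => simp
    | add x y _ _ hx hy => rw [map_add, map_add, hx, hy, tmul_add]
    | smul b x _ hx =>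
      have e : (Ideal.Quotient.mk J b) • ((1 : B ⧸ J) ⊗ₜ[B] x) = (1 : B ⧸ J) ⊗ₜ[B] (b • x) := by
        rw [TensorProduct.smul_tmul', TensorProduct.tmul_smul, TensorProduct.smul_tmul',
          smul_eq_mul, mul_one, Algebra.smul_def, mul_one]
        rfl
      rw [map_smul, ← quot_smul_eq J b, map_smul, hx, e]
  have hsplit : ∀ x, πF (D.liftKaehlerDifferential.liftBaseChange (B ⧸ J) x) = x := by
    intro x
    induction x using TensorProduct.induction_on with
    | zero => simp
    | add x y hx hy => rw [map_add, map_add, hx, hy]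
    | tmul c ω =>
      rw [LinearMap.liftBaseChange_tmul, map_smul, key,
        TensorProduct.smul_tmul', smul_eq_mul, mul_one]
  exact Module.Projective.of_split (D.liftKaehlerDifferential.liftBaseChange (B ⧸ J)) πF
    (LinearMap.ext hsplit)

end Delta

section Gamma

variable {Λ A B : Type u} [CommRing Λ] [CommRing A] [CommRing B] [Algebra Λ A] [Algebra A B]
  [Algebra Λ B] [IsScalarTower Λ A B] (J : Ideal B)

/-- (γ'): if `B` is `J`-adically formally smooth over `A` then
`(B/J) ⊗ Ω_{A/Λ} → (B/J) ⊗ Ω_{B/Λ}` is (split) injective. -/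
theorem injective_lTensor_mapBaseChange (hAd : CAlgX.IsAdicFormallySmooth A B J) :
    Function.Injective ((mapBaseChange Λ A B).lTensor (B ⧸ J)) := by
  classical
  let l : Ω[A⁄Λ] →ₗ[A] (B ⧸ J) ⊗[B] (B ⊗[A] Ω[A⁄Λ]) :=
    ((TensorProduct.mk B (B ⧸ J) (B ⊗[A] Ω[A⁄Λ]) 1).restrictScalars A) ∘ₗ
      (TensorProduct.mk A B Ω[A⁄Λ] 1)
  let d : Derivation Λ A ((B ⧸ J) ⊗[B] (B ⊗[A] Ω[A⁄Λ])) :=
    l.compDer (KaehlerDifferential.D Λ A)
  have hd : ∀ a, d a = (1 : B ⧸ J) ⊗ₜ[B] ((1 : B) ⊗ₜ[A] KaehlerDifferential.D Λ A a) :=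
    fun a => rfl
  obtain ⟨D, hD⟩ := exists_derivation_extension J hAd d
  let r : (B ⧸ J) ⊗[B] Ω[B⁄Λ] →ₗ[B ⧸ J] (B ⧸ J) ⊗[B] (B ⊗[A] Ω[A⁄Λ]) :=
    D.liftKaehlerDifferential.liftBaseChange (B ⧸ J)
  have key : ∀ ω : Ω[A⁄Λ], D.liftKaehlerDifferential (KaehlerDifferential.map Λ Λ A B ω) =
      (1 : B ⧸ J) ⊗ₜ[B] ((1 : B) ⊗ₜ[A] ω) := by
    intro ω
    have hω : ω ∈ Submodule.span A (Set.range (KaehlerDifferential.D Λ A)) := by
      rw [KaehlerDifferential.span_range_derivation]; trivial
    induction hω using Submodule.span_induction with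
    | mem x hx =>
      obtain ⟨a, rfl⟩ := hx
      rw [KaehlerDifferential.map_D, Derivation.liftKaehlerDifferential_comp_D, hD, hd]
    | zero => simp
    | add x y _ _ hx hy => rw [map_add, map_add, hx, hy, tmul_add, tmul_add]
    | smul a x _ hx =>
      rw [map_smul, ← algebraMap_smul B a, map_smul, hx, TensorProduct.tmul_smul,
        TensorProduct.tmul_smul, algebraMap_smul]
  have hr : ∀ x, r ((mapBaseChange Λ A B).lTensor (B ⧸ J) x) = x := by
    intro x
    induction x using TensorProduct.induction_on with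
    | zero => simp
    | add x y hx hy => rw [map_add, map_add, hx, hy]
    | tmul c n =>
      induction n using TensorProduct.induction_on with
      | zero => simp
      | add x y hx hy => rw [tmul_add, map_add, map_add, hx, hy]
      | tmul b ω =>
        rw [LinearMap.lTensor_tmul, mapBaseChange_tmul]
        show D.liftKaehlerDifferential.liftBaseChange (B ⧸ J) _ = _
        rw [LinearMap.liftBaseChange_tmul, map_smul, key, ← TensorProduct.tmul_smul,
          TensorProduct.smul_tmul', TensorProduct.smul_tmul', smul_eq_mul, mul_one, smul_eq_mul,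
          mul_one]
  exact Function.LeftInverse.injective hr

end Gamma

end Groth.Agent.H91.AdicJac
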