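import Mathlib

namespace Groth.Agent.H91.AdicJac

open TensorProduct KaehlerDifferential

universe u

section Retraction

variable {Λ A B : Type u} [CommRing Λ] [CommRing A] [CommRing B] [Algebra Λ A] [Algebra A B]
  [Algebra Λ B] [IsScalarTower Λ A B] (J : Ideal B)

/-- If `C ⊗ Ω_{A/Λ} → C ⊗ Ω_{B/Λ}` is injective and its cokernel `C ⊗ Ω_{B/A}` is projective then it
has a left inverse. -/
theorem exists_retraction
    (hinj : Function.Injective ((mapBaseChange Λ A B).lTensor (B ⧸ J)))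
    (hproj : Module.Projective (B ⧸ J) ((B ⧸ J) ⊗[B] Ω[B⁄A])) :
    ∃ r : (B ⧸ J) ⊗[B] Ω[B⁄Λ] →ₗ[B] (B ⧸ J) ⊗[B] (B ⊗[A] Ω[A⁄Λ]),
      ∀ x, r ((mapBaseChange Λ A B).lTensor (B ⧸ J) x) = x := by
  have hsurj : Function.Surjective (KaehlerDifferential.map Λ A B B) :=
    KaehlerDifferential.map_surjective Λ A B
  have hexact := lTensor_exact (B ⧸ J) (exact_mapBaseChange_map Λ A B) hsurj
  have hvs : Function.Surjective ((KaehlerDifferential.map Λ A B B).baseChange (B ⧸ J)) := by
    have := LinearMap.lTensor_surjective (B ⧸ J) hsurj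
    exact this
  obtain ⟨σ, hσ⟩ := Module.projective_lifting_property
    ((KaehlerDifferential.map Λ A B B).baseChange (B ⧸ J)) LinearMap.id hvs
  have h1 : Function.Injective ((mapBaseChange Λ A B).lTensor (B ⧸ J)) ∧
      ∃ l, ((KaehlerDifferential.map Λ A B B).lTensor (B ⧸ J)) ∘ₗ l = LinearMap.id := by
    refine ⟨hinj, σ.restrictScalars B, ?_⟩
    apply LinearMap.ext
    intro x
    exact LinearMap.congr_fun hσ x
  obtain ⟨_, r, hr⟩ := ((hexact.split_tfae').out 0 1).mp h1
  exact ⟨r, fun x => LinearMap.congr_fun hr x⟩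

end Retraction

end Groth.Agent.H91.AdicJac
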