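import Mathlib
import Groth.Prelude.Def_PP16
import Groth.Agent.H91.AdicRhoFilt

namespace Groth.Agent.H91.AdicSmooth

open TensorProduct SymSmooth

universe u

section Inj

variable {A B : Type u} [CommRing A] [CommRing B] [Algebra A B] (𝔍 : Ideal B)
  [Algebra A (SymmetricAlgebra (B ⧸ 𝔍) 𝔍.Cotangent)]
  {N : ℕ} (hN : 2 ≤ N)
  (s : (B ⧸ 𝔍) →ₐ[A] (B ⧸ 𝔍 ^ N))
  (ρ : SymmetricAlgebra (B ⧸ 𝔍) 𝔍.Cotangent →ₐ[A] (B ⧸ 𝔍 ^ N))
  (hs : ∀ c, Ideal.Quotient.factor (pow_le_self' 𝔍 hN) (s c) = c)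
  (hρ1 : ∀ c, ρ (algebraMap (B ⧸ 𝔍) _ c) = s c)
  (hρ2 : ∀ x : 𝔍, ρ (SymmetricAlgebra.ι (B ⧸ 𝔍) 𝔍.Cotangent (𝔍.toCotangent x)) -
        Ideal.Quotient.mk (𝔍 ^ N) x ∈ (𝔍 ^ 2).map (Ideal.Quotient.mk (𝔍 ^ N)))

include hs hρ1 hρ2 in
/-- (R3) graded injectivity -/
theorem mem_pow_succ_of_rho_mem {ι : Type u} [Fintype ι] [Nonempty ι]
    (hcard : Fintype.card ι + 1 ≤ N)
    (φ : SymmetricPower B ι 𝔍.Cotangent →ₗ[B] PP16.grJ B 𝔍 (Fintype.card ι))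
    (hφ : ∀ x : ι → ↥𝔍, φ (SymmetricPower.tprod B (fun i => 𝔍.toCotangent (x i))) =
      PP16.zetaJ B 𝔍 x)
    (hφinj : Function.Injective φ)
    (x : SymmetricAlgebra (B ⧸ 𝔍) 𝔍.Cotangent)
    (hx : x ∈ aug (B ⧸ 𝔍) 𝔍.Cotangent ^ (Fintype.card ι))
    (hρx : ρ x ∈ (𝔍.map (Ideal.Quotient.mk (𝔍 ^ N))) ^ (Fintype.card ι + 1)) :
    x ∈ aug (B ⧸ 𝔍) 𝔍.Cotangent ^ (Fintype.card ι + 1) := by
  classical
  set 𝔍N := 𝔍.map (Ideal.Quotient.mk (𝔍 ^ N)) with h𝔍N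
  obtain ⟨u, hu⟩ := SymAlgGr.exists_toSymAlg_sub_mem (ι := ι) x hx
  have hρu : ρ (SymPow.toSymAlg u) ∈ 𝔍N ^ (Fintype.card ι + 1) := by
    have h1 := rho_mem_pow 𝔍 hN s ρ hs hρ1 hρ2 (Fintype.card ι + 1) _ hu
    have : ρ (SymPow.toSymAlg u) = ρ x - ρ (x - SymPow.toSymAlg u) := by rw [map_sub]; ring
    rw [this]
    exact sub_mem hρx h1
  obtain ⟨c, d, hc, hd, hdc, hcd⟩ := SymCompare.exists_compare 𝔍 (ι := ι) (M := 𝔍.Cotangent)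
  set v := d u with hv
  have hcv : c v = u := hcd u
  -- the target quotient
  let Q := (B ⧸ 𝔍 ^ N) ⧸ 𝔍N ^ (Fintype.card ι + 1)
  let f : ↥(𝔍 ^ (Fintype.card ι)) →ₗ[B] Q := (Algebra.linearMap B Q) ∘ₗ (𝔍 ^ (Fintype.card ι)).subtype
  have hfmk : ∀ y : ↥(𝔍 ^ (Fintype.card ι)), f y = Ideal.Quotient.mk (𝔍N ^ (Fintype.card ι + 1))
      (Ideal.Quotient.mk (𝔍 ^ N) (y : B)) := fun y => rfl
  have hfker : Submodule.comap (𝔍 ^ (Fintype.card ι)).subtype (𝔍 ^ (Fintype.card ι + 1)) ≤ LinearMap.ker f := by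
    intro y hy
    rw [LinearMap.mem_ker, hfmk, Ideal.Quotient.eq_zero_iff_mem, h𝔍N, ← Ideal.map_pow]
    exact Ideal.mem_map_of_mem _ hy
  let Θ : PP16.grJ B 𝔍 (Fintype.card ι) →ₗ[B] Q := Submodule.liftQ _ f hfker
  have hΘmk : ∀ y : ↥(𝔍 ^ (Fintype.card ι)), Θ (Submodule.Quotient.mk y) = f y := fun y => rfl
  have hΘinj : Function.Injective Θ := by
    rw [← LinearMap.ker_eq_bot]
    refine Submodule.ker_liftQ_eq_bot _ _ _ ?_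
    intro y hy
    rw [LinearMap.mem_ker, hfmk, Ideal.Quotient.eq_zero_iff_mem, h𝔍N, ← Ideal.map_pow,
      Ideal.mem_map_iff_of_surjective _ Ideal.Quotient.mk_surjective] at hy
    obtain ⟨y', hy', hyy'⟩ := hy
    rw [Submodule.mem_comap, Submodule.subtype_apply]
    have h1 : (y : B) - y' ∈ 𝔍 ^ N := by
      rw [← Ideal.Quotient.eq, hyy']
    have h2 : 𝔍 ^ N ≤ 𝔍 ^ (Fintype.card ι + 1) := Ideal.pow_le_pow_right hcard
    have : (y : B) = ((y : B) - y') + y' := by ring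
    rw [this]
    exact add_mem (h2 h1) hy'
  -- the two additive maps
  let mkQ : (B ⧸ 𝔍 ^ N) →+ Q := (Ideal.Quotient.mk (𝔍N ^ (Fintype.card ι + 1))).toAddMonoidHom
  let Ξ : SymmetricPower B ι 𝔍.Cotangent →+ Q :=
    mkQ.comp ((ρ.toLinearMap.toAddMonoidHom.comp
      (SymPow.toSymAlg (R := B ⧸ 𝔍) (ι := ι) (M := 𝔍.Cotangent)).toAddMonoidHom).comp c)
  have hΞ : Ξ = Θ.toAddMonoidHom.comp φ.toAddMonoidHom := by
    apply SymCompare.addHom_ext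
    intro m
    choose y hy using fun i => 𝔍.toCotangent_surjective (m i)
    have hm : m = fun i => 𝔍.toCotangent (y i) := by funext i; rw [hy]
    show Ideal.Quotient.mk (𝔍N ^ (Fintype.card ι + 1)) (ρ (SymPow.toSymAlg (c (SymmetricPower.tprod B m)))) =
      Θ (φ (SymmetricPower.tprod B m))
    rw [hc, SymPow.toSymAlg_tprod, map_prod]
    conv_rhs => rw [hm, hφ]
    have hz : PP16.zetaJ B 𝔍 y = Submodule.Quotient.mk
        ⟨∏ i, (y i : B), by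
          simpa using PP16.prod_mem_pow 𝔍 Finset.univ (fun i => (y i : B)) (fun i _ => (y i).2)⟩ :=
      rfl
    rw [hz, hΘmk, hfmk]
    rw [Ideal.Quotient.eq]
    show ∏ i, ρ (SymmetricAlgebra.ι (B ⧸ 𝔍) 𝔍.Cotangent (m i)) -
      Ideal.Quotient.mk (𝔍 ^ N) (∏ i, (y i : B)) ∈ 𝔍N ^ (Fintype.card ι + 1)
    rw [map_prod]
    have := SymGr.prod_sub_prod_mem_pow 𝔍N Finset.univ
      (fun i => ρ (SymmetricAlgebra.ι (B ⧸ 𝔍) 𝔍.Cotangent (m i)))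
      (fun i => Ideal.Quotient.mk (𝔍 ^ N) (y i : B))
      (fun i _ => (rho_mem_iff 𝔍 hN s ρ hs hρ1 hρ2 _).mpr (ι_mem_aug _))
      (fun i _ => by
        rw [h𝔍N, ← Ideal.map_pow, ← hy i]
        exact hρ2 (y i))
    simpa using this
  have hΞv : Ξ v = 0 := by
    show Ideal.Quotient.mk (𝔍N ^ (Fintype.card ι + 1)) (ρ (SymPow.toSymAlg (c v))) = 0
    rw [hcv, Ideal.Quotient.eq_zero_iff_mem]
    exact hρu
  rw [hΞ] at hΞv
  have hφv : φ v = 0 := hΘinj (by rw [map_zero]; exact hΞv)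
  have hv0 : v = 0 := hφinj (by rw [map_zero]; exact hφv)
  have hu0 : u = 0 := by rw [← hcv, hv0, map_zero]
  rw [hu0, map_zero, sub_zero] at hu
  exact hu

end Inj

end Groth.Agent.H91.AdicSmooth
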