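import Mathlib
import Groth.Prelude.Def_PP16
import Groth.Prelude.Def_CAlgX
import Groth.Agent.H91.AdicRhoInj

namespace Groth.Agent.H91.AdicSmooth

open TensorProduct SymSmooth

universe u

section Ker

variable {A B : Type u} [CommRing A] [CommRing B] [Algebra A B] (𝔍 : Ideal B)
  [Algebra A (SymmetricAlgebra (B ⧸ 𝔍) 𝔍.Cotangent)]
  {N : ℕ} (hN : 2 ≤ N)
  (s : (B ⧸ 𝔍) →ₐ[A] (B ⧸ 𝔍 ^ N))
  (ρ : SymmetricAlgebra (B ⧸ 𝔍) 𝔍.Cotangent →ₐ[A] (B ⧸ 𝔍 ^ N))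
  (hs : ∀ c, Ideal.Quotient.factor (pow_le_self' 𝔍 hN) (s c) = c)
  (hρ1 : ∀ c, ρ (algebraMap (B ⧸ 𝔍) _ c) = s c)
  (hρ2 : ∀ x : 𝔍, ρ (SymmetricAlgebra.ι (B ⧸ 𝔍) 𝔍.Cotangent (𝔍.toCotangent x)) -
        Ideal.Quotient.mk (𝔍 ^ N) x ∈ (𝔍 ^ 2).map (Ideal.Quotient.mk (𝔍 ^ N)))

include hs hρ1 hρ2 in
theorem ker_rho_le (hSym : PP16.SymGrBijective B 𝔍)
    (x : SymmetricAlgebra (B ⧸ 𝔍) 𝔍.Cotangent) (hx : ρ x = 0) :
    x ∈ aug (B ⧸ 𝔍) 𝔍.Cotangent ^ N := by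
  have key : ∀ j, j ≤ N → x ∈ aug (B ⧸ 𝔍) 𝔍.Cotangent ^ j := by
    intro j
    induction j with
    | zero => intro _; simp
    | succ j ih =>
      intro hj
      have ihj := ih (by omega)
      rcases Nat.eq_zero_or_pos j with h0 | hpos
      · subst h0
        rw [zero_add, pow_one, ← rho_mem_iff 𝔍 hN s ρ hs hρ1 hρ2, hx]
        exact zero_mem _
      · let ι := ULift.{u} (Fin j)
        have : Nonempty ι := ⟨⟨⟨0, hpos⟩⟩⟩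
        have hc : Fintype.card ι = j := by simp [ι]
        obtain ⟨φ, hφ, hbij⟩ := hSym ι
        have := mem_pow_succ_of_rho_mem 𝔍 hN s ρ hs hρ1 hρ2 (ι := ι) (by rw [hc]; exact hj)
          φ hφ hbij.1 x (by rw [hc]; exact ihj) (by rw [hx]; exact zero_mem _)
        rwa [hc] at this
  exact key N le_rfl

end Ker

section Main

variable {A B : Type u} [CommRing A] [CommRing B] [Algebra A B] (𝔍 : Ideal B)
  [Algebra.FormallySmooth A (B ⧸ 𝔍)]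

/-- (⇐) of EGA 0_IV 19.5.4 (discrete base). -/
theorem isAdicFormallySmooth_of_symGrBijective [Module.Projective (B ⧸ 𝔍) 𝔍.Cotangent]
    (hSym : PP16.SymGrBijective B 𝔍) : CAlgX.IsAdicFormallySmooth A B 𝔍 := by
  classical
  intro E _ _ K hK ψ hψ
  obtain ⟨k, hk⟩ := hψ
  let algT : Algebra A (SymmetricAlgebra (B ⧸ 𝔍) 𝔍.Cotangent) :=
    ((algebraMap (B ⧸ 𝔍) (SymmetricAlgebra (B ⧸ 𝔍) 𝔍.Cotangent)).comp
      (algebraMap A (B ⧸ 𝔍))).toAlgebra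
  have towT : IsScalarTower A (B ⧸ 𝔍) (SymmetricAlgebra (B ⧸ 𝔍) 𝔍.Cotangent) :=
    IsScalarTower.of_algebraMap_eq (fun _ => rfl)
  have hsmT : Algebra.FormallySmooth A (SymmetricAlgebra (B ⧸ 𝔍) 𝔍.Cotangent) :=
    haveI : Algebra.FormallySmooth (B ⧸ 𝔍) (SymmetricAlgebra (B ⧸ 𝔍) 𝔍.Cotangent) :=
      SymSmooth.formallySmooth
    Algebra.FormallySmooth.comp A (B ⧸ 𝔍) _
  have hN : 2 ≤ 2 * (k + 1) := by omega
  obtain ⟨s, ρ, hs, hρ1, hρ2⟩ := exists_rho (A := A) 𝔍 (2 * (k + 1)) hN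
  have hk' : ∀ x ∈ 𝔍 ^ (k + 1), ψ x = 0 :=
    fun x hx => hk x (Ideal.pow_le_pow_right (Nat.le_succ k) hx)
  let ψN : (B ⧸ 𝔍 ^ (2 * (k + 1))) →ₐ[A] E ⧸ K :=
    Ideal.Quotient.liftₐ (𝔍 ^ (2 * (k + 1))) ψ
      (fun x hx => hk' x (Ideal.pow_le_pow_right (by omega) hx))
  have hψN : ∀ b : B, ψN (Ideal.Quotient.mk _ b) = ψ b := fun b => rfl
  let χT : SymmetricAlgebra (B ⧸ 𝔍) 𝔍.Cotangent →ₐ[A] E :=
    Algebra.FormallySmooth.lift K ⟨2, hK⟩ (ψN.comp ρ)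
  have hχT : ∀ y, Ideal.Quotient.mk K (χT y) = ψN (ρ y) :=
    fun y => Algebra.FormallySmooth.mk_lift K ⟨2, hK⟩ (ψN.comp ρ) y
  -- χT maps aug^(k+1) into K
  have h1 : (aug (B ⧸ 𝔍) 𝔍.Cotangent ^ (k + 1)).map χT ≤ K := by
    rw [Ideal.map_le_iff_le_comap]
    intro y hy
    rw [Ideal.mem_comap, ← Ideal.Quotient.eq_zero_iff_mem, hχT]
    have h2 := rho_mem_pow 𝔍 hN s ρ hs hρ1 hρ2 (k + 1) y hy
    rw [← Ideal.map_pow, Ideal.mem_map_iff_of_surjective _ Ideal.Quotient.mk_surjective] at h2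
    obtain ⟨b, hb, hby⟩ := h2
    rw [← hby, hψN, hk' b hb]
  have h3 : ∀ y ∈ aug (B ⧸ 𝔍) 𝔍.Cotangent ^ (2 * (k + 1)), χT y = 0 := by
    intro y hy
    have h4 : (aug (B ⧸ 𝔍) 𝔍.Cotangent ^ (2 * (k + 1))).map χT ≤ K ^ 2 := by
      rw [mul_comm, pow_mul, Ideal.map_pow]
      exact Ideal.pow_right_mono h1 2
    have := h4 (Ideal.mem_map_of_mem χT hy)
    rwa [hK, Ideal.mem_bot] at this
  have hker : RingHom.ker ρ.toRingHom ≤ RingHom.ker χT.toRingHom := by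
    intro y hy
    rw [RingHom.mem_ker]
    exact h3 y (ker_rho_le 𝔍 hN s ρ hs hρ1 hρ2 hSym y hy)
  have hρs : Function.Surjective ρ := rho_surjective 𝔍 hN s ρ hs hρ1 hρ2
  let χN : (B ⧸ 𝔍 ^ (2 * (k + 1))) →ₐ[A] E := AlgHom.liftOfSurjective ρ hρs χT hker
  have hχN : ∀ y, χN (ρ y) = χT y := fun y => AlgHom.liftOfSurjective_apply ρ hρs χT hker y
  refine ⟨χN.comp (Ideal.Quotient.mkₐ A (𝔍 ^ (2 * (k + 1)))), ?_⟩
  refine AlgHom.ext fun b => ?_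
  obtain ⟨y, hy⟩ := hρs (Ideal.Quotient.mk (𝔍 ^ (2 * (k + 1))) b)
  show Ideal.Quotient.mk K (χN (Ideal.Quotient.mk (𝔍 ^ (2 * (k + 1))) b)) = ψ b
  rw [← hy, hχN, hχT, hy, hψN]

end Main

end Groth.Agent.H91.AdicSmooth
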