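import Groth.Prelude.Def_Magnet3
import Groth.Prelude.Def_ActBC

/-!
# Iterated base change of monoid actions (helper91)
-/

set_option autoImplicit false
universe u
open CategoryTheory CategoryTheory.Limits MonoidalCategory CartesianMonoidalCategory MonObj
  AlgebraicGeometry Opposite

namespace Groth.Agent.H91.BcComp

open Magnet ActBC

variable {S S' S'' : Scheme.{u}} (f : S'' ⟶ S') (g : S' ⟶ S) {d : S'' ⟶ S}
  {A X Y : Over S} [MonObj A]

/-- `bcCompIso` intertwines the twice base-changed action with the once base-changed one. -/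
theorem act_bcCompIso (h : f ≫ g = d) (a : MonAct A X) :
    ((a.bc g).bc f).act ≫ (bcCompIso f g X h).hom =
      ((bcCompIso f g A h).hom ⊗ₘ (bcCompIso f g X h).hom) ≫ (a.bc d).act := by
  ext
  apply pullback.hom_ext
  · simp only [MonAct.bc_act, Over.comp_left, Category.assoc,
      bcCompIso_hom_left_fst, pullback_map_left_fst, pullback_map_left_fst_assoc]
    simp only [← Category.assoc]
    congr 1
    simp only [Category.assoc]
    apply pullback.hom_ext
    · simp only [Category.assoc]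
      rw [μ_left_fst_fst, μ_left_fst_fst_assoc, μ_left_fst_fst, tensorHom_left_fst'_assoc,
        bcCompIso_hom_left_fst]
    · simp only [Category.assoc]
      rw [μ_left_fst_snd, μ_left_fst_snd_assoc, μ_left_fst_snd, tensorHom_left_snd'_assoc,
        bcCompIso_hom_left_fst]
  · exact (Over.w _).trans (Over.w _).symm


section General

variable {C : Type*} [Category C] [CartesianMonoidalCategory C]
  {A A' B B' X X' : C} [MonObj A] [MonObj A']

/-- transport of equivariance along isomorphisms intertwining the actions. -/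
theorem isEquivariant_conj_iff (ρ : MonAct A B) (a : MonAct A X) (ρ' : MonAct A' B')
    (a' : MonAct A' X') (cA : A' ≅ A) (cB : B' ≅ B) (cX : X' ≅ X)
    (hB : ρ'.act ≫ cB.hom = (cA.hom ⊗ₘ cB.hom) ≫ ρ.act)
    (hX : a'.act ≫ cX.hom = (cA.hom ⊗ₘ cX.hom) ≫ a.act) (ψ : B ⟶ X) :
    MonAct.IsEquivariant ρ a ψ ↔ MonAct.IsEquivariant ρ' a' (cB.hom ≫ ψ ≫ cX.inv) := by
  unfold MonAct.IsEquivariant
  have hX' : a'.act = (cA.hom ⊗ₘ cX.hom) ≫ a.act ≫ cX.inv := by
    rw [← Category.assoc, ← hX, Category.assoc, Iso.hom_inv_id, Category.comp_id]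
  have e1 : ρ'.act ≫ cB.hom ≫ ψ ≫ cX.inv = (cA.hom ⊗ₘ cB.hom) ≫ (ρ.act ≫ ψ) ≫ cX.inv := by
    rw [← Category.assoc, hB]
    simp only [Category.assoc]
  have e2 : (A' ◁ (cB.hom ≫ ψ ≫ cX.inv)) ≫ a'.act =
      (cA.hom ⊗ₘ cB.hom) ≫ ((A ◁ ψ) ≫ a.act) ≫ cX.inv := by
    rw [hX', ← id_tensorHom, ← id_tensorHom]
    simp only [← Category.assoc]
    rw [tensorHom_comp_tensorHom, tensorHom_comp_tensorHom]
    simp only [Category.assoc, Iso.inv_hom_id, Category.comp_id, Category.id_comp]
  rw [e1, e2]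
  constructor
  · intro h
    rw [h]
  · intro h
    have h2 := (cancel_epi (cA.hom ⊗ₘ cB.hom)).mp h
    exact (cancel_mono cX.inv).mp h2

end General

/-- conjugation by `bcCompIso` on equivariant morphisms. -/
noncomputable def conjEquiv (h : f ≫ g = d) {B : Over S} (ρ : MonAct A B) (a : MonAct A X) :
    {ψ' : Red.bc d B ⟶ Red.bc d X // MonAct.IsEquivariant (ρ.bc d) (a.bc d) ψ'} ≃
      {ψ : Red.bc f (Red.bc g B) ⟶ Red.bc f (Red.bc g X) //
        MonAct.IsEquivariant ((ρ.bc g).bc f) ((a.bc g).bc f) ψ} :=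
  Equiv.subtypeEquiv (Iso.homCongr (bcCompIso f g B h).symm (bcCompIso f g X h).symm)
    (fun ψ' => by
      rw [isEquivariant_conj_iff (ρ.bc d) (a.bc d) ((ρ.bc g).bc f) ((a.bc g).bc f)
        (bcCompIso f g A h) (bcCompIso f g B h) (bcCompIso f g X h)
        (act_bcCompIso f g h ρ) (act_bcCompIso f g h a) ψ']
      rfl)

theorem conjEquiv_apply_coe (h : f ≫ g = d) {B : Over S} (ρ : MonAct A B) (a : MonAct A X)
    (ψ' : {ψ' : Red.bc d B ⟶ Red.bc d X // MonAct.IsEquivariant (ρ.bc d) (a.bc d) ψ'}) :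
    (conjEquiv f g h ρ a ψ').1 =
      (bcCompIso f g B h).hom ≫ ψ'.1 ≫ (bcCompIso f g X h).inv := rfl

end Groth.Agent.H91.BcComp
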