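import Mathlib
import Groth.Prelude.Def_QuadSing

/-!
# Quadratic forms in coordinates: Taylor expansion and the consequence of ordinarity (for S4007)

* `quadEval_add`: `Q(y + δ) = Q(y) + Σ_i (M y)_i δ_i + Q(δ)` with `M` the polar matrix.
* `sq_le_of_quadOrd`: for an ordinary quadratic form `Q` over an algebraically closed field `k`
  and any family `y` in a `k`-algebra `B`, `(y)² ⊆ (M y)·(y) + (Q(y))`.
-/

set_option autoImplicit false
universe u v

namespace Groth.Agent.H91.QuadOrdA

open VanCyc

section Ring

variable {R : Type u} [CommRing R] {N : ℕ}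

theorem polarMatrix_eq (a : Fin N → Fin N → R) (i j : Fin N) :
    polarMatrix a i j = (if j ≤ i then a j i else 0) + (if i ≤ j then a i j else 0) := by
  unfold polarMatrix
  rcases lt_trichotomy i j with h | h | h
  · have h1 : ¬ j ≤ i := not_le.mpr h
    have h2 : i ≠ j := ne_of_lt h
    simp [h1, h2, h, le_of_lt h]
  · subst h
    simp [two_mul]
  · have h1 : ¬ i ≤ j := not_le.mpr h
    have h2 : i ≠ j := ne_of_gt h
    have h3 : ¬ i < j := not_lt.mpr (le_of_lt h)
    simp [h1, h2, h3, le_of_lt h]

theorem polarMatrix_symm (a : Fin N → Fin N → R) (i j : Fin N) :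
    polarMatrix a i j = polarMatrix a j i := by
  rw [polarMatrix_eq, polarMatrix_eq, add_comm]

/-- the linear forms `(M y)_i`. -/
noncomputable def lin (a : Fin N → Fin N → R) (y : Fin N → R) (i : Fin N) : R :=
  ∑ j, polarMatrix a i j * y j

theorem lin_eq_mulVec (a : Fin N → Fin N → R) (y : Fin N → R) :
    lin a y = (polarMatrix a).mulVec y := by
  funext i
  rfl

theorem lin_add (a : Fin N → Fin N → R) (y z : Fin N → R) (i : Fin N) :
    lin a (y + z) i = lin a y i + lin a z i := by
  simp only [lin, Pi.add_apply, mul_add, Finset.sum_add_distrib]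

theorem lin_smul (a : Fin N → Fin N → R) (c : R) (y : Fin N → R) (i : Fin N) :
    lin a (c • y) i = c * lin a y i := by
  simp only [lin, Pi.smul_apply, smul_eq_mul, Finset.mul_sum]
  exact Finset.sum_congr rfl fun j _ => by ring

theorem lin_mem (a : Fin N → Fin N → R) (y : Fin N → R) (I : Ideal R) (hy : ∀ i, y i ∈ I)
    (i : Fin N) : lin a y i ∈ I :=
  sum_mem fun j _ => Ideal.mul_mem_left _ _ (hy j)

/-- symmetric pairing `Σ_i (M y)_i δ_i`. -/
theorem sum_lin_mul_comm (a : Fin N → Fin N → R) (y z : Fin N → R) :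
    ∑ i, lin a y i * z i = ∑ i, lin a z i * y i := by
  simp only [lin, Finset.sum_mul]
  rw [Finset.sum_comm]
  refine Finset.sum_congr rfl fun i _ => Finset.sum_congr rfl fun j _ => ?_
  rw [polarMatrix_symm a j i]
  ring

theorem quadEval_add (a : Fin N → Fin N → R) (y δ : Fin N → R) :
    quadEval a (y + δ) = quadEval a y + ∑ i, lin a y i * δ i + quadEval a δ := by
  have h1 : ∑ i, lin a y i * δ i =
      ∑ i, ∑ j, ((if j ≤ i then a j i * y j * δ i else 0) +
        (if i ≤ j then a i j * δ i * y j else 0)) := by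
    simp only [lin, Finset.sum_mul]
    refine Finset.sum_congr rfl fun i _ => Finset.sum_congr rfl fun j _ => ?_
    rw [polarMatrix_eq]
    split_ifs <;> ring
  have h2 : ∑ i : Fin N, ∑ j : Fin N, (if j ≤ i then a j i * y j * δ i else 0) =
      ∑ i : Fin N, ∑ j : Fin N, (if i ≤ j then a i j * y i * δ j else 0) := by
    rw [Finset.sum_comm]
  simp only [Finset.sum_add_distrib] at h1
  rw [h1, h2]
  unfold quadEval
  simp only [← Finset.sum_add_distrib]
  refine Finset.sum_congr rfl fun i _ => Finset.sum_congr rfl fun j _ => ?_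
  simp only [Pi.add_apply]
  split_ifs <;> ring

theorem quadEval_smul (a : Fin N → Fin N → R) (c : R) (y : Fin N → R) :
    quadEval a (c • y) = c ^ 2 * quadEval a y := by
  unfold quadEval
  simp only [Finset.mul_sum, Pi.smul_apply, smul_eq_mul]
  refine Finset.sum_congr rfl fun i _ => Finset.sum_congr rfl fun j _ => ?_
  split_ifs <;> ring

theorem quadEval_neg (a : Fin N → Fin N → R) (y : Fin N → R) :
    quadEval a (-y) = quadEval a y := by
  have : -y = (-1 : R) • y := by simp
  rw [this, quadEval_smul]
  ring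

theorem quadEval_mem_mul (a : Fin N → Fin N → R) (I : Ideal R) (δ : Fin N → R)
    (h : ∀ i, δ i ∈ I) : quadEval a δ ∈ I * I := by
  unfold quadEval
  refine sum_mem fun i _ => sum_mem fun j _ => ?_
  split_ifs
  · rw [mul_assoc]
    exact Ideal.mul_mem_left _ _ (Ideal.mul_mem_mul (h i) (h j))
  · exact zero_mem _

theorem quadEval_map {S : Type v} [CommRing S] (φ : R →+* S) (a : Fin N → Fin N → R)
    (y : Fin N → R) :
    φ (quadEval a y) = quadEval (fun i j => φ (a i j)) (fun i => φ (y i)) := by
  unfold quadEval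
  simp only [map_sum]
  refine Finset.sum_congr rfl fun i _ => Finset.sum_congr rfl fun j _ => ?_
  split_ifs
  · simp only [map_mul]
  · exact map_zero φ

theorem polarMatrix_map {S : Type v} [CommRing S] (φ : R →+* S) (a : Fin N → Fin N → R)
    (i j : Fin N) :
    polarMatrix (fun i j => φ (a i j)) i j = φ (polarMatrix a i j) := by
  unfold polarMatrix
  split_ifs
  · simp only [map_mul, map_ofNat]
  · rfl
  · rfl

theorem lin_map {S : Type v} [CommRing S] (φ : R →+* S) (a : Fin N → Fin N → R)
    (y : Fin N → R) (i : Fin N) :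
    φ (lin a y i) = lin (fun i j => φ (a i j)) (fun i => φ (y i)) i := by
  simp only [lin, map_sum, map_mul, polarMatrix_map]

end Ring

end Groth.Agent.H91.QuadOrdA
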