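import Mathlib
import Groth.Agent.H91.QuadOrdA

/-!
# Ordinary quadratic forms: the key ideal inclusion (for S4007)

For an ordinary quadratic form `Q` (table `a`) over an algebraically closed field `k` and a family
`y` in a `k`-algebra `B`:  `(y)² ⊆ (M y)·(y) + (Q(y))`, where `M y` are the partial derivatives.
-/

set_option autoImplicit false
universe u v

namespace Groth.Agent.H91.QuadOrdB

open VanCyc Groth.Agent.H91.QuadOrdA

section Field

variable {k : Type u} [Field k] {N : ℕ}

theorem exists_lin_eq (a : Fin N → Fin N → k) (w : Fin N → k) (p : Fin N) (hwp : w p ≠ 0)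
    (hw : ∀ i, lin a w i = 0)
    (hker : ∀ v : Fin N → k, (∀ i, lin a v i = 0) → ∃ c : k, v = c • w)
    (u : Fin N → k) (hu : ∑ i, w i * u i = 0) : ∃ v : Fin N → k, ∀ i, lin a v i = u i := by
  classical
  let T : (Fin N → k) →ₗ[k] (Fin N → k) :=
    { toFun := fun v i => lin a v i + (if i = p then v p else 0)
      map_add' := fun v v' => by
        funext i
        simp only [lin_add, Pi.add_apply]
        split_ifs <;> ring
      map_smul' := fun c v => by
        funext i
        simp only [lin_smul, Pi.smul_apply, smul_eq_mul, RingHom.id_apply]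
        split_ifs <;> ring }
  have hT : ∀ v i, T v i = lin a v i + (if i = p then v p else 0) := fun v i => rfl
  have key : ∀ v, ∑ i, w i * T v i = w p * v p := by
    intro v
    simp only [hT, mul_add, Finset.sum_add_distrib]
    have h1 : ∑ i, w i * lin a v i = 0 := by
      have := sum_lin_mul_comm a v w
      simp only [hw, zero_mul, Finset.sum_const_zero] at this
      rw [← this]
      exact Finset.sum_congr rfl fun i _ => mul_comm _ _
    rw [h1, zero_add]
    simp
  have hinj : Function.Injective T := by
    rw [← LinearMap.ker_eq_bot, LinearMap.ker_eq_bot']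
    intro v hv
    have h1 : w p * v p = 0 := by
      rw [← key v, hv]
      simp
    have hvp : v p = 0 := (mul_eq_zero.mp h1).resolve_left hwp
    have h2 : ∀ i, lin a v i = 0 := by
      intro i
      have := congrFun hv i
      rw [hT, hvp] at this
      simpa using this
    obtain ⟨c, rfl⟩ := hker v h2
    have : c * w p = 0 := hvp
    have hc : c = 0 := (mul_eq_zero.mp this).resolve_right hwp
    rw [hc, zero_smul]
  have hsurj : Function.Surjective T := LinearMap.injective_iff_surjective.mp hinj
  obtain ⟨v, hv⟩ := hsurj u
  have h1 : w p * v p = 0 := by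
    rw [← key v, hv, hu]
  have hvp : v p = 0 := (mul_eq_zero.mp h1).resolve_left hwp
  refine ⟨v, fun i => ?_⟩
  have := congrFun hv i
  rw [hT, hvp] at this
  simpa using this

theorem ker_structure [IsAlgClosed k] (a : Fin N → Fin N → k) (ha : QuadOrd a)
    (w : Fin N → k) (hw0 : w ≠ 0) (hw : ∀ i, lin a w i = 0) :
    quadEval a w ≠ 0 ∧ ∀ v : Fin N → k, (∀ i, lin a v i = 0) → ∃ c : k, v = c • w := by
  have hQw : quadEval a w ≠ 0 := by
    intro h
    apply hw0
    apply ha w h
    rw [← lin_eq_mulVec]
    funext i
    exact hw i
  refine ⟨hQw, fun v hv => ?_⟩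
  obtain ⟨c, hc⟩ := IsAlgClosed.exists_pow_nat_eq (-(quadEval a v) / quadEval a w)
    (by norm_num : 0 < 2)
  have h1 : quadEval a (v + c • w) = 0 := by
    rw [quadEval_add, quadEval_smul, hc]
    simp only [hv, zero_mul, Finset.sum_const_zero, add_zero]
    field_simp
    ring
  have h2 : (polarMatrix a).mulVec (v + c • w) = 0 := by
    rw [← lin_eq_mulVec]
    funext i
    rw [lin_add, lin_smul, hv, hw]
    simp
  have h3 := ha _ h1 h2
  refine ⟨-c, ?_⟩
  rw [neg_smul, eq_neg_iff_add_eq_zero]
  exact h3

end Field

section Main

variable {k : Type u} [Field k] [IsAlgClosed k] {N : ℕ} {B : Type v} [CommRing B] [Algebra k B]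

/-- the table of `Q` with coefficients mapped to `B`. -/
abbrev tab (B : Type v) [CommRing B] [Algebra k B] (a : Fin N → Fin N → k) : Fin N → Fin N → B :=
  fun i j => algebraMap k B (a i j)

theorem sum_smul_lin (a : Fin N → Fin N → k) (v : Fin N → k) (y : Fin N → B) :
    ∑ l, algebraMap k B (v l) * lin (tab B a) y l =
      ∑ i, algebraMap k B (lin a v i) * y i := by
  have h1 : ∀ i, algebraMap k B (lin a v i) = lin (tab B a) (fun i => algebraMap k B (v i)) i :=
    fun i => lin_map (algebraMap k B) a v i
  simp only [h1]
  have := sum_lin_mul_comm (tab B a) y (fun i => algebraMap k B (v i))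
  rw [← this]
  exact Finset.sum_congr rfl fun i _ => mul_comm _ _

theorem sq_le_of_quadOrd (a : Fin N → Fin N → k) (ha : QuadOrd a) (y : Fin N → B) :
    Ideal.span (Set.range y) ^ 2 ≤
      Ideal.span (Set.range (lin (tab B a) y)) * Ideal.span (Set.range y) +
        Ideal.span {quadEval (tab B a) y} := by
  classical
  set I := Ideal.span (Set.range y) with hI
  set J := Ideal.span (Set.range (lin (tab B a) y)) with hJ
  have hyI : ∀ i, y i ∈ I := fun i => Ideal.subset_span ⟨i, rfl⟩
  have hlJ : ∀ i, lin (tab B a) y i ∈ J := fun i => Ideal.subset_span ⟨i, rfl⟩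
  have hJI : J ≤ I := by
    rw [hJ, Ideal.span_le]
    rintro _ ⟨i, rfl⟩
    exact lin_mem _ _ _ hyI i
  by_cases hker : ∀ w : Fin N → k, (∀ i, lin a w i = 0) → w = 0
  · -- nondegenerate case: `I = J`
    have hinj : Function.Injective (fun v : Fin N → k => lin a v) := by
      intro v v' hvv'
      have : v - v' = 0 := by
        apply hker
        intro i
        have h1 : lin a (v - v') i = lin a v i - lin a v' i := by
          have : v - v' = v + (-1 : k) • v' := by
            funext j; simp [sub_eq_add_neg]
          rw [this, lin_add, lin_smul]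
          ring
        have h2 : lin a v i = lin a v' i := congrFun hvv' i
        rw [h1, h2, sub_self]
      exact sub_eq_zero.mp this
    let T : (Fin N → k) →ₗ[k] (Fin N → k) :=
      { toFun := fun v => lin a v
        map_add' := fun v v' => by funext i; exact lin_add a v v' i
        map_smul' := fun c v => by funext i; exact lin_smul a c v i }
    have hsurj : Function.Surjective T := LinearMap.injective_iff_surjective.mp hinj
    have hIJ : I ≤ J := by
      rw [hI, Ideal.span_le]
      rintro _ ⟨j, rfl⟩
      obtain ⟨v, hv⟩ := hsurj (Pi.single j 1)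
      have h1 := sum_smul_lin (B := B) a v y
      have h2 : ∑ i, algebraMap k B (lin a v i) * y i = y j := by
        have : ∀ i, lin a v i = (Pi.single j 1 : Fin N → k) i := fun i => congrFun hv i
        simp only [this]
        rw [Finset.sum_eq_single j]
        · simp
        · intro i _ hij
          simp [Pi.single_apply, hij]
        · intro h; exact absurd (Finset.mem_univ j) h
      rw [SetLike.mem_coe, ← h2, ← h1]
      exact sum_mem fun l _ => Ideal.mul_mem_left _ _ (hlJ l)
    calc I ^ 2 = I * I := pow_two I
      _ ≤ J * I := Ideal.mul_mono_left hIJ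
      _ ≤ J * I + Ideal.span {quadEval (tab B a) y} := le_sup_left
  · -- degenerate case
    push Not at hker
    obtain ⟨w, hw, hw0⟩ := hker
    obtain ⟨hQw, hstruct⟩ := ker_structure a ha w hw0 hw
    obtain ⟨p, hwp⟩ : ∃ p, w p ≠ 0 := by
      by_contra h
      push Not at h
      exact hw0 (funext h)
    -- `e j = y j - (w j / w p) y p ∈ J`
    set t : B := algebraMap k B (w p)⁻¹ * y p with ht
    set e : Fin N → B := fun j => y j - algebraMap k B (w j) * t with he
    have heJ : ∀ j, e j ∈ J := by
      intro j
      obtain ⟨v, hv⟩ := exists_lin_eq a w p hwp hw hstruct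
        (fun i => (if i = j then 1 else 0) - (if i = p then w j / w p else 0)) (by
          simp only [mul_sub, Finset.sum_sub_distrib, mul_ite, mul_one, mul_zero,
            Finset.sum_ite_eq', Finset.mem_univ, if_true]
          field_simp
          ring)
      have h1 := sum_smul_lin (B := B) a v y
      have h2 : ∑ i, algebraMap k B (lin a v i) * y i = e j := by
        simp only [hv, map_sub, sub_mul, Finset.sum_sub_distrib]
        have e1 : ∑ i, algebraMap k B (if i = j then (1 : k) else 0) * y i = y j := by
          rw [Finset.sum_eq_single j]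
          · simp
          · intro i _ hij; simp [hij]
          · intro h; exact absurd (Finset.mem_univ j) h
        have e2 : ∑ i, algebraMap k B (if i = p then w j / w p else 0) * y i =
            algebraMap k B (w j) * t := by
          rw [Finset.sum_eq_single p]
          · simp only [if_true, ht, div_eq_mul_inv, map_mul]
            ring
          · intro i _ hip; simp [hip]
          · intro h; exact absurd (Finset.mem_univ p) h
        rw [e1, e2]
      rw [← h2, ← h1]
      exact sum_mem fun l _ => Ideal.mul_mem_left _ _ (hlJ l)
    -- `y = t • w + e`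
    have hy : y = t • (fun i => algebraMap k B (w i)) + e := by
      funext j
      simp only [Pi.add_apply, Pi.smul_apply, smul_eq_mul, he]
      ring
    -- `t² ∈ J I + (Q y)`
    set X := J * I + Ideal.span {quadEval (tab B a) y} with hX
    have hQy : quadEval (tab B a) y ∈ X :=
      Ideal.mem_sup_right (Ideal.mem_span_singleton_self _)
    have hJJ : J * J ≤ X := (Ideal.mul_mono_right hJI).trans le_sup_left
    have hlinw : ∀ i, lin (tab B a) (fun i => algebraMap k B (w i)) i = 0 := by
      intro i
      rw [← lin_map (algebraMap k B) a w i, hw, map_zero]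
    have hQ1 : quadEval (tab B a) y =
        t ^ 2 * algebraMap k B (quadEval a w) + quadEval (tab B a) e := by
      conv_lhs => rw [hy]
      rw [quadEval_add, quadEval_smul, ← quadEval_map (algebraMap k B) a w]
      simp only [lin_smul, hlinw, mul_zero, zero_mul, Finset.sum_const_zero, add_zero]
    have ht2 : t ^ 2 ∈ X := by
      have h1 : t ^ 2 * algebraMap k B (quadEval a w) ∈ X := by
        have : t ^ 2 * algebraMap k B (quadEval a w) =
            quadEval (tab B a) y - quadEval (tab B a) e := by
          rw [hQ1]; ring
        rw [this]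
        exact X.sub_mem hQy (hJJ (quadEval_mem_mul _ J e heJ))
      have h2 : t ^ 2 = (t ^ 2 * algebraMap k B (quadEval a w)) *
          algebraMap k B (quadEval a w)⁻¹ := by
        rw [mul_assoc, ← map_mul, mul_inv_cancel₀ hQw, map_one, mul_one]
      rw [h2]
      exact Ideal.mul_mem_right _ _ h1
    -- conclusion
    rw [pow_two, hI, Ideal.span_mul_span', Ideal.span_le]
    rintro _ ⟨_, ⟨i, rfl⟩, _, ⟨j, rfl⟩, rfl⟩
    have h1 : y i * y j = e i * y j + algebraMap k B (w i) * t * e j +
        algebraMap k B (w i) * algebraMap k B (w j) * t ^ 2 := by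
      simp only [he]
      ring
    change y i * y j ∈ X
    rw [h1]
    refine X.add_mem (X.add_mem ?_ ?_) ?_
    · exact Ideal.mem_sup_left (Ideal.mul_mem_mul (heJ i) (hyI j))
    · have : algebraMap k B (w i) * t * e j = e j * (algebraMap k B (w i) * t) := by ring
      rw [this]
      refine Ideal.mem_sup_left (Ideal.mul_mem_mul (heJ j) ?_)
      rw [ht]
      exact Ideal.mul_mem_left _ _ (Ideal.mul_mem_left _ _ (hyI p))
    · exact Ideal.mul_mem_left _ _ ht2

end Main

end Groth.Agent.H91.QuadOrdB
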