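import Mathlib
import Groth.Agent.H91.QuadOrdB
import Groth.Agent.H26.ComplQuot

/-!
# Solving `Q(y) = 0` in a complete local ring from an approximate solution (for S4007)

`B` a complete Noetherian local `k`-algebra (`k` algebraically closed), `Q` an ordinary quadratic
form over `k`, `y₀` a system of generators of `𝔪_B` with `Q(y₀) ∈ 𝔪³`.  Then there is `y ≡ y₀`
modulo `𝔪²` with `Q(y) = 0`.
-/

set_option autoImplicit false
universe u v

namespace Groth.Agent.H91.QuadOrdC

open VanCyc IsLocalRing Groth.Agent.H91.QuadOrdA Groth.Agent.H91.QuadOrdB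

section Decomp

variable {B : Type v} [CommRing B] {N : ℕ}

theorem exists_sum_of_mem_span_mul (ℓ : Fin N → B) (K : Ideal B) (x : B)
    (hx : x ∈ Ideal.span (Set.range ℓ) * K) :
    ∃ δ : Fin N → B, (∀ i, δ i ∈ K) ∧ x = ∑ i, ℓ i * δ i := by
  refine Submodule.mul_induction_on hx ?_ ?_
  · intro r hr s hs
    obtain ⟨c, rfl⟩ := Ideal.mem_span_range_iff_exists_fun.mp hr
    refine ⟨fun i => c i * s, fun i => Ideal.mul_mem_left _ _ hs, ?_⟩
    rw [Finset.sum_mul]
    exact Finset.sum_congr rfl fun i _ => by ring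
  · rintro x y ⟨δ, hδ, rfl⟩ ⟨δ', hδ', rfl⟩
    refine ⟨δ + δ', fun i => K.add_mem (hδ i) (hδ' i), ?_⟩
    rw [← Finset.sum_add_distrib]
    exact Finset.sum_congr rfl fun i _ => by simp only [Pi.add_apply]; ring

end Decomp

variable {k : Type u} [Field k] [IsAlgClosed k] {N : ℕ}
  {B : Type v} [CommRing B] [IsLocalRing B] [IsNoetherianRing B] [Algebra k B]

theorem span_eq_of_sub_mem_sq (y y' : Fin N → B)
    (hy : Ideal.span (Set.range y) = maximalIdeal B)
    (h : ∀ i, y' i - y i ∈ maximalIdeal B ^ 2) :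
    Ideal.span (Set.range y') = maximalIdeal B := by
  have hyM : ∀ i, y i ∈ maximalIdeal B := fun i => hy ▸ Ideal.subset_span ⟨i, rfl⟩
  apply le_antisymm
  · rw [Ideal.span_le]
    rintro _ ⟨i, rfl⟩
    have : y' i = y i + (y' i - y i) := by ring
    rw [SetLike.mem_coe, this]
    exact (maximalIdeal B).add_mem (hyM i) (Ideal.pow_le_self two_ne_zero (h i))
  · apply Submodule.le_of_le_smul_of_le_jacobson_bot (IsNoetherian.noetherian _)
      (maximalIdeal_le_jacobson _)
    rw [← hy, Ideal.span_le]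
    rintro _ ⟨i, rfl⟩
    have : y i = y' i + -(y' i - y i) := by ring
    rw [SetLike.mem_coe, this]
    refine Submodule.add_mem_sup (Ideal.subset_span ⟨i, rfl⟩) ?_
    rw [hy, smul_eq_mul, ← pow_two]
    exact (Ideal.neg_mem_iff _).mpr (h i)

theorem sq_le (a : Fin N → Fin N → k) (ha : QuadOrd a) (y : Fin N → B)
    (hy : Ideal.span (Set.range y) = maximalIdeal B)
    (hQ : quadEval (tab B a) y ∈ maximalIdeal B ^ 3) :
    maximalIdeal B ^ 2 ≤ Ideal.span (Set.range (lin (tab B a) y)) * maximalIdeal B := by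
  have h1 := sq_le_of_quadOrd (B := B) a ha y
  rw [hy] at h1
  apply Submodule.le_of_le_smul_of_le_jacobson_bot (IsNoetherian.noetherian _)
    (maximalIdeal_le_jacobson _)
  refine h1.trans (sup_le le_sup_left (le_sup_of_le_right ?_))
  rw [Ideal.span_le, Set.singleton_subset_iff, smul_eq_mul, ← pow_succ']
  exact hQ

theorem pow_le (a : Fin N → Fin N → k) (ha : QuadOrd a) (y : Fin N → B)
    (hy : Ideal.span (Set.range y) = maximalIdeal B)
    (hQ : quadEval (tab B a) y ∈ maximalIdeal B ^ 3) (n : ℕ) :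
    maximalIdeal B ^ (n + 2) ≤
      Ideal.span (Set.range (lin (tab B a) y)) * maximalIdeal B ^ (n + 1) := by
  have h1 := sq_le a ha y hy hQ
  calc maximalIdeal B ^ (n + 2) = maximalIdeal B ^ 2 * maximalIdeal B ^ n := by
        rw [← pow_add, add_comm]
    _ ≤ (Ideal.span (Set.range (lin (tab B a) y)) * maximalIdeal B) * maximalIdeal B ^ n :=
        Ideal.mul_mono_left h1
    _ = Ideal.span (Set.range (lin (tab B a) y)) * maximalIdeal B ^ (n + 1) := by
        rw [mul_assoc, ← pow_succ']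

theorem step (a : Fin N → Fin N → k) (ha : QuadOrd a) (n : ℕ) (y : Fin N → B)
    (hy : Ideal.span (Set.range y) = maximalIdeal B)
    (hQ : quadEval (tab B a) y ∈ maximalIdeal B ^ (n + 3)) :
    ∃ y' : Fin N → B, (∀ i, y' i - y i ∈ maximalIdeal B ^ (n + 2)) ∧
      Ideal.span (Set.range y') = maximalIdeal B ∧
      quadEval (tab B a) y' ∈ maximalIdeal B ^ (n + 4) := by
  have hQ3 : quadEval (tab B a) y ∈ maximalIdeal B ^ 3 :=
    Ideal.pow_le_pow_right (by omega) hQ
  have h1 := pow_le a ha y hy hQ3 (n + 1) hQ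
  obtain ⟨δ, hδ, hsum⟩ := exists_sum_of_mem_span_mul _ _ _ h1
  have hδ2 : ∀ i, (-δ) i ∈ maximalIdeal B ^ (n + 2) := fun i =>
    (Ideal.neg_mem_iff _).mpr (hδ i)
  refine ⟨y + -δ, fun i => ?_, ?_, ?_⟩
  · simpa using hδ2 i
  · apply span_eq_of_sub_mem_sq y _ hy
    intro i
    have : (y + -δ) i - y i = (-δ) i := by simp
    rw [this]
    exact Ideal.pow_le_pow_right (by omega) (hδ2 i)
  · rw [quadEval_add, hsum]
    have h2 : ∑ i, lin (tab B a) y i * δ i + ∑ i, lin (tab B a) y i * (-δ) i = 0 := by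
      rw [← Finset.sum_add_distrib]
      exact Finset.sum_eq_zero fun i _ => by simp
    rw [h2, zero_add]
    have h3 := quadEval_mem_mul (tab B a) _ _ hδ2
    rw [← pow_add] at h3
    exact Ideal.pow_le_pow_right (by omega) h3

theorem exists_zero_of_approx [IsAdicComplete (maximalIdeal B) B]
    (a : Fin N → Fin N → k) (ha : QuadOrd a) (y₀ : Fin N → B)
    (hy₀ : Ideal.span (Set.range y₀) = maximalIdeal B)
    (hQ : quadEval (tab B a) y₀ ∈ maximalIdeal B ^ 3) :
    ∃ y : Fin N → B, (∀ i, y i - y₀ i ∈ maximalIdeal B ^ 2) ∧ quadEval (tab B a) y = 0 := by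
  classical
  -- the state predicate
  let P : ℕ → (Fin N → B) → Prop := fun n y =>
    Ideal.span (Set.range y) = maximalIdeal B ∧
      quadEval (tab B a) y ∈ maximalIdeal B ^ (n + 3)
  have hstep : ∀ n y, P n y → ∃ y', (∀ i, y' i - y i ∈ maximalIdeal B ^ (n + 2)) ∧ P (n + 1) y' := by
    intro n y hP
    obtain ⟨y', h1, h2, h3⟩ := step a ha n y hP.1 hP.2
    exact ⟨y', h1, h2, h3⟩
  let next : ℕ → (Fin N → B) → (Fin N → B) := fun n y =>
    if h : P n y then (hstep n y h).choose else y
  let seq : ℕ → (Fin N → B) := fun n => Nat.rec y₀ (fun n y => next n y) n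
  have hseq0 : seq 0 = y₀ := rfl
  have hseqS : ∀ n, seq (n + 1) = next n (seq n) := fun n => rfl
  have hP : ∀ n, P n (seq n) := by
    intro n
    induction n with
    | zero => exact ⟨hy₀, hQ⟩
    | succ n ih =>
      rw [hseqS]
      simp only [next, dif_pos ih]
      exact (hstep n (seq n) ih).choose_spec.2
  have hdiff : ∀ n i, seq (n + 1) i - seq n i ∈ maximalIdeal B ^ (n + 2) := by
    intro n i
    rw [hseqS]
    simp only [next, dif_pos (hP n)]
    exact (hstep n (seq n) (hP n)).choose_spec.1 i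
  -- limits
  have hlim : ∀ i, ∃ L : B, ∀ n, seq n i - L ∈ maximalIdeal B ^ n := by
    intro i
    apply Groth.Agent.H26.ComplQuot.exists_limit_of_succ (maximalIdeal B) (fun n => seq n i)
    intro n
    exact Ideal.pow_le_pow_right (by omega) (hdiff n i)
  choose y hy using hlim
  have hsq : ∀ n i, seq n i - y₀ i ∈ maximalIdeal B ^ 2 := by
    intro n i
    induction n with
    | zero => rw [hseq0, sub_self]; exact zero_mem _
    | succ n ih =>
      have : seq (n + 1) i - y₀ i = (seq (n + 1) i - seq n i) + (seq n i - y₀ i) := by ring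
      rw [this]
      exact Ideal.add_mem _ (Ideal.pow_le_pow_right (by omega) (hdiff n i)) ih
  refine ⟨y, fun i => ?_, ?_⟩
  · have : y i - y₀ i = -(seq 2 i - y i) + (seq 2 i - y₀ i) := by ring
    rw [this]
    exact Ideal.add_mem _ ((Ideal.neg_mem_iff _).mpr (hy i 2)) (hsq 2 i)
  · -- `Q y ∈ ⋂ 𝔪^n`
    have hmem : ∀ n, quadEval (tab B a) y ∈ maximalIdeal B ^ n := by
      intro n
      have hd : ∀ i, (y - seq (n + 1)) i ∈ maximalIdeal B ^ (n + 1) := by
        intro i
        have : (y - seq (n + 1)) i = -(seq (n + 1) i - y i) := by simp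
        rw [this]
        exact (Ideal.neg_mem_iff _).mpr (hy i (n + 1))
      have hyeq : y = seq (n + 1) + (y - seq (n + 1)) := by
        funext i; simp
      rw [hyeq, quadEval_add]
      refine Ideal.add_mem _ (Ideal.add_mem _ ?_ ?_) ?_
      · exact Ideal.pow_le_pow_right (by omega) (hP (n + 1)).2
      · refine sum_mem fun i _ => Ideal.mul_mem_left _ _ ?_
        exact Ideal.pow_le_pow_right (by omega) (hd i)
      · have h3 := quadEval_mem_mul (tab B a) _ _ hd
        rw [← pow_add] at h3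
        exact Ideal.pow_le_pow_right (by omega) h3
    have hbot : (⨅ n : ℕ, maximalIdeal B ^ n) = ⊥ :=
      Ideal.iInf_pow_eq_bot_of_isLocalRing _ (Ideal.IsPrime.ne_top inferInstance)
    have : quadEval (tab B a) y ∈ (⨅ n : ℕ, maximalIdeal B ^ n) := by
      rw [Ideal.mem_iInf]
      exact hmem
    rw [hbot] at this
    exact this

end Groth.Agent.H91.QuadOrdC
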