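import Mathlib
import Groth.Agent.H91.QuadOrdC
import Groth.Agent.H44.MvPSDecomp
import Groth.Agent.H47.PSEvalGen
import Groth.Agent.H13.ComplIsoEtale3

/-!
# The formal Morse lemma for ordinary quadratic series (for S4007)

`k` algebraically closed, `f ∈ k[[x_1..x_N]]` without constant and linear terms whose quadratic
part `Q` is ordinary.  Then `k[[x]]/(Q) ≃ₐ[k] k[[x]]/(f)`.
-/

set_option autoImplicit false
universe u

namespace Groth.Agent.H91.QuadOrdD

open MvPowerSeries VanCyc IsLocalRing Finsupp
open Groth.Agent.H91.QuadOrdA Groth.Agent.H91.QuadOrdB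

variable {k : Type u} [Field k] {N : ℕ}

local notation "P" => MvPowerSeries (Fin N) k

theorem X_mem (i : Fin N) : (X i : P) ∈ maximalIdeal P := by
  rw [Groth.Agent.H44.mem_maximalIdeal_iff, constantCoeff_X]

instance : IsAdicComplete (maximalIdeal P) P := by
  rw [Groth.Agent.H44.maximalIdeal_eq_span_X']
  infer_instance

theorem support_min_iff (a b : Fin N) :
    ((single b 1 + single a 1 : Fin N →₀ ℕ).support.min = (a : WithTop (Fin N))) ↔ a ≤ b := by
  have ha : a ∈ (single b 1 + single a 1 : Fin N →₀ ℕ).support := by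
    rw [Finsupp.mem_support_iff, Finsupp.add_apply, Finsupp.single_eq_same]
    omega
  have hb : b ∈ (single b 1 + single a 1 : Fin N →₀ ℕ).support := by
    rw [Finsupp.mem_support_iff, Finsupp.add_apply, Finsupp.single_eq_same]
    omega
  constructor
  · intro h
    have h1 := Finset.min_le hb
    rw [h] at h1
    exact WithTop.coe_le_coe.mp h1
  · intro hab
    apply le_antisymm (Finset.min_le ha)
    apply Finset.le_min
    intro c hc
    rw [Finsupp.mem_support_iff, Finsupp.add_apply] at hc
    rw [WithTop.coe_le_coe]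
    by_cases hca : c = a
    · rw [hca]
    · by_cases hcb : c = b
      · rw [hcb]; exact hab
      · exfalso
        apply hc
        rw [Finsupp.single_eq_of_ne (Ne.symm hcb |>.symm), Finsupp.single_eq_of_ne (Ne.symm hca |>.symm)]
        rfl

theorem quadPart_eq (g : P) (a b : Fin N) (hab : a ≤ b) :
    quadPart g a b = coeff (single b 1 + single a 1) g := by
  unfold quadPart
  split_ifs with h1 h2
  · subst h1
    rw [← Finsupp.single_add]
  · rw [add_comm]
  · exact absurd (lt_of_le_of_ne hab h1) h2

/-- the polynomial `Q` as a power series. -/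
noncomputable abbrev qser (a : Fin N → Fin N → k) : P :=
  quadEval (tab P a) (fun i => (X i : P))

theorem qser_eq (a : Fin N → Fin N → k) :
    qser a = ∑ i, ∑ j, if i ≤ j then C (a i j) * X i * X j else 0 := by
  unfold qser quadEval
  refine Finset.sum_congr rfl fun i _ => Finset.sum_congr rfl fun j _ => ?_
  split_ifs
  · simp only [MvPowerSeries.algebraMap_apply, Algebra.algebraMap_self, RingHom.id_apply]
  · rfl

theorem coe_quadPoly (a : Fin N → Fin N → k) :
    ((quadPoly a : MvPolynomial (Fin N) k) : P) = qser a := by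
  rw [qser_eq, quadPoly]
  have : ∀ p : MvPolynomial (Fin N) k, (p : P) = MvPolynomial.coeToMvPowerSeries.ringHom p :=
    fun p => rfl
  rw [this, map_sum]
  refine Finset.sum_congr rfl fun i _ => ?_
  rw [map_sum]
  refine Finset.sum_congr rfl fun j _ => ?_
  split_ifs
  · rw [map_mul, map_mul]
    simp only [MvPolynomial.coeToMvPowerSeries.ringHom_apply, MvPolynomial.coe_C,
      MvPolynomial.coe_X]
  · exact map_zero _

theorem qser_mem_sq (a : Fin N → Fin N → k) : qser a ∈ maximalIdeal P ^ 2 := by
  rw [pow_two]
  exact quadEval_mem_mul _ _ _ X_mem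

/-- a series without constant and linear terms is congruent to its quadratic part mod `𝔪³`. -/
theorem sub_qser_mem_cube (g : P) (hg : NoLowTerms g) :
    g - qser (quadPart g) ∈ maximalIdeal P ^ 3 := by
  classical
  set h : Fin N → P := fun a => Groth.Agent.H44.leadPart g a with hh
  have hc : ∀ a, constantCoeff (h a) = 0 := by
    intro a
    rw [hh, Groth.Agent.H44.constantCoeff_leadPart]
    exact hg.2 a
  have e1 : g = ∑ a, X a * h a := Groth.Agent.H44.eq_sum_X_mul_leadPart g hg.1
  have e2 : ∀ a, h a = ∑ b, X b * Groth.Agent.H44.leadPart (h a) b := fun a =>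
    Groth.Agent.H44.eq_sum_X_mul_leadPart (h a) (hc a)
  have hcc : ∀ a b, constantCoeff (Groth.Agent.H44.leadPart (h a) b) =
      if a ≤ b then quadPart g a b else 0 := by
    intro a b
    rw [Groth.Agent.H44.constantCoeff_leadPart, hh, Groth.Agent.H44.coeff_leadPart]
    by_cases hab : a ≤ b
    · rw [if_pos ((support_min_iff a b).mpr hab), if_pos hab, quadPart_eq g a b hab]
    · rw [if_neg (fun h' => hab ((support_min_iff a b).mp h')), if_neg hab]
  have e3 : (∑ a, X a * h a) - qser (quadPart g) =
      ∑ a, ∑ b, X a * (X b * (Groth.Agent.H44.leadPart (h a) b -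
        C (constantCoeff (Groth.Agent.H44.leadPart (h a) b)))) := by
    rw [qser_eq, ← Finset.sum_sub_distrib]
    refine Finset.sum_congr rfl fun a _ => ?_
    conv_lhs => rw [e2 a]
    rw [Finset.mul_sum, ← Finset.sum_sub_distrib]
    refine Finset.sum_congr rfl fun b _ => ?_
    rw [hcc]
    split_ifs
    · ring
    · rw [map_zero]; ring
  have e4 : g - qser (quadPart g) = (∑ a, X a * h a) - qser (quadPart g) := by rw [← e1]
  rw [e4, e3]
  refine sum_mem fun a _ => sum_mem fun b _ => ?_
  have h3 : (3 : ℕ) = 1 + (1 + 1) := rfl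
  rw [h3, pow_add, pow_add, pow_one]
  refine Ideal.mul_mem_mul (X_mem a) (Ideal.mul_mem_mul (X_mem b) ?_)
  rw [Groth.Agent.H44.mem_maximalIdeal_iff, map_sub, constantCoeff_C, sub_self]

end Groth.Agent.H91.QuadOrdD
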