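import Mathlib
import Groth.Agent.H91.QuadOrdD

/-!
# The quadratic cone and its formal model (for S4007), part A

`T a = k[[x]]/(Q)` is a complete local ring; the natural map from the polynomial quotient
`k[x]/(Q)`; coefficients of elements of powers of the maximal ideal of `k[[x]]`.
-/

set_option autoImplicit false
universe u

namespace Groth.Agent.H91.ConeCompl

open MvPowerSeries VanCyc IsLocalRing Finsupp
open Groth.Agent.H91.QuadOrdA Groth.Agent.H91.QuadOrdB Groth.Agent.H91.QuadOrdD

variable {k : Type u} [Field k] {N : ℕ}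

local notation "P" => MvPowerSeries (Fin N) k

/-- elements of `𝔪ⁿ` have order at least `n`. -/
theorem le_order_of_mem_pow (n : ℕ) (g : P) (hg : g ∈ maximalIdeal P ^ n) :
    (n : ℕ∞) ≤ g.order := by
  induction n generalizing g with
  | zero => simp
  | succ n ih =>
    rw [pow_succ] at hg
    refine Submodule.mul_induction_on hg ?_ ?_
    · intro x hx y hy
      have h1 : (1 : ℕ∞) ≤ y.order := by
        rw [MvPowerSeries.one_le_order_iff_constCoeff_eq_zero]
        exact (Groth.Agent.H44.mem_maximalIdeal_iff y).mp hy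
      calc ((n + 1 : ℕ) : ℕ∞) = (n : ℕ∞) + 1 := by push_cast; rfl
        _ ≤ x.order + y.order := add_le_add (ih x hx) h1
        _ ≤ (x * y).order := MvPowerSeries.le_order_mul
    · intro x y hx hy
      exact (le_min hx hy).trans MvPowerSeries.min_order_le_add

theorem coeff_eq_zero_of_mem_pow (n : ℕ) (g : P) (hg : g ∈ maximalIdeal P ^ n)
    (d : Fin N →₀ ℕ) (hd : d.degree < n) : coeff d g = 0 := by
  apply MvPowerSeries.coeff_of_lt_order
  exact lt_of_lt_of_le (by exact_mod_cast hd) (le_order_of_mem_pow n g hg)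

/-- a polynomial lying in `𝔪ⁿ` as a power series lies in `(x)ⁿ`. -/
theorem mem_pow_idealOfVars_of_coe_mem (n : ℕ) (p : MvPolynomial (Fin N) k)
    (hp : (p : P) ∈ maximalIdeal P ^ n) : p ∈ MvPolynomial.idealOfVars (Fin N) k ^ n := by
  rw [MvPolynomial.mem_pow_idealOfVars_iff']
  intro d hd
  rw [← MvPolynomial.coeff_coe]
  exact coeff_eq_zero_of_mem_pow n _ hp d hd

/-- a polynomial in `(x)ⁿ` lies in `𝔪ⁿ` as a power series. -/
theorem coe_mem_pow_of_mem (n : ℕ) (p : MvPolynomial (Fin N) k)
    (hp : p ∈ MvPolynomial.idealOfVars (Fin N) k ^ n) : (p : P) ∈ maximalIdeal P ^ n := by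
  apply Groth.Agent.H44.mem_pow_of_coeff_eq_zero
  intro d hd
  rw [MvPolynomial.coeff_coe]
  exact (MvPolynomial.mem_pow_idealOfVars_iff' n p).mp hp d hd

/-- a power series is a polynomial modulo `𝔪ⁿ`. -/
theorem sub_truncTotal_mem_pow (n : ℕ) (g : P) :
    g - ((truncTotal n g : MvPolynomial (Fin N) k) : P) ∈ maximalIdeal P ^ n := by
  apply Groth.Agent.H44.mem_pow_of_coeff_eq_zero
  intro d hd
  rw [map_sub, MvPolynomial.coeff_coe, coeff_truncTotal _ hd, sub_self]

variable (a : Fin N → Fin N → k)

/-- the formal model `k[[x]]/(Q)`. -/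
abbrev T : Type u := P ⧸ Ideal.span {qser a}

theorem qser_mem : qser a ∈ maximalIdeal P :=
  Ideal.pow_le_self two_ne_zero (qser_mem_sq a)

theorem span_ne_top : Ideal.span {qser a} ≠ ⊤ := by
  intro h
  have : Ideal.span {qser a} ≤ maximalIdeal P := by
    rw [Ideal.span_le, Set.singleton_subset_iff]; exact qser_mem a
  rw [h] at this
  exact (Ideal.IsPrime.ne_top inferInstance) (top_le_iff.mp this)

instance : Nontrivial (T a) := Ideal.Quotient.nontrivial_iff.mpr (span_ne_top a)

instance : IsLocalRing (T a) :=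
  IsLocalRing.of_surjective' (Ideal.Quotient.mk (Ideal.span {qser a})) Ideal.Quotient.mk_surjective

instance : IsAdicComplete (maximalIdeal (T a)) (T a) :=
  Groth.Agent.H26.ComplQuot.isAdicComplete_quotient (Ideal.span {qser a})

theorem maximalIdeal_T : maximalIdeal (T a) =
    (maximalIdeal P).map (Ideal.Quotient.mk (Ideal.span {qser a})) :=
  (IsLocalRing.map_maximalIdeal_of_surjective _ Ideal.Quotient.mk_surjective).symm

theorem maximalIdeal_T_pow (n : ℕ) : maximalIdeal (T a) ^ n =
    (maximalIdeal P ^ n).map (Ideal.Quotient.mk (Ideal.span {qser a})) := by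
  rw [maximalIdeal_T, Ideal.map_pow]

/-- coercion of polynomials to power series as a `k`-algebra map. -/
noncomputable def coeAlg : MvPolynomial (Fin N) k →ₐ[k] P :=
  { MvPolynomial.coeToMvPowerSeries.ringHom with
    commutes' := fun c => by
      change ((MvPolynomial.C c : MvPolynomial (Fin N) k) : P) = algebraMap k P c
      rw [MvPolynomial.coe_C, MvPowerSeries.algebraMap_apply, Algebra.algebraMap_self,
        RingHom.id_apply] }

theorem coeAlg_apply (p : MvPolynomial (Fin N) k) : coeAlg p = (p : P) := rfl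

/-- `k[x] → k[[x]]/(Q)`. -/
noncomputable def piT : MvPolynomial (Fin N) k →ₐ[k] T a :=
  (Ideal.Quotient.mkₐ k (Ideal.span {qser a})).comp coeAlg

theorem piT_apply (p : MvPolynomial (Fin N) k) :
    piT a p = Ideal.Quotient.mk (Ideal.span {qser a}) (p : P) := rfl

theorem piT_quadPoly : piT a (quadPoly a - MvPolynomial.C 0) = 0 := by
  rw [map_zero, sub_zero, piT_apply, coe_quadPoly, Ideal.Quotient.eq_zero_iff_mem]
  exact Ideal.mem_span_singleton_self _

/-- `k[x]/(Q) → k[[x]]/(Q)`. -/
noncomputable def piBar : quadRing k a 0 →ₐ[k] T a :=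
  Ideal.Quotient.liftₐ _ (piT a) (by
    intro p hp
    obtain ⟨c, rfl⟩ := Ideal.mem_span_singleton'.mp hp
    rw [map_mul, piT_quadPoly, mul_zero])

theorem piBar_mk (p : MvPolynomial (Fin N) k) :
    piBar a (Ideal.Quotient.mk _ p) = piT a p := rfl

theorem originIdeal_eq : originIdeal k (N := N) = MvPolynomial.idealOfVars (Fin N) k := by
  rw [originIdeal, IsLocalRing.maximalIdeal_eq_bot, Ideal.map_bot, bot_sup_eq]

theorem originQuot_eq : originQuot k a 0 =
    (MvPolynomial.idealOfVars (Fin N) k).map (Ideal.Quotient.mk _) := by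
  rw [originQuot, originIdeal_eq]

theorem originQuot_pow (n : ℕ) : originQuot k a 0 ^ n =
    (MvPolynomial.idealOfVars (Fin N) k ^ n).map (Ideal.Quotient.mk _) := by
  rw [originQuot_eq, Ideal.map_pow]

/-- membership in `𝔪_T` through the constant coefficient. -/
theorem mk_mem_maximalIdeal_iff (g : P) :
    Ideal.Quotient.mk (Ideal.span {qser a}) g ∈ maximalIdeal (T a) ↔ constantCoeff g = 0 := by
  rw [← Groth.Agent.H44.mem_maximalIdeal_iff]
  constructor
  · intro h
    rw [maximalIdeal_T] at h
    obtain ⟨v, hv, hvg⟩ := (Ideal.mem_map_iff_of_surjective _ Ideal.Quotient.mk_surjective).mp h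
    have h1 : g - v ∈ Ideal.span {qser a} := by
      rw [← Ideal.Quotient.eq_zero_iff_mem, map_sub, hvg, sub_self]
    obtain ⟨c, hc⟩ := Ideal.mem_span_singleton'.mp h1
    have : g = v + c * qser a := by rw [hc]; ring
    rw [this]
    exact Ideal.add_mem _ hv (Ideal.mul_mem_left _ _ (qser_mem a))
  · intro h
    rw [maximalIdeal_T]
    exact Ideal.mem_map_of_mem _ h

theorem piBar_mem_iff (r : quadRing k a 0) :
    piBar a r ∈ maximalIdeal (T a) ↔ r ∈ originQuot k a 0 := by
  obtain ⟨p, rfl⟩ := Ideal.Quotient.mk_surjective r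
  rw [piBar_mk, piT_apply, mk_mem_maximalIdeal_iff, originQuot_eq]
  have h1 : constantCoeff (p : P) = MvPolynomial.constantCoeff p := by
    rw [← coeff_zero_eq_constantCoeff_apply, MvPolynomial.coeff_coe]
    rfl
  rw [h1]
  have h2 : MvPolynomial.constantCoeff p = 0 ↔ p ∈ MvPolynomial.idealOfVars (Fin N) k := by
    have := MvPolynomial.mem_pow_idealOfVars_iff' 1 p
    rw [pow_one] at this
    rw [this]
    constructor
    · intro h d hd
      have : d = 0 := by
        rw [← Finsupp.degree_eq_zero_iff]; omega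
      rw [this]
      exact h
    · intro h
      exact h 0 (by simp)
  rw [h2]
  constructor
  · intro h
    exact Ideal.mem_map_of_mem _ h
  · intro h
    obtain ⟨v, hv, hvp⟩ := (Ideal.mem_map_iff_of_surjective _ Ideal.Quotient.mk_surjective).mp h
    have h3 : p - v ∈ Ideal.span {quadPoly a - MvPolynomial.C 0} := by
      rw [← Ideal.Quotient.eq_zero_iff_mem, map_sub, hvp, sub_self]
    obtain ⟨c, hc⟩ := Ideal.mem_span_singleton'.mp h3
    have h4 : quadPoly a ∈ MvPolynomial.idealOfVars (Fin N) k := by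
      rw [quadPoly]
      refine sum_mem fun i _ => sum_mem fun j _ => ?_
      split_ifs
      · exact Ideal.mul_mem_left _ _ (Ideal.subset_span ⟨j, rfl⟩)
      · exact zero_mem _
    have : p = v + c * (quadPoly a - MvPolynomial.C 0) := by rw [hc]; ring
    rw [this, map_zero, sub_zero]
    exact Ideal.add_mem _ hv (Ideal.mul_mem_left _ _ h4)

end Groth.Agent.H91.ConeCompl
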