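import Mathlib
import Groth.Agent.H91.ConeComplA
import Groth.Agent.H20.ComplBij

/-!
# The completion of the local ring of the quadratic cone at the origin (for S4007), part B

`(k[x]/(Q))_origin^ ≃ₐ[k] k[[x]]/(Q)`.
-/

set_option autoImplicit false
universe u

namespace Groth.Agent.H91.ConeCompl

open MvPowerSeries VanCyc IsLocalRing Finsupp
open Groth.Agent.H91.QuadOrdA Groth.Agent.H91.QuadOrdB Groth.Agent.H91.QuadOrdD

variable {k : Type u} [Field k] {N : ℕ} (a : Fin N → Fin N → k)
  [hprime : (originQuot k a 0).IsPrime]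
  (C₀ : Type u) [CommRing C₀] [IsLocalRing C₀] [Algebra (quadRing k a 0) C₀]
  [IsLocalization.AtPrime C₀ (originQuot k a 0)] [Algebra k C₀]
  [IsScalarTower k (quadRing k a 0) C₀]

local notation "P" => MvPowerSeries (Fin N) k

theorem isUnit_piBar (s : (originQuot k a 0).primeCompl) : IsUnit (piBar a s) := by
  by_contra h
  exact s.2 ((piBar_mem_iff a s).mp ((mem_maximalIdeal _).mpr h))

/-- the comparison map `(k[x]/(Q))_origin → k[[x]]/(Q)`. -/
noncomputable def lam : C₀ →ₐ[k] T a :=
  IsLocalization.liftAlgHom (M := (originQuot k a 0).primeCompl) (f := piBar a) (isUnit_piBar a)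

theorem lam_algebraMap (r : quadRing k a 0) : lam a C₀ (algebraMap _ C₀ r) = piBar a r :=
  IsLocalization.lift_eq _ _

theorem lam_comp : (lam a C₀).toRingHom.comp (algebraMap (quadRing k a 0) C₀) =
    (piBar a).toRingHom := by
  exact RingHom.ext fun r => lam_algebraMap a C₀ r

theorem map_lam : (maximalIdeal C₀).map (lam a C₀).toRingHom = maximalIdeal (T a) := by
  rw [← IsLocalization.AtPrime.map_eq_maximalIdeal (originQuot k a 0) C₀, Ideal.map_map, lam_comp a C₀, originQuot_eq,
    Ideal.map_map, maximalIdeal_T, Groth.Agent.H44.maximalIdeal_eq_span_X', Ideal.map_span,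
    Ideal.map_span, ← Set.range_comp, ← Set.range_comp]
  congr 2
  funext i
  change piBar a (Ideal.Quotient.mk _ (MvPolynomial.X i)) = Ideal.Quotient.mk _ (X i)
  rw [piBar_mk, piT_apply, MvPolynomial.coe_X]

theorem map_lam_le : (maximalIdeal C₀).map (lam a C₀).toRingHom ≤ maximalIdeal (T a) :=
  (map_lam a C₀).le

theorem lam_surj_level (n : ℕ) (t : T a) :
    ∃ c : C₀, t - lam a C₀ c ∈ maximalIdeal (T a) ^ n := by
  obtain ⟨g, rfl⟩ := Ideal.Quotient.mk_surjective t
  refine ⟨algebraMap (quadRing k a 0) C₀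
    (Ideal.Quotient.mk (Ideal.span {quadPoly a - MvPolynomial.C 0}) (truncTotal n g)), ?_⟩
  rw [lam_algebraMap, piBar_mk, piT_apply, ← map_sub, maximalIdeal_T_pow]
  exact Ideal.mem_map_of_mem _ (sub_truncTotal_mem_pow n g)

theorem lam_inj_level (n : ℕ) (c : C₀) (hc : lam a C₀ c ∈ maximalIdeal (T a) ^ n) :
    c ∈ maximalIdeal C₀ ^ n := by
  obtain ⟨r, s, rfl⟩ := IsLocalization.exists_mk'_eq (originQuot k a 0).primeCompl c
  -- `piBar r ∈ 𝔪ⁿ`
  have h1 : piBar a r ∈ maximalIdeal (T a) ^ n := by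
    have e1 : lam a C₀ (IsLocalization.mk' C₀ r s) * piBar a s = piBar a r := by
      rw [← lam_algebraMap a C₀, ← lam_algebraMap a C₀, ← map_mul, IsLocalization.mk'_spec]
    rw [← e1]
    exact Ideal.mul_mem_right _ _ hc
  obtain ⟨p, rfl⟩ := Ideal.Quotient.mk_surjective r
  rw [piBar_mk, piT_apply, maximalIdeal_T_pow] at h1
  obtain ⟨v, hv, hvp⟩ := (Ideal.mem_map_iff_of_surjective _ Ideal.Quotient.mk_surjective).mp h1
  have h2 : (p : P) - v ∈ Ideal.span {qser a} := by
    rw [← Ideal.Quotient.eq_zero_iff_mem, map_sub, hvp, sub_self]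
  obtain ⟨u, hu⟩ := Ideal.mem_span_singleton'.mp h2
  -- truncate `u`
  set u₀ : MvPolynomial (Fin N) k := truncTotal n u with hu₀
  have h3 : ((p - u₀ * quadPoly a : MvPolynomial (Fin N) k) : P) ∈ maximalIdeal P ^ n := by
    have e1 : ((p - u₀ * quadPoly a : MvPolynomial (Fin N) k) : P) =
        v + (u - (u₀ : P)) * qser a := by
      have : ((p - u₀ * quadPoly a : MvPolynomial (Fin N) k) : P) =
          (p : P) - (u₀ : P) * qser a := by
        rw [← coe_quadPoly, ← coeAlg_apply, ← coeAlg_apply, ← coeAlg_apply, ← coeAlg_apply,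
          map_sub, map_mul]
      rw [this]
      have : (p : P) = v + u * qser a := by rw [hu]; ring
      rw [this]; ring
    rw [e1]
    exact Ideal.add_mem _ hv (Ideal.mul_mem_right _ _ (sub_truncTotal_mem_pow n u))
  have h4 := mem_pow_idealOfVars_of_coe_mem n _ h3
  have h5 : Ideal.Quotient.mk (Ideal.span {quadPoly a - MvPolynomial.C 0}) p ∈
      originQuot k a 0 ^ n := by
    rw [originQuot_pow]
    have e2 : Ideal.Quotient.mk (Ideal.span {quadPoly a - MvPolynomial.C 0}) p =
        Ideal.Quotient.mk _ (p - u₀ * quadPoly a) := by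
      rw [eq_comm, ← sub_eq_zero, ← map_sub, Ideal.Quotient.eq_zero_iff_mem]
      have : p - u₀ * quadPoly a - p = -u₀ * (quadPoly a - MvPolynomial.C 0) := by
        rw [map_zero]; ring
      rw [this]
      exact Ideal.mul_mem_left _ _ (Ideal.mem_span_singleton_self _)
    rw [e2]
    exact Ideal.mem_map_of_mem _ h4
  rw [← IsLocalization.AtPrime.map_eq_maximalIdeal (originQuot k a 0) C₀, ← Ideal.map_pow]
  rw [IsLocalization.mk'_eq_mul_mk'_one]
  exact Ideal.mul_mem_right _ _ (Ideal.mem_map_of_mem _ h5)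

end Groth.Agent.H91.ConeCompl
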