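import Mathlib
import Groth.Agent.H91.ConeComplB

/-!
# The completion of the local ring of the quadratic cone at the origin (for S4007), part C
-/

set_option autoImplicit false
universe u

namespace Groth.Agent.H91.ConeCompl

open MvPowerSeries VanCyc IsLocalRing Finsupp
open Groth.Agent.H91.QuadOrdA Groth.Agent.H91.QuadOrdB Groth.Agent.H91.QuadOrdD

variable {k : Type u} [Field k] {N : ℕ} (a : Fin N → Fin N → k)
  [hprime : (originQuot k a 0).IsPrime]
  (C₀ : Type u) [CommRing C₀] [IsLocalRing C₀] [Algebra (quadRing k a 0) C₀]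
  [IsLocalization.AtPrime C₀ (originQuot k a 0)] [Algebra k C₀]
  [IsScalarTower k (quadRing k a 0) C₀]

local notation "P" => MvPowerSeries (Fin N) k

theorem complMap_lam_bijective :
    Function.Bijective (FSch.complMap (maximalIdeal C₀) (maximalIdeal (T a))
      (lam a C₀).toRingHom (map_lam_le a C₀)) := by
  apply Groth.Agent.H20.complMap_bijective
  intro n
  constructor
  · apply Ideal.quotientMap_injective'
    intro c hc
    exact lam_inj_level a C₀ n c hc
  · intro t
    obtain ⟨t, rfl⟩ := Ideal.Quotient.mk_surjective t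
    obtain ⟨c, hc⟩ := lam_surj_level a C₀ n t
    refine ⟨Ideal.Quotient.mk _ c, ?_⟩
    rw [Ideal.quotientMap_mk, eq_comm, Ideal.Quotient.eq]
    exact hc

/-- **The completion of the cone at the origin.** -/
theorem nonempty_algEquiv :
    Nonempty (AdicCompletion (maximalIdeal C₀) C₀ ≃ₐ[k] T a) := by
  let ψ : AdicCompletion (maximalIdeal C₀) C₀ →+* T a :=
    ((AdicCompletion.ofAlgEquiv (maximalIdeal (T a))).symm : AdicCompletion _ (T a) →+* T a).comp
      (FSch.complMap (maximalIdeal C₀) (maximalIdeal (T a)) (lam a C₀).toRingHom (map_lam_le a C₀))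
  have hψ : Function.Bijective ψ :=
    (AdicCompletion.ofAlgEquiv (maximalIdeal (T a))).symm.bijective.comp
      (complMap_lam_bijective a C₀)
  let ψA : AdicCompletion (maximalIdeal C₀) C₀ →ₐ[k] T a :=
    { ψ with
      commutes' := fun c => by
        change ψ (algebraMap k (AdicCompletion (maximalIdeal C₀) C₀) c) = _
        rw [AdicCompletion.algebraMap_apply]
        change (AdicCompletion.ofAlgEquiv (maximalIdeal (T a))).symm
          (FSch.complMap (maximalIdeal C₀) (maximalIdeal (T a)) (lam a C₀).toRingHom (map_lam_le a C₀)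
            (AdicCompletion.of _ _ (algebraMap k C₀ c))) = _
        rw [Groth.Agent.H20.complMap_of, AdicCompletion.ofAlgEquiv_symm_of]
        exact (lam a C₀).commutes c }
  exact ⟨AlgEquiv.ofBijective ψA hψ⟩

end Groth.Agent.H91.ConeCompl
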