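import Mathlib

/-!
A topological lemma: connectedness lifts along a surjective generalizing map with preconnected
fibres, provided the target is covered by the closures of finitely many points.
-/

set_option autoImplicit false
open Set Topology

namespace Groth.Agent.H91

/-- A subset stable under generalization and specialization is closed, provided that every point
is a specialization of one of finitely many points. -/
lemma isClosed_of_stableUnder_of_finite {Z : Type*} [TopologicalSpace Z] (F : Set Z)
    (hF : F.Finite) (hcov : ∀ z : Z, ∃ ζ ∈ F, ζ ⤳ z) (A : Set Z)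
    (hg : StableUnderGeneralization A) (hs : StableUnderSpecialization A) : IsClosed A := by
  have hA : A = ⋃ ζ ∈ F ∩ A, closure {ζ} := by
    ext z
    simp only [mem_iUnion, exists_prop]
    constructor
    · intro hz
      obtain ⟨ζ, hζF, hζz⟩ := hcov z
      exact ⟨ζ, ⟨hζF, hg hζz hz⟩, hζz.mem_closure⟩
    · rintro ⟨ζ, ⟨-, hζA⟩, hz⟩
      exact hs (specializes_iff_mem_closure.mpr hz) hζA
  rw [hA]
  exact (hF.subset inter_subset_left).isClosed_biUnion fun _ _ => isClosed_closure

lemma connectedSpace_of_generalizingMap {Z' Z : Type*} [TopologicalSpace Z'] [TopologicalSpace Z]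
    [ConnectedSpace Z] (q : Z' → Z) (hsurj : Function.Surjective q)
    (hgen : GeneralizingMap q) (hfib : ∀ z, IsPreconnected (q ⁻¹' {z})) (F : Set Z)
    (hF : F.Finite) (hcov : ∀ z : Z, ∃ ζ ∈ F, ζ ⤳ z) : ConnectedSpace Z' := by
  have hne : Nonempty Z' := by
    obtain ⟨z⟩ := (inferInstance : Nonempty Z)
    obtain ⟨z', -⟩ := hsurj z
    exact ⟨z'⟩
  have hpre : PreconnectedSpace Z' := by
    rw [preconnectedSpace_iff_clopen]
    intro U hU
    -- `U` is saturated
    have hsat : ∀ V : Set Z', IsClopen V → q ⁻¹' (q '' V) = V := by
      intro V hV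
      refine subset_antisymm ?_ (subset_preimage_image q V)
      rintro z' ⟨u, huV, hu⟩
      have hsub : q ⁻¹' {q u} ⊆ V :=
        (hfib (q u)).subset_isClopen hV ⟨u, rfl, huV⟩
      exact hsub hu.symm
    have hcompl : (q '' U)ᶜ = q '' Uᶜ := by
      ext z
      constructor
      · intro hz
        obtain ⟨z', rfl⟩ := hsurj z
        refine ⟨z', fun hz' => hz ⟨z', hz', rfl⟩, rfl⟩
      · rintro ⟨z', hz', rfl⟩ hz
        have : z' ∈ q ⁻¹' (q '' U) := hz
        rw [hsat U hU] at this
        exact hz' this
    have hgA : StableUnderGeneralization (q '' U) :=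
      hgen.stableUnderGeneralization_image hU.isOpen.stableUnderGeneralization
    have hgAc : StableUnderGeneralization (q '' U)ᶜ := by
      rw [hcompl]
      exact hgen.stableUnderGeneralization_image hU.compl.isOpen.stableUnderGeneralization
    have hsA : StableUnderSpecialization (q '' U) := by
      have := hgAc.compl
      rwa [compl_compl] at this
    have hsAc : StableUnderSpecialization (q '' U)ᶜ := hgA.compl
    have hclA : IsClosed (q '' U) := isClosed_of_stableUnder_of_finite F hF hcov _ hgA hsA
    have hclAc : IsClosed (q '' U)ᶜ := isClosed_of_stableUnder_of_finite F hF hcov _ hgAc hsAc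
    have hclopen : IsClopen (q '' U) := ⟨hclA, by simpa using hclAc.isOpen_compl⟩
    rcases isClopen_iff.mp hclopen with h | h
    · left
      rw [← hsat U hU, h, preimage_empty]
    · right
      rw [← hsat U hU, h, preimage_univ]
  exact { toPreconnectedSpace := hpre, toNonempty := hne }

end Groth.Agent.H91
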