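import Groth.Agent.H91.URingRel

/-!
The isomorphism `O(C_n) ≅ O(U_{n+1})`.
-/

set_option autoImplicit false
universe u
open W4c5m1nsnscurves MvPolynomial

namespace Groth.Agent.H91.CurveU

open Groth.Agent.H91.URingRel

variable (R : Type u) [CommRing R] (m : ℕ)

lemma uincl_ugen (g : UGen m) : uincl R m (ugen R m g) = ugen R (m + 1) g.castSucc := by
  simp [uincl, ugen]

/-- images of the variables -/
noncomputable def vals : CVar m → URing R (m + 1)
  | .x2 => ugen R (m + 1) (.ci (Fin.last m))
  | .x3 => ugen R (m + 1) .a + ugen R (m + 1) (.ci (Fin.last m)) + ugen R (m + 1) (.cbi (Fin.last m))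
  | .xi i => ugen R (m + 1) (.cij i.castSucc (Fin.last m) (Fin.castSucc_lt_last i).ne)

/-- the forward map on polynomials -/
noncomputable def fwd₀ : MvPolynomial (CVar m) (URing R m) →+* URing R (m + 1) :=
  eval₂Hom (uincl R m : URing R m →+* URing R (m + 1)) (vals R m)

lemma fwd₀_rel : ∀ p ∈ CRel (URing R m) m (ugen R m), fwd₀ R m p = 0 := by
  intro p hp
  simp only [CRel, Set.mem_union, Set.mem_range] at hp
  rcases hp with (⟨i, rfl⟩ | ⟨i, rfl⟩) | ⟨⟨⟨i, j⟩, h⟩, rfl⟩
  · have hne : i.castSucc ≠ Fin.last m := (Fin.castSucc_lt_last i).ne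
    have h1 := urel_lin R (m + 1) i.castSucc (Fin.last m) hne
    have h2 := urel_c R (m + 1) i.castSucc (Fin.last m) hne
    simp only [fwd₀, coe_eval₂Hom, eval₂_sub, eval₂_add, eval₂_mul, eval₂_X, eval₂_C, vals,
      RingHom.coe_coe, uincl_ugen, UGen.castSucc]
    linear_combination (-1 : URing R (m + 1)) * h2 +
      (ugen R (m + 1) (.ci (Fin.last m))) * h1
  · have hne : i.castSucc ≠ Fin.last m := (Fin.castSucc_lt_last i).ne
    have h1 := urel_lin R (m + 1) i.castSucc (Fin.last m) hne
    have h2 := urel_c R (m + 1) i.castSucc (Fin.last m) hne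
    have h3 := urel_cb R (m + 1) i.castSucc (Fin.last m) hne
    simp only [fwd₀, coe_eval₂Hom, eval₂_sub, eval₂_add, eval₂_mul, eval₂_X, eval₂_C, vals,
      RingHom.coe_coe, uincl_ugen, UGen.castSucc, map_add]
    linear_combination h3 - h2 +
      (ugen R (m + 1) (.ci (Fin.last m)) - ugen R (m + 1) (.cbi i.castSucc)) * h1
  · have hi : i.castSucc ≠ Fin.last m := (Fin.castSucc_lt_last i).ne
    have hj : j.castSucc ≠ Fin.last m := (Fin.castSucc_lt_last j).ne
    have hij : i.castSucc ≠ j.castSucc := fun e => h (Fin.castSucc_injective _ e)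
    have ht := urel_t R (m + 1) i.castSucc j.castSucc (Fin.last m) hij hj hi
    simp only [fwd₀, coe_eval₂Hom, eval₂_sub, eval₂_add, eval₂_mul, eval₂_X, eval₂_C, vals,
      RingHom.coe_coe, uincl_ugen, UGen.castSucc]
    linear_combination (-1 : URing R (m + 1)) * ht

/-- the forward map -/
noncomputable def fwd : CurveAlg (URing R m) m (ugen R m) →+* URing R (m + 1) :=
  Ideal.Quotient.lift _ (fwd₀ R m) (by
    intro p hp
    have : Ideal.span (CRel (URing R m) m (ugen R m)) ≤ RingHom.ker (fwd₀ R m) := by
      rw [Ideal.span_le]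
      intro q hq
      exact fwd₀_rel R m q hq
    exact this hp)

lemma fwd_cx (y : CVar m) : fwd R m (cx (ugen R m) y) = vals R m y := by
  simp [fwd, cx, fwd₀]

lemma fwd_ck (r : URing R m) : fwd R m (ck (ugen R m) r) = uincl R m r := by
  simp [fwd, ck, fwd₀]

/-- notation: constant classes -/
noncomputable abbrev K (g : UGen m) : CurveAlg (URing R m) m (ugen R m) :=
  ck (ugen R m) (ugen R m g)

/-- notation: variable classes -/
noncomputable abbrev x (y : CVar m) : CurveAlg (URing R m) m (ugen R m) := cx (ugen R m) y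

/-- images of the generators of `U_{n+1}` in the curve algebra -/
noncomputable def w : UGen (m + 1) → CurveAlg (URing R m) m (ugen R m)
  | .a => K R m .a
  | .c => K R m .c
  | .cb => K R m .cb
  | .ci i => if h : i.val < m then K R m (.ci (i.castLT h)) else x R m .x2
  | .cbi i => if h : i.val < m then K R m (.cbi (i.castLT h)) else x R m .x3 - K R m .a - x R m .x2
  | .cij i j hij =>
    if hi : i.val < m then
      if hj : j.val < m then
        K R m (.cij (i.castLT hi) (j.castLT hj) (fun e => hij (by
          have := congrArg Fin.val e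
          simp only [Fin.val_castLT] at this
          exact Fin.ext this)))
      else x R m (.xi (i.castLT hi))
    else
      if hj : j.val < m then
        K R m (.ci (j.castLT hj)) + K R m (.cbi (j.castLT hj)) + x R m .x3 - x R m (.xi (j.castLT hj))
      else 0

lemma K_lin (i j : Fin m) (h : i ≠ j) :
    K R m (.cij i j h) + K R m (.cij j i h.symm) =
      K R m .a + K R m (.ci i) + K R m (.cbi i) + K R m (.ci j) + K R m (.cbi j) := by
  have := congrArg (algebraMap (URing R m) (CurveAlg (URing R m) m (ugen R m))) (urel_lin R m i j h)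
  simp only [map_add] at this
  exact this

lemma K_c (i j : Fin m) (h : i ≠ j) :
    K R m (.cij j i h.symm) * K R m (.ci j) + K R m (.cij i j h) * K R m (.ci i) -
      K R m (.ci i) * K R m (.ci j) = K R m .c := by
  have := congrArg (algebraMap (URing R m) (CurveAlg (URing R m) m (ugen R m))) (urel_c R m i j h)
  simp only [map_add, map_sub, map_mul] at this
  exact this

lemma K_cb (i j : Fin m) (h : i ≠ j) :
    K R m (.cij j i h.symm) * K R m (.cbi i) + K R m (.cij i j h) * K R m (.cbi j) -
      K R m (.cbi i) * K R m (.cbi j) = K R m .cb := by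
  have := congrArg (algebraMap (URing R m) (CurveAlg (URing R m) m (ugen R m))) (urel_cb R m i j h)
  simp only [map_add, map_sub, map_mul] at this
  exact this

lemma K_t (i j k : Fin m) (hij : i ≠ j) (hjk : j ≠ k) (hik : i ≠ k) :
    K R m (.cij i j hij) * K R m (.cij j k hjk) +
      K R m (.cij j i hij.symm) * K R m (.cij i k hik) -
      K R m (.cij i k hik) * K R m (.cij j k hjk) +
      (K R m .a + K R m (.ci k) + K R m (.cbi k)) * K R m (.ci k) = K R m .c := by
  have := congrArg (algebraMap (URing R m) (CurveAlg (URing R m) m (ugen R m)))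
    (urel_t R m i j k hij hjk hik)
  simp only [map_add, map_sub, map_mul] at this
  exact this

/-- the backward map on polynomials -/
noncomputable def bwd₀ : MvPolynomial (UGen (m + 1)) R →+* CurveAlg (URing R m) m (ugen R m) :=
  eval₂Hom ((algebraMap (URing R m) (CurveAlg (URing R m) m (ugen R m))).comp
    (algebraMap R (URing R m))) (w R m)

lemma eq_last_of_not_lt {i : Fin (m + 1)} (h : ¬ i.val < m) : i = Fin.last m := by
  apply Fin.ext
  have := i.2
  simp only [Fin.val_last]
  omega

lemma castLT_ne {i j : Fin (m + 1)} (hi : i.val < m) (hj : j.val < m) (h : i ≠ j) :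
    i.castLT hi ≠ j.castLT hj := by
  intro e
  apply h
  have := congrArg Fin.val e
  simp only [Fin.val_castLT] at this
  exact Fin.ext this

lemma bwd₀_rel : ∀ p ∈ URel R (m + 1), bwd₀ R m p = 0 := by
  intro p hp
  have c1 := crel1 (ugen R m)
  have c2 := crel2 (ugen R m)
  have c3 := crel3 (ugen R m)
  simp only [URel, Set.mem_union, Set.mem_range] at hp
  rcases hp with ((⟨⟨⟨i, j⟩, h⟩, rfl⟩ | ⟨⟨⟨i, j⟩, h⟩, rfl⟩) | ⟨⟨⟨i, j⟩, h⟩, rfl⟩) |
    ⟨⟨⟨i, j, k⟩, hij, hjk, hik⟩, rfl⟩
  · simp only [bwd₀, coe_eval₂Hom, eval₂_sub, eval₂_add, eval₂_mul, eval₂_X] at *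
    simp only at h
    by_cases hi : i.val < m <;> by_cases hj : j.val < m
    · simp only [w, dif_pos hi, dif_pos hj]
      linear_combination K_lin R m (i.castLT hi) (j.castLT hj) (castLT_ne m hi hj h)
    · simp only [w, dif_pos hi, dif_neg hj]
      ring
    · simp only [w, dif_neg hi, dif_pos hj]
      ring
    · exact absurd ((eq_last_of_not_lt m hi).trans (eq_last_of_not_lt m hj).symm) h
  · simp only [bwd₀, coe_eval₂Hom, eval₂_sub, eval₂_add, eval₂_mul, eval₂_X] at *
    simp only at h
    by_cases hi : i.val < m <;> by_cases hj : j.val < m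
    · simp only [w, dif_pos hi, dif_pos hj]
      linear_combination K_c R m (i.castLT hi) (j.castLT hj) (castLT_ne m hi hj h)
    · simp only [w, dif_pos hi, dif_neg hj]
      linear_combination (-1 : CurveAlg (URing R m) m (ugen R m)) * c1 (i.castLT hi)
    · simp only [w, dif_neg hi, dif_pos hj]
      linear_combination (-1 : CurveAlg (URing R m) m (ugen R m)) * c1 (j.castLT hj)
    · exact absurd ((eq_last_of_not_lt m hi).trans (eq_last_of_not_lt m hj).symm) h
  · simp only [bwd₀, coe_eval₂Hom, eval₂_sub, eval₂_add, eval₂_mul, eval₂_X] at *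
    simp only at h
    by_cases hi : i.val < m <;> by_cases hj : j.val < m
    · simp only [w, dif_pos hi, dif_pos hj]
      linear_combination K_cb R m (i.castLT hi) (j.castLT hj) (castLT_ne m hi hj h)
    · simp only [w, dif_pos hi, dif_neg hj]
      linear_combination c2 (i.castLT hi) - c1 (i.castLT hi)
    · simp only [w, dif_neg hi, dif_pos hj]
      linear_combination c2 (j.castLT hj) - c1 (j.castLT hj)
    · exact absurd ((eq_last_of_not_lt m hi).trans (eq_last_of_not_lt m hj).symm) h
  · simp only [bwd₀, coe_eval₂Hom, eval₂_sub, eval₂_add, eval₂_mul, eval₂_X] at *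
    simp only at hij hjk hik
    by_cases hi : i.val < m <;> by_cases hj : j.val < m <;> by_cases hk : k.val < m
    · simp only [w, dif_pos hi, dif_pos hj, dif_pos hk]
      linear_combination K_t R m (i.castLT hi) (j.castLT hj) (k.castLT hk) (castLT_ne m hi hj hij)
        (castLT_ne m hj hk hjk) (castLT_ne m hi hk hik)
    · simp only [w, dif_pos hi, dif_pos hj, dif_neg hk]
      linear_combination (-1 : CurveAlg (URing R m) m (ugen R m)) *
        c3 (i.castLT hi) (j.castLT hj) (castLT_ne m hi hj hij)
    · simp only [w, dif_pos hi, dif_neg hj, dif_pos hk]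
      have hne := castLT_ne m hi hk hik
      linear_combination c2 (i.castLT hi) - c3 (i.castLT hi) (k.castLT hk) hne +
        (-(x R m (.xi (i.castLT hi))) + K R m (.cbi (i.castLT hi)) - K R m (.ci (k.castLT hk))) *
          K_lin R m (i.castLT hi) (k.castLT hk) hne +
        K_c R m (i.castLT hi) (k.castLT hk) hne - K_cb R m (i.castLT hi) (k.castLT hk) hne
    · exact absurd ((eq_last_of_not_lt m hj).trans (eq_last_of_not_lt m hk).symm) hjk
    · simp only [w, dif_neg hi, dif_pos hj, dif_pos hk]
      have hne := castLT_ne m hj hk hjk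
      linear_combination c2 (j.castLT hj) - c3 (j.castLT hj) (k.castLT hk) hne +
        (-(x R m (.xi (j.castLT hj))) + K R m (.cbi (j.castLT hj)) - K R m (.ci (k.castLT hk))) *
          K_lin R m (j.castLT hj) (k.castLT hk) hne +
        K_c R m (j.castLT hj) (k.castLT hk) hne - K_cb R m (j.castLT hj) (k.castLT hk) hne
    · exact absurd ((eq_last_of_not_lt m hi).trans (eq_last_of_not_lt m hk).symm) hik
    · exact absurd ((eq_last_of_not_lt m hi).trans (eq_last_of_not_lt m hj).symm) hij
    · exact absurd ((eq_last_of_not_lt m hi).trans (eq_last_of_not_lt m hj).symm) hij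

/-- the backward map -/
noncomputable def bwd : URing R (m + 1) →+* CurveAlg (URing R m) m (ugen R m) :=
  Ideal.Quotient.lift _ (bwd₀ R m) (by
    intro p hp
    have : Ideal.span (URel R (m + 1)) ≤ RingHom.ker (bwd₀ R m) := by
      rw [Ideal.span_le]
      intro q hq
      exact bwd₀_rel R m q hq
    exact this hp)

lemma bwd_ugen (g : UGen (m + 1)) : bwd R m (ugen R (m + 1) g) = w R m g := by
  simp [bwd, ugen, bwd₀]

lemma bwd_algebraMap (r : R) : bwd R m (algebraMap R (URing R (m + 1)) r) =
    algebraMap (URing R m) (CurveAlg (URing R m) m (ugen R m)) (algebraMap R (URing R m) r) := by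
  have : algebraMap R (URing R (m + 1)) r = Ideal.Quotient.mk _ (C r) := rfl
  rw [this]
  simp [bwd, bwd₀]

lemma fwd_w (g : UGen (m + 1)) : fwd R m (w R m g) = ugen R (m + 1) g := by
  cases g with
  | a => simp only [w, fwd_ck, uincl_ugen, UGen.castSucc]
  | c => simp only [w, fwd_ck, uincl_ugen, UGen.castSucc]
  | cb => simp only [w, fwd_ck, uincl_ugen, UGen.castSucc]
  | ci i =>
    by_cases hi : i.val < m
    · simp only [w, dif_pos hi, fwd_ck, uincl_ugen, UGen.castSucc, Fin.castSucc_castLT]
    · simp only [w, dif_neg hi, fwd_cx, vals]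
      rw [eq_last_of_not_lt m hi]
  | cbi i =>
    by_cases hi : i.val < m
    · simp only [w, dif_pos hi, fwd_ck, uincl_ugen, UGen.castSucc, Fin.castSucc_castLT]
    · simp only [w, dif_neg hi, map_sub, fwd_cx, fwd_ck, vals, uincl_ugen, UGen.castSucc]
      rw [eq_last_of_not_lt m hi]
      ring
  | cij i j h =>
    by_cases hi : i.val < m <;> by_cases hj : j.val < m
    · simp only [w, dif_pos hi, dif_pos hj, fwd_ck, uincl_ugen, UGen.castSucc, Fin.castSucc_castLT]
    · simp only [w, dif_pos hi, dif_neg hj, fwd_cx, vals, Fin.castSucc_castLT]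
      have hjl := eq_last_of_not_lt m hj
      subst hjl
      rfl
    · simp only [w, dif_neg hi, dif_pos hj, map_sub, map_add, fwd_cx, fwd_ck, vals, uincl_ugen,
        UGen.castSucc, Fin.castSucc_castLT]
      have hil := eq_last_of_not_lt m hi
      subst hil
      have := urel_lin R (m + 1) j (Fin.last m) h.symm
      linear_combination (-1 : URing R (m + 1)) * this
    · exact absurd ((eq_last_of_not_lt m hi).trans (eq_last_of_not_lt m hj).symm) h

lemma fwd_bwd (z : URing R (m + 1)) : fwd R m (bwd R m z) = z := by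
  obtain ⟨p, rfl⟩ := Ideal.Quotient.mk_surjective z
  induction p using MvPolynomial.induction_on with
  | C r =>
    have h1 : (Ideal.Quotient.mk (Ideal.span (URel R (m + 1)))) (C r) =
      algebraMap R (URing R (m + 1)) r := rfl
    rw [h1, bwd_algebraMap]
    have h2 : algebraMap (URing R m) (CurveAlg (URing R m) m (ugen R m))
        (algebraMap R (URing R m) r) = ck (ugen R m) (algebraMap R (URing R m) r) := rfl
    rw [h2, fwd_ck]
    exact (uincl R m).commutes r
  | add p q hp hq => rw [map_add, map_add, map_add, hp, hq]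
  | mul_X p g hp =>
    rw [map_mul, map_mul, map_mul, hp]
    congr 1
    exact (congrArg (fwd R m) (bwd_ugen R m g)).trans (fwd_w R m g)

lemma bwd_uincl (u : URing R m) : bwd R m (uincl R m u) = ck (ugen R m) u := by
  obtain ⟨q, rfl⟩ := Ideal.Quotient.mk_surjective u
  induction q using MvPolynomial.induction_on with
  | C r =>
    have h1 : (Ideal.Quotient.mk (Ideal.span (URel R m))) (C r) = algebraMap R (URing R m) r := rfl
    rw [h1, (uincl R m).commutes r, bwd_algebraMap]
    rfl
  | add p q hp hq =>
    rw [map_add, map_add, map_add, hp, hq]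
    exact (map_add (algebraMap (URing R m) (CurveAlg (URing R m) m (ugen R m))) _ _).symm
  | mul_X p g hp =>
    rw [map_mul, map_mul, map_mul, hp]
    have hg : bwd R m (uincl R m ((Ideal.Quotient.mk (Ideal.span (URel R m))) (X g))) =
        ck (ugen R m) (ugen R m g) := by
      change bwd R m (uincl R m (ugen R m g)) = _
      rw [uincl_ugen, bwd_ugen]
      cases g with
      | a => rfl
      | c => rfl
      | cb => rfl
      | ci i =>
        have hi : (i.castSucc).val < m := by simp
        simp only [UGen.castSucc, w, dif_pos hi, Fin.castLT_castSucc]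
      | cbi i =>
        have hi : (i.castSucc).val < m := by simp
        simp only [UGen.castSucc, w, dif_pos hi, Fin.castLT_castSucc]
      | cij i j h =>
        have hi : (i.castSucc).val < m := by simp
        have hj : (j.castSucc).val < m := by simp
        simp only [UGen.castSucc, w, dif_pos hi, dif_pos hj, Fin.castLT_castSucc]
    rw [hg]
    exact (map_mul (algebraMap (URing R m) (CurveAlg (URing R m) m (ugen R m))) _ _).symm

lemma bwd_fwd (z : CurveAlg (URing R m) m (ugen R m)) : bwd R m (fwd R m z) = z := by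
  obtain ⟨p, rfl⟩ := Ideal.Quotient.mk_surjective z
  induction p using MvPolynomial.induction_on with
  | C u =>
    change bwd R m (fwd R m (ck (ugen R m) u)) = ck (ugen R m) u
    rw [fwd_ck, bwd_uincl]
  | add p q hp hq => rw [map_add, map_add, map_add, hp, hq]
  | mul_X p y hp =>
    rw [map_mul, map_mul, map_mul, hp]
    congr 1
    change bwd R m (fwd R m (cx (ugen R m) y)) = cx (ugen R m) y
    rw [fwd_cx]
    cases y with
    | x2 =>
      have hl : ¬ (Fin.last m).val < m := by simp
      simp only [vals, bwd_ugen, w, dif_neg hl]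
    | x3 =>
      have hl : ¬ (Fin.last m).val < m := by simp
      simp only [vals, map_add, bwd_ugen, w, dif_neg hl]
      ring
    | xi i =>
      have hl : ¬ (Fin.last m).val < m := by simp
      have hi : (i.castSucc).val < m := by simp
      simp only [vals, bwd_ugen, w, dif_neg hl, dif_pos hi, Fin.castLT_castSucc]

/-- the isomorphism -/
noncomputable def equiv : CurveAlg (URing R m) m (ugen R m) ≃+* URing R (m + 1) :=
  RingEquiv.ofRingHom (fwd R m) (bwd R m)
    (RingHom.ext fun z => fwd_bwd R m z) (RingHom.ext fun z => bwd_fwd R m z)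

end Groth.Agent.H91.CurveU
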