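import Mathlib

/-!
# Deformations over `D = k[X]/(X^(n+1))` (helper91)

Basic lemmas on `D = k[X]/(X^(n+1))` given through an abstract isomorphism, and the existence
of a derivation `∂/∂t : B → B/t^n` for a formally smooth `D`-algebra `B`.
-/

set_option autoImplicit false
universe u
open Polynomial TensorProduct TrivSqZeroExt

namespace Groth.Agent.H91.DefDual

section Basics

variable {k : Type u} [Field k] (n : ℕ) {D : Type u} [CommRing D] [Algebra k D] (τ : D)
  (e : (k[X] ⧸ Ideal.span {(X : k[X]) ^ (n + 1)}) ≃ₐ[k] D)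
  (he : e (Ideal.Quotient.mk (Ideal.span {(X : k[X]) ^ (n + 1)}) X) = τ)

include he in
theorem tau_pow : τ ^ (n + 1) = 0 := by
  rw [← he, ← map_pow, ← map_pow,
    Ideal.Quotient.eq_zero_iff_mem.mpr (Ideal.mem_span_singleton_self _), map_zero]

include he in
/-- `k`-algebra homomorphisms out of `D` are determined by the image of `τ`. -/
theorem algHom_ext_tau {C : Type*} [Semiring C] [Algebra k C] (f g : D →ₐ[k] C)
    (h : f τ = g τ) : f = g := by
  have : f.comp e.toAlgHom = g.comp e.toAlgHom := by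
    apply Ideal.Quotient.algHom_ext
    apply Polynomial.algHom_ext
    simpa [he] using h
  ext d
  obtain ⟨x, rfl⟩ := e.surjective d
  exact congr($this x)

include he in
theorem exists_algHom_tau {C : Type*} [CommRing C] [Algebra k C] (c : C) (hc : c ^ (n + 1) = 0) :
    ∃ ψ : D →ₐ[k] C, ψ τ = c := by
  let φ : (k[X] ⧸ Ideal.span {(X : k[X]) ^ (n + 1)}) →ₐ[k] C :=
    Ideal.Quotient.liftₐ _ (Polynomial.aeval c) (by
      intro a ha
      obtain ⟨q, rfl⟩ := Ideal.mem_span_singleton.mp ha
      simp [hc])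
  refine ⟨φ.comp e.symm.toAlgHom, ?_⟩
  rw [← he]
  simp [φ]

end Basics

section Core

variable {k : Type u} [Field k] (n : ℕ) {D : Type u} [CommRing D] [Algebra k D] (τ : D)
  (e : (k[X] ⧸ Ideal.span {(X : k[X]) ^ (n + 1)}) ≃ₐ[k] D)
  (he : e (Ideal.Quotient.mk (Ideal.span {(X : k[X]) ^ (n + 1)}) X) = τ)
  {B : Type u} [CommRing B] [Algebra k B] [Algebra D B] [IsScalarTower k D B]

include he in
/-- For a formally smooth `D`-algebra `B` there is a `k`-derivation `∂ : B → B/t^n` with `∂ t = 1`. -/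
theorem exists_derivation [Algebra.FormallySmooth D B] :
    ∃ δ : Derivation k B (B ⧸ Ideal.span {(algebraMap D B τ) ^ n}), δ (algebraMap D B τ) = 1 := by
  classical
  set t : B := algebraMap D B τ with ht
  set I : Ideal B := Ideal.span {t ^ n} with hI
  let B' := B ⧸ I
  let E := TrivSqZeroExt B' B'
  have htn : (Ideal.Quotient.mk I t) ^ n = 0 := by
    rw [← map_pow]
    exact Ideal.Quotient.eq_zero_iff_mem.mpr (Ideal.mem_span_singleton_self _)
  let c : E := inl (Ideal.Quotient.mk I t) + inr (1 : B')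
  have hcfst : c.fst = Ideal.Quotient.mk I t := by
    change (inl (Ideal.Quotient.mk I t) + inr (1 : B') : E).fst = _
    rw [fst_add, fst_inl, fst_inr, add_zero]
  have hcsnd : c.snd = 1 := by
    change (inl (Ideal.Quotient.mk I t) + inr (1 : B') : E).snd = _
    rw [snd_add, snd_inl, snd_inr, zero_add]
  have hc : c ^ (n + 1) = 0 := by
    apply TrivSqZeroExt.ext
    · rw [fst_pow, fst_zero, hcfst, pow_succ, htn, zero_mul]
    · rw [snd_pow, snd_zero, hcfst, Nat.pred_succ, htn, zero_smul, smul_zero]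
  obtain ⟨ψ, hψ⟩ := exists_algHom_tau n τ e he c hc
  letI algDE : Algebra D E := ψ.toRingHom.toAlgebra
  have halgDE : ∀ d : D, @algebraMap D E _ _ algDE d = ψ d := fun _ => rfl
  let fstk : E →ₐ[k] B' := fstHom k B' B'
  have hfst : ∀ d : D, fstk (ψ d) = algebraMap D B' d := by
    intro d
    have := algHom_ext_tau n τ e he (fstk.comp ψ) (IsScalarTower.toAlgHom k D B') (by
      rw [AlgHom.comp_apply, hψ, IsScalarTower.toAlgHom_apply,
        IsScalarTower.algebraMap_apply D B (B ⧸ I)]
      exact hcfst)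
    exact congr($this d)
  let g : @AlgHom D E B' _ _ _ algDE _ :=
    { fstk.toRingHom with
      commutes' := fun d => hfst d }
  have hg : ∀ x : E, g x = x.fst := fun _ => rfl
  have hgs : Function.Surjective g := fun x => ⟨inl x, rfl⟩
  have hker2 : RingHom.ker (g : E →+* B') ^ 2 = ⊥ := by
    rw [eq_bot_iff, pow_two, Ideal.mul_le]
    intro x hx y hy
    have hx' : x.fst = 0 := hx
    have hy' : y.fst = 0 := hy
    rw [Ideal.mem_bot]
    apply TrivSqZeroExt.ext
    · rw [fst_mul, hx', zero_mul, fst_zero]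
    · rw [snd_mul, hx', hy', zero_smul, MulOpposite.op_zero, zero_smul, add_zero, snd_zero]
  have hgk : IsNilpotent (RingHom.ker (g : E →+* B')) := ⟨2, hker2⟩
  let f : B →ₐ[D] B' := Ideal.Quotient.mkₐ D I
  let σ : @AlgHom D B E _ _ _ _ algDE :=
    @Algebra.FormallySmooth.liftOfSurjective D B _ _ _ E _ algDE B' _ _ _ f g hgs hgk
  have hσ : ∀ b, (σ b).fst = Ideal.Quotient.mk I b := fun b =>
    @Algebra.FormallySmooth.liftOfSurjective_apply D B _ _ _ E _ algDE B' _ _ _ f g hgs hgk b
  have hσk : ∀ (a : k) (b : B), σ (a • b) = a • σ b := by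
    intro a b
    rw [Algebra.smul_def, map_mul, IsScalarTower.algebraMap_apply k D B]
    have h1 : σ (algebraMap D B (algebraMap k D a)) = ψ (algebraMap k D a) :=
      (@AlgHom.commutes D B E _ _ _ _ algDE σ (algebraMap k D a)).trans (halgDE _)
    rw [h1, AlgHom.commutes, Algebra.smul_def]
  let δ₀ : B →ₗ[k] B' :=
    { toFun := fun b => (σ b).snd
      map_add' := fun b b' => by rw [map_add, snd_add]
      map_smul' := fun a b => by rw [hσk, snd_smul]; rfl }
  have hδ₀ : ∀ b, δ₀ b = (σ b).snd := fun _ => rfl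
  refine ⟨Derivation.mk' δ₀ ?_, ?_⟩
  · intro a b
    rw [hδ₀, hδ₀, hδ₀, map_mul, snd_mul, hσ, hσ]
    rw [← Ideal.Quotient.algebraMap_eq, algebraMap_smul, op_smul_eq_smul, algebraMap_smul,
      add_comm]
  · change (σ t).snd = 1
    have : σ t = c := by
      rw [ht]
      exact (@AlgHom.commutes D B E _ _ _ _ algDE σ τ).trans ((halgDE _).trans hψ)
    rw [this]
    exact hcsnd

end Core

end Groth.Agent.H91.DefDual
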