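import Groth.Agent.H91.DefSeq

/-!
# Annihilators of powers of `t` in a flat `D = k[X]/(X^(n+1))`-algebra (helper91)
-/

set_option autoImplicit false
universe u
open Polynomial TensorProduct

namespace Groth.Agent.H91.DefDual

section Ann

variable {k : Type u} [Field k] (n : ℕ) {D : Type u} [CommRing D] [Algebra k D] (τ : D)
  (e : (k[X] ⧸ Ideal.span {(X : k[X]) ^ (n + 1)}) ≃ₐ[k] D)
  (he : e (Ideal.Quotient.mk (Ideal.span {(X : k[X]) ^ (n + 1)}) X) = τ)
  {B : Type u} [CommRing B] [Algebra k B] [Algebra D B] [IsScalarTower k D B]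

include he in
theorem aeval_tau_eq_zero (q : k[X]) (h : aeval τ q = 0) : X ^ (n + 1) ∣ q := by
  have h1 : (e.toAlgHom.comp (Ideal.Quotient.mkₐ k _)) = (aeval τ : k[X] →ₐ[k] D) := by
    apply Polynomial.algHom_ext
    simpa using he
  have h2 : e (Ideal.Quotient.mk _ q) = 0 := by
    rw [← h]; exact congr($h1 q)
  have h3 : Ideal.Quotient.mk (Ideal.span {(X : k[X]) ^ (n + 1)}) q = 0 := by
    apply e.injective; rw [h2, map_zero]
  exact Ideal.mem_span_singleton.mp (Ideal.Quotient.eq_zero_iff_mem.mp h3)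

include he in
theorem ann_tau_pow (j : ℕ) (hj : j ≤ n + 1) (a : D) (h : τ ^ j * a = 0) :
    ∃ a', a = τ ^ (n + 1 - j) * a' := by
  obtain ⟨p, rfl⟩ := exists_aeval n τ e he a
  have h1 : aeval τ (X ^ j * p) = 0 := by
    rw [map_mul, map_pow, aeval_X]; exact h
  have h2 := aeval_tau_eq_zero n τ e he _ h1
  have h3 : (X : k[X]) ^ (n + 1) = X ^ j * X ^ (n + 1 - j) := by
    rw [← pow_add, Nat.add_sub_cancel' hj]
  rw [h3] at h2
  have h4 : (X : k[X]) ^ (n + 1 - j) ∣ p :=
    (mul_dvd_mul_iff_left (pow_ne_zero j X_ne_zero)).mp h2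
  obtain ⟨q, rfl⟩ := h4
  exact ⟨aeval τ q, by rw [map_mul, map_pow, aeval_X]⟩

include he in
theorem ann_t_pow [Module.Flat D B] (j : ℕ) (hj : j ≤ n + 1) (b : B)
    (h : (algebraMap D B τ) ^ j * b = 0) :
    b ∈ Ideal.span {(algebraMap D B τ) ^ (n + 1 - j)} := by
  have hrel : ∑ i : Unit, (fun _ : Unit => τ ^ j) i • (fun _ : Unit => b) i = 0 := by
    simp only [Finset.univ_unique, Finset.sum_singleton]
    rw [Algebra.smul_def, map_pow]; exact h
  obtain ⟨m, a, y, hxy, hfa⟩ := Module.Flat.isTrivialRelation_of_sum_smul_eq_zero (R := D) (M := B)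
    (f := fun _ : Unit => τ ^ j) (x := fun _ : Unit => b) hrel
  have hb : b = ∑ l, a () l • y l := hxy ()
  rw [hb]
  refine Ideal.sum_mem _ (fun l _ => ?_)
  have h1 : τ ^ j * a () l = 0 := by
    have := hfa l
    simpa using this
  obtain ⟨a', ha'⟩ := ann_tau_pow n τ e he j hj _ h1
  rw [ha', Algebra.smul_def, map_mul, map_pow, mul_assoc]
  exact Ideal.mul_mem_right _ _ (Ideal.mem_span_singleton_self _)

omit [Algebra k B] [IsScalarTower k D B] in
include he in
theorem t_pow_succ : (algebraMap D B τ) ^ (n + 1) = 0 := by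
  rw [← map_pow, tau_pow n τ e he, map_zero]

end Ann

end Groth.Agent.H91.DefDual
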