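import Groth.Agent.H91.DefFlat

/-!
# The map `μ : B → B' × (B' ⊗ Ω[B/k])` for a flat deformation over `D = k[X]/(X^(n+1))` (helper91)
-/

set_option autoImplicit false
universe u
open Polynomial TensorProduct

namespace Groth.Agent.H91.DefDual

section Mu

variable {k : Type u} [Field k] (n : ℕ) {D : Type u} [CommRing D] [Algebra k D] (τ : D)
  (e : (k[X] ⧸ Ideal.span {(X : k[X]) ^ (n + 1)}) ≃ₐ[k] D)
  (he : e (Ideal.Quotient.mk (Ideal.span {(X : k[X]) ^ (n + 1)}) X) = τ)
  {B : Type u} [CommRing B] [Algebra k B] [Algebra D B] [IsScalarTower k D B]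

local notation "T" => (algebraMap D B τ)
local notation "B'" => (B ⧸ Ideal.span {(algebraMap D B τ) ^ n})

omit [IsScalarTower k D B] in
/-- `1 ⊗ (b • ω) = mk b • (1 ⊗ ω)` in `B' ⊗ Ω`. -/
theorem one_tmul_smul (b : B) (ω : Ω[B⁄k]) :
    (1 : B') ⊗ₜ[B] (b • ω) = (Ideal.Quotient.mk _ b : B') • ((1 : B') ⊗ₜ[B] ω) := by
  rw [TensorProduct.smul_tmul', smul_eq_mul, mul_one, ← TensorProduct.smul_tmul,
    Algebra.smul_def, mul_one, Ideal.Quotient.algebraMap_eq]

omit [IsScalarTower k D B] in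
/-- `1 ⊗ d(c t^n) = mk (n c t^(n-1)) • (1 ⊗ dt)`. -/
theorem one_tmul_D_mul_pow (c : B) :
    (1 : B') ⊗ₜ[B] KaehlerDifferential.D k B (c * T ^ n) =
      (Ideal.Quotient.mk _ (c * ((n : B) * T ^ (n - 1))) : B') •
        ((1 : B') ⊗ₜ[B] KaehlerDifferential.D k B T) := by
  rw [Derivation.leibniz, Derivation.leibniz_pow, TensorProduct.tmul_add, one_tmul_smul,
    one_tmul_smul n τ (T ^ n)]
  have h0 : (Ideal.Quotient.mk (Ideal.span {T ^ n}) (T ^ n) : B') = 0 :=
    Ideal.Quotient.eq_zero_iff_mem.mpr (Ideal.mem_span_singleton_self _)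
  rw [h0, zero_smul, add_zero, ← Nat.cast_smul_eq_nsmul B, smul_smul, one_tmul_smul, smul_smul,
    ← map_mul]

include he in
theorem mu_injective [CharZero k] (hn : 1 ≤ n) [Module.Flat D B] [Algebra.FormallySmooth D B] :
    Function.Injective (fun f : B =>
      ((Ideal.Quotient.mk (Ideal.span {T ^ n}) f,
        (1 : B') ⊗ₜ[B] KaehlerDifferential.D k B f) : B' × (B' ⊗[B] Ω[B⁄k]))) := by
  intro f g hfg
  have h1 : Ideal.Quotient.mk (Ideal.span {T ^ n}) f = Ideal.Quotient.mk _ g :=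
    congrArg Prod.fst hfg
  have h2 : (1 : B') ⊗ₜ[B] KaehlerDifferential.D k B f = (1 : B') ⊗ₜ[B] KaehlerDifferential.D k B g :=
    congrArg Prod.snd hfg
  have h3 : f - g ∈ Ideal.span {T ^ n} := Ideal.Quotient.eq.mp h1
  obtain ⟨c, hc⟩ := Ideal.mem_span_singleton'.mp h3
  have h4 : (1 : B') ⊗ₜ[B] KaehlerDifferential.D k B (c * T ^ n) = 0 := by
    rw [hc, map_sub, TensorProduct.tmul_sub, h2, sub_self]
  rw [one_tmul_D_mul_pow] at h4
  obtain ⟨-, hinj, -, -⟩ := dt_sequence n τ e he (B := B)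
  have h5 : (Ideal.Quotient.mk (Ideal.span {T ^ n}) (c * ((n : B) * T ^ (n - 1))) : B') = 0 := by
    apply hinj
    rw [map_zero]
    exact h4
  have h6 : c * ((n : B) * T ^ (n - 1)) ∈ Ideal.span {T ^ n} := Ideal.Quotient.eq_zero_iff_mem.mp h5
  obtain ⟨c', hc'⟩ := Ideal.mem_span_singleton'.mp h6
  -- invert n
  have hnk : (n : k) ≠ 0 := by
    have : n ≠ 0 := by omega
    exact_mod_cast this
  set u : B := algebraMap k B ((n : k)⁻¹) with hu
  have hun : u * (n : B) = 1 := by
    rw [hu, ← map_natCast (algebraMap k B), ← map_mul, inv_mul_cancel₀ hnk, map_one]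
  have hTn : T ^ n = T ^ (n - 1) * T := by
    rw [← pow_succ, Nat.sub_add_cancel hn]
  have h7 : T ^ (n - 1) * (c - T * (u * c')) = 0 := by
    have : c * T ^ (n - 1) = u * (c' * T ^ n) := by
      rw [hc']
      calc c * T ^ (n - 1) = (u * (n : B)) * (c * T ^ (n - 1)) := by rw [hun, one_mul]
        _ = u * (c * ((n : B) * T ^ (n - 1))) := by ring
    rw [mul_sub, mul_comm (T ^ (n - 1)) c, this, hTn]; ring
  have h8 := ann_t_pow n τ e he (n - 1) (by omega) _ h7
  have h9 : n + 1 - (n - 1) = 2 := by omega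
  rw [h9] at h8
  obtain ⟨c'', hc''⟩ := Ideal.mem_span_singleton'.mp h8
  have h10 : c = T * (u * c' + c'' * T) := by
    have : c = (c - T * (u * c')) + T * (u * c') := by ring
    rw [this, ← hc'']; ring
  have h11 : f - g = 0 := by
    rw [← hc, h10]
    calc T * (u * c' + c'' * T) * T ^ n = (u * c' + c'' * T) * T ^ (n + 1) := by ring
      _ = 0 := by rw [t_pow_succ n τ e he, mul_zero]
  exact sub_eq_zero.mp h11

theorem mu_range :
    Set.range (fun f : B =>
      ((Ideal.Quotient.mk (Ideal.span {T ^ n}) f,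
        (1 : B') ⊗ₜ[B] KaehlerDifferential.D k B f) : B' × (B' ⊗[B] Ω[B⁄k]))) =
      {p | KaehlerDifferential.D k B' p.1 = KaehlerDifferential.mapBaseChange k B B' p.2} := by
  ext ⟨g, α⟩
  constructor
  · rintro ⟨f, hf⟩
    have h1 : Ideal.Quotient.mk (Ideal.span {T ^ n}) f = g := congrArg Prod.fst hf
    have h2 : (1 : B') ⊗ₜ[B] KaehlerDifferential.D k B f = α := congrArg Prod.snd hf
    change KaehlerDifferential.D k B' g = KaehlerDifferential.mapBaseChange k B B' α
    rw [← h1, ← h2, KaehlerDifferential.mapBaseChange_tmul, one_smul, KaehlerDifferential.map_D]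
    rfl
  · intro h
    change KaehlerDifferential.D k B' g = KaehlerDifferential.mapBaseChange k B B' α at h
    obtain ⟨f₀, rfl⟩ := Ideal.Quotient.mk_surjective g
    have hβ : KaehlerDifferential.mapBaseChange k B B'
        (α - (1 : B') ⊗ₜ[B] KaehlerDifferential.D k B f₀) = 0 := by
      rw [map_sub, ← h, KaehlerDifferential.mapBaseChange_tmul, one_smul,
        KaehlerDifferential.map_D]
      exact sub_self _
    have hsurj : Function.Surjective (algebraMap B B') := Ideal.Quotient.mk_surjective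
    obtain ⟨y, hy⟩ :=
      (KaehlerDifferential.exact_kerCotangentToTensor_mapBaseChange k B B' hsurj _).mp hβ
    obtain ⟨x, rfl⟩ := Ideal.toCotangent_surjective _ y
    rw [KaehlerDifferential.kerCotangentToTensor_toCotangent] at hy
    refine ⟨f₀ + x.1, ?_⟩
    have hx : Ideal.Quotient.mk (Ideal.span {T ^ n}) x.1 = 0 := RingHom.mem_ker.mp x.2
    ext
    · change Ideal.Quotient.mk (Ideal.span {T ^ n}) (f₀ + x.1) = Ideal.Quotient.mk _ f₀
      rw [map_add, hx, add_zero]
    · change (1 : B') ⊗ₜ[B] KaehlerDifferential.D k B (f₀ + x.1) = α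
      rw [map_add, TensorProduct.tmul_add, hy]; abel

end Mu

end Groth.Agent.H91.DefDual
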