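import Groth.Agent.H91.DefMu
import Mathlib.LinearAlgebra.TensorProduct.Quotient

/-!
# The map `ν : Ω[B/k] → Ω[B/D] × (B' ⊗ Ω[B/k])` for a flat deformation over `D = k[X]/(X^(n+1))`
(helper91)
-/

set_option autoImplicit false
universe u
open Polynomial TensorProduct

namespace Groth.Agent.H91.DefDual

section Gen

variable {R : Type u} [CommRing R] (I : Ideal R) {M : Type u} [AddCommGroup M] [Module R M]

/-- every element of `(R/I) ⊗ M` is of the form `1 ⊗ m`. -/
theorem exists_one_tmul (x : (R ⧸ I) ⊗[R] M) : ∃ m : M, x = (1 : R ⧸ I) ⊗ₜ[R] m := by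
  induction x using TensorProduct.induction_on with
  | zero => exact ⟨0, by rw [TensorProduct.tmul_zero]⟩
  | tmul b m =>
    obtain ⟨r, rfl⟩ := Ideal.Quotient.mk_surjective b
    refine ⟨r • m, ?_⟩
    rw [← TensorProduct.smul_tmul, Algebra.smul_def, mul_one, Ideal.Quotient.algebraMap_eq]
  | add x y hx hy =>
    obtain ⟨a, rfl⟩ := hx
    obtain ⟨b, rfl⟩ := hy
    exact ⟨a + b, by rw [TensorProduct.tmul_add]⟩

/-- `1 ⊗ m = 0` in `(R/(r)) ⊗ M` iff `m ∈ r M`. -/
theorem one_tmul_eq_zero_span_singleton (r : R) (m : M)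
    (h : (1 : R ⧸ Ideal.span {r}) ⊗ₜ[R] m = 0) : ∃ m' : M, m = r • m' := by
  have h1 : TensorProduct.quotTensorEquivQuotSMul M (Ideal.span {r}) ((1 : R ⧸ Ideal.span {r}) ⊗ₜ[R] m) = 0 := by
    rw [h, map_zero]
  rw [TensorProduct.quotTensorEquivQuotSMul_mk_one_tmul, Submodule.Quotient.mk_eq_zero,
    Submodule.ideal_span_singleton_smul, Submodule.mem_smul_pointwise_iff_exists] at h1
  obtain ⟨m', -, hm'⟩ := h1
  exact ⟨m', hm'.symm⟩

end Gen

section Nu

variable {k : Type u} [Field k] (n : ℕ) {D : Type u} [CommRing D] [Algebra k D] (τ : D)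
  (e : (k[X] ⧸ Ideal.span {(X : k[X]) ^ (n + 1)}) ≃ₐ[k] D)
  (he : e (Ideal.Quotient.mk (Ideal.span {(X : k[X]) ^ (n + 1)}) X) = τ)
  {B : Type u} [CommRing B] [Algebra k B] [Algebra D B] [IsScalarTower k D B]

local notation "T" => (algebraMap D B τ)
local notation "B'" => (B ⧸ Ideal.span {(algebraMap D B τ) ^ n})

include he in
/-- `t^n dt = 0` in `Ω[B/k]` when `n + 1` is invertible. -/
theorem t_pow_smul_dt [CharZero k] : T ^ n • KaehlerDifferential.D k B T = 0 := by
  have h1 : KaehlerDifferential.D k B (T ^ (n + 1)) = 0 := by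
    rw [t_pow_succ n τ e he, map_zero]
  rw [Derivation.leibniz_pow, Nat.add_sub_cancel, ← Nat.cast_smul_eq_nsmul k] at h1
  have hnk : ((n + 1 : ℕ) : k) ≠ 0 := by exact_mod_cast Nat.succ_ne_zero n
  exact (smul_eq_zero_iff_right hnk).mp h1

/-- compatibility of the four maps of differentials. -/
theorem map_map_eq (η : Ω[B⁄k]) :
    KaehlerDifferential.map D D B B' (KaehlerDifferential.map k D B B η) =
      KaehlerDifferential.map k D B' B'
        (KaehlerDifferential.mapBaseChange k B B' ((1 : B') ⊗ₜ[B] η)) := by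
  rw [KaehlerDifferential.mapBaseChange_tmul, one_smul]
  have hη : η ∈ Submodule.span B (Set.range (KaehlerDifferential.D k B)) := by
    rw [KaehlerDifferential.span_range_derivation]; trivial
  induction hη using Submodule.span_induction with
  | mem y hy =>
    obtain ⟨b, rfl⟩ := hy
    rw [KaehlerDifferential.map_D, KaehlerDifferential.map_D, KaehlerDifferential.map_D,
      KaehlerDifferential.map_D]
    rfl
  | zero => simp
  | add y z _ _ hy hz => rw [map_add, map_add, map_add, map_add, hy, hz]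
  | smul b y _ hy =>
    rw [map_smul, map_smul, map_smul, hy,
      ← algebraMap_smul B' b (KaehlerDifferential.map k k B B' y), map_smul, algebraMap_smul]

include he in
theorem nu_injective [CharZero k] [Algebra.FormallySmooth D B] :
    Function.Injective (fun η : Ω[B⁄k] =>
      ((KaehlerDifferential.map k D B B η, (1 : B') ⊗ₜ[B] η) : Ω[B⁄D] × (B' ⊗[B] Ω[B⁄k]))) := by
  intro η₁ η₂ h
  have h1 : KaehlerDifferential.map k D B B η₁ = KaehlerDifferential.map k D B B η₂ :=
    congrArg Prod.fst h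
  have h2 : (1 : B') ⊗ₜ[B] η₁ = (1 : B') ⊗ₜ[B] η₂ := congrArg Prod.snd h
  have h3 : η₁ - η₂ ∈ LinearMap.ker (KaehlerDifferential.map k D B B) := by
    rw [LinearMap.mem_ker, map_sub, h1, sub_self]
  obtain ⟨b, hb⟩ := Submodule.mem_span_singleton.mp (ker_map_le n τ e he h3)
  have h4 : (1 : B') ⊗ₜ[B] (b • KaehlerDifferential.D k B T) = 0 := by
    rw [hb, TensorProduct.tmul_sub, h2, sub_self]
  rw [one_tmul_smul] at h4
  obtain ⟨-, hinj, -, -⟩ := dt_sequence n τ e he (B := B)
  have h5 : (Ideal.Quotient.mk (Ideal.span {T ^ n}) b : B') = 0 := by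
    apply hinj
    rw [map_zero]
    exact h4
  obtain ⟨c, hc⟩ := Ideal.mem_span_singleton'.mp (Ideal.Quotient.eq_zero_iff_mem.mp h5)
  have h6 : η₁ - η₂ = 0 := by
    rw [← hb, ← hc, mul_smul, t_pow_smul_dt n τ e he, smul_zero]
  exact sub_eq_zero.mp h6

theorem nu_range :
    Set.range (fun η : Ω[B⁄k] =>
      ((KaehlerDifferential.map k D B B η, (1 : B') ⊗ₜ[B] η) : Ω[B⁄D] × (B' ⊗[B] Ω[B⁄k]))) =
      {p | KaehlerDifferential.map D D B B' p.1 =
        KaehlerDifferential.map k D B' B' (KaehlerDifferential.mapBaseChange k B B' p.2)} := by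
  ext ⟨α, β⟩
  constructor
  · rintro ⟨η, hη⟩
    have h1 : KaehlerDifferential.map k D B B η = α := congrArg Prod.fst hη
    have h2 : (1 : B') ⊗ₜ[B] η = β := congrArg Prod.snd hη
    change KaehlerDifferential.map D D B B' α =
        KaehlerDifferential.map k D B' B' (KaehlerDifferential.mapBaseChange k B B' β)
    rw [← h1, ← h2]
    exact map_map_eq n τ η
  · intro h
    change KaehlerDifferential.map D D B B' α =
        KaehlerDifferential.map k D B' B' (KaehlerDifferential.mapBaseChange k B B' β) at h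
    obtain ⟨η₀, rfl⟩ := exists_one_tmul (Ideal.span {T ^ n}) β
    rw [← map_map_eq] at h
    have hsurj : Function.Surjective (algebraMap B B') := Ideal.Quotient.mk_surjective
    -- α' = α - map η₀ dies in Ω[B'/D]
    have h1 : KaehlerDifferential.mapBaseChange D B B'
        ((1 : B') ⊗ₜ[B] (α - KaehlerDifferential.map k D B B η₀)) = 0 := by
      rw [KaehlerDifferential.mapBaseChange_tmul, one_smul, map_sub, h, sub_self]
    obtain ⟨y, hy⟩ :=
      (KaehlerDifferential.exact_kerCotangentToTensor_mapBaseChange D B B' hsurj _).mp h1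
    obtain ⟨x, rfl⟩ := Ideal.toCotangent_surjective _ y
    rw [KaehlerDifferential.kerCotangentToTensor_toCotangent] at hy
    have hx : x.1 ∈ Ideal.span {T ^ n} :=
      Ideal.Quotient.eq_zero_iff_mem.mp (RingHom.mem_ker.mp x.2)
    obtain ⟨c, hc⟩ := Ideal.mem_span_singleton'.mp hx
    have h2 : (1 : B') ⊗ₜ[B] KaehlerDifferential.D D B x.1 = 0 := by
      rw [← hc, Derivation.leibniz, ← map_pow, Derivation.map_algebraMap, smul_zero, zero_add,
        ← TensorProduct.smul_tmul, Algebra.smul_def, mul_one, Ideal.Quotient.algebraMap_eq,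
        map_pow]
      have : (Ideal.Quotient.mk (Ideal.span {T ^ n}) (T ^ n) : B') = 0 :=
        Ideal.Quotient.eq_zero_iff_mem.mpr (Ideal.mem_span_singleton_self _)
      rw [this, TensorProduct.zero_tmul]
    rw [h2] at hy
    obtain ⟨γ, hγ⟩ := one_tmul_eq_zero_span_singleton (T ^ n) _ hy.symm
    obtain ⟨ω, rfl⟩ := KaehlerDifferential.map_surjective k D B γ
    refine ⟨η₀ + T ^ n • ω, ?_⟩
    ext : 1
    · change KaehlerDifferential.map k D B B (η₀ + T ^ n • ω) = α
      rw [map_add, map_smul, ← hγ]; abel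
    · change (1 : B') ⊗ₜ[B] (η₀ + T ^ n • ω) = (1 : B') ⊗ₜ[B] η₀
      rw [TensorProduct.tmul_add, one_tmul_smul]
      have : (Ideal.Quotient.mk (Ideal.span {T ^ n}) (T ^ n) : B') = 0 :=
        Ideal.Quotient.eq_zero_iff_mem.mpr (Ideal.mem_span_singleton_self _)
      rw [this, zero_smul, add_zero]

end Nu

end Groth.Agent.H91.DefDual
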