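import Groth.Agent.H91.DefSmooth

/-!
# The `dt` sequence for a flat deformation over `D = k[X]/(X^(n+1))` (helper91)
-/

set_option autoImplicit false
universe u
open Polynomial TensorProduct

namespace Groth.Agent.H91.DefDual

section General

/-- A module sitting in `R → M → Q → 0` with `R → M` split and `Q` projective is projective. -/
theorem projective_of_split {R M Q : Type*} [CommRing R] [AddCommGroup M] [Module R M]
    [AddCommGroup Q] [Module R Q] [Module.Projective R Q]
    (i : R →ₗ[R] M) (p : M →ₗ[R] Q) (Ψ : M →ₗ[R] R) (hΨ : ∀ r, Ψ (i r) = r)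
    (hp : Function.Surjective p) (hex : Function.Exact i p) : Module.Projective R M := by
  have hinj : Function.Injective (Ψ.prod p) := by
    rw [injective_iff_map_eq_zero]
    intro m hm
    have h1 : Ψ m = 0 := congrArg Prod.fst hm
    have h2 : p m = 0 := congrArg Prod.snd hm
    obtain ⟨r, rfl⟩ := (hex m).mp h2
    rw [hΨ] at h1
    rw [h1, map_zero]
  have hsurj : Function.Surjective (Ψ.prod p) := by
    rintro ⟨r, q⟩
    obtain ⟨m₀, hm₀⟩ := hp q
    refine ⟨m₀ + i (r - Ψ m₀), ?_⟩
    have hpi : p (i (r - Ψ m₀)) = 0 := (hex _).mpr ⟨_, rfl⟩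
    ext
    · simp [hΨ]
    · change p (m₀ + i (r - Ψ m₀)) = q
      rw [map_add, hpi, add_zero, hm₀]
  exact Module.Projective.of_equiv (LinearEquiv.ofBijective (Ψ.prod p) ⟨hinj, hsurj⟩).symm

end General

section Seq

variable {k : Type u} [Field k] (n : ℕ) {D : Type u} [CommRing D] [Algebra k D] (τ : D)
  (e : (k[X] ⧸ Ideal.span {(X : k[X]) ^ (n + 1)}) ≃ₐ[k] D)
  (he : e (Ideal.Quotient.mk (Ideal.span {(X : k[X]) ^ (n + 1)}) X) = τ)
  {B : Type u} [CommRing B] [Algebra k B] [Algebra D B] [IsScalarTower k D B]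

include he in
theorem exists_aeval (d : D) : ∃ p : k[X], d = aeval τ p := by
  obtain ⟨x, rfl⟩ := e.surjective d
  obtain ⟨p, rfl⟩ := Ideal.Quotient.mk_surjective x
  refine ⟨p, ?_⟩
  have : (e.toAlgHom.comp (Ideal.Quotient.mkₐ k _)) = (aeval τ : k[X] →ₐ[k] D) := by
    apply Polynomial.algHom_ext
    simpa using he
  exact congr($this p)

include he in
/-- The kernel of `Ω[B/k] → Ω[B/D]` is generated by `dt`. -/
theorem ker_map_le :
    LinearMap.ker (KaehlerDifferential.map k D B B) ≤
      Submodule.span B {KaehlerDifferential.D k B (algebraMap D B τ)} := by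
  rw [← KaehlerDifferential.range_mapBaseChange]
  rintro _ ⟨x, rfl⟩
  induction x using TensorProduct.induction_on with
  | zero => simp
  | tmul b ω =>
    rw [KaehlerDifferential.mapBaseChange_tmul]
    apply Submodule.smul_mem
    have hω : ω ∈ Submodule.span D (Set.range (KaehlerDifferential.D k D)) := by
      rw [KaehlerDifferential.span_range_derivation]; trivial
    induction hω using Submodule.span_induction with
    | mem y hy =>
      obtain ⟨d, rfl⟩ := hy
      obtain ⟨p, rfl⟩ := exists_aeval n τ e he d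
      rw [KaehlerDifferential.map_D, ← Polynomial.aeval_algebraMap_apply, Derivation.map_aeval]
      exact Submodule.smul_mem _ _ (Submodule.subset_span rfl)
    | zero => simp
    | add y z _ _ hy hz => rw [map_add]; exact add_mem hy hz
    | smul d y _ hy =>
      rw [map_smul, ← algebraMap_smul B d]
      exact Submodule.smul_mem _ _ hy
  | add x y hx hy => rw [map_add]; exact add_mem hx hy

end Seq


section Main

variable {k : Type u} [Field k] (n : ℕ) {D : Type u} [CommRing D] [Algebra k D] (τ : D)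
  (e : (k[X] ⧸ Ideal.span {(X : k[X]) ^ (n + 1)}) ≃ₐ[k] D)
  (he : e (Ideal.Quotient.mk (Ideal.span {(X : k[X]) ^ (n + 1)}) X) = τ)
  {B : Type u} [CommRing B] [Algebra k B] [Algebra D B] [IsScalarTower k D B]

local notation "T" => (algebraMap D B τ)
local notation "B'" => (B ⧸ Ideal.span {(algebraMap D B τ) ^ n})

include he in
/-- A `B'`-linear functional on `B' ⊗ Ω[B/k]` taking the value `1` on `1 ⊗ dt`. -/
theorem exists_Psi [Algebra.FormallySmooth D B] :
    ∃ Ψ : B' ⊗[B] Ω[B⁄k] →ₗ[B'] B', ∀ (b : B') (ω : Ω[B⁄k]) ,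
      Ψ (b ⊗ₜ ω) = b * Ψ (1 ⊗ₜ ω) ∧ Ψ ((1 : B') ⊗ₜ[B] KaehlerDifferential.D k B T) = 1 := by
  obtain ⟨δ, hδ⟩ := exists_derivation n τ e he (B := B)
  let Φ : Ω[B⁄k] →ₗ[B] B' := δ.liftKaehlerDifferential
  have hΦ : Φ (KaehlerDifferential.D k B T) = 1 := by
    rw [Derivation.liftKaehlerDifferential_comp_D]; exact hδ
  refine ⟨LinearMap.liftBaseChange B' Φ, fun b ω => ⟨?_, ?_⟩⟩
  · rw [LinearMap.liftBaseChange_tmul, LinearMap.liftBaseChange_tmul, one_smul, smul_eq_mul]
  · rw [LinearMap.liftBaseChange_tmul, hΦ, one_smul]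

include he in
/-- The `dt`-sequence `B' → B' ⊗ Ω[B/k] → B' ⊗ Ω[B/D] → 0`. -/
theorem dt_sequence [Algebra.FormallySmooth D B] :
    Module.Projective B' (B' ⊗[B] Ω[B⁄k]) ∧
    Function.Injective
      (LinearMap.toSpanSingleton B' (B' ⊗[B] Ω[B⁄k])
        ((1 : B') ⊗ₜ[B] KaehlerDifferential.D k B T)) ∧
    Function.Exact
      (LinearMap.toSpanSingleton B' (B' ⊗[B] Ω[B⁄k])
        ((1 : B') ⊗ₜ[B] KaehlerDifferential.D k B T))
      (LinearMap.baseChange B' (KaehlerDifferential.map k D B B)) ∧
    Function.Surjective (LinearMap.baseChange B' (KaehlerDifferential.map k D B B)) := by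
  obtain ⟨Ψ, hΨ⟩ := exists_Psi n τ e he (B := B)
  have hΨ1 : Ψ ((1 : B') ⊗ₜ[B] KaehlerDifferential.D k B T) = 1 := (hΨ 1 0).2
  let i := LinearMap.toSpanSingleton B' (B' ⊗[B] Ω[B⁄k])
        ((1 : B') ⊗ₜ[B] KaehlerDifferential.D k B T)
  let p := LinearMap.baseChange B' (KaehlerDifferential.map k D B B)
  have hi : ∀ r, i r = r • ((1 : B') ⊗ₜ[B] KaehlerDifferential.D k B T) := fun _ => rfl
  have hΨi : ∀ r, Ψ (i r) = r := by
    intro r
    rw [hi, map_smul, hΨ1, smul_eq_mul, mul_one]
  have hp : Function.Surjective p :=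
    LinearMap.lTensor_surjective B' (KaehlerDifferential.map_surjective k D B)
  have hinj : Function.Injective i := Function.LeftInverse.injective hΨi
  have hex : Function.Exact i p := by
    intro m
    constructor
    · intro hm
      have hex0 : Function.Exact (LinearMap.ker (KaehlerDifferential.map k D B B)).subtype
          (KaehlerDifferential.map k D B B) := LinearMap.exact_subtype_ker_map _
      have hex1 := lTensor_exact B' hex0 (KaehlerDifferential.map_surjective k D B)
      obtain ⟨y, rfl⟩ := (hex1 m).mp hm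
      clear hm
      induction y using TensorProduct.induction_on with
      | zero => exact ⟨0, by simp⟩
      | tmul b x =>
        obtain ⟨c, hc⟩ := Submodule.mem_span_singleton.mp (ker_map_le n τ e he x.2)
        refine ⟨b * Ideal.Quotient.mk _ c, ?_⟩
        rw [hi, LinearMap.lTensor_tmul, Submodule.subtype_apply, ← hc]
        calc (b * Ideal.Quotient.mk _ c) • ((1 : B') ⊗ₜ[B] KaehlerDifferential.D k B T)
            = (b * Ideal.Quotient.mk _ c) ⊗ₜ[B] KaehlerDifferential.D k B T := by
              rw [TensorProduct.smul_tmul', smul_eq_mul, mul_one]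
          _ = (c • b) ⊗ₜ[B] KaehlerDifferential.D k B T := by
              congr 1
              rw [mul_comm, ← smul_eq_mul, ← Ideal.Quotient.algebraMap_eq, algebraMap_smul]
          _ = b ⊗ₜ[B] (c • KaehlerDifferential.D k B T) := by
              rw [TensorProduct.smul_tmul]
      | add y z hy hz =>
        obtain ⟨a, ha⟩ := hy
        obtain ⟨b, hb⟩ := hz
        exact ⟨a + b, by rw [map_add, ha, hb, map_add]⟩
    · rintro ⟨r, rfl⟩
      rw [hi, map_smul]
      change r • ((1 : B') ⊗ₜ[B] (KaehlerDifferential.map k D B B (KaehlerDifferential.D k B T))) = 0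
      rw [KaehlerDifferential.map_D]
      have : (algebraMap B B) T = algebraMap D B τ := rfl
      rw [this, Derivation.map_algebraMap, TensorProduct.tmul_zero, smul_zero]
  have : Module.Projective B (Ω[B⁄D]) := inferInstance
  have hprojQ : Module.Projective B' (B' ⊗[B] Ω[B⁄D]) := inferInstance
  exact ⟨projective_of_split i p Ψ hΨi hp hex, hinj, hex, hp⟩

end Main

end Groth.Agent.H91.DefDual
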