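import Groth.Agent.H91.DefDual
set_option autoImplicit false
universe u
open Polynomial TensorProduct

namespace Groth.Agent.H91.DefDual

section Decomp

variable {k : Type u} [Field k] (n : ℕ) {D : Type u} [CommRing D] [Algebra k D] (τ : D)
  (e : (k[X] ⧸ Ideal.span {(X : k[X]) ^ (n + 1)}) ≃ₐ[k] D)
  (he : e (Ideal.Quotient.mk (Ideal.span {(X : k[X]) ^ (n + 1)}) X) = τ)

include he in
theorem exists_decomp (d : D) : ∃ (a : k) (d' : D), d = algebraMap k D a + τ * d' := by
  obtain ⟨x, rfl⟩ := e.surjective d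
  obtain ⟨p, rfl⟩ := Ideal.Quotient.mk_surjective x
  refine ⟨p.coeff 0, e (Ideal.Quotient.mk _ p.divX), ?_⟩
  rw [← he, ← map_mul, ← map_mul, ← AlgEquiv.commutes e, ← map_add]
  congr 1
  rw [← Ideal.Quotient.mkₐ_eq_mk k, ← AlgHom.commutes (Ideal.Quotient.mkₐ k _), ← map_add]
  congr 1
  conv_lhs => rw [← Polynomial.divX_mul_X_add p]
  rw [Polynomial.algebraMap_apply, Algebra.algebraMap_self, RingHom.id_apply, add_comm, mul_comm]

omit he in
include e in
theorem isNoetherianRing : IsNoetherianRing D :=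
  isNoetherianRing_of_ringEquiv _ e.toRingEquiv

include he in
theorem isMaximal_span_tau : (Ideal.span {τ} : Ideal D).IsMaximal := by
  have hne : (1 : D) ∉ Ideal.span {τ} := by
    intro h1
    obtain ⟨c, hc⟩ := Ideal.mem_span_singleton'.mp h1
    obtain ⟨ψ, hψ⟩ := exists_algHom_tau n τ e he (0 : k) (by simp)
    have : ψ 1 = 0 := by rw [← hc, map_mul, hψ, mul_zero]
    rw [map_one] at this
    exact one_ne_zero this
  rw [Ideal.isMaximal_iff]
  refine ⟨hne, fun J x hIJ hx hxJ => ?_⟩
  obtain ⟨a, d', rfl⟩ := exists_decomp n τ e he x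
  have hτJ : τ ∈ J := hIJ (Ideal.mem_span_singleton_self τ)
  have ha : algebraMap k D a ∈ J := by
    have := J.sub_mem hxJ (J.mul_mem_right d' hτJ)
    simpa using this
  have h0 : a ≠ 0 := by
    rintro rfl
    apply hx
    rw [map_zero, zero_add]
    exact Ideal.mul_mem_right _ _ (Ideal.mem_span_singleton_self τ)
  have : (1 : D) = algebraMap k D a⁻¹ * algebraMap k D a := by
    rw [← map_mul, inv_mul_cancel₀ h0, map_one]
  rw [this]
  exact J.mul_mem_left _ ha

include he in
/-- every prime of `D` is `(τ)`. -/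
theorem prime_eq (I : Ideal D) [I.IsPrime] : I = Ideal.span {τ} := by
  have hτ : τ ∈ I := Ideal.IsPrime.mem_of_pow_mem inferInstance (n + 1) (by
    rw [tau_pow n τ e he]; exact I.zero_mem)
  refine le_antisymm ?_ ((Ideal.span_singleton_le_iff_mem I).mpr hτ)
  intro d hd
  obtain ⟨a, d', rfl⟩ := exists_decomp n τ e he d
  have ha : algebraMap k D a ∈ I := by
    have := I.sub_mem hd (I.mul_mem_right d' hτ)
    simpa using this
  by_cases h0 : a = 0
  · rw [h0, map_zero, zero_add]
    exact Ideal.mul_mem_right _ _ (Ideal.mem_span_singleton_self τ)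
  · exfalso
    apply (inferInstance : I.IsPrime).ne_top
    rw [Ideal.eq_top_iff_one]
    have : (1 : D) = algebraMap k D a⁻¹ * algebraMap k D a := by
      rw [← map_mul, inv_mul_cancel₀ h0, map_one]
    rw [this]
    exact I.mul_mem_left _ ha

end Decomp


section Fibre

variable {k : Type u} [Field k] (n : ℕ) {D : Type u} [CommRing D] [Algebra k D] (τ : D)
  (e : (k[X] ⧸ Ideal.span {(X : k[X]) ^ (n + 1)}) ≃ₐ[k] D)
  (he : e (Ideal.Quotient.mk (Ideal.span {(X : k[X]) ^ (n + 1)}) X) = τ)
  {B : Type u} [CommRing B] [Algebra k B] [Algebra D B] [IsScalarTower k D B]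

include he in
theorem formallySmooth_fiber
    (hsm : Algebra.FormallySmooth k (B ⧸ Ideal.span {algebraMap D B τ}))
    (I : Ideal D) [I.IsPrime] : Algebra.FormallySmooth I.ResidueField (I.Fiber B) := by
  have hI : I = Ideal.span {τ} := prime_eq n τ e he I
  have hτI : τ ∈ I := hI ▸ Ideal.mem_span_singleton_self τ
  set t : B := algebraMap D B τ with ht
  let B₀ := B ⧸ Ideal.span {t}
  let κ := I.ResidueField
  have hτκ : algebraMap D κ τ = 0 := Ideal.algebraMap_residueField_eq_zero.mpr hτI
  -- every element of κ comes from k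
  have hDk : ∀ d : D, ∃ a : k, algebraMap D κ d = algebraMap k κ a := by
    intro d
    obtain ⟨a, d', rfl⟩ := exists_decomp n τ e he d
    refine ⟨a, ?_⟩
    rw [map_add, map_mul, hτκ, zero_mul, add_zero, ← IsScalarTower.algebraMap_apply]
  have hmax : I.IsMaximal := hI ▸ isMaximal_span_tau n τ e he
  have hsurjDκ : Function.Surjective (algebraMap D κ) := Ideal.algebraMap_residueField_surjective I
  have hsurjkκ : Function.Surjective (algebraMap k κ) := fun x => by
    obtain ⟨d, rfl⟩ := hsurjDκ x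
    obtain ⟨a, ha⟩ := hDk d
    exact ⟨a, ha.symm⟩
  have htB₀ : Ideal.Quotient.mk (Ideal.span {t}) t = 0 :=
    Ideal.Quotient.eq_zero_iff_mem.mpr (Ideal.mem_span_singleton_self t)
  -- forward map
  let inc : B →ₐ[k] κ ⊗[D] B :=
    (Algebra.TensorProduct.includeRight (R := D) (A := κ) (B := B)).restrictScalars k
  have hinc : ∀ b, inc b = (1 : κ) ⊗ₜ[D] b := fun _ => rfl
  have hinct : inc t = 0 := by
    rw [hinc, ht, Algebra.algebraMap_eq_smul_one, ← TensorProduct.smul_tmul,
      ← Algebra.algebraMap_eq_smul_one, hτκ, TensorProduct.zero_tmul]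
  let φ : B₀ →ₐ[k] κ ⊗[D] B := Ideal.Quotient.liftₐ (Ideal.span {t}) inc (by
    intro a ha
    obtain ⟨c, rfl⟩ := Ideal.mem_span_singleton'.mp ha
    rw [map_mul, hinct, mul_zero])
  have hφ : ∀ b, φ (Ideal.Quotient.mk _ b) = (1 : κ) ⊗ₜ[D] b := fun _ => rfl
  have hφsurj : Function.Surjective φ := by
    intro z
    induction z using TensorProduct.induction_on with
    | zero => exact ⟨0, map_zero _⟩
    | tmul x b =>
      obtain ⟨d, rfl⟩ := hsurjDκ x
      refine ⟨Ideal.Quotient.mk _ (d • b), ?_⟩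
      rw [hφ, Algebra.algebraMap_eq_smul_one, TensorProduct.smul_tmul]
    | add x y hx hy =>
      obtain ⟨x', rfl⟩ := hx
      obtain ⟨y', rfl⟩ := hy
      exact ⟨x' + y', map_add _ _ _⟩
  -- backward map
  let θ : κ →ₐ[D] B₀ := Ideal.ResidueField.liftₐ I (Algebra.ofId D B₀)
    (by
      intro d hd
      rw [hI] at hd
      obtain ⟨c, rfl⟩ := Ideal.mem_span_singleton'.mp hd
      rw [RingHom.mem_ker]
      change algebraMap D B₀ (c * τ) = 0
      rw [map_mul, IsScalarTower.algebraMap_apply D B B₀ τ, Ideal.Quotient.algebraMap_eq, htB₀,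
        mul_zero])
    (by
      intro d hd
      obtain ⟨a, d', rfl⟩ := exists_decomp n τ e he d
      have h0 : a ≠ 0 := by
        rintro rfl
        apply hd
        rw [map_zero, zero_add]
        exact I.mul_mem_right _ hτI
      change IsUnit (algebraMap D B₀ (algebraMap k D a + τ * d'))
      rw [map_add, map_mul, IsScalarTower.algebraMap_apply D B B₀ τ, Ideal.Quotient.algebraMap_eq,
        htB₀, zero_mul, add_zero, ← IsScalarTower.algebraMap_apply]
      exact (IsUnit.mk0 a h0).map (algebraMap k B₀))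
  let ψ : κ ⊗[D] B →ₐ[D] B₀ :=
    Algebra.TensorProduct.lift θ (Ideal.Quotient.mkₐ D _) (fun _ _ => Commute.all _ _)
  have hψφ : ∀ x, ψ (φ x) = x := by
    intro x
    obtain ⟨b, rfl⟩ := Ideal.Quotient.mk_surjective x
    rw [hφ, Algebra.TensorProduct.lift_tmul, map_one, one_mul]
    rfl
  have hφinj : Function.Injective φ := Function.LeftInverse.injective hψφ
  let e₀ : B₀ ≃ₐ[k] κ ⊗[D] B := AlgEquiv.ofBijective φ ⟨hφinj, hφsurj⟩
  have h1 : Algebra.FormallySmooth k (κ ⊗[D] B) := Algebra.FormallySmooth.of_equiv e₀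
  have h2 : Algebra.FormallyUnramified k κ := Algebra.FormallyUnramified.of_surjective
    (Algebra.ofId k κ) hsurjkκ
  exact Algebra.FormallySmooth.of_restrictScalars (R := k) (A := κ) (B := κ ⊗[D] B)

end Fibre

section Smooth

variable {k : Type u} [Field k] (n : ℕ) {D : Type u} [CommRing D] [Algebra k D] (τ : D)
  (e : (k[X] ⧸ Ideal.span {(X : k[X]) ^ (n + 1)}) ≃ₐ[k] D)
  (he : e (Ideal.Quotient.mk (Ideal.span {(X : k[X]) ^ (n + 1)}) X) = τ)
  {B : Type u} [CommRing B] [Algebra k B] [Algebra D B] [IsScalarTower k D B]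

include he in
theorem smooth_of_fibre [Algebra.FiniteType k B] [Module.Flat D B]
    (hsm : Algebra.FormallySmooth k (B ⧸ Ideal.span {algebraMap D B τ})) :
    Algebra.Smooth D B := by
  have : IsNoetherianRing D := isNoetherianRing n e
  have : Algebra.FiniteType D B := Algebra.FiniteType.of_restrictScalars_finiteType k D B
  have : Algebra.FinitePresentation D B := Algebra.FinitePresentation.of_finiteType.mp inferInstance
  exact Algebra.Smooth.of_formallySmooth_fiber (fun I _ => formallySmooth_fiber n τ e he hsm I)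

end Smooth


end Groth.Agent.H91.DefDual
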