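import Mathlib
import Groth.Prelude.Def_Smoothing
import Groth.Agent.H91.ElemStdLocB
import Groth.Agent.H91.ElemStdLocD
import Groth.Agent.H91.StdRetractE

/-!
# Delocalizing a smooth factorization
-/

set_option autoImplicit false
universe u

open MvPolynomial TensorProduct

namespace Groth.Agent.H91.ElemStdLoc

theorem delocalize_of_isStandardSmooth {R A Λ Rₛ B' : Type u} [CommRing R] [CommRing A]
    [Algebra R A] [Algebra.FinitePresentation R A] [CommRing Λ] [Algebra R Λ] (φ : A →ₐ[R] Λ)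
    (S : Submonoid R) [CommRing Rₛ] [Algebra R Rₛ] [IsLocalization S Rₛ] [CommRing B']
    [Algebra Rₛ B'] [Algebra.IsStandardSmooth Rₛ B'] (g : Rₛ ⊗[R] A →ₐ[Rₛ] B')
    (h : B' →ₐ[Rₛ] Rₛ ⊗[R] Λ)
    (hgh : h.comp g = Algebra.TensorProduct.map (AlgHom.id Rₛ Rₛ) φ) :
    ∃ (B : Type u) (_ : CommRing B) (_ : Algebra R B) (α : A →ₐ[R] B) (β : B →ₐ[R] Λ),
      β.comp α = φ ∧ ∃ s ∈ S, Smoothing.IsElementaryStandard R B (algebraMap R B s) := by
  classical
  obtain ⟨ι, κ, _, _, ⟨P⟩⟩ := Algebra.IsStandardSmooth.out (R := Rₛ) (S := B')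
  have := Fintype.ofFinite κ
  obtain ⟨t, πA, hπA, hfg⟩ := Algebra.FinitePresentation.out (R := R) (A := A)
  obtain ⟨u, r, hr⟩ := Submodule.fg_iff_exists_fin_generating_family.1 hfg
  have hrker : ∀ l, πA (r l) = 0 := by
    intro l
    have : r l ∈ RingHom.ker πA.toRingHom := by
      rw [← hr]
      exact Submodule.subset_span ⟨l, rfl⟩
    exact this
  have hloc : IsLocalizedModule S (TensorProduct.mk R Rₛ Λ 1) :=
    (isLocalizedModule_iff_isBaseChange S Rₛ _).2 (TensorProduct.isBaseChange R Λ Rₛ)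
  obtain ⟨σ, hσ, lam, hlam⟩ := exists_common_denom' S (TensorProduct.mk R Rₛ Λ 1)
    (fun i => h (P.val i))
  let uu : Rₛˣ := (IsLocalization.map_units Rₛ (⟨σ, hσ⟩ : S)).unit
  have huu : (uu : Rₛ) = algebraMap R Rₛ σ := rfl
  obtain ⟨ρ, hρ0, hρker, hρsurj, hρunit⟩ := exists_scaled P uu
  set v : ι → B' := fun i => (uu : Rₛ) • P.val i with hv
  have hρker' : ∀ p, aeval (R := Rₛ) v p = 0 → p ∈ Ideal.span (Set.range ρ) := by
    intro p hp
    rw [← hρker]
    exact hp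
  have hhv : ∀ i, h (v i) = (1 : Rₛ) ⊗ₜ[R] lam i := by
    intro i
    have h1 := hlam i
    simp only [hv]
    rw [map_smul, huu, algebraMap_smul]
    exact h1
  have hcomp : ∀ p, h (aeval (R := Rₛ) v p) =
      aeval (R := Rₛ) (fun i => (1 : Rₛ) ⊗ₜ[R] lam i) p := by
    intro p
    rw [MvPolynomial.comp_aeval_apply]
    have : (fun i => h (v i)) = fun i => (1 : Rₛ) ⊗ₜ[R] lam i := funext hhv
    rw [this]
  let a : Fin t → A := fun k => πA (X k)
  have haeval_a : ∀ p, aeval a p = πA p := by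
    intro p
    have : πA = aeval a := MvPolynomial.aeval_unique πA
    rw [this]
  choose Q hQ using fun k => hρsurj (g ((1 : Rₛ) ⊗ₜ[R] a k))
  have hhg : ∀ x : A, h (g ((1 : Rₛ) ⊗ₜ[R] x)) = (1 : Rₛ) ⊗ₜ[R] φ x := by
    intro x
    have := congrArg (fun ψ => ψ ((1 : Rₛ) ⊗ₜ[R] x)) hgh
    simpa using this
  -- clear denominators in `ρ`
  obtain ⟨s₀, hs₀, G₀, hG₀⟩ := exists_clear S ρ
  have hG₀lam : ∀ j, TensorProduct.mk R Rₛ Λ 1 (aeval lam (G₀ j)) = 0 := by
    intro j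
    change (1 : Rₛ) ⊗ₜ[R] _ = 0
    rw [← aeval_map_tmul, hG₀ j, map_mul, ← hcomp (ρ j), hρ0 j, map_zero, mul_zero]
  obtain ⟨w₁, hw₁, hw₁G⟩ := exists_common_kill' S (TensorProduct.mk R Rₛ Λ 1)
    (fun j => aeval lam (G₀ j)) hG₀lam
  let G : κ → MvPolynomial ι R := fun j => C w₁ * G₀ j
  have hG : ∀ j, MvPolynomial.map (algebraMap R Rₛ) (G j) =
      C (algebraMap R Rₛ (w₁ * s₀)) * ρ j := by
    intro j
    simp only [G]
    rw [map_mul (MvPolynomial.map (algebraMap R Rₛ)), map_C, hG₀ j, ← mul_assoc, ← C_mul,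
      ← map_mul]
  have hGlam : ∀ j, aeval lam (G j) = 0 := by
    intro j
    simp only [G]
    rw [map_mul, aeval_C, ← Algebra.smul_def]
    exact hw₁G j
  -- clear denominators in `Q`
  obtain ⟨τ, hτ, q₀, hq₀⟩ := exists_clear S Q
  have hq₀lam : ∀ k, TensorProduct.mk R Rₛ Λ 1 (τ • φ (a k) - aeval lam (q₀ k)) = 0 := by
    intro k
    change (1 : Rₛ) ⊗ₜ[R] _ = 0
    rw [TensorProduct.tmul_sub, ← aeval_map_tmul, hq₀ k, map_mul, ← hcomp (Q k), hQ k, aeval_C,
      hhg, ← IsScalarTower.algebraMap_apply R Rₛ (Rₛ ⊗[R] Λ), ← Algebra.smul_def,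
      TensorProduct.tmul_smul, sub_self]
  obtain ⟨w, hw, hwq⟩ := exists_common_kill' S (TensorProduct.mk R Rₛ Λ 1)
    (fun k => τ • φ (a k) - aeval lam (q₀ k)) hq₀lam
  let q : Fin t → MvPolynomial ι R := fun k => C w * q₀ k
  have hq : ∀ k, MvPolynomial.map (algebraMap R Rₛ) (q k) =
      C (algebraMap R Rₛ (w * τ)) * Q k := by
    intro k
    simp only [q]
    rw [map_mul (MvPolynomial.map (algebraMap R Rₛ)), map_C, hq₀ k, ← mul_assoc, ← C_mul,
      ← map_mul]
  have hqlam : ∀ k, (w * τ) • φ (a k) = aeval lam (q k) := by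
    intro k
    simp only [q]
    rw [map_mul, aeval_C, ← Algebra.smul_def, mul_smul, ← sub_eq_zero, ← smul_sub]
    exact hwq k
  have hr' : ∀ l, aeval (R := Rₛ) (fun k => aeval (R := Rₛ) v (Q k))
      (MvPolynomial.map (algebraMap R Rₛ) (r l)) = 0 := by
    intro l
    have : (fun k => aeval (R := Rₛ) v (Q k)) = fun k => g ((1 : Rₛ) ⊗ₜ[R] a k) := funext hQ
    rw [this, ← MvPolynomial.comp_aeval_apply (fun k => (1 : Rₛ) ⊗ₜ[R] a k) g, aeval_map_tmul,
      haeval_a, hrker l, TensorProduct.tmul_zero, map_zero]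
  obtain ⟨s', hs', hstd⟩ := isElementaryStandard_core S ⟨P.map, P.map_inj⟩ G q r (w * τ) v ρ
    hρker' (w₁ * s₀) (S.mul_mem hw₁ hs₀) hG Q (S.mul_mem hw hτ) hq hr' P.map_inj hρsurj hρunit
  set I := Ideal.span (Set.range (rel G q r (w * τ))) with hI
  -- the map to `Λ`
  let β' : MvPolynomial (ι ⊕ Fin t) R →ₐ[R] Λ := aeval (Sum.elim lam (fun k => φ (a k)))
  have hβ' : ∀ x ∈ I, β' x = 0 := by
    intro x hx
    have hle : I ≤ RingHom.ker β'.toRingHom := by
      rw [hI, Ideal.span_le]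
      rintro _ ⟨((j | k) | l), rfl⟩
      · change β' (rename Sum.inl (G j)) = 0
        simp only [β']
        rw [aeval_rename]
        exact hGlam j
      · change β' (C (w * τ) * X (Sum.inr k) - rename Sum.inl (q k)) = 0
        simp only [β']
        rw [map_sub, map_mul, aeval_C, aeval_X, aeval_rename, Sum.elim_inr, ← Algebra.smul_def,
          hqlam k, sub_eq_zero]
        rfl
      · change β' (rename Sum.inr (r l)) = 0
        simp only [β']
        rw [aeval_rename]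
        change aeval (fun k => φ (a k)) (r l) = 0
        rw [← MvPolynomial.comp_aeval_apply a φ, haeval_a, hrker l, map_zero]
    exact hle hx
  let β : (MvPolynomial (ι ⊕ Fin t) R ⧸ I) →ₐ[R] Λ := Ideal.Quotient.liftₐ I β' hβ'
  -- the map from `A`
  let α₀ : MvPolynomial (Fin t) R →ₐ[R] (MvPolynomial (ι ⊕ Fin t) R ⧸ I) :=
    (Ideal.Quotient.mkₐ R I).comp (rename Sum.inr)
  have hα₀ : RingHom.ker πA.toRingHom ≤ RingHom.ker α₀.toRingHom := by
    have : RingHom.ker πA.toRingHom = Ideal.span (Set.range r) := hr.symm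
    rw [this, Ideal.span_le]
    rintro _ ⟨l, rfl⟩
    change Ideal.Quotient.mk I (rename Sum.inr (r l)) = 0
    rw [Ideal.Quotient.eq_zero_iff_mem]
    exact Ideal.subset_span ⟨Sum.inr l, rfl⟩
  let α : A →ₐ[R] (MvPolynomial (ι ⊕ Fin t) R ⧸ I) := AlgHom.liftOfSurjective πA hπA α₀ hα₀
  refine ⟨MvPolynomial (ι ⊕ Fin t) R ⧸ I, inferInstance, inferInstance, α, β, ?_, s', hs', hstd⟩
  have h1 : (β.comp α).comp πA = φ.comp πA := by
    apply MvPolynomial.algHom_ext
    intro k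
    change β (α (πA (X k))) = φ (πA (X k))
    simp only [α]
    rw [AlgHom.liftOfSurjective_apply]
    change β (Ideal.Quotient.mk I (rename Sum.inr (X k))) = _
    simp only [β]
    rw [Ideal.Quotient.liftₐ_apply, Ideal.Quotient.lift_mk, rename_X]
    change β' (X (Sum.inr k)) = _
    simp only [β']
    rw [aeval_X, Sum.elim_inr]
  apply AlgHom.ext
  intro x
  obtain ⟨p, rfl⟩ := hπA x
  exact congrArg (fun ψ => ψ p) h1

end Groth.Agent.H91.ElemStdLoc
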