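import Mathlib
import Groth.Agent.H20.EtaleAtFlat
import Groth.Agent.H20.LocalHomLevels
import Groth.Agent.H87.EtLocalStd

/-!
# A flat unramified local algebra essentially of finite type with trivial residue extension is
the localization of an étale algebra at a prime (for S4007)
-/

set_option autoImplicit false
universe u

namespace Groth.Agent.H91.EssEtOfFlat

open IsLocalRing

theorem exists_etale_atPrime
    {A L' : Type u} [CommRing A] [IsNoetherianRing A] [IsLocalRing A] [CommRing L']
    [IsLocalRing L'] [Algebra A L'] [IsLocalHom (algebraMap A L')] [Algebra.EssFiniteType A L']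
    [Module.Flat A L']
    (hm : (maximalIdeal A).map (algebraMap A L') = maximalIdeal L')
    (hres : ∀ y : L', ∃ x : A, y - algebraMap A L' x ∈ maximalIdeal L') :
    ∃ (C₁ : Type u) (_ : CommRing C₁) (_ : Algebra A C₁) (_ : Algebra.Etale A C₁)
      (_ : Algebra C₁ L') (_ : IsScalarTower A C₁ L') (q : Ideal C₁) (_ : q.IsPrime),
      IsLocalization.AtPrime L' q := by
  -- formally unramified
  have hsurj : Function.Surjective (algebraMap (ResidueField A) (ResidueField L')) :=
    Groth.Agent.H20.residue_surjective_iff.mpr hres
  haveI : Algebra.IsSeparable (ResidueField A) (ResidueField L') :=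
    (Groth.Agent.H20.finite_and_isSeparable_of_surjective hsurj).2
  haveI hunr : Algebra.FormallyUnramified A L' := Algebra.FormallyUnramified.of_map_maximalIdeal hm
  -- presentation as a localization of a finite type algebra
  let D := Algebra.EssFiniteType.subalgebra A L'
  let q₀ : Ideal D := (maximalIdeal L').comap (algebraMap D L')
  haveI : q₀.IsPrime := Ideal.comap_isPrime _ _
  haveI hloc₀ : IsLocalization.AtPrime L' q₀ :=
    Groth.Agent.H87.EtLocalStd.isLocalization_atPrime_subalgebra A L'
  haveI : Algebra.FinitePresentation A D := Algebra.FinitePresentation.of_finiteType.mp inferInstance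
  let e : Localization.AtPrime q₀ ≃ₐ[D] L' := IsLocalization.algEquiv q₀.primeCompl _ _
  let eA : Localization.AtPrime q₀ ≃ₐ[A] L' := e.restrictScalars A
  haveI : Module.Flat A (Localization.AtPrime q₀) :=
    Module.Flat.of_linearEquiv eA.toLinearEquiv
  haveI : Algebra.IsUnramifiedAt A q₀ := Algebra.FormallyUnramified.of_equiv eA.symm
  haveI : Algebra.IsEtaleAt A q₀ := Groth.Agent.H20.isEtaleAt_of_flat_of_isUnramifiedAt q₀
  obtain ⟨r, hr, hEt⟩ := Algebra.exists_etale_of_isEtaleAt (R := A) q₀
  have hru : IsUnit (algebraMap D L' r) := by
    have : r ∈ q₀.primeCompl := hr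
    exact IsLocalization.map_units L' ⟨r, this⟩
  let ι : Localization.Away r →+* L' := IsLocalization.Away.lift r hru
  letI : Algebra (Localization.Away r) L' := ι.toAlgebra
  haveI : IsScalarTower D (Localization.Away r) L' :=
    IsScalarTower.of_algebraMap_eq fun x => (IsLocalization.Away.lift_eq r hru x).symm
  haveI : IsScalarTower A (Localization.Away r) L' :=
    IsScalarTower.of_algebraMap_eq fun x => by
      rw [IsScalarTower.algebraMap_apply A D (Localization.Away r),
        ← IsScalarTower.algebraMap_apply D (Localization.Away r) L',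
        ← IsScalarTower.algebraMap_apply A D L']
  have hle : Submonoid.powers r ≤ q₀.primeCompl := by
    rintro _ ⟨n, rfl⟩
    exact q₀.primeCompl.pow_mem hr n
  haveI : IsLocalization (q₀.primeCompl.map (algebraMap D (Localization.Away r))) L' :=
    IsLocalization.isLocalization_of_submonoid_le (Localization.Away r) L' _ q₀.primeCompl hle
  refine ⟨Localization.Away r, inferInstance, inferInstance, hEt, inferInstance, inferInstance,
    (maximalIdeal L').comap (algebraMap (Localization.Away r) L'), Ideal.comap_isPrime _ _, ?_⟩
  exact Groth.Agent.H87.EtLocalStd.isLocalization_atPrime_of_isLocalRing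
    (q₀.primeCompl.map (algebraMap D (Localization.Away r)))

end Groth.Agent.H91.EssEtOfFlat
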