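import Mathlib

/-!
# Algebras graded by a sharp monoid

For a commutative ring `A` graded by a commutative monoid `N` whose only unit is `0`:
the projection to degree `0` is a ring homomorphism `A → 𝒜 0`; its kernel `I` is the irrelevant
ideal; the degree `n` part of `I ^ 2` consists of decomposable elements; and a subring containing
`𝒜 0` and, for every homogeneous `x` of degree `n ≠ 0`, an element congruent to `x` modulo
decomposables, is everything (given a length function on `N`).
-/

namespace Groth.Agent.H91.GradedSharp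

open DirectSum

variable {R A : Type*} [CommRing R] [CommRing A] [Algebra R A] {N : Type*} [AddCommMonoid N]
  [DecidableEq N] (𝒜 : N → Submodule R A) [GradedAlgebra 𝒜]

lemma proj_of_mem {m : N} {x : A} (hx : x ∈ 𝒜 m) (n : N) :
    GradedRing.proj 𝒜 n x = if m = n then x else 0 := by
  rw [GradedRing.proj_apply]
  split_ifs with h
  · subst h; exact decompose_of_mem_same 𝒜 hx
  · exact decompose_of_mem_ne 𝒜 hx h

lemma proj_mem (n : N) (x : A) : GradedRing.proj 𝒜 n x ∈ 𝒜 n := by
  rw [GradedRing.proj_apply]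
  exact SetLike.coe_mem _

lemma proj_proj (n m : N) (x : A) :
    GradedRing.proj 𝒜 n (GradedRing.proj 𝒜 m x) = if m = n then GradedRing.proj 𝒜 m x else 0 :=
  proj_of_mem 𝒜 (proj_mem 𝒜 m x) n

/-- Induction on homogeneous decomposition. -/
lemma hom_induction {motive : A → Prop} (zero : motive 0)
    (hom : ∀ (n : N) (x : A), x ∈ 𝒜 n → motive x)
    (add : ∀ x y, motive x → motive y → motive (x + y)) (x : A) : motive x :=
  DirectSum.Decomposition.inductionOn 𝒜 zero (fun {i} m => hom i m m.2) add x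

variable (hsharp : ∀ n : N, IsAddUnit n → n = 0)

include hsharp in
lemma proj_zero_mul (x y : A) :
    GradedRing.proj 𝒜 0 (x * y) = GradedRing.proj 𝒜 0 x * GradedRing.proj 𝒜 0 y := by
  induction x using hom_induction 𝒜 with
  | zero => simp
  | add x₁ x₂ h₁ h₂ => rw [add_mul, map_add, map_add, h₁, h₂, add_mul]
  | hom m x hx =>
    induction y using hom_induction 𝒜 with
    | zero => simp
    | add y₁ y₂ h₁ h₂ => rw [mul_add, map_add, map_add, h₁, h₂, mul_add]
    | hom k y hy =>
      have hxy : x * y ∈ 𝒜 (m + k) := SetLike.GradedMul.mul_mem hx hy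
      rw [proj_of_mem 𝒜 hxy, proj_of_mem 𝒜 hx, proj_of_mem 𝒜 hy]
      by_cases hmk : m + k = 0
      · have hm : m = 0 := hsharp m (isAddUnit_iff_exists_neg.mpr ⟨k, hmk⟩)
        have hk : k = 0 := hsharp k (isAddUnit_iff_exists_neg.mpr ⟨m, by rwa [add_comm]⟩)
        simp [hm, hk]
      · rw [if_neg hmk]
        by_cases hm : m = 0
        · have hk : k ≠ 0 := by
            rintro rfl
            exact hmk (by rw [hm, add_zero])
          simp [hk]
        · simp [hm]

/-- The projection to degree zero, as a ring homomorphism. -/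
def eps : A →+* 𝒜 0 where
  toFun x := ⟨GradedRing.proj 𝒜 0 x, proj_mem 𝒜 0 x⟩
  map_one' := by
    apply Subtype.ext
    have : (1 : A) ∈ 𝒜 0 := SetLike.GradedOne.one_mem
    simp [proj_of_mem 𝒜 this]
  map_mul' x y := by
    apply Subtype.ext
    exact proj_zero_mul 𝒜 hsharp x y
  map_zero' := by
    apply Subtype.ext
    simp
  map_add' x y := by
    apply Subtype.ext
    simp

lemma eps_coe (x : A) : ((eps 𝒜 hsharp x : 𝒜 0) : A) = GradedRing.proj 𝒜 0 x := rfl

lemma eps_algebraMap (b : 𝒜 0) : eps 𝒜 hsharp (algebraMap (𝒜 0) A b) = b := by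
  apply Subtype.ext
  rw [eps_coe, SetLike.GradeZero.algebraMap_apply, proj_of_mem 𝒜 b.2, if_pos rfl]

/-- The projection to degree zero, as an algebra homomorphism. -/
def epsAlg : A →ₐ[𝒜 0] 𝒜 0 where
  __ := eps 𝒜 hsharp
  commutes' b := eps_algebraMap 𝒜 hsharp b

lemma epsAlg_coe (x : A) : ((epsAlg 𝒜 hsharp x : 𝒜 0) : A) = GradedRing.proj 𝒜 0 x := rfl

lemma mem_ker_iff (x : A) :
    x ∈ RingHom.ker (epsAlg 𝒜 hsharp).toRingHom ↔ GradedRing.proj 𝒜 0 x = 0 := by
  rw [RingHom.mem_ker]
  constructor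
  · intro h
    exact congrArg Subtype.val h
  · intro h
    exact Subtype.ext h

lemma mem_ker_of_mem {n : N} (hn : n ≠ 0) {x : A} (hx : x ∈ 𝒜 n) :
    x ∈ RingHom.ker (epsAlg 𝒜 hsharp).toRingHom := by
  rw [mem_ker_iff, proj_of_mem 𝒜 hx, if_neg hn]

/-- Multiplication by degree zero elements commutes with projections. -/
lemma proj_smul (n : N) (b : 𝒜 0) (x : A) :
    GradedRing.proj 𝒜 n ((b : A) * x) = (b : A) * GradedRing.proj 𝒜 n x := by
  induction x using hom_induction 𝒜 with
  | zero => simp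
  | add x₁ x₂ h₁ h₂ => rw [mul_add, map_add, map_add, h₁, h₂, mul_add]
  | hom m x hx =>
    have hbx : (b : A) * x ∈ 𝒜 m := by
      have := SetLike.GradedMul.mul_mem b.2 hx
      rwa [zero_add] at this
    rw [proj_of_mem 𝒜 hbx, proj_of_mem 𝒜 hx]
    split_ifs <;> simp

/-- The projection to degree `n`, as a linear map over the degree zero part. -/
def projB (n : N) : A →ₗ[𝒜 0] A where
  toFun := GradedRing.proj 𝒜 n
  map_add' := map_add _
  map_smul' b x := by
    rw [RingHom.id_apply, Algebra.smul_def, Algebra.smul_def, SetLike.GradeZero.algebraMap_apply]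
    exact proj_smul 𝒜 n b x

lemma projB_apply (n : N) (x : A) : projB 𝒜 n x = GradedRing.proj 𝒜 n x := rfl

lemma exists_finset_sum_projB (x : A) :
    ∃ s : Finset N, ∀ t : Finset N, s ⊆ t → ∑ n ∈ t, projB 𝒜 n x = x := by
  classical
  refine ⟨(decompose 𝒜 x).support, fun t hs => ?_⟩
  conv_rhs => rw [← DirectSum.sum_support_decompose 𝒜 x]
  symm
  apply Finset.sum_subset hs
  intro n _ hn
  rw [DFinsupp.notMem_support_iff] at hn
  show ((decompose 𝒜 x n : 𝒜 n) : A) = 0
  rw [hn]; rfl

/-- Decomposable elements of degree `n`. -/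
def decomposables (n : N) : AddSubgroup A :=
  AddSubgroup.closure {w | ∃ (m k : N) (y z : A), m ≠ 0 ∧ k ≠ 0 ∧ m + k = n ∧
    y ∈ 𝒜 m ∧ z ∈ 𝒜 k ∧ w = y * z}

lemma decomposables_le (n : N) :
    decomposables 𝒜 n ≤ (RingHom.ker (epsAlg 𝒜 hsharp).toRingHom ^ 2).toAddSubgroup := by
  rw [decomposables, AddSubgroup.closure_le]
  rintro w ⟨m, k, y, z, hm, hk, -, hy, hz, rfl⟩
  show y * z ∈ RingHom.ker (epsAlg 𝒜 hsharp).toRingHom ^ 2
  rw [pow_two]
  exact Ideal.mul_mem_mul (mem_ker_of_mem 𝒜 hsharp hm hy) (mem_ker_of_mem 𝒜 hsharp hk hz)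

lemma proj_mul_mem_decomposables (n : N) (u v : A)
    (hu : u ∈ RingHom.ker (epsAlg 𝒜 hsharp).toRingHom)
    (hv : v ∈ RingHom.ker (epsAlg 𝒜 hsharp).toRingHom) :
    GradedRing.proj 𝒜 n (u * v) ∈ decomposables 𝒜 n := by
  rw [mem_ker_iff] at hu hv
  obtain ⟨su, hsu⟩ := exists_finset_sum_projB 𝒜 u
  obtain ⟨sv, hsv⟩ := exists_finset_sum_projB 𝒜 v
  have hu' := hsu su (Finset.Subset.refl _)
  have hv' := hsv sv (Finset.Subset.refl _)
  rw [← hu', ← hv', Finset.sum_mul_sum, map_sum]
  refine AddSubgroup.sum_mem _ fun m _ => ?_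
  rw [map_sum]
  refine AddSubgroup.sum_mem _ fun k _ => ?_
  have hmk : projB 𝒜 m u * projB 𝒜 k v ∈ 𝒜 (m + k) :=
    SetLike.GradedMul.mul_mem (proj_mem 𝒜 m u) (proj_mem 𝒜 k v)
  rw [proj_of_mem 𝒜 hmk]
  split_ifs with h
  · by_cases hm : m = 0
    · rw [hm, projB_apply 𝒜 0 u, hu, zero_mul]; exact zero_mem _
    · by_cases hk : k = 0
      · rw [hk, projB_apply 𝒜 0 v, hv, mul_zero]; exact zero_mem _
      · exact AddSubgroup.subset_closure
          ⟨m, k, _, _, hm, hk, h, proj_mem 𝒜 m u, proj_mem 𝒜 k v, rfl⟩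
  · exact zero_mem _

lemma proj_mem_decomposables (n : N) (x : A)
    (hx : x ∈ RingHom.ker (epsAlg 𝒜 hsharp).toRingHom ^ 2) :
    GradedRing.proj 𝒜 n x ∈ decomposables 𝒜 n := by
  rw [pow_two] at hx
  refine Submodule.mul_induction_on hx ?_ ?_
  · intro u hu v hv
    exact proj_mul_mem_decomposables 𝒜 hsharp n u v hu hv
  · intro x y hx hy
    rw [map_add]
    exact add_mem hx hy

/-- A subring containing degree zero and every homogeneous element up to decomposables is
everything. -/
theorem subring_eq_top (ℓ : N → ℕ) (hℓ : ∀ m k : N, k ≠ 0 → ℓ m < ℓ (m + k))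
    (A' : Subring A) (h0 : ∀ x ∈ 𝒜 0, x ∈ A')
    (h1 : ∀ n : N, n ≠ 0 → ∀ x ∈ 𝒜 n, ∃ y ∈ A', x - y ∈ decomposables 𝒜 n) : A' = ⊤ := by
  have key : ∀ (L : ℕ) (n : N), ℓ n ≤ L → ∀ x ∈ 𝒜 n, x ∈ A' := by
    intro L
    induction L with
    | zero =>
      intro n hn x hx
      by_cases hn0 : n = 0
      · subst hn0; exact h0 x hx
      · have := hℓ 0 n hn0
        rw [zero_add] at this
        omega
    | succ L ih =>
      intro n hn x hx
      by_cases hn0 : n = 0
      · subst hn0; exact h0 x hx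
      · obtain ⟨y, hy, hxy⟩ := h1 n hn0 x hx
        have : x = y + (x - y) := by ring
        rw [this]
        refine A'.add_mem hy ?_
        refine AddSubgroup.closure_induction ?_ ?_ ?_ ?_ hxy
        · rintro w ⟨m, k, y', z', hm, hk, hmk, hy', hz', rfl⟩
          have hlm : ℓ m < ℓ n := hmk ▸ hℓ m k hk
          have hlk : ℓ k < ℓ n := by
            have := hℓ k m hm
            rwa [add_comm, hmk] at this
          exact A'.mul_mem (ih m (by omega) y' hy') (ih k (by omega) z' hz')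
        · exact A'.zero_mem
        · intro a b _ _ ha hb; exact A'.add_mem ha hb
        · intro a _ ha; exact A'.neg_mem ha
  rw [eq_top_iff]
  rintro x -
  induction x using hom_induction 𝒜 with
  | zero => exact A'.zero_mem
  | add x y hx hy => exact A'.add_mem hx hy
  | hom n x hx => exact key (ℓ n) n le_rfl x hx

end Groth.Agent.H91.GradedSharp
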