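import Mathlib

/-!
# Retracts of formally smooth algebras

Let `A` be a formally smooth `R`-algebra, `B` an `R`-algebra with `B → A` and a retraction
`ε : A →ₐ[B] B` with kernel `I`.  Then `B` is formally smooth over `R`, and if `Ω[A⁄R]` is finite
over `A` then `I / I ^ 2` is a finite projective `B`-module.
-/

namespace Groth.Agent.H91.RetractSmooth

open TensorProduct KaehlerDifferential

variable {R A B : Type*} [CommRing R] [CommRing A] [CommRing B] [Algebra R A] [Algebra R B]
  [Algebra B A] [IsScalarTower R B A] (ε : A →ₐ[B] B)

include ε in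
theorem formallySmooth [Algebra.FormallySmooth R A] : Algebra.FormallySmooth R B := by
  refine Algebra.FormallySmooth.of_split (AlgHom.restrictScalars R ε)
    ((Ideal.Quotient.mkₐ R _).comp (IsScalarTower.toAlgHom R B A)) ?_
  refine AlgHom.ext fun b => ?_
  show (AlgHom.restrictScalars R ε).kerSquareLift (Ideal.Quotient.mk _ (algebraMap B A b)) = b
  rw [AlgHom.kerSquareLift_mk]
  exact ε.commutes b

theorem cotangent_finite_projective [Algebra.FormallySmooth R A] [Module.Finite A Ω[A⁄R]] :
    Module.Finite B (RingHom.ker ε.toRingHom).Cotangent ∧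
      Module.Projective B (RingHom.ker ε.toRingHom).Cotangent := by
  have hB : Algebra.FormallySmooth R B := formallySmooth ε
  let _ : Algebra A B := ε.toRingHom.toAlgebra
  have hmap : ∀ a : A, algebraMap A B a = ε a := fun a => rfl
  have : IsScalarTower R A B := IsScalarTower.of_algebraMap_eq fun r => by
    rw [hmap, IsScalarTower.algebraMap_apply R B A, ε.commutes]
    rfl
  have hs : Function.Surjective (algebraMap A B) := fun b => ⟨algebraMap B A b, ε.commutes b⟩
  obtain ⟨l, hl⟩ := (Algebra.FormallySmooth.iff_split_injection (R := R) (P := A) (A := B) hs).mp hB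
  have : IsScalarTower B A (B ⊗[A] Ω[A⁄R]) := by
    refine IsScalarTower.of_algebraMap_smul fun b x => ?_
    induction x using TensorProduct.induction_on with
    | zero => simp
    | add x y hx hy => rw [smul_add, smul_add, hx, hy]
    | tmul b' ω =>
      rw [TensorProduct.smul_tmul', TensorProduct.smul_tmul', Algebra.smul_def, hmap,
        ε.commutes]
      rfl
  -- the B-linear maps
  let i : (RingHom.ker ε.toRingHom).Cotangent →ₗ[B] B ⊗[A] Ω[A⁄R] :=
    (kerCotangentToTensor R A B).restrictScalars B
  let s : B ⊗[A] Ω[A⁄R] →ₗ[B] (RingHom.ker ε.toRingHom).Cotangent := l.restrictScalars B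
  have hsi : s ∘ₗ i = LinearMap.id := by
    ext x
    exact LinearMap.congr_fun hl x
  have hsurj : Function.Surjective s := fun x => ⟨i x, LinearMap.congr_fun hsi x⟩
  exact ⟨Module.Finite.of_surjective s hsurj, Module.Projective.of_split i s hsi⟩

end Groth.Agent.H91.RetractSmooth
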