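import Mathlib

/-!
# A surjection from a formally smooth algebra onto a formally smooth algebra: the kernel

If `P → A` is a surjection of formally smooth `R`-algebras with kernel `J ≤ 𝔞` such that `d x` lies in
`𝔞 • (A ⊗ Ω_P)` for all `x ∈ J`, then `J ≤ 𝔞 * J`, hence `J ≤ 𝔞 ^ n` for all `n`.
-/

namespace Groth.Agent.H91.SmoothKer

open TensorProduct KaehlerDifferential

theorem le_mul_of_toCotangent_mem {P : Type*} [CommRing P] (J 𝔞 : Ideal P) (hJ : J ≤ 𝔞)
    (h : ∀ x : J, J.toCotangent x ∈ 𝔞 • (⊤ : Submodule P J.Cotangent)) : J ≤ 𝔞 * J := by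
  intro x hx
  have h1 := h ⟨x, hx⟩
  have h2 : (⊤ : Submodule P J.Cotangent) = Submodule.map J.toCotangent ⊤ := by
    rw [Submodule.map_top, LinearMap.range_eq_top.mpr J.toCotangent_surjective]
  rw [h2, ← Submodule.map_smul''] at h1
  obtain ⟨y, hy, hyx⟩ := h1
  have h3 : (y : P) ∈ 𝔞 * J := by
    have : (J.subtype y) ∈ Submodule.map J.subtype (𝔞 • (⊤ : Submodule P J)) :=
      Submodule.mem_map_of_mem hy
    rw [Submodule.map_smul'', Submodule.map_top, Submodule.range_subtype] at this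
    simpa using this
  have h4 : (x - y : P) ∈ J ^ 2 := by
    have := (Ideal.toCotangent_eq (I := J) (x := ⟨x, hx⟩) (y := y)).mp hyx.symm
    simpa using this
  have h5 : J ^ 2 ≤ 𝔞 * J := by
    rw [pow_two]
    exact Ideal.mul_mono_left hJ
  have : x = (x - y) + y := by ring
  rw [this]
  exact Ideal.add_mem _ (h5 h4) h3

theorem le_pow_of_le_mul {P : Type*} [CommRing P] (J 𝔞 : Ideal P) (h : J ≤ 𝔞 * J) (n : ℕ) :
    J ≤ 𝔞 ^ n := by
  induction n with
  | zero => simp
  | succ n ih =>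
    calc J ≤ 𝔞 * J := h
      _ ≤ 𝔞 * 𝔞 ^ n := Ideal.mul_mono_right ih
      _ = 𝔞 ^ (n + 1) := by rw [pow_succ']

theorem ker_le_mul {R P A : Type*} [CommRing R] [CommRing P] [CommRing A] [Algebra R P]
    [Algebra R A] [Algebra P A] [IsScalarTower R P A] [Algebra.FormallySmooth R P]
    [Algebra.FormallySmooth R A]
    (hsurj : Function.Surjective (algebraMap P A)) (𝔞 : Ideal P)
    (hJ : RingHom.ker (algebraMap P A) ≤ 𝔞)
    (hD : ∀ x ∈ RingHom.ker (algebraMap P A),
      (1 : A) ⊗ₜ[P] KaehlerDifferential.D R P x ∈ 𝔞 • (⊤ : Submodule P (A ⊗[P] Ω[P⁄R]))) :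
    RingHom.ker (algebraMap P A) ≤ 𝔞 * RingHom.ker (algebraMap P A) := by
  obtain ⟨l, hl⟩ := (Algebra.FormallySmooth.iff_split_injection (R := R) (P := P) (A := A) hsurj).mp
    inferInstance
  refine le_mul_of_toCotangent_mem _ 𝔞 hJ ?_
  intro x
  have h1 : (RingHom.ker (algebraMap P A)).toCotangent x =
      l (kerCotangentToTensor R P A ((RingHom.ker (algebraMap P A)).toCotangent x)) := by
    have := LinearMap.congr_fun hl ((RingHom.ker (algebraMap P A)).toCotangent x)
    simpa using this.symm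
  rw [h1, kerCotangentToTensor_toCotangent]
  have h2 := hD x.1 x.2
  have h3 : l ((1 : A) ⊗ₜ[P] KaehlerDifferential.D R P x.1) ∈
      Submodule.map l (𝔞 • (⊤ : Submodule P (A ⊗[P] Ω[P⁄R]))) := Submodule.mem_map_of_mem h2
  rw [Submodule.map_smul''] at h3
  exact Submodule.smul_mono le_rfl le_top h3

end Groth.Agent.H91.SmoothKer
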