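import Groth.Agent.H91.SymSmooth
import Groth.Agent.H91.SmoothKer

/-!
# Injectivity criterion for maps out of a symmetric algebra into a formally smooth algebra
-/

namespace Groth.Agent.H91.SymSmooth

open TensorProduct KaehlerDifferential

theorem injective_of_ker_le_aug_sq {R B A Q : Type*} [CommRing R] [CommRing B] [CommRing A]
    [Algebra R B] [Algebra R A] [Algebra B A] [IsScalarTower R B A] [AddCommGroup Q] [Module B Q]
    [Module.Finite B Q] [Module.Projective B Q] [Algebra.FormallySmooth R B]
    [Algebra.FormallySmooth R A] (ψ : SymmetricAlgebra B Q →ₐ[B] A)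
    (hsurj : Function.Surjective ψ) (hker : ∀ x, ψ x = 0 → x ∈ aug B Q ^ 2) :
    Function.Injective ψ := by
  let _ : Algebra R (SymmetricAlgebra B Q) :=
    ((algebraMap B (SymmetricAlgebra B Q)).comp (algebraMap R B)).toAlgebra
  have : IsScalarTower R B (SymmetricAlgebra B Q) := IsScalarTower.of_algebraMap_eq fun _ => rfl
  have hS : Algebra.FormallySmooth B (SymmetricAlgebra B Q) := formallySmooth
  have hRS : Algebra.FormallySmooth R (SymmetricAlgebra B Q) :=
    Algebra.FormallySmooth.comp R B _
  let _ : Algebra (SymmetricAlgebra B Q) A := ψ.toRingHom.toAlgebra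
  have hmap : ∀ y, algebraMap (SymmetricAlgebra B Q) A y = ψ y := fun _ => rfl
  have : IsScalarTower R (SymmetricAlgebra B Q) A :=
    IsScalarTower.of_algebraMap_eq fun r => by
      rw [hmap, IsScalarTower.algebraMap_apply R B (SymmetricAlgebra B Q), AlgHom.commutes,
        ← IsScalarTower.algebraMap_apply]
  have hker' : ∀ x, x ∈ RingHom.ker (algebraMap (SymmetricAlgebra B Q) A) →
      x ∈ aug B Q ^ 2 := fun x hx => hker x hx
  have hmul := SmoothKer.ker_le_mul (R := R) (P := SymmetricAlgebra B Q) (A := A)
    hsurj (aug B Q)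
    (fun x hx => Ideal.pow_le_self two_ne_zero (hker' x hx))
    (fun x hx => tmul_D_mem_of_mem_sq _ x (hker' x hx))
  rw [injective_iff_map_eq_zero]
  intro x hx
  refine eq_zero_of_forall_mem_pow_aug x fun n => ?_
  exact SmoothKer.le_pow_of_le_mul _ _ hmul n hx

end Groth.Agent.H91.SymSmooth
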