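import Groth.Agent.H91.SharpMonLen
import Groth.Agent.H91.GradedSharp
import Groth.Agent.H91.SymSmoothInj
import Groth.Agent.H91.RetractSmooth
import Groth.Agent.H91.SmoothSection
import Groth.Agent.H91.SmoothKer

/-!
# Smooth algebras graded by a fine sharp monoid are symmetric algebras over their degree zero part
-/

namespace Groth.Agent.H91.GradedSmooth

open TensorProduct KaehlerDifferential GradedSharp

universe u

variable {R A : Type u} [CommRing R] [CommRing A] [Algebra R A] {N : Type} [AddCommMonoid N]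
  [DecidableEq N] (𝒜 : N → Submodule R A) [GradedAlgebra 𝒜]
  (hsharp : ∀ n : N, IsAddUnit n → n = 0)

instance isScalarTower_zero : IsScalarTower R (𝒜 0) A :=
  IsScalarTower.of_algebraMap_eq fun _ => rfl

/-- `x ↦ [x - ε x]` to the cotangent module of the irrelevant ideal. -/
noncomputable def kappa : A →ₗ[𝒜 0] (RingHom.ker (epsAlg 𝒜 hsharp).toRingHom).Cotangent where
  toFun x := (RingHom.ker (epsAlg 𝒜 hsharp).toRingHom).toCotangent
    (SmoothSection.rho (epsAlg 𝒜 hsharp) x)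
  map_add' a b := by rw [SmoothSection.rho_add, map_add]
  map_smul' r a := by
    rw [SmoothSection.rho_smul, LinearMap.map_smul_of_tower, RingHom.id_apply]

lemma kappa_apply (x : A) : kappa 𝒜 hsharp x =
    (RingHom.ker (epsAlg 𝒜 hsharp).toRingHom).toCotangent
      (SmoothSection.rho (epsAlg 𝒜 hsharp) x) := rfl

lemma kappa_surjective : Function.Surjective (kappa 𝒜 hsharp) := by
  intro c
  obtain ⟨y, rfl⟩ := Ideal.toCotangent_surjective _ c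
  refine ⟨(y : A), ?_⟩
  rw [kappa_apply, SmoothSection.rho_of_mem _ _ y.2]

/-- The submodule `𝒜 0 + I ^ 2`. -/
noncomputable def W : Submodule (𝒜 0) A := LinearMap.ker (kappa 𝒜 hsharp)

lemma mem_W_iff (x : A) : x ∈ W 𝒜 hsharp ↔
    x - algebraMap (𝒜 0) A (epsAlg 𝒜 hsharp x) ∈ RingHom.ker (epsAlg 𝒜 hsharp).toRingHom ^ 2 := by
  rw [W, LinearMap.mem_ker, kappa_apply, Ideal.toCotangent_eq_zero]
  rfl

lemma mem_W_of_mem_sq (x : A) (hx : x ∈ RingHom.ker (epsAlg 𝒜 hsharp).toRingHom ^ 2) :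
    x ∈ W 𝒜 hsharp := by
  rw [mem_W_iff]
  have h1 : x ∈ RingHom.ker (epsAlg 𝒜 hsharp).toRingHom := Ideal.pow_le_self two_ne_zero hx
  have h2 : epsAlg 𝒜 hsharp x = 0 := h1
  rw [h2, map_zero, sub_zero]
  exact hx

lemma mem_W_of_mem_zero (x : A) (hx : x ∈ 𝒜 0) : x ∈ W 𝒜 hsharp := by
  rw [mem_W_iff]
  have : algebraMap (𝒜 0) A (epsAlg 𝒜 hsharp x) = x := by
    rw [SetLike.GradeZero.algebraMap_apply, epsAlg_coe, proj_of_mem 𝒜 hx, if_pos rfl]
  rw [this, sub_self]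
  exact zero_mem _

lemma proj_mem_decomposables_of_mem_W (n : N) (hn : n ≠ 0) (x : A) (hx : x ∈ W 𝒜 hsharp) :
    GradedRing.proj 𝒜 n x ∈ decomposables 𝒜 n := by
  rw [mem_W_iff] at hx
  have h1 := proj_mem_decomposables 𝒜 hsharp n _ hx
  rw [map_sub, SetLike.GradeZero.algebraMap_apply,
    proj_of_mem 𝒜 (epsAlg 𝒜 hsharp x).2, if_neg (Ne.symm hn), sub_zero] at h1
  exact h1

lemma projB_mem_W (n : N) (x : A) (hx : x ∈ W 𝒜 hsharp) : projB 𝒜 n x ∈ W 𝒜 hsharp := by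
  by_cases hn : n = 0
  · subst hn
    exact mem_W_of_mem_zero 𝒜 hsharp _ (proj_mem 𝒜 0 x)
  · apply mem_W_of_mem_sq
    exact decomposables_le 𝒜 hsharp n (proj_mem_decomposables_of_mem_W 𝒜 hsharp n hn x hx)

/-- The module of indecomposables. -/
abbrev Q : Type u := A ⧸ W 𝒜 hsharp

/-- `Q ≃ I / I ^ 2`. -/
noncomputable def equivCot :
    Q 𝒜 hsharp ≃ₗ[𝒜 0] (RingHom.ker (epsAlg 𝒜 hsharp).toRingHom).Cotangent :=
  (kappa 𝒜 hsharp).quotKerEquivOfSurjective (kappa_surjective 𝒜 hsharp)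

theorem finite_projective [Algebra.FormallySmooth R A] [Module.Finite A Ω[A⁄R]] :
    Module.Finite (𝒜 0) (Q 𝒜 hsharp) ∧ Module.Projective (𝒜 0) (Q 𝒜 hsharp) := by
  obtain ⟨h1, h2⟩ := RetractSmooth.cotangent_finite_projective (R := R) (epsAlg 𝒜 hsharp)
  exact ⟨Module.Finite.equiv (equivCot 𝒜 hsharp).symm,
    Module.Projective.of_equiv (equivCot 𝒜 hsharp).symm⟩

/-- The degree `n` part of the indecomposables. -/
noncomputable def piQ (n : N) : Q 𝒜 hsharp →ₗ[𝒜 0] Q 𝒜 hsharp :=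
  (W 𝒜 hsharp).mapQ (W 𝒜 hsharp) (projB 𝒜 n) (fun x hx => projB_mem_W 𝒜 hsharp n x hx)

lemma piQ_mk (n : N) (x : A) :
    piQ 𝒜 hsharp n ((W 𝒜 hsharp).mkQ x) = (W 𝒜 hsharp).mkQ (projB 𝒜 n x) := rfl

lemma piQ_piQ (n : N) (c : Q 𝒜 hsharp) :
    piQ 𝒜 hsharp n (piQ 𝒜 hsharp n c) = piQ 𝒜 hsharp n c := by
  obtain ⟨x, rfl⟩ := (W 𝒜 hsharp).mkQ_surjective c
  rw [piQ_mk, piQ_mk, projB_apply, projB_apply, proj_proj, if_pos rfl]

/-- A finite set of nonzero degrees over which the `piQ` sum to the identity. -/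
theorem exists_finset_sum_piQ [Module.Finite (𝒜 0) (Q 𝒜 hsharp)] :
    ∃ F : Finset N, (∀ m ∈ F, m ≠ 0) ∧ ∑ m ∈ F, piQ 𝒜 hsharp m = LinearMap.id := by
  classical
  obtain ⟨G, hG⟩ := (Module.Finite.fg_top : (⊤ : Submodule (𝒜 0) (Q 𝒜 hsharp)).FG)
  have hrep : ∀ g : Q 𝒜 hsharp, ∃ a : A, (W 𝒜 hsharp).mkQ a = g :=
    fun g => (W 𝒜 hsharp).mkQ_surjective g
  choose a ha using hrep
  have hs : ∀ g : Q 𝒜 hsharp, ∃ s : Finset N, ∀ t : Finset N, s ⊆ t →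
      ∑ n ∈ t, projB 𝒜 n (a g) = a g := fun g => exists_finset_sum_projB 𝒜 (a g)
  choose s hs using hs
  let F : Finset N := insert 0 (G.biUnion s)
  refine ⟨F.erase 0, fun m hm => (Finset.mem_erase.mp hm).1, ?_⟩
  apply LinearMap.ext_on hG
  intro g hg
  have hsub : s g ⊆ F := by
    intro n hn
    exact Finset.mem_insert_of_mem (Finset.mem_biUnion.mpr ⟨g, hg, hn⟩)
  rw [LinearMap.sum_apply, LinearMap.id_apply]
  conv_lhs => rw [← ha g]
  simp only [piQ_mk]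
  rw [← map_sum, Finset.sum_erase_eq_sub (Finset.mem_insert_self 0 _), hs g F hsub, map_sub,
    ha g]
  have : (W 𝒜 hsharp).mkQ (projB 𝒜 0 (a g)) = 0 := by
    rw [Submodule.mkQ_apply, Submodule.Quotient.mk_eq_zero]
    exact mem_W_of_mem_zero 𝒜 hsharp _ (proj_mem 𝒜 0 _)
  rw [this, sub_zero]

section Section

variable (F : Finset N) (hF0 : ∀ m ∈ F, m ≠ 0)
  (hF : ∑ m ∈ F, piQ 𝒜 hsharp m = LinearMap.id)
  (σ : Q 𝒜 hsharp →ₗ[𝒜 0] A) (hσ : (W 𝒜 hsharp).mkQ ∘ₗ σ = LinearMap.id)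

/-- The graded section. -/
noncomputable def gradedSection : Q 𝒜 hsharp →ₗ[𝒜 0] A :=
  ∑ m ∈ F, projB 𝒜 m ∘ₗ σ ∘ₗ piQ 𝒜 hsharp m

lemma gradedSection_apply (c : Q 𝒜 hsharp) :
    gradedSection 𝒜 hsharp F σ c = ∑ m ∈ F, projB 𝒜 m (σ (piQ 𝒜 hsharp m c)) := by
  simp [gradedSection, LinearMap.sum_apply]

include hF hσ in
lemma mkQ_gradedSection (c : Q 𝒜 hsharp) :
    (W 𝒜 hsharp).mkQ (gradedSection 𝒜 hsharp F σ c) = c := by
  rw [gradedSection_apply, map_sum]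
  have h1 : ∀ m ∈ F, (W 𝒜 hsharp).mkQ (projB 𝒜 m (σ (piQ 𝒜 hsharp m c))) =
      piQ 𝒜 hsharp m c := by
    intro m _
    rw [← piQ_mk]
    have := LinearMap.congr_fun hσ (piQ 𝒜 hsharp m c)
    simp only [LinearMap.coe_comp, Function.comp_apply, LinearMap.id_coe, id_eq] at this
    rw [this, piQ_piQ]
  rw [Finset.sum_congr rfl h1]
  have := LinearMap.congr_fun hF c
  simpa [LinearMap.sum_apply] using this

include hF0 in
lemma gradedSection_mem_ker (c : Q 𝒜 hsharp) :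
    gradedSection 𝒜 hsharp F σ c ∈ RingHom.ker (epsAlg 𝒜 hsharp).toRingHom := by
  rw [gradedSection_apply]
  refine Ideal.sum_mem _ fun m hm => ?_
  exact mem_ker_of_mem 𝒜 hsharp (hF0 m hm) (proj_mem 𝒜 m _)

include hF hσ in
/-- The graded section recovers homogeneous elements up to decomposables. -/
lemma sub_gradedSection_mem (n : N) (hn : n ≠ 0) (x : A) (hx : x ∈ 𝒜 n) :
    x - gradedSection 𝒜 hsharp F σ ((W 𝒜 hsharp).mkQ x) ∈ decomposables 𝒜 n := by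
  classical
  rw [gradedSection_apply]
  have hterm : ∀ m ∈ F, m ≠ n →
      projB 𝒜 m (σ (piQ 𝒜 hsharp m ((W 𝒜 hsharp).mkQ x))) = 0 := by
    intro m _ hmn
    rw [piQ_mk, projB_apply 𝒜 m x, proj_of_mem 𝒜 hx, if_neg (Ne.symm hmn)]
    simp
  by_cases hnF : n ∈ F
  · rw [Finset.sum_eq_single_of_mem n hnF hterm, piQ_mk, projB_apply 𝒜 n x, proj_of_mem 𝒜 hx,
      if_pos rfl]
    set w := σ ((W 𝒜 hsharp).mkQ x) with hw
    have hxw : x - w ∈ W 𝒜 hsharp := by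
      rw [← Submodule.Quotient.mk_eq_zero, Submodule.Quotient.mk_sub]
      have := LinearMap.congr_fun hσ ((W 𝒜 hsharp).mkQ x)
      simp only [LinearMap.coe_comp, Function.comp_apply, LinearMap.id_coe, id_eq] at this
      rw [sub_eq_zero]
      exact this.symm
    have h2 := proj_mem_decomposables_of_mem_W 𝒜 hsharp n hn _ hxw
    rw [map_sub, proj_of_mem 𝒜 hx, if_pos rfl] at h2
    exact h2
  · rw [Finset.sum_eq_zero (fun m hm => hterm m hm (fun h => hnF (h ▸ hm))), sub_zero]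
    have h0 : (W 𝒜 hsharp).mkQ x = 0 := by
      have := LinearMap.congr_fun hF ((W 𝒜 hsharp).mkQ x)
      rw [LinearMap.sum_apply, LinearMap.id_apply] at this
      rw [← this]
      refine Finset.sum_eq_zero fun m hm => ?_
      have hmn : m ≠ n := fun h => hnF (h ▸ hm)
      rw [piQ_mk, projB_apply 𝒜 m x, proj_of_mem 𝒜 hx, if_neg (Ne.symm hmn), map_zero]
    have hxW : x ∈ W 𝒜 hsharp := by
      rwa [Submodule.mkQ_apply, Submodule.Quotient.mk_eq_zero] at h0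
    have h2 := proj_mem_decomposables_of_mem_W 𝒜 hsharp n hn _ hxW
    rwa [proj_of_mem 𝒜 hx, if_pos rfl] at h2

/-- The comparison map from the symmetric algebra. -/
noncomputable def psi : SymmetricAlgebra (𝒜 0) (Q 𝒜 hsharp) →ₐ[𝒜 0] A :=
  SymmetricAlgebra.lift (gradedSection 𝒜 hsharp F σ)

lemma psi_ι (c : Q 𝒜 hsharp) :
    psi 𝒜 hsharp F σ (SymmetricAlgebra.ι (𝒜 0) (Q 𝒜 hsharp) c) = gradedSection 𝒜 hsharp F σ c :=
  SymmetricAlgebra.lift_ι_apply _ c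

include hF hσ in
theorem psi_surjective (ℓ : N → ℕ) (hℓ : ∀ m k : N, k ≠ 0 → ℓ m < ℓ (m + k)) :
    Function.Surjective (psi 𝒜 hsharp F σ) := by
  have h := subring_eq_top 𝒜 ℓ hℓ (psi 𝒜 hsharp F σ).range.toSubring ?_ ?_
  · intro x
    have : x ∈ (psi 𝒜 hsharp F σ).range.toSubring := by rw [h]; trivial
    exact this
  · intro x hx
    exact ⟨algebraMap (𝒜 0) _ ⟨x, hx⟩, (psi 𝒜 hsharp F σ).commutes ⟨x, hx⟩⟩
  · intro n hn x hx
    refine ⟨gradedSection 𝒜 hsharp F σ ((W 𝒜 hsharp).mkQ x), ⟨_, psi_ι 𝒜 hsharp F σ _⟩, ?_⟩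
    exact sub_gradedSection_mem 𝒜 hsharp F hF σ hσ n hn x hx

include hF0 in
lemma eps_comp_psi : (epsAlg 𝒜 hsharp).comp (psi 𝒜 hsharp F σ) =
    SymmetricAlgebra.algebraMapInv := by
  apply SymmetricAlgebra.algHom_ext
  refine LinearMap.ext fun c => ?_
  show epsAlg 𝒜 hsharp (psi 𝒜 hsharp F σ (SymmetricAlgebra.ι _ _ c)) =
    SymmetricAlgebra.algebraMapInv (SymmetricAlgebra.ι _ _ c)
  rw [psi_ι, SymmetricAlgebra.algebraMapInv_ι]
  exact gradedSection_mem_ker 𝒜 hsharp F hF0 σ c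

include hF0 in
lemma psi_mem_ker_of_mem_aug (y : SymmetricAlgebra (𝒜 0) (Q 𝒜 hsharp))
    (hy : y ∈ SymSmooth.aug (𝒜 0) (Q 𝒜 hsharp)) :
    psi 𝒜 hsharp F σ y ∈ RingHom.ker (epsAlg 𝒜 hsharp).toRingHom := by
  rw [RingHom.mem_ker]
  have := AlgHom.congr_fun (eps_comp_psi 𝒜 hsharp F hF0 σ) y
  rw [AlgHom.comp_apply] at this
  exact this.trans ((SymSmooth.mem_aug_iff y).mp hy)

include hF0 in
lemma psi_mem_sq_of_mem_aug_sq (y : SymmetricAlgebra (𝒜 0) (Q 𝒜 hsharp))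
    (hy : y ∈ SymSmooth.aug (𝒜 0) (Q 𝒜 hsharp) ^ 2) :
    psi 𝒜 hsharp F σ y ∈ RingHom.ker (epsAlg 𝒜 hsharp).toRingHom ^ 2 := by
  have h1 : SymSmooth.aug (𝒜 0) (Q 𝒜 hsharp) ≤
      (RingHom.ker (epsAlg 𝒜 hsharp).toRingHom).comap (psi 𝒜 hsharp F σ) :=
    fun y hy => psi_mem_ker_of_mem_aug 𝒜 hsharp F hF0 σ y hy
  have h2 : (SymSmooth.aug (𝒜 0) (Q 𝒜 hsharp) ^ 2).map (psi 𝒜 hsharp F σ) ≤
      RingHom.ker (epsAlg 𝒜 hsharp).toRingHom ^ 2 := by
    rw [Ideal.map_pow]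
    exact Ideal.pow_right_mono (Ideal.map_le_iff_le_comap.mpr h1) 2
  exact h2 (Ideal.mem_map_of_mem _ hy)

include hF0 hF hσ in
/-- The kernel of `psi` lies in the square of the augmentation ideal. -/
lemma ker_psi_le_aug_sq (x : SymmetricAlgebra (𝒜 0) (Q 𝒜 hsharp))
    (hx : psi 𝒜 hsharp F σ x = 0) : x ∈ SymSmooth.aug (𝒜 0) (Q 𝒜 hsharp) ^ 2 := by
  obtain ⟨b, c, hr⟩ := SymSmooth.exists_decomp x
  set r := x - algebraMap (𝒜 0) _ b - SymmetricAlgebra.ι (𝒜 0) (Q 𝒜 hsharp) c with hrdef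
  have hx' : x = algebraMap (𝒜 0) _ b + SymmetricAlgebra.ι (𝒜 0) (Q 𝒜 hsharp) c + r := by
    rw [hrdef]; ring
  have hψr := psi_mem_sq_of_mem_aug_sq 𝒜 hsharp F hF0 σ r hr
  have h1 : algebraMap (𝒜 0) A b + gradedSection 𝒜 hsharp F σ c + psi 𝒜 hsharp F σ r = 0 := by
    rw [← hx, hx', map_add, map_add, AlgHom.commutes, psi_ι]
  -- apply ε
  have hb : b = 0 := by
    have h2 := congrArg (epsAlg 𝒜 hsharp) h1
    rw [map_add, map_add, AlgHom.commutes, map_zero] at h2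
    have h3 : epsAlg 𝒜 hsharp (gradedSection 𝒜 hsharp F σ c) = 0 :=
      gradedSection_mem_ker 𝒜 hsharp F hF0 σ c
    have h4 : epsAlg 𝒜 hsharp (psi 𝒜 hsharp F σ r) = 0 :=
      Ideal.pow_le_self two_ne_zero hψr
    rw [h3, h4, add_zero, add_zero] at h2
    exact h2
  have hc : c = 0 := by
    rw [hb, map_zero, zero_add] at h1
    have h2 := congrArg (W 𝒜 hsharp).mkQ h1
    rw [map_add, mkQ_gradedSection 𝒜 hsharp F hF σ hσ, map_zero] at h2
    have h3 : (W 𝒜 hsharp).mkQ (psi 𝒜 hsharp F σ r) = 0 := by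
      rw [Submodule.mkQ_apply, Submodule.Quotient.mk_eq_zero]
      exact mem_W_of_mem_sq 𝒜 hsharp _ hψr
    rw [h3, add_zero] at h2
    exact h2
  rw [hx', hb, hc, map_zero, map_zero, zero_add, zero_add]
  exact hr

include hF0 hF hσ in
theorem psi_injective [Algebra.FormallySmooth R A] [Module.Finite A Ω[A⁄R]]
    (hsurj : Function.Surjective (psi 𝒜 hsharp F σ)) :
    Function.Injective (psi 𝒜 hsharp F σ) := by
  obtain ⟨hfin, hproj⟩ := finite_projective (R := R) 𝒜 hsharp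
  have hB : Algebra.FormallySmooth R (𝒜 0) := RetractSmooth.formallySmooth (epsAlg 𝒜 hsharp)
  exact SymSmooth.injective_of_ker_le_aug_sq (R := R) (psi 𝒜 hsharp F σ) hsurj
    (fun x hx => ker_psi_le_aug_sq 𝒜 hsharp F hF0 hF σ hσ x hx)

end Section

include hsharp in
/-- A smooth algebra graded by a fine sharp monoid is a symmetric algebra over its degree zero
part. -/
theorem exists_algEquiv [AddMonoid.FG N] [IsCancelAdd N] [Algebra.FormallySmooth R A]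
    [Module.Finite A Ω[A⁄R]] :
    ∃ (P : Type u) (_ : AddCommGroup P) (_ : Module (𝒜 0) P), Module.Finite (𝒜 0) P ∧
      Module.Projective (𝒜 0) P ∧ Nonempty (A ≃ₐ[𝒜 0] SymmetricAlgebra (𝒜 0) P) := by
  obtain ⟨hfin, hproj⟩ := finite_projective (R := R) 𝒜 hsharp
  obtain ⟨ℓ, hℓ⟩ := SharpMon.exists_length hsharp
  obtain ⟨F, hF0, hF⟩ := exists_finset_sum_piQ 𝒜 hsharp
  obtain ⟨σ, hσ⟩ := Module.projective_lifting_property (W 𝒜 hsharp).mkQ
    (LinearMap.id : Q 𝒜 hsharp →ₗ[𝒜 0] Q 𝒜 hsharp) (W 𝒜 hsharp).mkQ_surjective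
  have hsurj := psi_surjective 𝒜 hsharp F hF σ hσ ℓ hℓ
  have hinj := psi_injective (R := R) 𝒜 hsharp F hF0 hF σ hσ hsurj
  exact ⟨Q 𝒜 hsharp, inferInstance, inferInstance, hfin, hproj,
    ⟨(AlgEquiv.ofBijective (psi 𝒜 hsharp F σ) ⟨hinj, hsurj⟩).symm⟩⟩

end Groth.Agent.H91.GradedSmooth
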