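import Mathlib
import Groth.Agent.H52.HensElem
import Groth.Agent.H14.HenselEssEt

/-!
# A henselization of an essentially étale local extension with trivial residue extension
is a henselization of the base (for S4007)
-/

set_option autoImplicit false
universe u

namespace Groth.Agent.H91.HensEtLoc

open IsLocalRing

/-- `A` local, `A₀ → A` an epimorphism (e.g. a localization, or the identity), `C₁` an étale
`A₀`-algebra, `L'` the localization of `C₁` at a prime, with a local map `A → L'` over `A₀` such
that `𝔪_A L' = 𝔪_{L'}` and with trivial residue field extension.  Then every henselization of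
`L'` is a henselization of `A`. -/
theorem isHenselization_of_essEtale
    {A₀ A C₁ L' R : Type u} [CommRing A₀] [CommRing A] [IsLocalRing A] [CommRing C₁]
    [CommRing L'] [IsLocalRing L']
    [Algebra A₀ A] [Algebra A₀ C₁] [Algebra.Etale A₀ C₁] [Algebra C₁ L'] [Algebra A₀ L']
    [IsScalarTower A₀ C₁ L'] [Algebra A L'] [IsScalarTower A₀ A L']
    [IsLocalHom (algebraMap A L')]
    (hepi : ∀ (T : Type u) [CommRing T] (f g : A →+* T),
      f.comp (algebraMap A₀ A) = g.comp (algebraMap A₀ A) → f = g)
    (q : Ideal C₁) [q.IsPrime] [IsLocalization.AtPrime L' q]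
    (hm : (maximalIdeal A).map (algebraMap A L') = maximalIdeal L')
    (hres : ∀ y : L', ∃ x : A, y - algebraMap A L' x ∈ maximalIdeal L')
    [CommRing R] [IsLocalRing R] [Algebra L' R] [IsLocalHom (algebraMap L' R)]
    [Hensel.IsHenselization L' R] :
    letI : Algebra A R := ((algebraMap L' R).comp (algebraMap A L')).toAlgebra
    ∃ (_ : IsLocalHom (algebraMap A R)), Hensel.IsHenselization A R := by
  have hres' : Function.Surjective (ResidueField.map (algebraMap A L')) := by
    intro y
    obtain ⟨y, rfl⟩ := residue_surjective y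
    obtain ⟨x, hx⟩ := hres y
    refine ⟨residue A x, ?_⟩
    rw [ResidueField.map_residue, eq_comm, ← sub_eq_zero, ← map_sub, residue_eq_zero_iff]
    exact hx
  refine Groth.Agent.H52.HensElem.isHenselization_of_lift (algebraMap A L') hm hres' ?_
  intro T _ _ f hf α hα
  letI : Algebra A₀ T := (f.comp (algebraMap A₀ A)).toAlgebra
  have hα' : ∀ a₀ : A₀, α (residue L' (algebraMap A₀ L' a₀)) = residue T (algebraMap A₀ T a₀) := by
    intro a₀
    rw [IsScalarTower.algebraMap_apply A₀ A L', hα]
    rfl
  obtain ⟨ψ', hψ', hψu⟩ := Groth.Agent.H14.existsUnique_algHom_of_residue_of_atPrime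
    (A := A₀) (C := C₁) (L := L') (B := T) q α hα'
  refine ⟨ψ'.toRingHom, ⟨?_, hψ'⟩, ?_⟩
  · apply hepi
    ext a₀
    simp only [RingHom.comp_apply]
    rw [← IsScalarTower.algebraMap_apply A₀ A L']
    exact ψ'.commutes a₀
  · rintro ψ₂ ⟨h1, h2⟩
    let ψ₂' : L' →ₐ[A₀] T :=
      { ψ₂ with
        commutes' := fun a₀ => by
          change ψ₂ (algebraMap A₀ L' a₀) = f (algebraMap A₀ A a₀)
          rw [IsScalarTower.algebraMap_apply A₀ A L', ← h1]
          rfl }
    have := hψu ψ₂' h2
    rw [← this]

end Groth.Agent.H91.HensEtLoc
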