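import Mathlib
import Groth.Agent.H91.HensEtLoc
import Groth.Agent.H91.EssEtOfFlat
import Groth.Agent.H78.ArtinApx.SchemeApprox
import Groth.Agent.H13.ComplIsoEtale3

/-!
# From an étale neighbourhood approximating an isomorphism of completions to a common
henselization (for S4007), core
-/

set_option autoImplicit false
universe u

namespace Groth.Agent.H91.HensOfCompl

open IsLocalRing

section Core

variable {k : Type u} [Field k]
  {O₁ O₂ : Type u} [CommRing O₁] [CommRing O₂] [IsLocalRing O₁] [IsLocalRing O₂]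
  [IsNoetherianRing O₁] [IsNoetherianRing O₂] [Algebra k O₁] [Algebra k O₂]
  {C B : Type u} [CommRing C] [CommRing B] [Algebra k C] [Algebra k B]
  [Algebra C O₁] [Algebra B O₂] [IsScalarTower k C O₁] [IsScalarTower k B O₂]
  (p : Ideal C) [p.IsPrime] [IsLocalization.AtPrime O₁ p]
  (p₂ : Ideal B) [p₂.IsPrime] [IsLocalization.AtPrime O₂ p₂]
  {C' : Type u} [CommRing C'] [Algebra C C']
  (p' : Ideal C') [p'.IsPrime]
  (L' : Type u) [CommRing L'] [IsLocalRing L'] [Algebra C' L'] [IsLocalization.AtPrime L' p']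
  (Φ : AdicCompletion (maximalIdeal O₂) O₂ ≃+* AdicCompletion (maximalIdeal O₁) O₁)
  (ψ : C' →+* AdicCompletion (maximalIdeal O₁) O₁) (g : B →+* C')

local notation "Ô₁" => AdicCompletion (maximalIdeal O₁) O₁
local notation "Ô₂" => AdicCompletion (maximalIdeal O₂) O₂

/-- `L' → Ô₁`. -/
noncomputable def psiL (hψu : ∀ x, x ∉ p' → IsUnit (ψ x)) : L' →+* Ô₁ :=
  IsLocalization.lift (M := p'.primeCompl) (g := ψ) (fun y => hψu y y.2)

theorem psiL_algebraMap (hψu : ∀ x, x ∉ p' → IsUnit (ψ x)) (x : C') :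
    psiL p' L' ψ hψu (algebraMap C' L' x) = ψ x :=
  IsLocalization.lift_eq _ _

theorem isLocalHom_psiL (hψu : ∀ x, x ∉ p' → IsUnit (ψ x))
    (hψp' : ∀ x ∈ p', ψ x ∈ (maximalIdeal O₁).map (algebraMap O₁ Ô₁)) :
    IsLocalHom (psiL p' L' ψ hψu) := by
  refine ⟨fun y hy => ?_⟩
  obtain ⟨x, t, rfl⟩ := IsLocalization.exists_mk'_eq p'.primeCompl y
  have h1 : psiL p' L' ψ hψu (IsLocalization.mk' L' x t) * ψ t = ψ x := by
    rw [← psiL_algebraMap p' L' ψ hψu, ← psiL_algebraMap p' L' ψ hψu, ← map_mul,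
      IsLocalization.mk'_spec]
  have h2 : IsUnit (ψ x) := by
    rw [← h1]
    exact hy.mul (hψu t t.2)
  have h3 : x ∉ p' := fun hx =>
    Groth.Agent.H78.ArtinApx.not_isUnit_of_mem_map_maximalIdeal (hψp' x hx) h2
  have h4 : IsUnit (algebraMap C' L' x) := IsLocalization.map_units L' (⟨x, h3⟩ : p'.primeCompl)
  rw [IsLocalization.mk'_eq_mul_mk'_one]
  refine h4.mul ?_
  have : IsLocalization.mk' L' (1 : C') t * algebraMap C' L' t = 1 := by
    rw [IsLocalization.mk'_spec, map_one]
  exact IsUnit.of_mul_eq_one _ this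

/-- `O₁ → L'`. -/
noncomputable def eps (hcomap : p'.comap (algebraMap C C') = p) : O₁ →+* L' :=
  IsLocalization.lift (M := p.primeCompl) (g := (algebraMap C' L').comp (algebraMap C C'))
    (fun y => by
      have : algebraMap C C' y ∉ p' := by
        intro h
        have : (y : C) ∈ p'.comap (algebraMap C C') := h
        rw [hcomap] at this
        exact y.2 this
      exact IsLocalization.map_units L' (⟨_, this⟩ : p'.primeCompl))

theorem eps_algebraMap (hcomap : p'.comap (algebraMap C C') = p) (c : C) :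
    eps p p' L' hcomap (algebraMap C O₁ c) = algebraMap C' L' (algebraMap C C' c) :=
  IsLocalization.lift_eq _ _

theorem psiL_comp_eps (hψu : ∀ x, x ∉ p' → IsUnit (ψ x))
    (hcomap : p'.comap (algebraMap C C') = p)
    (hψC : ∀ c : C, ψ (algebraMap C C' c) = algebraMap O₁ Ô₁ (algebraMap C O₁ c)) :
    (psiL p' L' ψ hψu).comp (eps p p' L' hcomap) = algebraMap O₁ Ô₁ := by
  apply IsLocalization.ringHom_ext p.primeCompl
  refine RingHom.ext fun c => ?_
  simp only [RingHom.comp_apply]
  rw [eps_algebraMap, psiL_algebraMap, hψC]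

end Core

end Groth.Agent.H91.HensOfCompl
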