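import Mathlib
import Groth.Agent.H91.HensOfComplA

/-!
# From an étale neighbourhood approximating an isomorphism of completions to a common
henselization (for S4007), core part B
-/

set_option autoImplicit false
set_option linter.style.haveILetI false
set_option linter.unusedSectionVars false
universe u

namespace Groth.Agent.H91.HensOfCompl

open IsLocalRing

section Core

variable {k : Type u} [Field k]
  {O₁ O₂ : Type u} [CommRing O₁] [CommRing O₂] [IsLocalRing O₁] [IsLocalRing O₂]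
  [IsNoetherianRing O₁] [IsNoetherianRing O₂] [Algebra k O₁] [Algebra k O₂]
  {C B : Type u} [CommRing C] [CommRing B] [Algebra k C] [Algebra k B]
  [Algebra C O₁] [Algebra B O₂] [IsScalarTower k C O₁] [IsScalarTower k B O₂]
  (p : Ideal C) [p.IsPrime] [IsLocalization.AtPrime O₁ p]
  (p₂ : Ideal B) [p₂.IsPrime] [IsLocalization.AtPrime O₂ p₂]
  {C' : Type u} [CommRing C'] [Algebra C C']
  (p' : Ideal C') [p'.IsPrime]
  (L' : Type u) [CommRing L'] [IsLocalRing L'] [Algebra C' L'] [IsLocalization.AtPrime L' p']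
  (Φ : AdicCompletion (maximalIdeal O₂) O₂ ≃+* AdicCompletion (maximalIdeal O₁) O₁)
  (ψ : C' →+* AdicCompletion (maximalIdeal O₁) O₁) (g : B →+* C')

local notation "Ô₁" => AdicCompletion (maximalIdeal O₁) O₁
local notation "Ô₂" => AdicCompletion (maximalIdeal O₂) O₂

theorem isLocalHom_eps (hψu : ∀ x, x ∉ p' → IsUnit (ψ x))
    (hψp' : ∀ x ∈ p', ψ x ∈ (maximalIdeal O₁).map (algebraMap O₁ Ô₁))
    (hcomap : p'.comap (algebraMap C C') = p)
    (hψC : ∀ c : C, ψ (algebraMap C C' c) = algebraMap O₁ Ô₁ (algebraMap C O₁ c)) :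
    IsLocalHom (eps (O₁ := O₁) p p' L' hcomap) := by
  refine ⟨fun x hx => ?_⟩
  have h1 := hx.map (psiL p' L' ψ hψu)
  have h2 : psiL p' L' ψ hψu (eps (O₁ := O₁) p p' L' hcomap x) = algebraMap O₁ Ô₁ x :=
    RingHom.congr_fun (psiL_comp_eps p p' L' ψ hψu hcomap hψC) x
  rw [h2] at h1
  exact isUnit_of_map_unit (algebraMap O₁ Ô₁) x h1

theorem exists_sub_mem_maximalIdeal (z : Ô₁) :
    ∃ x : O₁, z - algebraMap O₁ Ô₁ x ∈ maximalIdeal Ô₁ := by
  obtain ⟨x, hx⟩ := Ideal.Quotient.mk_surjective (AdicCompletion.evalₐ (maximalIdeal O₁) 1 z)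
  refine ⟨x, ?_⟩
  have h1 : AdicCompletion.evalₐ (maximalIdeal O₁) 1 (z - algebraMap O₁ Ô₁ x) = 0 := by
    rw [map_sub, ← hx]
    have : AdicCompletion.evalₐ (maximalIdeal O₁) 1 (algebraMap O₁ Ô₁ x) =
        Ideal.Quotient.mk _ x := AdicCompletion.evalₐ_of _ _ _
    rw [this, sub_self]
  have h2 := (Groth.Agent.H13.ComplIsoEtale.evalₐ_eq_zero_iff O₁ 1 _).mp h1
  rwa [pow_one] at h2

theorem eps_props [IsNoetherianRing C] [Algebra.Etale C C']
    (hψu : ∀ x, x ∉ p' → IsUnit (ψ x))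
    (hψp' : ∀ x ∈ p', ψ x ∈ (maximalIdeal O₁).map (algebraMap O₁ Ô₁))
    (hcomap : p'.comap (algebraMap C C') = p)
    (hψC : ∀ c : C, ψ (algebraMap C C' c) = algebraMap O₁ Ô₁ (algebraMap C O₁ c)) :
    (eps (O₁ := O₁) p p' L' hcomap).Flat ∧
      (maximalIdeal O₁).map (eps (O₁ := O₁) p p' L' hcomap) = maximalIdeal L' ∧
      ∀ y : L', ∃ x : O₁, y - eps (O₁ := O₁) p p' L' hcomap x ∈ maximalIdeal L' := by
  letI algCL : Algebra C L' := ((algebraMap C' L').comp (algebraMap C C')).toAlgebra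
  haveI : IsScalarTower C C' L' := IsScalarTower.of_algebraMap_eq fun _ => rfl
  letI algOL : Algebra O₁ L' := (eps (O₁ := O₁) p p' L' hcomap).toAlgebra
  haveI : IsScalarTower C O₁ L' :=
    IsScalarTower.of_algebraMap_eq fun c => (eps_algebraMap p p' L' hcomap c).symm
  haveI hloc : IsLocalHom (algebraMap O₁ L') := isLocalHom_eps p p' L' ψ hψu hψp' hcomap hψC
  have hlocψ := isLocalHom_psiL p' L' ψ hψu hψp'
  refine ⟨?_, ?_, ?_⟩
  · haveI : Module.Flat C' L' := IsLocalization.flat L' p'.primeCompl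
    haveI : Module.Flat C L' := Module.Flat.trans C C' L'
    exact (Module.flat_iff_of_isLocalization O₁ p.primeCompl L').mpr inferInstance
  · haveI : Algebra.FormallyUnramified C' L' :=
      Algebra.FormallyUnramified.of_isLocalization p'.primeCompl
    haveI : Algebra.FormallyUnramified C L' := Algebra.FormallyUnramified.comp C C' L'
    haveI : Algebra.FormallyUnramified O₁ L' := Algebra.FormallyUnramified.of_restrictScalars C O₁ L'
    haveI : Algebra.EssFiniteType C' L' := Algebra.EssFiniteType.of_isLocalization L' p'.primeCompl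
    haveI : Algebra.EssFiniteType C L' := Algebra.EssFiniteType.comp C C' L'
    haveI : Algebra.EssFiniteType O₁ L' := Algebra.EssFiniteType.of_comp C O₁ L'
    exact Algebra.FormallyUnramified.map_maximalIdeal
  · intro y
    obtain ⟨x, hx⟩ := exists_sub_mem_maximalIdeal (psiL p' L' ψ hψu y)
    refine ⟨x, ?_⟩
    rw [mem_maximalIdeal, mem_nonunits_iff]
    intro hu
    have h1 := hu.map (psiL p' L' ψ hψu)
    have h2 : psiL p' L' ψ hψu (eps (O₁ := O₁) p p' L' hcomap x) = algebraMap O₁ Ô₁ x :=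
      RingHom.congr_fun (psiL_comp_eps p p' L' ψ hψu hcomap hψC) x
    rw [map_sub, h2] at h1
    exact (mem_maximalIdeal _).mp hx h1

theorem g_notMem
    (hψp' : ∀ x ∈ p', ψ x ∈ (maximalIdeal O₁).map (algebraMap O₁ Ô₁))
    (happ : ∀ b : B, Φ (algebraMap O₂ Ô₂ (algebraMap B O₂ b)) - ψ (g b) ∈
      (maximalIdeal O₁ ^ 2).map (algebraMap O₁ Ô₁)) (b : p₂.primeCompl) : g b ∉ p' := by
  intro hb
  have h1 : IsUnit (Φ (algebraMap O₂ Ô₂ (algebraMap B O₂ b))) :=
    ((IsLocalization.map_units O₂ b).map (algebraMap O₂ Ô₂)).map Φ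
  have h2 : Φ (algebraMap O₂ Ô₂ (algebraMap B O₂ b)) ∈
      (maximalIdeal O₁).map (algebraMap O₁ Ô₁) := by
    have : Φ (algebraMap O₂ Ô₂ (algebraMap B O₂ b)) =
        (Φ (algebraMap O₂ Ô₂ (algebraMap B O₂ b)) - ψ (g b)) + ψ (g b) := by ring
    rw [this]
    refine Ideal.add_mem _ ?_ (hψp' _ hb)
    exact Ideal.map_mono (Ideal.pow_le_self two_ne_zero) (happ b)
  exact Groth.Agent.H78.ArtinApx.not_isUnit_of_mem_map_maximalIdeal h2 h1

/-- `O₂ → L'`. -/
noncomputable def alp (hg : ∀ b : p₂.primeCompl, g b ∉ p') : O₂ →+* L' :=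
  IsLocalization.lift (M := p₂.primeCompl) (g := (algebraMap C' L').comp g)
    (fun y => IsLocalization.map_units L' (⟨_, hg y⟩ : p'.primeCompl))

theorem alp_algebraMap (hg : ∀ b : p₂.primeCompl, g b ∉ p') (b : B) :
    alp p₂ p' L' g hg (algebraMap B O₂ b) = algebraMap C' L' (g b) :=
  IsLocalization.lift_eq _ _

end Core

end Groth.Agent.H91.HensOfCompl
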