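import Mathlib
import Groth.Agent.H91.HensOfComplB

/-!
# From an étale neighbourhood approximating an isomorphism of completions to a common
henselization (for S4007), core part C
-/

set_option autoImplicit false
set_option linter.unusedSectionVars false
set_option linter.style.haveILetI false
universe u

namespace Groth.Agent.H91.HensOfCompl

open IsLocalRing

section Core

variable {k : Type u} [Field k]
  {O₁ O₂ : Type u} [CommRing O₁] [CommRing O₂] [IsLocalRing O₁] [IsLocalRing O₂]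
  [IsNoetherianRing O₁] [IsNoetherianRing O₂] [Algebra k O₁] [Algebra k O₂]
  {C B : Type u} [CommRing C] [CommRing B] [Algebra k C] [Algebra k B]
  [Algebra C O₁] [Algebra B O₂] [IsScalarTower k C O₁] [IsScalarTower k B O₂]
  (p : Ideal C) [p.IsPrime] [IsLocalization.AtPrime O₁ p]
  (p₂ : Ideal B) [p₂.IsPrime] [IsLocalization.AtPrime O₂ p₂]
  {C' : Type u} [CommRing C'] [Algebra C C']
  (p' : Ideal C') [p'.IsPrime]
  (L' : Type u) [CommRing L'] [IsLocalRing L'] [Algebra C' L'] [IsLocalization.AtPrime L' p']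
  (Φ : AdicCompletion (maximalIdeal O₂) O₂ ≃+* AdicCompletion (maximalIdeal O₁) O₁)
  (ψ : C' →+* AdicCompletion (maximalIdeal O₁) O₁) (g : B →+* C')

local notation "Ô₁" => AdicCompletion (maximalIdeal O₁) O₁
local notation "Ô₂" => AdicCompletion (maximalIdeal O₂) O₂

theorem map_pow_eq (n : ℕ) :
    (maximalIdeal O₁ ^ n).map (algebraMap O₁ Ô₁) = maximalIdeal Ô₁ ^ n := by
  rw [Ideal.map_pow, ← AdicCompletion.maximalIdeal_eq_map]

theorem psiL_alp_sub (hψu : ∀ x, x ∉ p' → IsUnit (ψ x))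
    (hg : ∀ b : p₂.primeCompl, g b ∉ p')
    (happ : ∀ b : B, Φ (algebraMap O₂ Ô₂ (algebraMap B O₂ b)) - ψ (g b) ∈
      (maximalIdeal O₁ ^ 2).map (algebraMap O₁ Ô₁)) (b : O₂) :
    psiL p' L' ψ hψu (alp (O₂ := O₂) p₂ p' L' g hg b) - Φ (algebraMap O₂ Ô₂ b) ∈
      maximalIdeal Ô₁ ^ 2 := by
  let f₁ : O₂ →+* Ô₁ ⧸ maximalIdeal Ô₁ ^ 2 :=
    (Ideal.Quotient.mk _).comp ((psiL p' L' ψ hψu).comp (alp (O₂ := O₂) p₂ p' L' g hg))
  let f₂ : O₂ →+* Ô₁ ⧸ maximalIdeal Ô₁ ^ 2 :=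
    (Ideal.Quotient.mk _).comp ((Φ : Ô₂ →+* Ô₁).comp (algebraMap O₂ Ô₂))
  have h12 : f₁ = f₂ := by
    apply IsLocalization.ringHom_ext p₂.primeCompl
    refine RingHom.ext fun b => ?_
    change Ideal.Quotient.mk _ (psiL p' L' ψ hψu (alp (O₂ := O₂) p₂ p' L' g hg
      (algebraMap B O₂ b))) = Ideal.Quotient.mk _ (Φ (algebraMap O₂ Ô₂ (algebraMap B O₂ b)))
    rw [alp_algebraMap, psiL_algebraMap, eq_comm, Ideal.Quotient.eq, ← map_pow_eq]
    exact happ b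
  have := RingHom.congr_fun h12 b
  exact Ideal.Quotient.eq.mp this

theorem isLocalHom_alp (hψu : ∀ x, x ∉ p' → IsUnit (ψ x))
    (hg : ∀ b : p₂.primeCompl, g b ∉ p')
    (happ : ∀ b : B, Φ (algebraMap O₂ Ô₂ (algebraMap B O₂ b)) - ψ (g b) ∈
      (maximalIdeal O₁ ^ 2).map (algebraMap O₁ Ô₁)) :
    IsLocalHom (alp (O₂ := O₂) p₂ p' L' g hg) := by
  refine ⟨fun b hb => ?_⟩
  have h1 := hb.map (psiL p' L' ψ hψu)
  have h2 := psiL_alp_sub p₂ p' L' Φ ψ g hψu hg happ b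
  have h3 : IsUnit (Φ (algebraMap O₂ Ô₂ b)) := by
    by_contra hnu
    have h4 : Φ (algebraMap O₂ Ô₂ b) ∈ maximalIdeal Ô₁ := (mem_maximalIdeal _).mpr hnu
    have h5 : psiL p' L' ψ hψu (alp (O₂ := O₂) p₂ p' L' g hg b) ∈ maximalIdeal Ô₁ := by
      have : psiL p' L' ψ hψu (alp (O₂ := O₂) p₂ p' L' g hg b) =
          (psiL p' L' ψ hψu (alp (O₂ := O₂) p₂ p' L' g hg b) - Φ (algebraMap O₂ Ô₂ b)) +
            Φ (algebraMap O₂ Ô₂ b) := by ring
      rw [this]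
      exact Ideal.add_mem _ (Ideal.pow_le_self two_ne_zero h2) h4
    exact (mem_maximalIdeal _).mp h5 h1
  have h6 : IsUnit (algebraMap O₂ Ô₂ b) := by
    have := h3.map (Φ.symm : Ô₁ →+* Ô₂)
    simpa using this
  exact isUnit_of_map_unit (algebraMap O₂ Ô₂) b h6

theorem psiL_mem_pow (hψu : ∀ x, x ∉ p' → IsUnit (ψ x))
    (hψp' : ∀ x ∈ p', ψ x ∈ (maximalIdeal O₁).map (algebraMap O₁ Ô₁)) (n : ℕ) (z : L')
    (hz : z ∈ maximalIdeal L' ^ n) : psiL p' L' ψ hψu z ∈ maximalIdeal Ô₁ ^ n := by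
  have hl := isLocalHom_psiL p' L' ψ hψu hψp'
  have h1 : (maximalIdeal L').map (psiL p' L' ψ hψu) ≤ maximalIdeal Ô₁ :=
    ((local_hom_TFAE (psiL p' L' ψ hψu)).out 0 2).mp hl
  have h2 := Ideal.mem_map_of_mem (psiL p' L' ψ hψu) hz
  rw [Ideal.map_pow] at h2
  exact Ideal.pow_right_mono h1 n h2

end Core

end Groth.Agent.H91.HensOfCompl
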