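import Mathlib
import Groth.Agent.H91.HensOfComplC

/-!
# From an étale neighbourhood approximating an isomorphism of completions to a common
henselization (for S4007), core part D
-/

set_option autoImplicit false
set_option linter.unusedSectionVars false
set_option linter.style.haveILetI false
universe u

namespace Groth.Agent.H91.HensOfCompl

open IsLocalRing

section Core

variable {k : Type u} [Field k]
  {O₁ O₂ : Type u} [CommRing O₁] [CommRing O₂] [IsLocalRing O₁] [IsLocalRing O₂]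
  [IsNoetherianRing O₁] [IsNoetherianRing O₂] [Algebra k O₁] [Algebra k O₂]
  {C B : Type u} [CommRing C] [CommRing B] [Algebra k C] [Algebra k B]
  [Algebra C O₁] [Algebra B O₂] [IsScalarTower k C O₁] [IsScalarTower k B O₂]
  (p : Ideal C) [p.IsPrime] [IsLocalization.AtPrime O₁ p]
  (p₂ : Ideal B) [p₂.IsPrime] [IsLocalization.AtPrime O₂ p₂]
  {C' : Type u} [CommRing C'] [Algebra C C']
  (p' : Ideal C') [p'.IsPrime]
  (L' : Type u) [CommRing L'] [IsLocalRing L'] [Algebra C' L'] [IsLocalization.AtPrime L' p']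
  (Φ : AdicCompletion (maximalIdeal O₂) O₂ ≃+* AdicCompletion (maximalIdeal O₁) O₁)
  (ψ : C' →+* AdicCompletion (maximalIdeal O₁) O₁) (g : B →+* C')

local notation "Ô₁" => AdicCompletion (maximalIdeal O₁) O₁
local notation "Ô₂" => AdicCompletion (maximalIdeal O₂) O₂

/-- the properties of `α : O₂ → L'`. -/
theorem alp_props [IsNoetherianRing C] [Algebra.Etale C C']
    (hψu : ∀ x, x ∉ p' → IsUnit (ψ x))
    (hψp' : ∀ x ∈ p', ψ x ∈ (maximalIdeal O₁).map (algebraMap O₁ Ô₁))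
    (hcomap : p'.comap (algebraMap C C') = p)
    (hψC : ∀ c : C, ψ (algebraMap C C' c) = algebraMap O₁ Ô₁ (algebraMap C O₁ c))
    (hg : ∀ b : p₂.primeCompl, g b ∉ p')
    (happ : ∀ b : B, Φ (algebraMap O₂ Ô₂ (algebraMap B O₂ b)) - ψ (g b) ∈
      (maximalIdeal O₁ ^ 2).map (algebraMap O₁ Ô₁)) :
    (alp (O₂ := O₂) p₂ p' L' g hg).Flat ∧
      (maximalIdeal O₂).map (alp (O₂ := O₂) p₂ p' L' g hg) = maximalIdeal L' ∧
      ∀ y : L', ∃ x : O₂, y - alp (O₂ := O₂) p₂ p' L' g hg x ∈ maximalIdeal L' := by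
  obtain ⟨hεfl, hεm, hεres⟩ := eps_props (O₁ := O₁) p p' L' ψ hψu hψp' hcomap hψC
  have hαloc := isLocalHom_alp p₂ p' L' Φ ψ g hψu hg happ
  have hα : (maximalIdeal O₂).map (alp (O₂ := O₂) p₂ p' L' g hg) ≤ maximalIdeal L' :=
    ((local_hom_TFAE (alp (O₂ := O₂) p₂ p' L' g hg)).out 0 2).mp hαloc
  haveI : IsNoetherianRing C' :=
    Algebra.FiniteType.isNoetherianRing C C'
  haveI : IsNoetherianRing L' := IsLocalization.isNoetherianRing p'.primeCompl L' inferInstance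
  have hcomp : ∀ x, psiL p' L' ψ hψu (eps (O₁ := O₁) p p' L' hcomap x) = algebraMap O₁ Ô₁ x :=
    fun x => RingHom.congr_fun (psiL_comp_eps p p' L' ψ hψu hcomap hψC) x
  refine Groth.Agent.H13.ComplIsoEtale.main (alp (O₂ := O₂) p₂ p' L' g hg)
    (eps (O₁ := O₁) p p' L' hcomap) Φ hα hεfl hεm hεres 2 le_rfl ?_
  intro b r hbr
  rw [Ideal.Quotient.eq]
  set z := alp (O₂ := O₂) p₂ p' L' g hg b - eps (O₁ := O₁) p p' L' hcomap r with hz
  -- `psiL z ∈ 𝔪̂²`
  have h1 : Φ (algebraMap O₂ Ô₂ b) - algebraMap O₁ Ô₁ r ∈ maximalIdeal Ô₁ ^ 2 := by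
    rw [← Groth.Agent.H13.ComplIsoEtale.evalₐ_eq_zero_iff, map_sub, hbr]
    have : AdicCompletion.evalₐ (maximalIdeal O₁) 2 (algebraMap O₁ Ô₁ r) =
        Ideal.Quotient.mk _ r := AdicCompletion.evalₐ_of _ _ _
    rw [this, sub_self]
  have h2 : psiL p' L' ψ hψu z ∈ maximalIdeal Ô₁ ^ 2 := by
    have : psiL p' L' ψ hψu z =
        (psiL p' L' ψ hψu (alp (O₂ := O₂) p₂ p' L' g hg b) - Φ (algebraMap O₂ Ô₂ b)) +
          (Φ (algebraMap O₂ Ô₂ b) - algebraMap O₁ Ô₁ r) := by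
      rw [hz, map_sub, hcomp]; ring
    rw [this]
    exact Ideal.add_mem _ (psiL_alp_sub p₂ p' L' Φ ψ g hψu hg happ b) h1
  -- approximate `z` by an element of `O₁`
  obtain ⟨x, hx⟩ := (Groth.Agent.H13.ComplIsoEtale.quotientMap_pow_bijective_of_flat
    (eps (O₁ := O₁) p p' L' hcomap) hεfl hεm hεres 2).2 (Ideal.Quotient.mk _ z)
  obtain ⟨r₀, rfl⟩ := Ideal.Quotient.mk_surjective x
  rw [Ideal.quotientMap_mk, Ideal.Quotient.eq] at hx
  have h3 : psiL p' L' ψ hψu (eps (O₁ := O₁) p p' L' hcomap r₀ - z) ∈ maximalIdeal Ô₁ ^ 2 :=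
    psiL_mem_pow p' L' ψ hψu hψp' 2 _ hx
  have h4 : algebraMap O₁ Ô₁ r₀ ∈ maximalIdeal Ô₁ ^ 2 := by
    have : algebraMap O₁ Ô₁ r₀ =
        psiL p' L' ψ hψu (eps (O₁ := O₁) p p' L' hcomap r₀ - z) + psiL p' L' ψ hψu z := by
      rw [map_sub, hcomp]; ring
    rw [this]
    exact Ideal.add_mem _ h3 h2
  have h5 : r₀ ∈ maximalIdeal O₁ ^ 2 := by
    rw [← Groth.Agent.H13.ComplIsoEtale.evalₐ_eq_zero_iff] at h4
    have : AdicCompletion.evalₐ (maximalIdeal O₁) 2 (algebraMap O₁ Ô₁ r₀) =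
        Ideal.Quotient.mk _ r₀ := AdicCompletion.evalₐ_of _ _ _
    rw [this] at h4
    exact Ideal.Quotient.eq_zero_iff_mem.mp h4
  have h6 : eps (O₁ := O₁) p p' L' hcomap r₀ ∈ maximalIdeal L' ^ 2 := by
    have := Ideal.mem_map_of_mem (eps (O₁ := O₁) p p' L' hcomap) h5
    rw [Ideal.map_pow, hεm] at this
    exact this
  have : z = eps (O₁ := O₁) p p' L' hcomap r₀ - (eps (O₁ := O₁) p p' L' hcomap r₀ - z) := by ring
  rw [this]
  exact Ideal.sub_mem _ h6 hx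

end Core

end Groth.Agent.H91.HensOfCompl
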