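import Mathlib
import Groth.Agent.H91.HensOfComplD

/-!
# From an étale neighbourhood approximating an isomorphism of completions to a common
henselization (for S4007), core part E
-/

set_option autoImplicit false
set_option linter.unusedSectionVars false
set_option linter.style.haveILetI false
universe u

namespace Groth.Agent.H91.HensOfCompl

open IsLocalRing

section Core

variable {k : Type u} [Field k]
  {O₁ O₂ : Type u} [CommRing O₁] [CommRing O₂] [IsLocalRing O₁] [IsLocalRing O₂]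
  [IsNoetherianRing O₁] [IsNoetherianRing O₂] [Algebra k O₁] [Algebra k O₂]
  {C B : Type u} [CommRing C] [CommRing B] [Algebra k C] [Algebra k B]
  [Algebra C O₁] [Algebra B O₂] [IsScalarTower k C O₁] [IsScalarTower k B O₂]
  (p : Ideal C) [p.IsPrime] [IsLocalization.AtPrime O₁ p]
  (p₂ : Ideal B) [p₂.IsPrime] [IsLocalization.AtPrime O₂ p₂]
  {C' : Type u} [CommRing C'] [Algebra C C']
  (p' : Ideal C') [p'.IsPrime]
  (L' : Type u) [CommRing L'] [IsLocalRing L'] [Algebra C' L'] [IsLocalization.AtPrime L' p']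
  (Φ : AdicCompletion (maximalIdeal O₂) O₂ ≃+* AdicCompletion (maximalIdeal O₁) O₁)
  (ψ : C' →+* AdicCompletion (maximalIdeal O₁) O₁) (g : B →+* C')

local notation "Ô₁" => AdicCompletion (maximalIdeal O₁) O₁
local notation "Ô₂" => AdicCompletion (maximalIdeal O₂) O₂

theorem hens_O₁ [IsNoetherianRing C] [Algebra.Etale C C']
    (hψu : ∀ x, x ∉ p' → IsUnit (ψ x))
    (hψp' : ∀ x ∈ p', ψ x ∈ (maximalIdeal O₁).map (algebraMap O₁ Ô₁))
    (hcomap : p'.comap (algebraMap C C') = p)
    (hψC : ∀ c : C, ψ (algebraMap C C' c) = algebraMap O₁ Ô₁ (algebraMap C O₁ c))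
    (R : Type u) [CommRing R] [IsLocalRing R] [Algebra L' R] [IsLocalHom (algebraMap L' R)]
    [Hensel.IsHenselization L' R] :
    letI : Algebra O₁ R := ((algebraMap L' R).comp (eps (O₁ := O₁) p p' L' hcomap)).toAlgebra
    ∃ (_ : IsLocalHom (algebraMap O₁ R)), Hensel.IsHenselization O₁ R := by
  obtain ⟨hεfl, hεm, hεres⟩ := eps_props (O₁ := O₁) p p' L' ψ hψu hψp' hcomap hψC
  letI algCL : Algebra C L' := ((algebraMap C' L').comp (algebraMap C C')).toAlgebra
  haveI : IsScalarTower C C' L' := IsScalarTower.of_algebraMap_eq fun _ => rfl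
  letI algOL : Algebra O₁ L' := (eps (O₁ := O₁) p p' L' hcomap).toAlgebra
  haveI : IsScalarTower C O₁ L' :=
    IsScalarTower.of_algebraMap_eq fun c => (eps_algebraMap p p' L' hcomap c).symm
  haveI hloc : IsLocalHom (algebraMap O₁ L') := isLocalHom_eps p p' L' ψ hψu hψp' hcomap hψC
  exact Groth.Agent.H91.HensEtLoc.isHenselization_of_essEtale (A₀ := C) (A := O₁) (C₁ := C')
    (L' := L') (R := R)
    (fun T _ f g hfg => IsLocalization.ringHom_ext p.primeCompl hfg) p' hεm hεres

theorem hens_O₂ [IsNoetherianRing C] [Algebra.FiniteType k C] [Algebra.Etale C C']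
    (hψu : ∀ x, x ∉ p' → IsUnit (ψ x))
    (hψp' : ∀ x ∈ p', ψ x ∈ (maximalIdeal O₁).map (algebraMap O₁ Ô₁))
    (hcomap : p'.comap (algebraMap C C') = p)
    (hψC : ∀ c : C, ψ (algebraMap C C' c) = algebraMap O₁ Ô₁ (algebraMap C O₁ c))
    (hg : ∀ b : p₂.primeCompl, g b ∉ p')
    (hgα : ∀ a : k, g (algebraMap k B a) = algebraMap C C' (algebraMap k C a))
    (happ : ∀ b : B, Φ (algebraMap O₂ Ô₂ (algebraMap B O₂ b)) - ψ (g b) ∈
      (maximalIdeal O₁ ^ 2).map (algebraMap O₁ Ô₁))
    (R : Type u) [CommRing R] [IsLocalRing R] [Algebra L' R] [IsLocalHom (algebraMap L' R)]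
    [Hensel.IsHenselization L' R] :
    letI : Algebra O₂ R := ((algebraMap L' R).comp (alp (O₂ := O₂) p₂ p' L' g hg)).toAlgebra
    ∃ (_ : IsLocalHom (algebraMap O₂ R)), Hensel.IsHenselization O₂ R := by
  obtain ⟨hαfl, hαm, hαres⟩ :=
    alp_props (O₁ := O₁) p p₂ p' L' Φ ψ g hψu hψp' hcomap hψC hg happ
  have hαloc := isLocalHom_alp p₂ p' L' Φ ψ g hψu hg happ
  -- `k`-algebra structures
  letI algkC' : Algebra k C' := ((algebraMap C C').comp (algebraMap k C)).toAlgebra
  haveI : IsScalarTower k C C' := IsScalarTower.of_algebraMap_eq fun _ => rfl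
  letI algkL : Algebra k L' := ((algebraMap C' L').comp (algebraMap k C')).toAlgebra
  haveI : IsScalarTower k C' L' := IsScalarTower.of_algebraMap_eq fun _ => rfl
  haveI : Algebra.EssFiniteType k C' := Algebra.EssFiniteType.comp k C C'
  haveI : Algebra.EssFiniteType C' L' := Algebra.EssFiniteType.of_isLocalization L' p'.primeCompl
  haveI : Algebra.EssFiniteType k L' := Algebra.EssFiniteType.comp k C' L'
  letI algOL : Algebra O₂ L' := (alp (O₂ := O₂) p₂ p' L' g hg).toAlgebra
  haveI : IsScalarTower k O₂ L' := IsScalarTower.of_algebraMap_eq fun c => by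
    change algebraMap C' L' (algebraMap C C' (algebraMap k C c)) =
      alp (O₂ := O₂) p₂ p' L' g hg (algebraMap k O₂ c)
    rw [IsScalarTower.algebraMap_apply k B O₂, alp_algebraMap, hgα]
  haveI : Algebra.EssFiniteType O₂ L' := Algebra.EssFiniteType.of_comp k O₂ L'
  haveI : IsLocalHom (algebraMap O₂ L') := hαloc
  haveI : Module.Flat O₂ L' := hαfl
  obtain ⟨C₁, _, _, hEt, _, _, q, hq, hlocq⟩ :=
    Groth.Agent.H91.EssEtOfFlat.exists_etale_atPrime (A := O₂) (L' := L') hαm hαres
  exact Groth.Agent.H91.HensEtLoc.isHenselization_of_essEtale (A₀ := O₂) (A := O₂) (C₁ := C₁)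
    (L' := L') (R := R)
    (fun T _ f g hfg => by
      have : algebraMap O₂ O₂ = RingHom.id O₂ := rfl
      rw [this, RingHom.comp_id, RingHom.comp_id] at hfg
      exact hfg) q hαm hαres

end Core

end Groth.Agent.H91.HensOfCompl
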