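import Mathlib
import Groth.Agent.H91.HensOfComplE
import Groth.Agent.H72.NormalFF
import Groth.Agent.H78.ArtinApx.FieldGRing
import Groth.Agent.H3.HensIso
import Groth.Agent.H3.HensLocal

/-!
# Local rings essentially of finite type over a field with isomorphic completions have
isomorphic henselizations (for S4007)
-/

set_option autoImplicit false
set_option linter.unusedSectionVars false
set_option linter.style.haveILetI false
universe u

namespace Groth.Agent.H91.HensOfCompl

open IsLocalRing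

set_option maxHeartbeats 1600000 in
theorem nonempty_algEquiv_henselization
    (k : Type u) [Field k]
    (O₁ O₂ : Type u) [CommRing O₁] [CommRing O₂] [IsLocalRing O₁] [IsLocalRing O₂]
    [Algebra k O₁] [Algebra k O₂] [Algebra.EssFiniteType k O₁] [Algebra.EssFiniteType k O₂]
    (Φ : AdicCompletion (maximalIdeal O₂) O₂ ≃ₐ[k] AdicCompletion (maximalIdeal O₁) O₁)
    (H₁ : Type u) [CommRing H₁] [IsLocalRing H₁] [Algebra O₁ H₁] [IsLocalHom (algebraMap O₁ H₁)]
    [Hensel.IsHenselization O₁ H₁] [Algebra k H₁] [IsScalarTower k O₁ H₁]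
    (H₂ : Type u) [CommRing H₂] [IsLocalRing H₂] [Algebra O₂ H₂] [IsLocalHom (algebraMap O₂ H₂)]
    [Hensel.IsHenselization O₂ H₂] [Algebra k H₂] [IsScalarTower k O₂ H₂] :
    Nonempty (H₁ ≃ₐ[k] H₂) := by
  haveI : IsNoetherianRing O₁ := Algebra.EssFiniteType.isNoetherianRing k O₁
  haveI : IsNoetherianRing O₂ := Algebra.EssFiniteType.isNoetherianRing k O₂
  -- presentations
  let C := Algebra.EssFiniteType.subalgebra k O₁
  let p : Ideal C := (maximalIdeal O₁).comap (algebraMap C O₁)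
  haveI : p.IsPrime := Ideal.comap_isPrime _ _
  haveI hlocp : IsLocalization.AtPrime O₁ p :=
    Groth.Agent.H87.EtLocalStd.isLocalization_atPrime_subalgebra k O₁
  let B := Algebra.EssFiniteType.subalgebra k O₂
  let p₂ : Ideal B := (maximalIdeal O₂).comap (algebraMap B O₂)
  haveI : p₂.IsPrime := Ideal.comap_isPrime _ _
  haveI hlocp₂ : IsLocalization.AtPrime O₂ p₂ :=
    Groth.Agent.H87.EtLocalStd.isLocalization_atPrime_subalgebra k O₂
  haveI : Algebra.FiniteType k C := inferInstance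
  haveI : Algebra.FiniteType k B := inferInstance
  haveI : IsNoetherianRing C := Algebra.FiniteType.isNoetherianRing k C
  haveI : Algebra.FinitePresentation k B := Algebra.FinitePresentation.of_finiteType.mp inferInstance
  have hG : CAlg.IsGRing O₁ :=
    Groth.Agent.H72.NormalFF.isGRing_of_essFiniteType k
      (Groth.Agent.H78.ArtinApx.isGRing_field k) O₁
  -- the approximation
  let φ₀ : B →+* AdicCompletion (maximalIdeal O₁) O₁ :=
    (Φ : AdicCompletion (maximalIdeal O₂) O₂ →+* AdicCompletion (maximalIdeal O₁) O₁).comp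
      ((algebraMap O₂ (AdicCompletion (maximalIdeal O₂) O₂)).comp (algebraMap B O₂))
  have hφ₀ : ∀ a : k, φ₀ (algebraMap k B a) =
      algebraMap O₁ (AdicCompletion (maximalIdeal O₁) O₁)
        (algebraMap C O₁ (algebraMap k C a)) := by
    intro a
    change Φ (algebraMap O₂ _ (algebraMap B O₂ (algebraMap k B a))) = _
    rw [← IsScalarTower.algebraMap_apply k B O₂, ← IsScalarTower.algebraMap_apply k C O₁]
    have h1 : algebraMap O₂ (AdicCompletion (maximalIdeal O₂) O₂) (algebraMap k O₂ a) =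
        algebraMap k (AdicCompletion (maximalIdeal O₂) O₂) a := rfl
    have h2 : algebraMap O₁ (AdicCompletion (maximalIdeal O₁) O₁) (algebraMap k O₁ a) =
        algebraMap k (AdicCompletion (maximalIdeal O₁) O₁) a := rfl
    rw [h1, h2, Φ.commutes]
  obtain ⟨C', _, _, hEt, ψ, p', g, hp', hψC, hcomap, hres, hψp', hψu, hgα, happ⟩ :=
    Groth.Agent.H78.ArtinApx.exists_etale_approx_ringHom Groth.Agent.H78.ArtinApx.popescuHyp
      (A₀ := k) (B := B) (C := C) (algebraMap k B)
      (RingHom.finitePresentation_algebraMap.mpr inferInstance) (algebraMap k C) p O₁ hG φ₀ hφ₀ 2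
  haveI := hp'
  haveI := hEt
  let L' := Localization.AtPrime p'
  have happ' : ∀ b : B, (Φ : AdicCompletion (maximalIdeal O₂) O₂ ≃+*
      AdicCompletion (maximalIdeal O₁) O₁) (algebraMap O₂ _ (algebraMap B O₂ b)) - ψ (g b) ∈
      (maximalIdeal O₁ ^ 2).map (algebraMap O₁ (AdicCompletion (maximalIdeal O₁) O₁)) :=
    fun b => happ b
  have hg := g_notMem (O₁ := O₁) (O₂ := O₂) p₂ p' (Φ : AdicCompletion (maximalIdeal O₂) O₂ ≃+*
      AdicCompletion (maximalIdeal O₁) O₁) ψ g hψp' happ'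
  -- a henselization of `L'`
  have hS := Groth.Agent.H3.HensLocal.isPairHenselization_Lim L'
  let R := Groth.Agent.H3.HensTower.Lim L' (maximalIdeal L')
  haveI : IsLocalRing R := Groth.Agent.H3.HensLocal.isLocalRing hS
  haveI : IsLocalHom (algebraMap L' R) := Groth.Agent.H3.HensLocal.isLocalHom hS
  haveI hH : Hensel.IsHenselization L' R := Groth.Agent.H3.HensLocal.isHenselization hS
  have h1 := hens_O₁ (O₁ := O₁) p p' L' ψ hψu hψp' hcomap hψC R
  have h2 := hens_O₂ (k := k) (O₁ := O₁) (O₂ := O₂) p p₂ p' L'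
    (Φ : AdicCompletion (maximalIdeal O₂) O₂ ≃+* AdicCompletion (maximalIdeal O₁) O₁)
    ψ g hψu hψp' hcomap hψC hg hgα happ' R
  letI alg₁ : Algebra O₁ R :=
    ((algebraMap L' R).comp (eps (O₁ := O₁) p p' L' hcomap)).toAlgebra
  letI alg₂ : Algebra O₂ R :=
    ((algebraMap L' R).comp (alp (O₂ := O₂) p₂ p' L' g hg)).toAlgebra
  obtain ⟨hl₁, hh₁⟩ := h1
  obtain ⟨hl₂, hh₂⟩ := h2
  obtain ⟨e₁, he₁⟩ := Groth.Agent.H3.HensIso.exists_ringEquiv_of_isHenselization
    (R := O₁) (S₁ := H₁) (S₂ := R) inferInstance hh₁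
  obtain ⟨e₂, he₂⟩ := Groth.Agent.H3.HensIso.exists_ringEquiv_of_isHenselization
    (R := O₂) (S₁ := H₂) (S₂ := R) inferInstance hh₂
  -- compatibility with `k`
  have hk : ∀ c : k, alp (O₂ := O₂) p₂ p' L' g hg (algebraMap k O₂ c) =
      eps (O₁ := O₁) p p' L' hcomap (algebraMap k O₁ c) := by
    intro c
    rw [IsScalarTower.algebraMap_apply k B O₂, alp_algebraMap, hgα,
      IsScalarTower.algebraMap_apply k C O₁, eps_algebraMap]
  refine ⟨AlgEquiv.ofRingEquiv (f := e₁.trans e₂.symm) ?_⟩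
  intro c
  rw [RingEquiv.trans_apply, RingEquiv.symm_apply_eq]
  rw [IsScalarTower.algebraMap_apply k O₁ H₁, IsScalarTower.algebraMap_apply k O₂ H₂]
  have e1 : e₁ (algebraMap O₁ H₁ (algebraMap k O₁ c)) = algebraMap O₁ R (algebraMap k O₁ c) :=
    RingHom.congr_fun he₁ _
  have e2 : e₂ (algebraMap O₂ H₂ (algebraMap k O₂ c)) = algebraMap O₂ R (algebraMap k O₂ c) :=
    RingHom.congr_fun he₂ _
  rw [e1, e2]
  change algebraMap L' R (eps (O₁ := O₁) p p' L' hcomap (algebraMap k O₁ c)) =
    algebraMap L' R (alp (O₂ := O₂) p₂ p' L' g hg (algebraMap k O₂ c))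
  rw [hk]

end Groth.Agent.H91.HensOfCompl
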