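import Groth.Agent.H91.HesseMain
import Groth.Prelude.Def_W4c5monodromycubicsHesse

/-!
Flexes under linear substitutions, and the automorphisms of the Hesse cubic permuting its flexes.
-/

set_option autoImplicit false
open MvPolynomial

namespace Groth.Agent.H91.Hesse

/-- The flex condition used in the statements: the point `v` of the curve `g = 0` is a flex if
some line through it meets the curve there with multiplicity three. -/
def IsFlexAt (g : MvPolynomial (Fin 3) ℂ) (v : Fin 3 → ℂ) : Prop :=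
  ∃ w : Fin 3 → ℂ, LinearIndependent ℂ ![v, w] ∧ ∀ t : ℂ, eval (v + t • w) g = t ^ 3 * eval w g

lemma mulVec_eq_zero_of_isUnit {N : Matrix (Fin 3) (Fin 3) ℂ} (hN : IsUnit N.det)
    {ξ : Fin 3 → ℂ} (h : N.mulVec ξ = 0) : ξ = 0 := by
  have := congrArg (N⁻¹).mulVec h
  rwa [Matrix.mulVec_mulVec, Matrix.nonsing_inv_mul N hN, Matrix.one_mulVec,
    Matrix.mulVec_zero] at this

/-- Transport of flexes along a linear substitution. -/
lemma IsFlexAt.mulVec {g g' : MvPolynomial (Fin 3) ℂ} {N : Matrix (Fin 3) (Fin 3) ℂ}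
    (hN : IsUnit N.det) {c : ℂ} (hg : ∀ ξ, eval (N.mulVec ξ) g = c * eval ξ g')
    {ξ : Fin 3 → ℂ} (h : IsFlexAt g' ξ) : IsFlexAt g (N.mulVec ξ) := by
  obtain ⟨w, hind, hw⟩ := h
  refine ⟨N.mulVec w, ?_, fun t => ?_⟩
  · rw [LinearIndependent.pair_iff] at hind ⊢
    intro s t hst
    apply hind s t
    apply mulVec_eq_zero_of_isUnit hN
    rw [Matrix.mulVec_add, Matrix.mulVec_smul, Matrix.mulVec_smul]
    exact hst
  · rw [← Matrix.mulVec_smul, ← Matrix.mulVec_add, hg, hg, hw]
    ring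

/-- Evaluation of the Hesse form. -/
lemma eval_form (k : ℂ) (ξ : Fin 3 → ℂ) : eval ξ (HesseCubic.form k) = HF k ξ := by
  simp [HF, HesseCubic.form]

/-- Every flex of the Hesse cubic can be moved to the flex `(0, 1, -1)` by a linear automorphism
of the Hesse form. The input is the explicit description of the flexes (statement S18404). -/
lemma exists_aut_to_base (k : ℂ) {ξ : Fin 3 → ℂ} (hξ : ξ ≠ 0)
    (h : ∃ γ c : ℂ, γ ^ 3 = 1 ∧ (ξ = c • ![0, 1, -γ] ∨ ξ = c • ![-γ, 0, 1] ∨ ξ = c • ![1, -γ, 0])) :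
    ∃ B : Matrix (Fin 3) (Fin 3) ℂ, IsUnit B.det ∧ (∀ η, HF k (B.mulVec η) = HF k η) ∧
      ∃ t : ℂ, t ≠ 0 ∧ B.mulVec ξ = t • ![0, 1, -1] := by
  obtain ⟨γ, c, hγ, hcase⟩ := h
  have hc : c ≠ 0 := by
    rintro rfl
    apply hξ
    rcases hcase with h | h | h <;> rw [h, zero_smul]
  have hγ0 : γ ≠ 0 := by
    rintro rfl
    norm_num at hγ
  obtain ⟨ε, hε⟩ : ∃ ε : ℂ, ε = γ ^ 2 := ⟨_, rfl⟩
  have hε3 : ε ^ 3 = 1 := by
    rw [hε, ← pow_mul, mul_comm, pow_mul, hγ, one_pow]
  have hγε : γ * ε = 1 := by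
    rw [hε]; linear_combination hγ
  have hε0 : ε ≠ 0 := by
    rintro h0
    rw [h0] at hε3
    norm_num at hε3
  have ht : c * ε ≠ 0 := mul_ne_zero hc hε0
  rcases hcase with h | h | h
  · refine ⟨!![1, 0, 0; 0, ε, 0; 0, 0, ε ^ 2], ?_, fun η => ?_, c * ε, ht, ?_⟩
    · rw [Matrix.det_fin_three]
      simp
      first
        | exact hε0
        | (rw [isUnit_iff_ne_zero]; exact mul_ne_zero hε0 (pow_ne_zero 2 hε0))
    · simp only [HF, mulVec_three]
      simp
      linear_combination (η 1 ^ 3 + (ε ^ 3 + 1) * η 2 ^ 3 - 3 * k * η 0 * η 1 * η 2) * hε3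
    · rw [h]
      ext i
      rw [mulVec_three]
      fin_cases i
      · simp
      · simp
        ring
      · simp
        linear_combination (c * ε) * hγε
  · refine ⟨!![0, 1, 0; 0, 0, ε; ε ^ 2, 0, 0], ?_, fun η => ?_, c * ε, ht, ?_⟩
    · rw [Matrix.det_fin_three]
      simp
      first
        | exact hε0
        | (rw [isUnit_iff_ne_zero]; exact mul_ne_zero hε0 (pow_ne_zero 2 hε0))
    · simp only [HF, mulVec_three]
      simp
      linear_combination (η 2 ^ 3 + (ε ^ 3 + 1) * η 0 ^ 3 - 3 * k * η 0 * η 1 * η 2) * hε3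
    · rw [h]
      ext i
      rw [mulVec_three]
      fin_cases i
      · simp
      · simp
        ring
      · simp
        linear_combination (c * ε) * hγε
  · refine ⟨!![0, 0, 1; ε, 0, 0; 0, ε ^ 2, 0], ?_, fun η => ?_, c * ε, ht, ?_⟩
    · rw [Matrix.det_fin_three]
      simp
      first
        | exact hε0
        | (rw [isUnit_iff_ne_zero]; exact mul_ne_zero hε0 (pow_ne_zero 2 hε0))
    · simp only [HF, mulVec_three]
      simp
      linear_combination (η 0 ^ 3 + (ε ^ 3 + 1) * η 1 ^ 3 - 3 * k * η 0 * η 1 * η 2) * hε3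
    · rw [h]
      ext i
      rw [mulVec_three]
      fin_cases i
      · simp
      · simp
        ring
      · simp
        linear_combination (c * ε) * hγε

end Groth.Agent.H91.Hesse
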