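import Groth.Agent.H91.HesseZero
import Groth.Agent.H91.CubicA

/-!
Flexes of smooth plane cubics: existence (via the Hessian and `exists_common_zero`), and the
expansion of a cubic form in a basis.
-/

set_option autoImplicit false
open MvPolynomial Groth.Agent.H91.Cubic

namespace Groth.Agent.H91.Hesse

variable {f : MvPolynomial (Fin 3) ℂ}

/-- Smoothness of the plane cubic `f = 0`. -/
def IsSm (f : MvPolynomial (Fin 3) ℂ) : Prop :=
  ∀ v : Fin 3 → ℂ, v ≠ 0 → eval v f = 0 → ∃ i : Fin 3, eval v (pderiv i f) ≠ 0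

lemma TT_swap13 (f : MvPolynomial (Fin 3) ℂ) (x y z : Fin 3 → ℂ) : TT f x y z = TT f z y x := by
  rw [TT_swap12, TT_swap23, TT_swap12]

/-- Smoothness in terms of the trilinear form. -/
lemma IsSm.exists_TT_ne_zero (hf : f.IsHomogeneous 3) (hsm : IsSm f) {v : Fin 3 → ℂ} (hv : v ≠ 0)
    (hFv : TT f v v v = 0) : ∃ w, TT f v v w ≠ 0 := by
  have h0 : eval v f = 0 := by rw [eval_eq_TT hf]; exact hFv
  obtain ⟨i, hi⟩ := hsm v hv h0
  rw [eval_pderiv_eq_TT hf] at hi
  refine ⟨Pi.single i 1, ?_⟩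
  rw [TT_swap13]
  intro h
  apply hi
  rw [TT_swap23] at h
  rw [TT_swap23, h, mul_zero]

/-- The Hessian matrix (up to the factor 6) of the cubic at a point. -/
noncomputable def hessMat (f : MvPolynomial (Fin 3) ℂ) (p : Fin 3 → ℂ) : Matrix (Fin 3) (Fin 3) ℂ :=
  fun i j => ∑ k, c3 f i j k * p k

lemma TT_eq_hessMat (f : MvPolynomial (Fin 3) ℂ) (w u p : Fin 3 → ℂ) :
    TT f w u p = (6 : ℂ)⁻¹ * ∑ i, w i * ((hessMat f p).mulVec u) i := by
  rw [TT_apply]
  congr 1
  refine Finset.sum_congr rfl fun i _ => ?_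
  simp only [Matrix.mulVec, dotProduct, hessMat, Finset.mul_sum, Finset.sum_mul]
  refine Finset.sum_congr rfl fun j _ => ?_
  refine Finset.sum_congr rfl fun k _ => ?_
  ring

/-- A smooth plane cubic has a flex: a point `p` of the curve and a vector `u` in the radical of
the Hessian form at `p`. -/
theorem exists_flex (hf : f.IsHomogeneous 3) :
    ∃ p u : Fin 3 → ℂ, p ≠ 0 ∧ u ≠ 0 ∧ TT f p p p = 0 ∧ ∀ w, TT f p u w = 0 := by
  -- the Hessian polynomial
  let Mp : Matrix (Fin 3) (Fin 3) (MvPolynomial (Fin 3) ℂ) :=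
    fun i j => ∑ k, C (c3 f i j k) * X k
  have hMp : ∀ v : Fin 3 → ℂ, (eval v).mapMatrix Mp = hessMat f v := by
    intro v
    ext i j
    simp [Mp, hessMat]
  have hdet : ∀ v : Fin 3 → ℂ, eval v Mp.det = (hessMat f v).det := by
    intro v
    rw [RingHom.map_det, hMp]
  have h0f : eval 0 f = 0 := by
    rw [eval_eq_TT hf]
    simp
  have h0h : eval 0 Mp.det = 0 := by
    rw [hdet]
    have : hessMat f 0 = 0 := by
      ext i j
      simp [hessMat]
    rw [this, Matrix.det_zero]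
  obtain ⟨p, hp, hfp, hhp⟩ := Groth.Agent.H91.exists_common_zero f Mp.det h0f h0h
  rw [hdet] at hhp
  obtain ⟨u, hu, hMu⟩ := Matrix.exists_mulVec_eq_zero_iff.mpr hhp
  refine ⟨p, u, hp, hu, ?_, ?_⟩
  · rw [← eval_eq_TT hf]; exact hfp
  · intro w
    rw [TT_swap13, TT_eq_hessMat, hMu]
    simp

end Groth.Agent.H91.Hesse
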