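import Mathlib
import Groth.Agent.H91.HesseAut

/-!
The linear automorphisms of the generic Hesse cubic: Hessian covariance for the Hesse pencil,
rigidity of the multiplier, monomial shape of the automorphisms.
-/

set_option autoImplicit false
open MvPolynomial

namespace Groth.Agent.H91.HesseGroup

/-- The member `a (x³+y³+z³) + 6 m xyz` of the Hesse pencil, as a function. -/
def Psi (a m : ℂ) (p : Fin 3 → ℂ) : ℂ :=
  a * (p 0 ^ 3 + p 1 ^ 3 + p 2 ^ 3) + 6 * m * (p 0 * p 1 * p 2)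

/-- The symmetric trilinear form of `Psi a m`. -/
def Tri (a m : ℂ) (x y z : Fin 3 → ℂ) : ℂ :=
  a * (x 0 * y 0 * z 0 + x 1 * y 1 * z 1 + x 2 * y 2 * z 2) +
    m * (x 0 * y 1 * z 2 + x 0 * y 2 * z 1 + x 1 * y 0 * z 2 + x 1 * y 2 * z 0 +
      x 2 * y 0 * z 1 + x 2 * y 1 * z 0)

lemma polar (a m : ℂ) (x y z : Fin 3 → ℂ) :
    6 * Tri a m x y z = Psi a m (x + y + z) - Psi a m (x + y) - Psi a m (x + z) - Psi a m (y + z)
      + Psi a m x + Psi a m y + Psi a m z := by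
  simp only [Tri, Psi, Pi.add_apply]
  ring

/-- The Hessian matrix (up to a factor) of `Psi a m` at `p`. -/
def HM (a m : ℂ) (p : Fin 3 → ℂ) : Matrix (Fin 3) (Fin 3) ℂ :=
  !![a * p 0, m * p 2, m * p 1; m * p 2, a * p 1, m * p 0; m * p 1, m * p 0, a * p 2]

lemma HM_bilin (a m : ℂ) (x y p : Fin 3 → ℂ) :
    ∑ i, ∑ j, x i * HM a m p i j * y j = Tri a m x y p := by
  simp [Fin.sum_univ_three, HM, Tri]
  ring

lemma det_HM (a m : ℂ) (p : Fin 3 → ℂ) :
    6 * (HM a m p).det = Psi (-6 * a * m ^ 2) (a ^ 3 + 2 * m ^ 3) p := by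
  rw [Matrix.det_fin_three]
  simp [HM, Psi]
  ring

lemma Tri_mulVec {a m c : ℂ} {A : Matrix (Fin 3) (Fin 3) ℂ}
    (h : ∀ p, Psi a m (A.mulVec p) = c * Psi a m p) (x y z : Fin 3 → ℂ) :
    Tri a m (A.mulVec x) (A.mulVec y) (A.mulVec z) = c * Tri a m x y z := by
  have h6 : (6 : ℂ) ≠ 0 := by norm_num
  apply mul_left_cancel₀ h6
  rw [polar, ← Matrix.mulVec_add, ← Matrix.mulVec_add, ← Matrix.mulVec_add, ← Matrix.mulVec_add]
  simp only [h]
  rw [mul_left_comm, polar]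
  ring

/-- Hessian covariance in the Hesse pencil. -/
lemma hessian_covariant {a m c : ℂ} {A : Matrix (Fin 3) (Fin 3) ℂ} (hA : A.det = 1)
    (h : ∀ p, Psi a m (A.mulVec p) = c * Psi a m p) (p : Fin 3 → ℂ) :
    Psi (-6 * a * m ^ 2) (a ^ 3 + 2 * m ^ 3) (A.mulVec p) =
      c ^ 3 * Psi (-6 * a * m ^ 2) (a ^ 3 + 2 * m ^ 3) p := by
  have key : A.transpose * HM a m (A.mulVec p) * A = c • HM a m p := by
    ext i j
    have h1 := Tri_mulVec h (Pi.single i 1) (Pi.single j 1) p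
    rw [← HM_bilin, ← HM_bilin] at h1
    simp only [Matrix.mulVec_single_one] at h1
    simp only [Matrix.mul_apply, Matrix.transpose_apply, Matrix.smul_apply, smul_eq_mul]
    rw [Finset.sum_comm] at h1
    simp only [Matrix.col_apply] at h1
    rw [show (∑ x, (∑ j_1, A j_1 i * HM a m (A.mulVec p) j_1 x) * A x j) =
      ∑ y, ∑ x, A x i * HM a m (A.mulVec p) x y * A y j from by
        refine Finset.sum_congr rfl fun y _ => ?_
        rw [Finset.sum_mul]]
    rw [h1]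
    simp [Pi.single_apply]
  have hd := congrArg Matrix.det key
  rw [Matrix.det_mul, Matrix.det_mul, Matrix.det_transpose, hA, one_mul, mul_one,
    Matrix.det_smul, Fintype.card_fin] at hd
  rw [← det_HM, ← det_HM, hd]
  ring

lemma Psi_e0 (a m : ℂ) : Psi a m ![1, 0, 0] = a := by
  simp [Psi]

lemma Psi_ones (a m : ℂ) : Psi a m ![1, 1, 1] = 3 * a + 6 * m := by
  simp [Psi]; ring

lemma Psi_lin (a m : ℂ) (p : Fin 3 → ℂ) : Psi a m p = a * Psi 1 0 p + m * Psi 0 1 p := by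
  simp [Psi]; ring

/-- The multiplier of an automorphism of a generic Hesse cubic is `±1`, and the automorphism
preserves both generators of the pencil. -/
lemma rigid {k c : ℂ} {A : Matrix (Fin 3) (Fin 3) ℂ} (hA : A.det = 1)
    (h : ∀ p, Psi 2 (-k) (A.mulVec p) = c * Psi 2 (-k) p)
    (hk0 : k ≠ 0) (hk1 : k ^ 3 - 1 ≠ 0) (hk2 : k ^ 6 - 20 * k ^ 3 - 8 ≠ 0) (hk3 : k ^ 3 + 8 ≠ 0) :
    c ^ 2 = 1 ∧ (∀ p, Psi 1 0 (A.mulVec p) = c * Psi 1 0 p) ∧
      (∀ p, Psi 0 1 (A.mulVec p) = c * Psi 0 1 p) := by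
  have hc0 : c ≠ 0 := by
    rintro rfl
    have hu : IsUnit A.det := by rw [hA]; exact isUnit_one
    have h1 := h (A⁻¹.mulVec ![1, 0, 0])
    rw [Matrix.mulVec_mulVec, Matrix.mul_nonsing_inv A hu, Matrix.one_mulVec, Psi_e0, zero_mul]
      at h1
    norm_num at h1
  have h1 := hessian_covariant hA h
  have h2 := hessian_covariant hA h1
  obtain ⟨a1, ha1⟩ : ∃ a1 : ℂ, a1 = -6 * 2 * (-k) ^ 2 := ⟨_, rfl⟩
  obtain ⟨m1, hm1⟩ : ∃ m1 : ℂ, m1 = 2 ^ 3 + 2 * (-k) ^ 3 := ⟨_, rfl⟩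
  rw [← ha1, ← hm1] at h1 h2
  obtain ⟨a2, ha2⟩ : ∃ a2 : ℂ, a2 = -6 * a1 * m1 ^ 2 := ⟨_, rfl⟩
  obtain ⟨m2, hm2⟩ : ∃ m2 : ℂ, m2 = a1 ^ 3 + 2 * m1 ^ 3 := ⟨_, rfl⟩
  rw [← ha2, ← hm2] at h2
  -- the linear relation between the three members
  have hrel : ∀ p, (2 * m1 - a1 * (-k)) * Psi a2 m2 p =
      (2 * m2 - a2 * (-k)) * Psi a1 m1 p - (a1 * m2 - a2 * m1) * Psi 2 (-k) p := by
    intro p
    rw [Psi_lin a2 m2, Psi_lin a1 m1, Psi_lin 2 (-k)]
    ring
  have hz : ∀ p, (2 * m2 - a2 * (-k)) * (c ^ 3 - (c ^ 3) ^ 3) * Psi a1 m1 p -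
      (a1 * m2 - a2 * m1) * (c - (c ^ 3) ^ 3) * Psi 2 (-k) p = 0 := by
    intro p
    have e1 := hrel (A.mulVec p)
    rw [h2, h1, h] at e1
    linear_combination -e1 + (c ^ 3) ^ 3 * hrel p
  have z1 := hz ![1, 0, 0]
  have z2 := hz ![1, 1, 1]
  rw [Psi_e0, Psi_e0] at z1
  rw [Psi_ones, Psi_ones] at z2
  have d01 : (2 * m1 - a1 * (-k)) = -16 * (k ^ 3 - 1) := by rw [hm1, ha1]; ring
  have d02 : (2 * m2 - a2 * (-k)) = 256 * (k ^ 3 - 1) * (k ^ 6 - 20 * k ^ 3 - 8) := by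
    rw [hm2, ha2, hm1, ha1]; ring
  have d12 : (a1 * m2 - a2 * m1) = 768 * k ^ 2 * (k ^ 3 - 1) * (k ^ 3 + 8) ^ 2 := by
    rw [hm2, ha2, hm1, ha1]; ring
  have hd01 : (2 * m1 - a1 * (-k)) ≠ 0 := by
    rw [d01]; exact mul_ne_zero (by norm_num) hk1
  have hd02 : (2 * m2 - a2 * (-k)) ≠ 0 := by
    rw [d02]; exact mul_ne_zero (mul_ne_zero (by norm_num) hk1) hk2
  have hd12 : (a1 * m2 - a2 * m1) ≠ 0 := by
    rw [d12]
    exact mul_ne_zero (mul_ne_zero (mul_ne_zero (by norm_num) (pow_ne_zero 2 hk0)) hk1)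
      (pow_ne_zero 2 hk3)
  have y1 : (2 * m2 - a2 * (-k)) * (c ^ 3 - (c ^ 3) ^ 3) * (2 * m1 - a1 * (-k)) = 0 := by
    linear_combination (2 / 6) * (z2 - 3 * z1) - (-k) * z1
  have y2 : (a1 * m2 - a2 * m1) * (c - (c ^ 3) ^ 3) * (2 * m1 - a1 * (-k)) = 0 := by
    linear_combination (a1 / 6) * (z2 - 3 * z1) - m1 * z1
  have x1 : c ^ 3 - (c ^ 3) ^ 3 = 0 := by
    rcases mul_eq_zero.mp y1 with h' | h'
    · rcases mul_eq_zero.mp h' with h'' | h''
      · exact absurd h'' hd02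
      · exact h''
    · exact absurd h' hd01
  have x2 : c - (c ^ 3) ^ 3 = 0 := by
    rcases mul_eq_zero.mp y2 with h' | h'
    · rcases mul_eq_zero.mp h' with h'' | h''
      · exact absurd h'' hd12
      · exact h''
    · exact absurd h' hd01
  have hc2 : c ^ 2 = 1 := by
    have : c * (c ^ 2 - 1) = 0 := by linear_combination x1 - x2
    rcases mul_eq_zero.mp this with h' | h'
    · exact absurd h' hc0
    · linear_combination h'
  have hc3 : c ^ 3 = c := by linear_combination c * hc2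
  rw [hc3] at h1
  refine ⟨hc2, fun p => ?_, fun p => ?_⟩
  · have e : ∀ q, (2 * m1 - a1 * (-k)) * Psi 1 0 q = m1 * Psi 2 (-k) q - (-k) * Psi a1 m1 q := by
      intro q
      rw [Psi_lin a1 m1, Psi_lin 2 (-k)]
      ring
    apply mul_left_cancel₀ hd01
    rw [e, h, h1]
    linear_combination (-c) * e p
  · have e : ∀ q, (2 * m1 - a1 * (-k)) * Psi 0 1 q = 2 * Psi a1 m1 q - a1 * Psi 2 (-k) q := by
      intro q
      rw [Psi_lin a1 m1, Psi_lin 2 (-k)]
      ring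
    apply mul_left_cancel₀ hd01
    rw [e, h, h1]
    linear_combination (-c) * e p

/-- A product of three linear polynomials in one variable vanishing identically has a zero
factor. -/
lemma exists_factor_zero (a b : Fin 3 → ℂ)
    (h : ∀ s : ℂ, (a 0 + s * b 0) * (a 1 + s * b 1) * (a 2 + s * b 2) = 0) :
    ∃ i, a i = 0 ∧ b i = 0 := by
  have hq : (Polynomial.C (a 0) + Polynomial.X * Polynomial.C (b 0)) *
      (Polynomial.C (a 1) + Polynomial.X * Polynomial.C (b 1)) *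
      (Polynomial.C (a 2) + Polynomial.X * Polynomial.C (b 2)) = (0 : Polynomial ℂ) := by
    apply Polynomial.funext
    intro s
    simp only [Polynomial.eval_mul, Polynomial.eval_add, Polynomial.eval_C, Polynomial.eval_X,
      Polynomial.eval_zero]
    exact h s
  have hlin : ∀ x y : ℂ, (Polynomial.C x + Polynomial.X * Polynomial.C y = (0 : Polynomial ℂ)) →
      x = 0 ∧ y = 0 := by
    intro x y hxy
    have h0 := congrArg (fun q : Polynomial ℂ => q.coeff 0) hxy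
    have h1 := congrArg (fun q : Polynomial ℂ => q.coeff 1) hxy
    simp at h0 h1
    exact ⟨h0, h1⟩
  rcases mul_eq_zero.mp hq with h' | h'
  · rcases mul_eq_zero.mp h' with h'' | h''
    · exact ⟨0, hlin _ _ h''⟩
    · exact ⟨1, hlin _ _ h''⟩
  · exact ⟨2, hlin _ _ h'⟩

/-- If a linear substitution preserves `xyz` up to a nonzero factor, then for any two columns
there is a row vanishing in both. -/
lemma exists_row {A : Matrix (Fin 3) (Fin 3) ℂ} {c : ℂ}
    (hP : ∀ p, Psi 0 1 (A.mulVec p) = c * Psi 0 1 p) (j j1 j2 : Fin 3) (h1 : j1 ≠ j)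
    (h2 : j2 ≠ j) : ∃ i, A i j1 = 0 ∧ A i j2 = 0 := by
  apply exists_factor_zero (fun i => A i j1) (fun i => A i j2)
  intro s
  have hp := hP (Pi.single j1 1 + s • Pi.single j2 1)
  have hj : (Pi.single j1 1 + s • Pi.single j2 1 : Fin 3 → ℂ) j = 0 := by
    simp [Pi.single_apply, h1.symm, h2.symm]
  have hz : Psi 0 1 (Pi.single j1 1 + s • Pi.single j2 1 : Fin 3 → ℂ) = 0 := by
    simp only [Psi]
    fin_cases j
    · simp only [Fin.zero_eta] at hj; rw [hj]; ring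
    · simp only [Fin.mk_one] at hj; rw [hj]; ring
    · simp only [Fin.reduceFinMk] at hj; rw [hj]; ring
  rw [hz, mul_zero] at hp
  have hv : ∀ i, A.mulVec (Pi.single j1 1 + s • Pi.single j2 1) i = A i j1 + s * A i j2 := by
    intro i
    simp [Matrix.mulVec_add, Matrix.mulVec_smul, Matrix.mulVec_single_one]
  simp only [Psi, hv] at hp
  linear_combination (1 / 6 : ℂ) * hp

/-- An automorphism preserving `xyz` up to a factor is monomial. -/
lemma exists_perm {A : Matrix (Fin 3) (Fin 3) ℂ} {c : ℂ} (hA : A.det = 1)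
    (hP : ∀ p, Psi 0 1 (A.mulVec p) = c * Psi 0 1 p) :
    ∃ σ : Equiv.Perm (Fin 3), ∀ i j, j ≠ σ i → A i j = 0 := by
  have hrow : ∀ j : Fin 3, ∃ i, ∀ j', j' ≠ j → A i j' = 0 := by
    intro j
    have e1 : j + 1 ≠ j := by
      have key : ∀ j : Fin 3, j + 1 ≠ j := by decide
      exact key j
    have e2 : j + 2 ≠ j := by
      have key : ∀ j : Fin 3, j + 2 ≠ j := by decide
      exact key j
    obtain ⟨i, hi1, hi2⟩ := exists_row hP j (j + 1) (j + 2) e1 e2
    refine ⟨i, fun j' hj' => ?_⟩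
    have key : ∀ j j' : Fin 3, j' ≠ j → j' = j + 1 ∨ j' = j + 2 := by decide
    rcases key j j' hj' with rfl | rfl
    · exact hi1
    · exact hi2
  choose ι hι using hrow
  have hinj : Function.Injective ι := by
    intro j j' hjj
    by_contra hne
    have hz : A.det = 0 := by
      apply Matrix.det_eq_zero_of_row_eq_zero (ι j)
      intro j''
      by_cases hj'' : j'' = j
      · rw [hjj]
        apply hι j'
        rw [hj'']
        exact hne
      · exact hι j j'' hj''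
    rw [hA] at hz
    exact one_ne_zero hz
  have hbij : Function.Bijective ι := Finite.injective_iff_bijective.mp hinj
  refine ⟨(Equiv.ofBijective ι hbij).symm, fun i j hj => ?_⟩
  have hi : ι ((Equiv.ofBijective ι hbij).symm i) = i :=
    (Equiv.ofBijective ι hbij).apply_symm_apply i
  rw [← hi]
  exact hι _ j hj

/-- The monomial matrix with entry `a i` at position `(i, σ i)`. -/
def mon (σ : Equiv.Perm (Fin 3)) (a : Fin 3 → ℂ) : Matrix (Fin 3) (Fin 3) ℂ :=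
  fun i j => if j = σ i then a i else 0

lemma mon_mulVec (σ : Equiv.Perm (Fin 3)) (a p : Fin 3 → ℂ) (i : Fin 3) :
    (mon σ a).mulVec p i = a i * p (σ i) := by
  simp [mon, Matrix.mulVec, dotProduct, ite_mul]

/-- The sign of a permutation as a complex number. -/
def eps (σ : Equiv.Perm (Fin 3)) : ℂ := ((Equiv.Perm.sign σ : ℤˣ) : ℤ)

lemma eps_sq (σ : Equiv.Perm (Fin 3)) : eps σ ^ 2 = 1 := by
  unfold eps
  rcases Int.units_eq_one_or (Equiv.Perm.sign σ) with h | h <;> rw [h] <;> norm_num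

lemma det_mon (σ : Equiv.Perm (Fin 3)) (a : Fin 3 → ℂ) :
    (mon σ a).det = eps σ * (a 0 * a 1 * a 2) := by
  have h : mon σ a = (Matrix.diagonal a).submatrix id (σ⁻¹ : Equiv.Perm (Fin 3)) := by
    ext i j
    simp only [mon, Matrix.submatrix_apply, id, Matrix.diagonal_apply]
    have : (j = σ i) ↔ (i = σ⁻¹ j) := by
      constructor
      · rintro rfl; simp
      · rintro rfl; simp
    simp only [this]
  rw [h, Matrix.det_permute', Matrix.det_diagonal, Equiv.Perm.sign_inv, Fin.prod_univ_three]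
  rfl

lemma sum_perm (σ : Equiv.Perm (Fin 3)) (g : Fin 3 → ℂ) :
    g (σ 0) + g (σ 1) + g (σ 2) = g 0 + g 1 + g 2 := by
  have := Equiv.sum_comp σ g
  rwa [Fin.sum_univ_three, Fin.sum_univ_three] at this

lemma prod_perm (σ : Equiv.Perm (Fin 3)) (g : Fin 3 → ℂ) :
    g (σ 0) * g (σ 1) * g (σ 2) = g 0 * g 1 * g 2 := by
  have := Equiv.prod_comp σ g
  rwa [Fin.prod_univ_three, Fin.prod_univ_three] at this

/-- The explicit automorphisms of every Hesse cubic. -/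
lemma Psi_mon {σ : Equiv.Perm (Fin 3)} {a : Fin 3 → ℂ} (ha : ∀ i, a i ^ 3 = eps σ)
    (hprod : a 0 * a 1 * a 2 = eps σ) (x m : ℂ) (p : Fin 3 → ℂ) :
    Psi x m ((mon σ a).mulVec p) = eps σ * Psi x m p := by
  simp only [Psi, mon_mulVec]
  have h1 : p (σ 0) ^ 3 + p (σ 1) ^ 3 + p (σ 2) ^ 3 = p 0 ^ 3 + p 1 ^ 3 + p 2 ^ 3 :=
    sum_perm σ (fun i => p i ^ 3)
  have h2 := prod_perm σ p
  have e0 := ha 0
  have e1 := ha 1
  have e2 := ha 2
  linear_combination (x * eps σ) * h1 + (6 * m * eps σ) * h2 + x * p (σ 0) ^ 3 * e0 +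
    x * p (σ 1) ^ 3 * e1 + x * p (σ 2) ^ 3 * e2 + 6 * m * (p (σ 0) * p (σ 1) * p (σ 2)) * hprod

/-- Description of the automorphism group of a generic Hesse cubic. -/
theorem aut_iff {k : ℂ} (hk0 : k ≠ 0) (hk1 : k ^ 3 - 1 ≠ 0) (hk2 : k ^ 6 - 20 * k ^ 3 - 8 ≠ 0)
    (hk3 : k ^ 3 + 8 ≠ 0) (A : Matrix (Fin 3) (Fin 3) ℂ) :
    (A.det = 1 ∧ ∃ c, ∀ p, Psi 2 (-k) (A.mulVec p) = c * Psi 2 (-k) p) ↔
      ∃ (σ : Equiv.Perm (Fin 3)) (a : Fin 3 → ℂ), (∀ i, a i ^ 3 = eps σ) ∧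
        a 0 * a 1 * a 2 = eps σ ∧ A = mon σ a := by
  constructor
  · rintro ⟨hA, c, hc⟩
    obtain ⟨hc2, hS, hP⟩ := rigid hA hc hk0 hk1 hk2 hk3
    obtain ⟨σ, hσ⟩ := exists_perm hA hP
    have hmon : A = mon σ (fun i => A i (σ i)) := by
      ext i j
      by_cases hj : j = σ i
      · simp [mon, hj]
      · simp [mon, hj, hσ i j hj]
    obtain ⟨a, ha⟩ : ∃ a : Fin 3 → ℂ, a = fun i => A i (σ i) := ⟨_, rfl⟩
    rw [← ha] at hmon
    have hdet : eps σ * (a 0 * a 1 * a 2) = 1 := by rw [← det_mon, ← hmon, hA]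
    have hprod : a 0 * a 1 * a 2 = c := by
      have := hP ![1, 1, 1]
      rw [hmon] at this
      have h1v : ∀ j : Fin 3, (![1, 1, 1] : Fin 3 → ℂ) j = 1 := by
        intro j; fin_cases j <;> rfl
      simp only [Psi, mon_mulVec, h1v] at this
      linear_combination (1 / 6 : ℂ) * this
    have hce : c = eps σ := by
      rw [hprod] at hdet
      linear_combination (-c) * eps_sq σ + (eps σ) * hdet + 0 * hc2
    refine ⟨σ, a, fun i => ?_, by rw [hprod, hce], hmon⟩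
    have := hS (Pi.single (σ i) 1)
    rw [hmon] at this
    simp only [Psi, mon_mulVec] at this
    rw [← hce]
    have hsi : ∀ i' : Fin 3, (Pi.single (σ i) 1 : Fin 3 → ℂ) (σ i') = if i' = i then 1 else 0 := by
      intro i'
      simp [Pi.single_apply]
    have h3 := sum_perm σ (fun j => (Pi.single (σ i) 1 : Fin 3 → ℂ) j ^ 3)
    simp only [hsi] at this h3
    fin_cases i <;> simp at this h3 <;> simp <;> linear_combination this - c * h3
  · rintro ⟨σ, a, ha, hprod, rfl⟩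
    refine ⟨?_, eps σ, fun p => Psi_mon ha hprod _ _ p⟩
    rw [det_mon, hprod, ← pow_two, eps_sq]

end Groth.Agent.H91.HesseGroup
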