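import Mathlib

/-!
Normal forms of smooth ternary cubic functions under linear substitutions (function level).
-/

set_option autoImplicit false

namespace Groth.Agent.H91.Hesse

/-- Smoothness of a cubic function, phrased via the polarization
`G (ξ + η) - G (ξ - η) - 2 G η = 2 (η · ∇G(ξ))`. -/
def SmFun (G : (Fin 3 → ℂ) → ℂ) : Prop :=
  ∀ ξ : Fin 3 → ℂ, ξ ≠ 0 → G ξ = 0 → ∃ η, G (ξ + η) - G (ξ - η) - 2 * G η ≠ 0

/-- Linear equivalence of functions on `ℂ³`. -/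
def LinEq (G G' : (Fin 3 → ℂ) → ℂ) : Prop :=
  ∃ N : Matrix (Fin 3) (Fin 3) ℂ, IsUnit N.det ∧ ∀ ξ, G (N.mulVec ξ) = G' ξ

lemma LinEq.trans {G G' G'' : (Fin 3 → ℂ) → ℂ} (h : LinEq G G') (h' : LinEq G' G'') :
    LinEq G G'' := by
  obtain ⟨N, hN, hG⟩ := h
  obtain ⟨N', hN', hG'⟩ := h'
  refine ⟨N * N', ?_, fun ξ => ?_⟩
  · rw [Matrix.det_mul]; exact hN.mul hN'
  · rw [← Matrix.mulVec_mulVec, hG, hG']

lemma SmFun.of_linEq {G G' : (Fin 3 → ℂ) → ℂ} (hsm : SmFun G) (h : LinEq G G') : SmFun G' := by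
  obtain ⟨N, hN, hG⟩ := h
  intro ξ hξ h0
  have hNξ : N.mulVec ξ ≠ 0 := by
    intro hz
    apply hξ
    have := congrArg (N⁻¹).mulVec hz
    rwa [Matrix.mulVec_mulVec, Matrix.nonsing_inv_mul N hN, Matrix.one_mulVec,
      Matrix.mulVec_zero] at this
  obtain ⟨η, hη⟩ := hsm (N.mulVec ξ) hNξ (by rw [hG]; exact h0)
  refine ⟨(N⁻¹).mulVec η, ?_⟩
  have e : N.mulVec ((N⁻¹).mulVec η) = η := by
    rw [Matrix.mulVec_mulVec, Matrix.mul_nonsing_inv N hN, Matrix.one_mulVec]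
  rw [← hG, ← hG, ← hG, Matrix.mulVec_add, Matrix.mulVec_sub, e]
  exact hη

/-- The flex normal form. -/
def G0 (B c1 c2 D0 A' c3 : ℂ) : (Fin 3 → ℂ) → ℂ := fun ξ =>
  B * ξ 0 ^ 3 + 3 * c1 * ξ 0 ^ 2 * ξ 2 + 3 * c2 * ξ 0 * ξ 2 ^ 2 + D0 * ξ 2 ^ 3 +
    3 * A' * ξ 1 ^ 2 * ξ 2 + 3 * c3 * ξ 1 * ξ 2 ^ 2

/-- The Weierstrass normal form. -/
def G1 (B A C D : ℂ) : (Fin 3 → ℂ) → ℂ := fun ξ =>
  B * ξ 0 ^ 3 + A * ξ 1 ^ 2 * ξ 2 + C * ξ 0 * ξ 2 ^ 2 + D * ξ 2 ^ 3

/-- The triangle (Deuring) normal form. -/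
def G2 (c0 a b d : ℂ) : (Fin 3 → ℂ) → ℂ := fun ξ =>
  c0 * ξ 0 ^ 3 + a * ξ 0 * ξ 1 * ξ 2 + b * ξ 1 ^ 2 * ξ 2 + d * ξ 1 * ξ 2 ^ 2

/-- The Hesse form as a function. -/
def HF (k : ℂ) : (Fin 3 → ℂ) → ℂ := fun ξ =>
  ξ 0 ^ 3 + ξ 1 ^ 3 + ξ 2 ^ 3 - 3 * k * (ξ 0 * ξ 1 * ξ 2)

lemma G0_coeffs_ne_zero {B c1 c2 D0 A' c3 : ℂ} (hsm : SmFun (G0 B c1 c2 D0 A' c3)) :
    A' ≠ 0 ∧ B ≠ 0 := by
  have hA : A' ≠ 0 := by
    intro hA
    obtain ⟨η, hη⟩ := hsm ![0, 1, 0] (by
      intro h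
      have := congrFun h 1
      simp at this) (by simp [G0])
    apply hη
    simp only [G0, Pi.add_apply, Pi.sub_apply, Matrix.cons_val_zero, Matrix.cons_val_one,
      Matrix.cons_val_two, Matrix.head_cons, Matrix.tail_cons, hA]
    simp
    ring
  refine ⟨hA, ?_⟩
  intro hB
  obtain ⟨s, hs⟩ := IsAlgClosed.exists_pow_nat_eq (-c1 / A') (n := 2) (by norm_num)
  obtain ⟨η, hη⟩ := hsm ![1, s, 0] (by
    intro h
    have := congrFun h 0
    simp at this) (by simp [G0, hB])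
  apply hη
  have hs' : A' * s ^ 2 = -c1 := by
    rw [hs]; field_simp
  simp only [G0, Pi.add_apply, Pi.sub_apply, Matrix.cons_val_zero, Matrix.cons_val_one,
    Matrix.cons_val_two, Matrix.head_cons, Matrix.tail_cons, hB]
  simp
  linear_combination (6 * η 2) * hs'

lemma mulVec_three (N : Matrix (Fin 3) (Fin 3) ℂ) (ξ : Fin 3 → ℂ) (i : Fin 3) :
    N.mulVec ξ i = N i 0 * ξ 0 + N i 1 * ξ 1 + N i 2 * ξ 2 := by
  simp [Matrix.mulVec, dotProduct, Fin.sum_univ_three]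

/-- From the flex form to the Weierstrass form. -/
lemma G0_linEq_G1 {B c1 c2 D0 A' c3 : ℂ} (hA : A' ≠ 0) (hB : B ≠ 0) :
    ∃ C D : ℂ, LinEq (G0 B c1 c2 D0 A' c3) (G1 B (3 * A') C D) := by
  set γ : ℂ := -c1 / B with hγ
  set β : ℂ := -c3 / (2 * A') with hβ
  refine ⟨3 * B * γ ^ 2 + 6 * c1 * γ + 3 * c2,
    B * γ ^ 3 + 3 * c1 * γ ^ 2 + 3 * c2 * γ + D0 + 3 * A' * β ^ 2 + 3 * c3 * β,
    !![1, 0, γ; 0, 1, β; 0, 0, 1], ?_, fun ξ => ?_⟩
  · rw [Matrix.det_fin_three]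
    simp
  · have hγ' : B * γ = -c1 := by rw [hγ]; field_simp
    have hβ' : 2 * A' * β = -c3 := by rw [hβ]; field_simp
    simp only [G0, G1, mulVec_three]
    simp
    linear_combination (3 * ξ 0 ^ 2 * ξ 2) * hγ' + (3 * ξ 1 * ξ 2 ^ 2) * hβ'

/-- Existence of a second flex of a Weierstrass cubic (a 3-division point). -/
lemma exists_second_flex {B A C D : ℂ} (hA : A ≠ 0) (hB : B ≠ 0) :
    ∃ x0 y0 l : ℂ, B * x0 ^ 3 + A * y0 ^ 2 + C * x0 + D = 0 ∧
      3 * B * x0 ^ 2 + 2 * A * l * y0 + C = 0 ∧ 3 * B * x0 + A * l ^ 2 = 0 := by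
  -- a root of the 3-division quartic
  let Q : Polynomial ℂ := Polynomial.C (3 * B ^ 2) * Polynomial.X ^ 4 +
    Polynomial.C (6 * B * C) * Polynomial.X ^ 2 + Polynomial.C (12 * B * D) * Polynomial.X -
    Polynomial.C (C ^ 2)
  have hQdeg : Q.degree ≠ 0 := by
    have h3 : (3 * B ^ 2 : ℂ) ≠ 0 := by
      refine mul_ne_zero (by norm_num) (pow_ne_zero 2 hB)
    have : Q.degree = 4 := by
      simp only [Q]
      compute_degree!
    rw [this]
    norm_num
  obtain ⟨x0, hx0⟩ := IsAlgClosed.exists_root Q hQdeg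
  have hQ : 3 * B ^ 2 * x0 ^ 4 + 6 * B * C * x0 ^ 2 + 12 * B * D * x0 - C ^ 2 = 0 := by
    have := hx0
    simp only [Q, Polynomial.IsRoot, Polynomial.eval_add, Polynomial.eval_sub, Polynomial.eval_mul,
      Polynomial.eval_C, Polynomial.eval_pow, Polynomial.eval_X] at this
    exact this
  obtain ⟨l, hl⟩ := IsAlgClosed.exists_pow_nat_eq (-3 * B * x0 / A) (n := 2) (by norm_num)
  have hl' : A * l ^ 2 = -3 * B * x0 := by
    rw [hl]; field_simp
  by_cases hl0 : l = 0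
  · -- then `x0 = 0` and `C = 0`
    have hx00 : x0 = 0 := by
      rw [hl0] at hl'
      have : (-3 * B) * x0 = 0 := by rw [← hl']; ring
      rcases mul_eq_zero.mp this with h | h
      · exfalso
        exact (mul_ne_zero (by norm_num) hB) h
      · exact h
    have hC : C = 0 := by
      rw [hx00] at hQ
      have : C ^ 2 = 0 := by linear_combination -hQ
      exact (pow_eq_zero_iff (by norm_num)).mp this
    obtain ⟨y0, hy0⟩ := IsAlgClosed.exists_pow_nat_eq (-D / A) (n := 2) (by norm_num)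
    have hy0' : A * y0 ^ 2 = -D := by
      rw [hy0]; field_simp
    refine ⟨0, y0, 0, ?_, ?_, ?_⟩
    · rw [hC]; linear_combination hy0'
    · rw [hC]; ring
    · ring
  · have hx0ne : x0 ≠ 0 := by
      rintro rfl
      have : A * l ^ 2 = 0 := by rw [hl']; ring
      rcases mul_eq_zero.mp this with h | h
      · exact hA h
      · exact hl0 ((pow_eq_zero_iff (by norm_num)).mp h)
    obtain ⟨y0, hy0'⟩ : ∃ y0 : ℂ, 2 * A * l * y0 = -(3 * B * x0 ^ 2 + C) :=
      ⟨-(3 * B * x0 ^ 2 + C) / (2 * A * l), by field_simp⟩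
    refine ⟨x0, y0, l, ?_, ?_, ?_⟩
    · have hne : (-12 * B * x0 : ℂ) ≠ 0 :=
        mul_ne_zero (mul_ne_zero (by norm_num) hB) hx0ne
      have hne' : (A : ℂ) ≠ 0 := hA
      have key : (-12 * B * x0 * A) * (B * x0 ^ 3 + A * y0 ^ 2 + C * x0 + D) = 0 := by
        linear_combination (-A) * hQ + A * (2 * A * l * y0 - (3 * B * x0 ^ 2 + C)) * hy0' -
          (4 * A ^ 2 * y0 ^ 2) * hl'
      rcases mul_eq_zero.mp key with h | h
      · exfalso
        exact (mul_ne_zero hne hne') h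
      · exact h
    · linear_combination hy0'
    · linear_combination hl'

/-- From the Weierstrass form to the triangle form. -/
lemma G1_linEq_G2 {B A C D : ℂ} (hA : A ≠ 0) (hB : B ≠ 0) :
    ∃ a d : ℂ, LinEq (G1 B A C D) (G2 B a A d) := by
  obtain ⟨x0, y0, l, E1, E2, E3⟩ := exists_second_flex (C := C) (D := D) hA hB
  refine ⟨2 * A * l, 2 * A * y0, !![1, 0, x0; l, 1, y0; 0, 0, 1], ?_, fun ξ => ?_⟩
  · rw [Matrix.det_fin_three]
    simp
  · simp only [G1, G2, mulVec_three]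
    simp
    linear_combination (ξ 0 ^ 2 * ξ 2) * E3 + (ξ 0 * ξ 2 ^ 2) * E2 + (ξ 2 ^ 3) * E1

lemma G2_coeffs_ne_zero {c0 a b d : ℂ} (hsm : SmFun (G2 c0 a b d)) :
    c0 ≠ 0 ∧ b ≠ 0 ∧ d ≠ 0 := by
  refine ⟨?_, ?_, ?_⟩
  · intro h0
    obtain ⟨η, hη⟩ := hsm ![1, 0, 0] (by
      intro h
      have := congrFun h 0
      simp at this) (by simp [G2, h0])
    apply hη
    simp only [G2, Pi.add_apply, Pi.sub_apply, Matrix.cons_val_zero, Matrix.cons_val_one,
      Matrix.cons_val_two, Matrix.head_cons, Matrix.tail_cons, h0]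
    simp
    ring
  · intro h0
    obtain ⟨η, hη⟩ := hsm ![0, 1, 0] (by
      intro h
      have := congrFun h 1
      simp at this) (by simp [G2])
    apply hη
    simp only [G2, Pi.add_apply, Pi.sub_apply, Matrix.cons_val_zero, Matrix.cons_val_one,
      Matrix.cons_val_two, Matrix.head_cons, Matrix.tail_cons, h0]
    simp
    ring
  · intro h0
    obtain ⟨η, hη⟩ := hsm ![0, 0, 1] (by
      intro h
      have := congrFun h 2
      simp at this) (by simp [G2])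
    apply hη
    simp only [G2, Pi.add_apply, Pi.sub_apply, Matrix.cons_val_zero, Matrix.cons_val_one,
      Matrix.cons_val_two, Matrix.head_cons, Matrix.tail_cons, h0]
    simp
    ring

lemma exists_cubeRootUnity : ∃ ω : ℂ, ω ^ 2 + ω + 1 = 0 := by
  obtain ⟨s, hs⟩ := IsAlgClosed.exists_eq_mul_self (discrim (1 : ℂ) 1 1)
  obtain ⟨ω, hω⟩ := exists_quadratic_eq_zero (a := (1 : ℂ)) (b := 1) (c := 1) one_ne_zero ⟨s, hs⟩
  exact ⟨ω, by linear_combination hω⟩

/-- From the triangle form to the Hesse form. -/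
lemma G2_linEq_HF {c0 a b d : ℂ} (hsm : SmFun (G2 c0 a b d)) :
    ∃ c k : ℂ, c ≠ 0 ∧ k ^ 3 ≠ 1 ∧ LinEq (G2 c0 a b d) (fun ξ => c * HF k ξ) := by
  obtain ⟨hc0, hb, hd⟩ := G2_coeffs_ne_zero hsm
  obtain ⟨ω, hω⟩ := exists_cubeRootUnity
  have hω0 : ω ≠ 0 := by
    rintro rfl
    norm_num at hω
  have hω1 : ω ≠ 1 := by
    rintro rfl
    norm_num at hω
  have hωω : ω ^ 2 - ω ≠ 0 := by
    intro h
    have : ω * (ω - 1) = 0 := by linear_combination h
    rcases mul_eq_zero.mp this with h' | h'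
    · exact hω0 h'
    · exact hω1 (by linear_combination h')
  by_cases ha : a = 0
  · -- the Fermat case
    subst ha
    obtain ⟨θ, hθ⟩ := IsAlgClosed.exists_pow_nat_eq c0 (n := 3) (by norm_num)
    obtain ⟨δ, hδ⟩ := IsAlgClosed.exists_pow_nat_eq (b * d) (n := 3) (by norm_num)
    have hθ0 : θ ≠ 0 := by
      rintro rfl
      apply hc0
      rw [← hθ]; ring
    have hδ0 : δ ≠ 0 := by
      rintro rfl
      apply mul_ne_zero hb hd
      rw [← hδ]; ring
    refine ⟨1, 0, one_ne_zero, by norm_num, ?_⟩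
    refine ⟨!![1 / θ, 0, 0; 0, -(ω * δ) / b, -(ω * δ) / b; 0, -(δ * ω ^ 2) / d, -δ / d], ?_,
      fun ξ => ?_⟩
    · have hdet : (!![1 / θ, 0, 0; 0, -(ω * δ) / b, -(ω * δ) / b;
          0, -(δ * ω ^ 2) / d, -δ / d] : Matrix (Fin 3) (Fin 3) ℂ).det =
          δ ^ 2 * (ω - 1) / (θ * b * d) := by
        rw [Matrix.det_fin_three]
        simp
        field_simp
        grind
      rw [hdet, isUnit_iff_ne_zero]
      refine div_ne_zero (mul_ne_zero (pow_ne_zero 2 hδ0) (sub_ne_zero.mpr hω1))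
        (mul_ne_zero (mul_ne_zero hθ0 hb) hd)
    · simp only [G2, HF, mulVec_three]
      simp
      field_simp
      grind
  · -- the general case
    have hν : a ^ 3 + 27 * c0 * b * d ≠ 0 := by
      intro h
      obtain ⟨η, hη⟩ := hsm ![3 * b * d, -(a * d), -(a * b)] (by
        intro h0
        have := congrFun h0 0
        simp at this
        rcases this with h' | h'
        · exact hb h'
        · exact hd h') (by
        simp only [G2, Matrix.cons_val_zero, Matrix.cons_val_one, Matrix.cons_val_two,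
          Matrix.head_cons, Matrix.tail_cons]
        try simp
        linear_combination (b ^ 2 * d ^ 2) * h)
      apply hη
      simp only [G2, Pi.add_apply, Pi.sub_apply, Matrix.cons_val_zero, Matrix.cons_val_one,
        Matrix.cons_val_two, Matrix.head_cons, Matrix.tail_cons]
      try simp
      linear_combination (2 * η 0 * b * d) * h
    obtain ⟨l, hl⟩ := IsAlgClosed.exists_pow_nat_eq ((a ^ 3 + 27 * c0 * b * d) / a ^ 3) (n := 3)
      (by norm_num)
    have hl' : l ^ 3 * a ^ 3 = a ^ 3 + 27 * c0 * b * d := by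
      rw [hl]; field_simp
    have hl0 : l ≠ 0 := by
      rintro rfl
      apply hν
      rw [← hl']; ring
    refine ⟨1 / (b * d), 1 / l, one_div_ne_zero (mul_ne_zero hb hd), ?_, ?_⟩
    · intro hk
      have h1 : l ^ 3 = 1 := by
        have : (1 / l) ^ 3 * l ^ 3 = 1 := by field_simp
        rw [hk, one_mul] at this
        exact this
      rw [h1, one_mul] at hl'
      have : 27 * c0 * b * d = 0 := by linear_combination -hl'
      exact (mul_ne_zero (mul_ne_zero (mul_ne_zero (by norm_num) hc0) hb) hd) this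
    refine ⟨!![3 / (a * l), 0, 0; -1 / (b * l), -ω / b, -ω ^ 2 / b;
        -1 / (d * l), -ω ^ 2 / d, -ω / d], ?_, fun ξ => ?_⟩
    · have hdet : (!![3 / (a * l), 0, 0; -1 / (b * l), -ω / b, -ω ^ 2 / b;
          -1 / (d * l), -ω ^ 2 / d, -ω / d] : Matrix (Fin 3) (Fin 3) ℂ).det =
          3 * (ω ^ 2 - ω) / (a * l * b * d) := by
        rw [Matrix.det_fin_three]
        simp
        field_simp
        grind
      rw [hdet, isUnit_iff_ne_zero]
      refine div_ne_zero (mul_ne_zero (by norm_num) hωω)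
        (mul_ne_zero (mul_ne_zero (mul_ne_zero ha hl0) hb) hd)
    · simp only [G2, HF, mulVec_three]
      simp
      field_simp
      grind

end Groth.Agent.H91.Hesse
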