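import Groth.Agent.H91.HesseFlex
import Groth.Agent.H91.HesseNF

/-!
The Hesse normal form of a smooth plane cubic over `ℂ`.
-/

set_option autoImplicit false
open MvPolynomial Groth.Agent.H91.Cubic

namespace Groth.Agent.H91.Hesse

variable {f : MvPolynomial (Fin 3) ℂ}

/-- Expansion of the cubic form on a linear combination of three vectors. -/
lemma TT_lincomb (f : MvPolynomial (Fin 3) ℂ) (a1 a2 a3 : Fin 3 → ℂ) (x y z : ℂ) :
    TT f (x • a1 + y • a2 + z • a3) (x • a1 + y • a2 + z • a3) (x • a1 + y • a2 + z • a3) =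
      x ^ 3 * TT f a1 a1 a1 + y ^ 3 * TT f a2 a2 a2 + z ^ 3 * TT f a3 a3 a3 +
      3 * x ^ 2 * y * TT f a1 a1 a2 + 3 * x ^ 2 * z * TT f a1 a1 a3 +
      3 * x * y ^ 2 * TT f a1 a2 a2 + 3 * y ^ 2 * z * TT f a2 a2 a3 +
      3 * x * z ^ 2 * TT f a1 a3 a3 + 3 * y * z ^ 2 * TT f a2 a3 a3 +
      6 * x * y * z * TT f a1 a2 a3 := by
  have p132 : ∀ u v w : Fin 3 → ℂ, TT f u v w = TT f u w v := TT_swap23 f
  have p213 : ∀ u v w : Fin 3 → ℂ, TT f u v w = TT f v u w := TT_swap12 f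
  have p231 : ∀ u v w : Fin 3 → ℂ, TT f u v w = TT f v w u := fun u v w => by
    rw [TT_swap12, TT_swap23]
  have p312 : ∀ u v w : Fin 3 → ℂ, TT f u v w = TT f w u v := fun u v w => by
    rw [TT_swap23, TT_swap12]
  have p321 : ∀ u v w : Fin 3 → ℂ, TT f u v w = TT f w v u := TT_swap13 f
  have h121 : TT f a1 a2 a1 = TT f a1 a1 a2 := p132 _ _ _
  have h211 : TT f a2 a1 a1 = TT f a1 a1 a2 := p231 _ _ _
  have h131 : TT f a1 a3 a1 = TT f a1 a1 a3 := p132 _ _ _
  have h311 : TT f a3 a1 a1 = TT f a1 a1 a3 := p231 _ _ _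
  have h212 : TT f a2 a1 a2 = TT f a1 a2 a2 := p213 _ _ _
  have h221 : TT f a2 a2 a1 = TT f a1 a2 a2 := p312 _ _ _
  have h232 : TT f a2 a3 a2 = TT f a2 a2 a3 := p132 _ _ _
  have h322 : TT f a3 a2 a2 = TT f a2 a2 a3 := p231 _ _ _
  have h313 : TT f a3 a1 a3 = TT f a1 a3 a3 := p213 _ _ _
  have h331 : TT f a3 a3 a1 = TT f a1 a3 a3 := p312 _ _ _
  have h323 : TT f a3 a2 a3 = TT f a2 a3 a3 := p213 _ _ _
  have h332 : TT f a3 a3 a2 = TT f a2 a3 a3 := p312 _ _ _
  have h132 : TT f a1 a3 a2 = TT f a1 a2 a3 := p132 _ _ _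
  have h213 : TT f a2 a1 a3 = TT f a1 a2 a3 := p213 _ _ _
  have h231 : TT f a2 a3 a1 = TT f a1 a2 a3 := p312 _ _ _
  have h312 : TT f a3 a1 a2 = TT f a1 a2 a3 := p231 _ _ _
  have h321 : TT f a3 a2 a1 = TT f a1 a2 a3 := p321 _ _ _
  simp only [map_add, map_smul, LinearMap.add_apply, LinearMap.smul_apply, smul_eq_mul,
    h121, h211, h131, h311, h212, h221, h232, h322, h313, h331, h323, h332,
    h132, h213, h231, h312, h321]
  ring

/-- The polarization identity. -/
lemma polarization (f : MvPolynomial (Fin 3) ℂ) (v w : Fin 3 → ℂ) :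
    TT f (v + w) (v + w) (v + w) - TT f (v - w) (v - w) (v - w) - 2 * TT f w w w =
      6 * TT f v v w := by
  have h1 := TT_lincomb f v w 0 1 1 0
  have h2 := TT_lincomb f v w 0 1 (-1) 0
  simp only [one_smul, zero_smul, add_zero, neg_smul] at h1 h2
  rw [← sub_eq_add_neg] at h2
  rw [h1, h2]
  ring

/-- The value function of a smooth cubic is smooth in the sense of `SmFun`. -/
lemma smFun_of_isSm (hf : f.IsHomogeneous 3) (hsm : IsSm f) : SmFun (fun v => eval v f) := by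
  intro ξ hξ h0
  have h0' : TT f ξ ξ ξ = 0 := by rw [← eval_eq_TT hf]; exact h0
  obtain ⟨w, hw⟩ := hsm.exists_TT_ne_zero hf hξ h0'
  refine ⟨w, ?_⟩
  simp only [eval_eq_TT hf]
  rw [polarization]
  exact mul_ne_zero (by norm_num) hw

/-- Flex coordinates: the value function of a smooth cubic is linearly equivalent to a flex
normal form. -/
lemma exists_linEq_G0 (hf : f.IsHomogeneous 3) (hsm : IsSm f) :
    ∃ B c1 c2 D0 A' c3 : ℂ, LinEq (fun v => eval v f) (G0 B c1 c2 D0 A' c3) := by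
  obtain ⟨p, u, hp, hu, hppp, hpu⟩ := exists_flex hf
  -- independence of `u`, `p`
  have hind : LinearIndependent ℂ ![u, p] := by
    rw [LinearIndependent.pair_iff]
    intro s t hst
    by_cases hs : s = 0
    · subst hs
      simp only [zero_smul, zero_add] at hst
      rcases smul_eq_zero.mp hst with h | h
      · exact ⟨rfl, h⟩
      · exact absurd h hp
    · exfalso
      have hsu : s • u = -(t • p) := eq_neg_of_add_eq_zero_left hst
      have hu' : u = (-(t / s)) • p := by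
        calc u = s⁻¹ • (s • u) := by rw [smul_smul, inv_mul_cancel₀ hs, one_smul]
          _ = s⁻¹ • (-(t • p)) := by rw [hsu]
          _ = (-(t / s)) • p := by
            rw [smul_neg, smul_smul, neg_smul]
            congr 2
            field_simp
      have ht : -(t / s) ≠ 0 := by
        intro h
        rw [h, zero_smul] at hu'
        exact hu hu'
      obtain ⟨w, hw⟩ := hsm.exists_TT_ne_zero hf hp hppp
      apply hw
      have h1 := hpu w
      rw [hu', map_smul, LinearMap.smul_apply, smul_eq_mul] at h1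
      exact (mul_eq_zero.mp h1).resolve_left ht
  -- extend to a basis
  obtain ⟨e, he⟩ := exists_linearIndependent_snoc_of_lt_finrank hind (by simp)
  have hsnoc : (Fin.snoc ![u, p] e : Fin 3 → Fin 3 → ℂ) = ![u, p, e] := by
    ext j i
    fin_cases j <;> rfl
  rw [hsnoc] at he
  let M : Matrix (Fin 3) (Fin 3) ℂ := Matrix.of fun i j => (![u, p, e] : Fin 3 → Fin 3 → ℂ) j i
  have hM : IsUnit M.det := by
    rw [← Matrix.isUnit_iff_isUnit_det, ← Matrix.linearIndependent_cols_iff_isUnit]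
    exact he
  have hMv : ∀ ξ : Fin 3 → ℂ, M.mulVec ξ = ξ 0 • u + ξ 1 • p + ξ 2 • e := by
    intro ξ
    ext i
    rw [mulVec_three]
    simp [M]
    ring
  have z1 : TT f u u p = 0 := by
    rw [TT_swap13]; exact hpu u
  have z2 : TT f u p p = 0 := by
    rw [TT_swap12]; exact hpu p
  have z3 : TT f u p e = 0 := by
    rw [TT_swap12]; exact hpu e
  refine ⟨TT f u u u, TT f u u e, TT f u e e, TT f e e e, TT f p p e, TT f p e e, M, hM,
    fun ξ => ?_⟩
  simp only [G0]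
  rw [hMv, eval_eq_TT hf, TT_lincomb, hppp, z1, z2, z3]
  ring

/-- **Hesse normal form** of a smooth plane cubic over `ℂ`, at the level of values. -/
theorem hesse_normal_form (hf : f.IsHomogeneous 3) (hsm : IsSm f) :
    ∃ (A : Matrix (Fin 3) (Fin 3) ℂ) (k c : ℂ), IsUnit A.det ∧ k ^ 3 ≠ 1 ∧ c ≠ 0 ∧
      ∀ ξ : Fin 3 → ℂ, eval (A.mulVec ξ) f = c * HF k ξ := by
  have hsmF := smFun_of_isSm hf hsm
  obtain ⟨B, c1, c2, D0, A', c3, h0⟩ := exists_linEq_G0 hf hsm
  have hsm0 := hsmF.of_linEq h0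
  obtain ⟨hA', hB⟩ := G0_coeffs_ne_zero hsm0
  obtain ⟨C, D, h1⟩ := G0_linEq_G1 (c1 := c1) (c2 := c2) (D0 := D0) (c3 := c3) hA' hB
  have hA : 3 * A' ≠ 0 := mul_ne_zero (by norm_num) hA'
  obtain ⟨a, d, h2⟩ := G1_linEq_G2 (C := C) (D := D) hA hB
  have hsm2 := (hsm0.of_linEq h1).of_linEq h2
  obtain ⟨c, k, hc, hk, h3⟩ := G2_linEq_HF hsm2
  obtain ⟨N, hN, hG⟩ := ((h0.trans h1).trans h2).trans h3
  exact ⟨N, k, c, hN, hk, hc, hG⟩

end Groth.Agent.H91.Hesse
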