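import Mathlib

/-!
Two polynomials in three variables over `ℂ`, both vanishing at the origin, have a common
nontrivial zero (Krull's height theorem + Nullstellensatz).
-/

set_option autoImplicit false
open MvPolynomial

namespace Groth.Agent.H91

/-- Two polynomials in three variables over `ℂ` vanishing at `0` have a common zero `≠ 0`. -/
theorem exists_common_zero (f h : MvPolynomial (Fin 3) ℂ) (hf : eval 0 f = 0)
    (hh : eval 0 h = 0) :
    ∃ v : Fin 3 → ℂ, v ≠ 0 ∧ eval v f = 0 ∧ eval v h = 0 := by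
  classical
  -- the maximal ideal of the origin
  set 𝔪 : Ideal (MvPolynomial (Fin 3) ℂ) := vanishingIdeal ℂ ({0} : Set (Fin 3 → ℂ)) with h𝔪
  have hmem : ∀ g : MvPolynomial (Fin 3) ℂ, g ∈ 𝔪 ↔ eval 0 g = 0 := by
    intro g
    rw [h𝔪, mem_vanishingIdeal_singleton_iff]
    rfl
  -- a chain of primes below `𝔪`
  let φ1 : MvPolynomial (Fin 3) ℂ →ₐ[ℂ] MvPolynomial (Fin 3) ℂ :=
    aeval (fun i : Fin 3 => if i = 0 then 0 else X i)
  let φ2 : MvPolynomial (Fin 3) ℂ →ₐ[ℂ] MvPolynomial (Fin 3) ℂ :=
    aeval (fun i : Fin 3 => if i = 2 then X i else 0)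
  have hP1 : (RingHom.ker φ1.toRingHom).IsPrime := RingHom.ker_isPrime _
  have hP2 : (RingHom.ker φ2.toRingHom).IsPrime := RingHom.ker_isPrime _
  have h21 : φ2.comp φ1 = φ2 := by
    apply MvPolynomial.algHom_ext
    intro i
    fin_cases i <;> simp [φ1, φ2]
  have h02 : ∀ g, eval 0 (φ2 g) = eval 0 g := by
    intro g
    have : (aeval (0 : Fin 3 → ℂ)).comp φ2 = aeval (0 : Fin 3 → ℂ) := by
      apply MvPolynomial.algHom_ext
      intro i
      fin_cases i <;> simp [φ2]
    have := congrArg (fun ψ : MvPolynomial (Fin 3) ℂ →ₐ[ℂ] ℂ => ψ g) this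
    simpa [aeval_eq_eval] using this
  have hXne : ∀ i : Fin 3, (X i : MvPolynomial (Fin 3) ℂ) ≠ 0 := fun i => X_ne_zero i
  have lt0 : (⊥ : Ideal (MvPolynomial (Fin 3) ℂ)) < RingHom.ker φ1.toRingHom := by
    refine lt_of_le_of_ne bot_le ?_
    intro heq
    have : (X 0 : MvPolynomial (Fin 3) ℂ) ∈ RingHom.ker φ1.toRingHom := by
      rw [RingHom.mem_ker]
      simp [φ1]
    rw [← heq, Ideal.mem_bot] at this
    exact hXne 0 this
  have lt1 : RingHom.ker φ1.toRingHom < RingHom.ker φ2.toRingHom := by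
    refine lt_of_le_of_ne ?_ ?_
    · intro g hg
      rw [RingHom.mem_ker] at hg ⊢
      have : φ2 g = φ2 (φ1 g) := by rw [← AlgHom.comp_apply, h21]
      change φ2 g = 0
      rw [this]
      change φ1 g = 0 at hg
      rw [hg, map_zero]
    · intro heq
      have : (X 1 : MvPolynomial (Fin 3) ℂ) ∈ RingHom.ker φ2.toRingHom := by
        rw [RingHom.mem_ker]
        simp [φ2]
      rw [← heq, RingHom.mem_ker] at this
      have h1 : φ1 (X 1) = X 1 := by simp [φ1]
      change φ1 (X 1) = 0 at this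
      rw [h1] at this
      exact hXne 1 this
  have lt2 : RingHom.ker φ2.toRingHom < 𝔪 := by
    refine lt_of_le_of_ne ?_ ?_
    · intro g hg
      rw [RingHom.mem_ker] at hg
      change φ2 g = 0 at hg
      rw [hmem, ← h02, hg, map_zero]
    · intro heq
      have : (X 2 : MvPolynomial (Fin 3) ℂ) ∈ 𝔪 := by
        rw [hmem]
        simp
      rw [← heq, RingHom.mem_ker] at this
      have h1 : φ2 (X 2) = X 2 := by simp [φ2]
      change φ2 (X 2) = 0 at this
      rw [h1] at this
      exact hXne 2 this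
  have hbot : (⊥ : Ideal (MvPolynomial (Fin 3) ℂ)).IsPrime := Ideal.isPrime_bot
  have hm_prime : 𝔪.IsPrime := by rw [h𝔪]; infer_instance
  have ht3 : (3 : ℕ∞) ≤ 𝔪.height := by
    have e0 := Ideal.height_add_one_le_of_lt_of_isPrime lt0
    have e1 := Ideal.height_add_one_le_of_lt_of_isPrime lt1
    have e2 := Ideal.height_add_one_le_of_lt_of_isPrime lt2
    have a1 : (1 : ℕ∞) ≤ (RingHom.ker φ1.toRingHom).height :=
      le_trans (by simp) e0
    have a2 : (2 : ℕ∞) ≤ (RingHom.ker φ2.toRingHom).height := by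
      refine le_trans ?_ e1
      calc (2 : ℕ∞) = 1 + 1 := by norm_num
        _ ≤ (RingHom.ker φ1.toRingHom).height + 1 := by gcongr
    refine le_trans ?_ e2
    calc (3 : ℕ∞) = 2 + 1 := by norm_num
      _ ≤ (RingHom.ker φ2.toRingHom).height + 1 := by gcongr
  -- the ideal `(f, h)` and a minimal prime inside `𝔪`
  let s : Finset (MvPolynomial (Fin 3) ℂ) := {f, h}
  have hI : Ideal.span (s : Set (MvPolynomial (Fin 3) ℂ)) ≤ 𝔪 := by
    rw [Ideal.span_le]
    intro g hg
    simp only [s, Finset.coe_insert, Finset.coe_singleton, Set.mem_insert_iff,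
      Set.mem_singleton_iff] at hg
    rcases hg with rfl | rfl
    · exact (hmem _).2 hf
    · exact (hmem _).2 hh
  obtain ⟨P, hP, hPle⟩ := Ideal.exists_minimalPrimes_le hI
  have hPprime : P.IsPrime := hP.1.1
  have hPht : P.height ≤ 2 := by
    refine le_trans (Ideal.height_le_card_of_mem_minimalPrimes_span_finset hP) ?_
    have : s.card ≤ 2 := Finset.card_insert_le _ _ |>.trans (by simp)
    exact_mod_cast this
  have hPne : P ≠ 𝔪 := by
    intro heq
    rw [heq] at hPht
    have := le_trans ht3 hPht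
    norm_num at this
  -- Nullstellensatz
  by_contra hcon
  push Not at hcon
  have hzero : zeroLocus ℂ P ⊆ ({0} : Set (Fin 3 → ℂ)) := by
    intro v hv
    by_contra hv0
    have hv0' : v ≠ 0 := hv0
    have hfP : f ∈ P := hP.1.2 (Ideal.subset_span (by simp [s]))
    have hhP : h ∈ P := hP.1.2 (Ideal.subset_span (by simp [s]))
    have e1 : eval v f = 0 := by
      have := hv f hfP
      simpa [aeval_eq_eval] using this
    have e2 : eval v h = 0 := by
      have := hv h hhP
      simpa [aeval_eq_eval] using this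
    exact hcon v hv0' e1 e2
  have hle : 𝔪 ≤ P := by
    have := vanishingIdeal_anti_mono (k := ℂ) hzero
    rwa [IsPrime.vanishingIdeal_zeroLocus] at this
  exact hPne (le_antisymm hPle hle)

end Groth.Agent.H91
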