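import Mathlib.RingTheory.IntegralClosure.IntegrallyClosed
import Mathlib.RingTheory.Localization.FractionRing
import Mathlib.Algebra.Algebra.Subalgebra.Basic

set_option autoImplicit false
universe u v

namespace Groth.Agent.H91

/-- A subalgebra `R` of an integrally closed domain `A` which is saturated under division
(`a = b * c` with `a, b ∈ R`, `b ≠ 0` forces `c ∈ R`) is integrally closed. -/
theorem isIntegrallyClosed_of_div_mem {k : Type u} {A : Type v} [CommRing k] [CommRing A] [IsDomain A]
    [Algebra k A] [IsIntegrallyClosed A] (R : Subalgebra k A)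
    (hdiv : ∀ a b c : A, a ∈ R → b ∈ R → b ≠ 0 → a = b * c → c ∈ R) :
    IsIntegrallyClosed R := by
  let K := FractionRing A
  let L := FractionRing R
  have hinj : Function.Injective ((algebraMap A K).comp (R.val : R →+* A)) :=
    (IsFractionRing.injective A K).comp Subtype.val_injective
  let φ : L →+* K := IsFractionRing.lift (A := R) (K := L) (g := (algebraMap A K).comp (R.val : R →+* A)) hinj
  have hφ : ∀ r : R, φ (algebraMap R L r) = algebraMap A K (r : A) := fun r => by
    simp [φ, IsFractionRing.lift_algebraMap]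
  refine (isIntegrallyClosed_iff L).mpr ?_
  intro x hx
  obtain ⟨a, b, hb, rfl⟩ := IsFractionRing.div_surjective (A := R) x
  have hb0 : (b : R) ≠ 0 := nonZeroDivisors.ne_zero hb
  have hb0' : ((b : R) : A) ≠ 0 := fun h => hb0 (Subtype.ext h)
  -- integrality of the image in K over A
  have hint : IsIntegral A (φ (algebraMap R L a / algebraMap R L b)) := by
    obtain ⟨p, hp, hpx⟩ := hx
    refine ⟨p.map (R.val : R →+* A), hp.map _, ?_⟩
    have h1 := congrArg φ hpx
    rw [Polynomial.eval₂_eq_eval_map, map_zero, ← Polynomial.eval₂_hom] at h1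
    rw [Polynomial.eval₂_eq_eval_map, Polynomial.map_map]
    rw [Polynomial.eval₂_eq_eval_map] at h1
    rw [Polynomial.map_map] at h1
    have : (φ.comp (algebraMap R L)) = (algebraMap A K).comp (R.val : R →+* A) := by
      ext r; exact hφ r
    rw [this] at h1
    exact h1
  obtain ⟨c, hc⟩ := IsIntegrallyClosed.algebraMap_eq_of_integral hint
  have hac : (a : A) = (b : A) * c := by
    apply IsFractionRing.injective A K
    rw [map_mul, hc, map_div₀, hφ, hφ, mul_div_cancel₀]
    exact fun h => hb0' ((map_eq_zero_iff _ (IsFractionRing.injective A K)).mp h)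
  have hcR : c ∈ R := hdiv a b c a.2 b.2 hb0' hac
  refine ⟨⟨c, hcR⟩, ?_⟩
  have hbL : algebraMap R L b ≠ 0 :=
    fun h => hb0 ((map_eq_zero_iff _ (IsFractionRing.injective R L)).mp h)
  rw [eq_div_iff hbL, ← map_mul]
  congr 1
  apply Subtype.ext
  change c * (b : A) = (a : A)
  rw [hac, mul_comm]

end Groth.Agent.H91
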