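import Mathlib
import Groth.Agent.H19.QuasiReg

/-!
# `A / J^N ≅ (A/J)[T] / (T)^N` for a quasi-regular ideal with a section
-/

set_option autoImplicit false
universe v

open MvPolynomial Groth.Agent.H19.QReg

namespace Groth.Agent.H91.JNIso

variable {A : Type v} [CommRing A] {d : ℕ} (x : Fin d → A) (N : ℕ) (hN : 1 ≤ N)

/-- `A / J^N` -/
abbrev Q : Type v := A ⧸ Ideal.span (Set.range x) ^ N

/-- `A / J` -/
abbrev B : Type v := A ⧸ Ideal.span (Set.range x)

/-- the images of the `x i` in `A / J^N` -/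
def xq : Fin d → Q x N := fun i => Ideal.Quotient.mk _ (x i)

/-- the ideal generated by the `xq i` -/
abbrev JQ : Ideal (Q x N) := Ideal.span (Set.range (xq x N))

lemma JQ_eq_map : JQ x N = (Ideal.span (Set.range x)).map (Ideal.Quotient.mk _) := by
  rw [Ideal.map_span, ← Set.range_comp]
  rfl

lemma JQ_pow (k : ℕ) : JQ x N ^ k =
    (Ideal.span (Set.range x) ^ k).map (Ideal.Quotient.mk (Ideal.span (Set.range x) ^ N)) := by
  rw [JQ_eq_map, Ideal.map_pow]

lemma JQ_pow_N : JQ x N ^ N = ⊥ := by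
  rw [JQ_pow, Ideal.map_quotient_self]

include hN in
lemma pow_le : Ideal.span (Set.range x) ^ N ≤ Ideal.span (Set.range x) :=
  Ideal.pow_le_self (by omega)

/-- the projection `A / J^N → A / J` -/
def proj : Q x N →+* B x := Ideal.Quotient.factor (pow_le x N hN)

lemma proj_mk (a : A) : proj x N hN (Ideal.Quotient.mk _ a) = Ideal.Quotient.mk _ a := rfl

lemma proj_xq (i : Fin d) : proj x N hN (xq x N i) = 0 := by
  unfold xq
  rw [proj_mk, Ideal.Quotient.eq_zero_iff_mem]
  exact Ideal.subset_span ⟨i, rfl⟩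

lemma mem_JQ_of_proj_eq_zero (q : Q x N) (hq : proj x N hN q = 0) : q ∈ JQ x N := by
  obtain ⟨a, rfl⟩ := Ideal.Quotient.mk_surjective q
  rw [proj_mk, Ideal.Quotient.eq_zero_iff_mem] at hq
  rw [JQ_eq_map]
  exact Ideal.mem_map_of_mem _ hq

lemma mem_pow_of_mk_mem {k : ℕ} (hk : k ≤ N) (a : A)
    (ha : Ideal.Quotient.mk (Ideal.span (Set.range x) ^ N) a ∈ JQ x N ^ k) :
    a ∈ Ideal.span (Set.range x) ^ k := by
  rw [JQ_pow] at ha
  obtain ⟨a', ha', h⟩ := (Ideal.mem_map_iff_of_surjective _ Ideal.Quotient.mk_surjective).1 ha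
  have h1 : a' - a ∈ Ideal.span (Set.range x) ^ N := Ideal.Quotient.eq.1 h
  have h2 : a = a' - (a' - a) := by ring
  rw [h2]
  exact Ideal.sub_mem _ ha' (Ideal.pow_le_pow_right hk h1)

section sec

variable (σ : B x →+* Q x N) (hσ : ∀ b, proj x N hN (σ b) = b)

/-- the comparison map `(A/J)[T] → A/J^N` -/
noncomputable def Psi : MvPolynomial (Fin d) (B x) →+* Q x N := eval₂Hom σ (xq x N)

lemma Psi_X (i : Fin d) : Psi x N σ (X i) = xq x N i := by
  unfold Psi
  simp

lemma Psi_C (b : B x) : Psi x N σ (C b) = σ b := by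
  unfold Psi
  simp

include hσ in
lemma proj_Psi (F : MvPolynomial (Fin d) (B x)) :
    proj x N hN (Psi x N σ F) = constantCoeff F := by
  have : (proj x N hN).comp (Psi x N σ) = constantCoeff := by
    apply MvPolynomial.ringHom_ext
    · intro b
      rw [RingHom.comp_apply, Psi_C, hσ, constantCoeff_C]
    · intro i
      rw [RingHom.comp_apply, Psi_X, proj_xq, constantCoeff_X]
  rw [← this, RingHom.comp_apply]

lemma Psi_map (P : MvPolynomial (Fin d) (Q x N)) :
    Psi x N σ (MvPolynomial.map (proj x N hN) P) =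
      eval (xq x N) (MvPolynomial.map (σ.comp (proj x N hN)) P) := by
  unfold Psi
  rw [eval₂Hom_map_hom, eval_map]
  rfl

include hσ in
lemma eval_sub_Psi_mem {k : ℕ} (P : MvPolynomial (Fin d) (Q x N)) (hP : P.IsHomogeneous k) :
    eval (xq x N) P - Psi x N σ (MvPolynomial.map (proj x N hN) P) ∈ JQ x N ^ (k + 1) := by
  rw [Psi_map, ← map_sub]
  have h1 : (P - MvPolynomial.map (σ.comp (proj x N hN)) P).IsHomogeneous k :=
    hP.sub (hP.map _)
  have h2 : CoeffsIn (JQ x N) (P - MvPolynomial.map (σ.comp (proj x N hN)) P) := by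
    intro m
    rw [coeff_sub, coeff_map]
    apply mem_JQ_of_proj_eq_zero x N hN
    rw [map_sub, RingHom.comp_apply, hσ, sub_self]
  have h3 := eval_mem (xq x N) (JQ x N) h1 h2
  rwa [← pow_succ'] at h3

lemma Psi_mem_of_mem_pow (k : ℕ) (F : MvPolynomial (Fin d) (B x))
    (hF : F ∈ idealOfVars (Fin d) (B x) ^ k) : Psi x N σ F ∈ JQ x N ^ k := by
  have h1 : idealOfVars (Fin d) (B x) ≤ (JQ x N).comap (Psi x N σ) := by
    rw [idealOfVars, Ideal.span_le]
    rintro _ ⟨i, rfl⟩
    rw [SetLike.mem_coe, Ideal.mem_comap, Psi_X]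
    exact Ideal.subset_span ⟨i, rfl⟩
  exact (Ideal.le_comap_pow _ k) (Ideal.pow_right_mono h1 k hF)

include hσ in
lemma exists_approx (k : ℕ) (q : Q x N) :
    ∃ F : MvPolynomial (Fin d) (B x), q - Psi x N σ F ∈ JQ x N ^ k := by
  induction k with
  | zero => exact ⟨0, by rw [pow_zero, Ideal.one_eq_top]; trivial⟩
  | succ k ih =>
    obtain ⟨F, hF⟩ := ih
    obtain ⟨P, hP, hPe⟩ := exists_homog_of_mem_pow (xq x N) hF
    refine ⟨F + MvPolynomial.map (proj x N hN) P, ?_⟩
    have h1 := eval_sub_Psi_mem x N hN σ hσ P hP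
    rw [hPe] at h1
    have h2 : q - Psi x N σ (F + MvPolynomial.map (proj x N hN) P) =
        q - Psi x N σ F - Psi x N σ (MvPolynomial.map (proj x N hN) P) := by
      rw [map_add]; ring
    rw [h2]
    exact h1

include hσ in
lemma Psi_surjective : Function.Surjective (Psi x N σ) := by
  intro q
  obtain ⟨F, hF⟩ := exists_approx x N hN σ hσ N q
  rw [JQ_pow_N, Ideal.mem_bot, sub_eq_zero] at hF
  exact ⟨F, hF.symm⟩

include hσ in
lemma mem_pow_of_Psi_eq_zero (hqr : QR x) (F : MvPolynomial (Fin d) (B x))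
    (hF : Psi x N σ F = 0) : ∀ k, k ≤ N → F ∈ idealOfVars (Fin d) (B x) ^ k := by
  intro k
  induction k with
  | zero => intro _; rw [pow_zero, Ideal.one_eq_top]; trivial
  | succ k ih =>
    intro hk
    have hFk := ih (by omega)
    set G := homogeneousComponent k F with hG
    have hsub : F - G ∈ idealOfVars (Fin d) (B x) ^ (k + 1) := by
      rw [mem_pow_idealOfVars_iff']
      intro m hm
      rw [coeff_sub, hG, coeff_homogeneousComponent]
      by_cases hmk : m.degree = k
      · rw [if_pos hmk, sub_self]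
      · rw [if_neg hmk, sub_zero]
        exact (mem_pow_idealOfVars_iff' k F).1 hFk m (by omega)
    have hΨG : Psi x N σ G ∈ JQ x N ^ (k + 1) := by
      have h1 := Psi_mem_of_mem_pow x N σ (k + 1) _ hsub
      rw [map_sub, hF, zero_sub] at h1
      exact (Ideal.neg_mem_iff _).1 h1
    obtain ⟨P₀, hP₀⟩ := MvPolynomial.map_surjective (Ideal.Quotient.mk (Ideal.span (Set.range x)))
      Ideal.Quotient.mk_surjective G
    set P := homogeneousComponent k P₀ with hPdef
    have hPhom : P.IsHomogeneous k := homogeneousComponent_isHomogeneous k P₀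
    have hPG : MvPolynomial.map (Ideal.Quotient.mk (Ideal.span (Set.range x))) P = G := by
      ext m
      rw [coeff_map, hPdef, coeff_homogeneousComponent]
      by_cases hmk : m.degree = k
      · rw [if_pos hmk, ← coeff_map, hP₀]
      · rw [if_neg hmk, map_zero, hG, coeff_homogeneousComponent, if_neg hmk]
    set P' := MvPolynomial.map (Ideal.Quotient.mk (Ideal.span (Set.range x) ^ N)) P with hP'
    have hP'hom : P'.IsHomogeneous k := hPhom.map _
    have h2 : MvPolynomial.map (proj x N hN) P' = G := by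
      rw [hP', MvPolynomial.map_map, ← hPG]
      rfl
    have h3 := eval_sub_Psi_mem x N hN σ hσ P' hP'hom
    rw [h2] at h3
    have h4 : eval (xq x N) P' ∈ JQ x N ^ (k + 1) := by
      have := Ideal.add_mem _ h3 hΨG
      rwa [sub_add_cancel] at this
    have h5 : eval (xq x N) P' = Ideal.Quotient.mk (Ideal.span (Set.range x) ^ N) (eval x P) := by
      rw [hP', eval_map]
      have := eval₂_comp_left (Ideal.Quotient.mk (Ideal.span (Set.range x) ^ N)) (RingHom.id A) x P
      rw [RingHom.comp_id] at this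
      exact this.symm
    rw [h5] at h4
    have h6 := mem_pow_of_mk_mem x N hk _ h4
    have h7 : CoeffsIn (J x) P := hqr k P hPhom h6
    have hG0 : G = 0 := by
      rw [← hPG]
      ext m
      rw [coeff_map, coeff_zero, Ideal.Quotient.eq_zero_iff_mem]
      exact h7 m
    rw [hG0, sub_zero] at hsub
    exact hsub

include hσ in
lemma ker_Psi (hqr : QR x) :
    RingHom.ker (Psi x N σ) = idealOfVars (Fin d) (B x) ^ N := by
  apply le_antisymm
  · intro F hF
    exact mem_pow_of_Psi_eq_zero x N hN σ hσ hqr F hF N le_rfl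
  · intro F hF
    have := Psi_mem_of_mem_pow x N σ N F hF
    rwa [JQ_pow_N, Ideal.mem_bot] at this

end sec

end Groth.Agent.H91.JNIso
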