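import Mathlib

/-!
# Flat base change for `H⁰` and `H¹` of a three-term complex, and the low-degree Koszul complex

For a complex `X --α--> Y --β--> Z` of `R`-modules and a flat `R`-algebra `S` such that
`T → S ⊗ T` is bijective for the relevant homology modules `T`, cycles and boundaries of the base
changed complex are controlled by those of the original complex.
-/

set_option autoImplicit false
set_option linter.style.haveILetI false
set_option linter.unusedSectionVars false
set_option linter.unusedVariables false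
universe u

namespace Groth.Agent.H91.KoszLow

open TensorProduct

section Abstract

variable {R S : Type u} [CommRing R] [CommRing S] [Algebra R S] [Module.Flat R S]
variable {X Y Z : Type u} [AddCommGroup X] [AddCommGroup Y] [AddCommGroup Z]
  [Module R X] [Module R Y] [Module R Z]
variable (α : X →ₗ[R] Y) (β : Y →ₗ[R] Z)

/-- `H⁰`, surjectivity: an element of `S ⊗ X` killed by `S ⊗ α` comes from `ker α`. -/
theorem h0_surj
    (hsurj : Function.Surjective (TensorProduct.mk R S (LinearMap.ker α) 1))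
    (w : S ⊗[R] X) (hw : α.lTensor S w = 0) :
    ∃ x : X, α x = 0 ∧ w = (1 : S) ⊗ₜ[R] x := by
  have hex : Function.Exact (LinearMap.ker α).subtype α := by
    intro y
    constructor
    · intro hy
      exact ⟨⟨y, hy⟩, rfl⟩
    · rintro ⟨z, rfl⟩
      exact z.2
  have hex' := Module.Flat.lTensor_exact S hex
  obtain ⟨ξ, hξ⟩ := (hex' w).mp hw
  obtain ⟨x₀, hx₀⟩ := hsurj ξ
  refine ⟨x₀.1, x₀.2, ?_⟩
  rw [← hξ, ← hx₀]
  rfl

/-- `H⁰`, injectivity. -/
theorem h0_inj
    (hinj : Function.Injective (TensorProduct.mk R S (LinearMap.ker α) 1))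
    (x : X) (hx : α x = 0) (h : (1 : S) ⊗ₜ[R] x = 0) : x = 0 := by
  have hi : Function.Injective ((LinearMap.ker α).subtype.lTensor S) :=
    Module.Flat.lTensor_preserves_injective_linearMap _ (Submodule.injective_subtype _)
  have h1 : (LinearMap.ker α).subtype.lTensor S ((1 : S) ⊗ₜ[R] (⟨x, hx⟩ : LinearMap.ker α)) = 0 := by
    rw [LinearMap.lTensor_tmul]
    exact h
  have h2 : (1 : S) ⊗ₜ[R] (⟨x, hx⟩ : LinearMap.ker α) = 0 := hi (by rw [h1, map_zero])
  have h3 : (⟨x, hx⟩ : LinearMap.ker α) = 0 := hinj (by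
    show (1 : S) ⊗ₜ[R] (⟨x, hx⟩ : LinearMap.ker α) = TensorProduct.mk R S _ 1 0
    rw [h2, map_zero])
  exact congrArg Subtype.val h3

variable (hβα : ∀ x, β (α x) = 0)

/-- the map `X → ker β` induced by `α` -/
def αres : X →ₗ[R] LinearMap.ker β :=
  α.codRestrict (LinearMap.ker β) hβα

/-- the first homology module -/
abbrev HH : Type u := LinearMap.ker β ⧸ LinearMap.range (αres α β hβα)

include hβα in
/-- `H¹`, injectivity: a cycle whose image in `S ⊗ Y` is a boundary is a boundary. -/
theorem h1_inj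
    (hinj : Function.Injective (TensorProduct.mk R S (HH α β hβα) 1))
    (y : Y) (hy : β y = 0) (u : S ⊗[R] X) (h : (1 : S) ⊗ₜ[R] y = α.lTensor S u) :
    ∃ x : X, α x = y := by
  have hi : Function.Injective ((LinearMap.ker β).subtype.lTensor S) :=
    Module.Flat.lTensor_preserves_injective_linearMap _ (Submodule.injective_subtype _)
  have hcomp : (LinearMap.ker β).subtype ∘ₗ αres α β hβα = α := by
    ext x
    rfl
  have h1 : (1 : S) ⊗ₜ[R] (⟨y, hy⟩ : LinearMap.ker β) = (αres α β hβα).lTensor S u := by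
    apply hi
    rw [LinearMap.lTensor_tmul, ← LinearMap.comp_apply, ← LinearMap.lTensor_comp, hcomp]
    exact h
  have hq : (LinearMap.range (αres α β hβα)).mkQ ∘ₗ αres α β hβα = 0 := by
    ext x
    simp
  have h2 : (1 : S) ⊗ₜ[R] ((LinearMap.range (αres α β hβα)).mkQ ⟨y, hy⟩) = 0 := by
    have := congrArg ((LinearMap.range (αres α β hβα)).mkQ.lTensor S) h1
    rw [LinearMap.lTensor_tmul, ← LinearMap.comp_apply, ← LinearMap.lTensor_comp, hq,
      LinearMap.lTensor_zero, LinearMap.zero_apply] at this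
    exact this
  have h3 : (LinearMap.range (αres α β hβα)).mkQ ⟨y, hy⟩ = 0 := hinj (by
    show (1 : S) ⊗ₜ[R] _ = TensorProduct.mk R S _ 1 0
    rw [h2, map_zero])
  rw [Submodule.mkQ_apply, Submodule.Quotient.mk_eq_zero] at h3
  obtain ⟨x, hx⟩ := h3
  exact ⟨x, congrArg Subtype.val hx⟩

include hβα in
/-- `H¹`, surjectivity: a cycle of `S ⊗ Y` is a cycle of `Y` plus a boundary. -/
theorem h1_surj
    (hsurj : Function.Surjective (TensorProduct.mk R S (HH α β hβα) 1))
    (ω : S ⊗[R] Y) (hω : β.lTensor S ω = 0) :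
    ∃ (y : Y) (u : S ⊗[R] X), β y = 0 ∧ ω = (1 : S) ⊗ₜ[R] y + α.lTensor S u := by
  have hex : Function.Exact (LinearMap.ker β).subtype β := by
    intro y
    constructor
    · intro hy
      exact ⟨⟨y, hy⟩, rfl⟩
    · rintro ⟨z, rfl⟩
      exact z.2
  have hex' := Module.Flat.lTensor_exact S hex
  obtain ⟨ζ, hζ⟩ := (hex' ω).mp hω
  obtain ⟨h, hh⟩ := hsurj ((LinearMap.range (αres α β hβα)).mkQ.lTensor S ζ)
  obtain ⟨c, rfl⟩ := Submodule.mkQ_surjective _ h
  have hexq : Function.Exact (αres α β hβα) (LinearMap.range (αres α β hβα)).mkQ := by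
    intro z
    rw [Submodule.mkQ_apply, Submodule.Quotient.mk_eq_zero]
    rfl
  have hexq' := lTensor_exact S hexq (Submodule.mkQ_surjective _)
  have h1 : (LinearMap.range (αres α β hβα)).mkQ.lTensor S (ζ - (1 : S) ⊗ₜ[R] c) = 0 := by
    rw [map_sub, LinearMap.lTensor_tmul, ← hh]
    exact sub_self _
  obtain ⟨u, hu⟩ := (hexq' _).mp h1
  have hcomp : (LinearMap.ker β).subtype ∘ₗ αres α β hβα = α := by
    ext x
    rfl
  refine ⟨c.1, u, c.2, ?_⟩
  have h2 : ζ = (1 : S) ⊗ₜ[R] c + (αres α β hβα).lTensor S u := by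
    rw [hu]; abel
  rw [← hζ, h2, map_add, LinearMap.lTensor_tmul, ← LinearMap.comp_apply,
    ← LinearMap.lTensor_comp, hcomp]
  rfl

end Abstract

end Groth.Agent.H91.KoszLow
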