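import Mathlib
import Groth.Agent.H91.KoszLowA

/-!
# The low-degree Koszul complex `X → X^ι → X^(ι×ι)` and flat base change
-/

set_option autoImplicit false
set_option linter.style.haveILetI false
set_option linter.unusedSectionVars false
set_option linter.unusedVariables false
universe u

namespace Groth.Agent.H91.KoszLow

open TensorProduct

section Kosz

variable {R : Type u} [CommRing R] {ι : Type} (a : ι → R)
variable (X : Type u) [AddCommGroup X] [Module R X]

/-- `x ↦ (aᵢ x)ᵢ` -/
def d0 : X →ₗ[R] (ι → X) := LinearMap.pi fun i => a i • LinearMap.id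

/-- `(xᵢ) ↦ (aⱼ xᵢ - aᵢ xⱼ)` -/
def d1 : (ι → X) →ₗ[R] (ι × ι → X) :=
  LinearMap.pi fun p => a p.2 • LinearMap.proj p.1 - a p.1 • LinearMap.proj p.2

@[simp] theorem d0_apply (x : X) (i : ι) : d0 a X x i = a i • x := rfl

@[simp] theorem d1_apply (c : ι → X) (p : ι × ι) :
    d1 a X c p = a p.2 • c p.1 - a p.1 • c p.2 := rfl

theorem d1_d0 (x : X) : d1 a X (d0 a X x) = 0 := by
  ext p
  simp only [d1_apply, d0_apply, Pi.zero_apply]
  rw [smul_comm, sub_self]

theorem d1_eq_zero_iff (c : ι → X) :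
    d1 a X c = 0 ↔ ∀ i j, a j • c i = a i • c j := by
  constructor
  · intro h i j
    have := congrFun h (i, j)
    simp only [d1_apply, Pi.zero_apply] at this
    exact sub_eq_zero.mp this
  · intro h
    ext p
    simp only [d1_apply, Pi.zero_apply]
    exact sub_eq_zero.mpr (h p.1 p.2)

theorem d0_eq_zero_iff (x : X) : d0 a X x = 0 ↔ ∀ i, a i • x = 0 := by
  constructor
  · intro h i
    exact congrFun h i
  · intro h
    ext i
    exact h i

/-- `ker d⁰` is killed by all `aᵢ` -/
theorem smul_ker_d0 (t : LinearMap.ker (d0 a X)) (i : ι) : a i • t = 0 := by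
  apply Subtype.ext
  exact (d0_eq_zero_iff a X t.1).mp t.2 i

/-- `H¹` is killed by all `aᵢ` -/
theorem smul_HH (t : HH (d0 a X) (d1 a X) (d1_d0 a X)) (j : ι) : a j • t = 0 := by
  obtain ⟨c, rfl⟩ := Submodule.mkQ_surjective _ t
  rw [← map_smul, Submodule.mkQ_apply, Submodule.Quotient.mk_eq_zero]
  refine ⟨c.1 j, ?_⟩
  apply Subtype.ext
  ext i
  show a i • c.1 j = a j • c.1 i
  exact ((d1_eq_zero_iff a X c.1).mp c.2 i j).symm

end Kosz

section BaseChange

variable {R S : Type u} [CommRing R] [CommRing S] [Algebra R S] [Module.Flat R S]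
  {ι : Type} [Fintype ι] [DecidableEq ι] (a : ι → R)
variable (N : Type u) [AddCommGroup N] [Module R N]

theorem piRight_lTensor_d0 (u : S ⊗[R] N) :
    TensorProduct.piRight R S S (fun _ : ι => N) ((d0 a N).lTensor S u) = d0 a (S ⊗[R] N) u := by
  induction u using TensorProduct.induction_on with
  | zero => simp
  | tmul s n =>
    rw [LinearMap.lTensor_tmul, TensorProduct.piRight_apply, TensorProduct.piRightHom_tmul]
    ext i
    simp only [d0_apply, TensorProduct.tmul_smul]
  | add x y hx hy => rw [map_add, map_add, hx, hy, map_add]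

theorem piRight_lTensor_d1 (z : S ⊗[R] (ι → N)) :
    TensorProduct.piRight R S S (fun _ : ι × ι => N) ((d1 a N).lTensor S z) =
      d1 a (S ⊗[R] N) (TensorProduct.piRight R S S (fun _ : ι => N) z) := by
  induction z using TensorProduct.induction_on with
  | zero => simp
  | tmul s c =>
    rw [LinearMap.lTensor_tmul, TensorProduct.piRight_apply, TensorProduct.piRightHom_tmul,
      TensorProduct.piRight_apply, TensorProduct.piRightHom_tmul]
    ext p
    simp only [d1_apply, TensorProduct.tmul_sub, TensorProduct.tmul_smul]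
  | add x y hx hy => rw [map_add, map_add, hx, hy, map_add, map_add]

variable (hT : ∀ (T : Type u) [AddCommGroup T] [Module R T], (∀ (t : T) (i : ι), a i • t = 0) →
  Function.Bijective (TensorProduct.mk R S T 1))

include hT in
/-- `H⁰` surjectivity, componentwise. -/
theorem A0 (w : S ⊗[R] N) (hw : ∀ i, a i • w = 0) :
    ∃ n : N, (∀ i, a i • n = 0) ∧ (1 : S) ⊗ₜ[R] n = w := by
  have h1 : (d0 a N).lTensor S w = 0 := by
    apply (TensorProduct.piRight R S S (fun _ : ι => N)).injective
    rw [piRight_lTensor_d0, map_zero]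
    exact (d0_eq_zero_iff a _ w).mpr hw
  obtain ⟨x, hx, hwx⟩ := h0_surj (d0 a N) (hT _ (smul_ker_d0 a N)).2 w h1
  exact ⟨x, (d0_eq_zero_iff a N x).mp hx, hwx.symm⟩

include hT in
/-- torsion injects into the base change -/
theorem Tinj (n : N) (hn : ∀ i, a i • n = 0) (h : (1 : S) ⊗ₜ[R] n = 0) : n = 0 :=
  h0_inj (d0 a N) (hT _ (smul_ker_d0 a N)).1 n ((d0_eq_zero_iff a N n).mpr hn) h

include hT in
/-- `H¹` injectivity, componentwise. -/
theorem A1i (c : ι → N) (hc : ∀ i j, a j • c i = a i • c j) (w : S ⊗[R] N)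
    (hw : ∀ i, (1 : S) ⊗ₜ[R] c i = a i • w) : ∃ n : N, ∀ i, c i = a i • n := by
  have h1 : (1 : S) ⊗ₜ[R] c = (d0 a N).lTensor S w := by
    apply (TensorProduct.piRight R S S (fun _ : ι => N)).injective
    rw [piRight_lTensor_d0, TensorProduct.piRight_apply, TensorProduct.piRightHom_tmul]
    ext i
    rw [d0_apply]
    exact hw i
  obtain ⟨x, hx⟩ := h1_inj (d0 a N) (d1 a N) (d1_d0 a N) (hT _ (smul_HH a N)).1 c
    ((d1_eq_zero_iff a N c).mpr hc) w h1
  exact ⟨x, fun i => (congrFun hx i).symm⟩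

include hT in
/-- `H¹` surjectivity, componentwise. -/
theorem A1s (w : ι → S ⊗[R] N) (hw : ∀ i j, a j • w i = a i • w j) :
    ∃ (c : ι → N) (v : S ⊗[R] N), (∀ i j, a j • c i = a i • c j) ∧
      ∀ i, w i = (1 : S) ⊗ₜ[R] c i + a i • v := by
  set ω := (TensorProduct.piRight R S S (fun _ : ι => N)).symm w with hωdef
  have hω : (d1 a N).lTensor S ω = 0 := by
    apply (TensorProduct.piRight R S S (fun _ : ι × ι => N)).injective
    rw [piRight_lTensor_d1, map_zero, hωdef, LinearEquiv.apply_symm_apply]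
    exact (d1_eq_zero_iff a _ w).mpr hw
  obtain ⟨y, u, hy, hωy⟩ := h1_surj (d0 a N) (d1 a N) (d1_d0 a N) (hT _ (smul_HH a N)).2 ω hω
  refine ⟨y, u, (d1_eq_zero_iff a N y).mp hy, fun i => ?_⟩
  have h2 := congrArg (TensorProduct.piRight R S S (fun _ : ι => N)) hωy
  rw [hωdef, LinearEquiv.apply_symm_apply, map_add, piRight_lTensor_d0,
    TensorProduct.piRight_apply, TensorProduct.piRightHom_tmul] at h2
  have h3 := congrFun h2 i
  rw [h3]
  rfl

end BaseChange

end Groth.Agent.H91.KoszLow
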