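import Mathlib

/-!
# Gluing an extension along `N → S ⊗ N` by a direct limit of Koszul-type modules
-/

set_option autoImplicit false
set_option linter.style.haveILetI false
set_option linter.unusedSectionVars false
set_option linter.unusedVariables false
universe u

namespace Groth.Agent.H91.KoszLow

open TensorProduct

section Glue

variable {R S : Type u} [CommRing R] [CommRing S] [Algebra R S]
  {ι : Type} (f : ι → R)
  {N M E' : Type u} [AddCommGroup N] [Module R N] [AddCommGroup M] [Module R M]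
  [AddCommGroup E'] [Module S E'] [Module R E'] [IsScalarTower R S E']
  (i' : S ⊗[R] N →ₗ[S] E')

/-- level `k`: pairs `(e', (nᵢ))` with `fᵢ^k e' = i'(1 ⊗ nᵢ)` and `fⱼ^k nᵢ = fᵢ^k nⱼ` -/
def EE (k : ℕ) : Submodule R (E' × (ι → N)) where
  carrier := {x | (∀ i, f i ^ k • x.1 = i' ((1 : S) ⊗ₜ[R] x.2 i)) ∧
    ∀ i j, f j ^ k • x.2 i = f i ^ k • x.2 j}
  add_mem' := by
    rintro x y ⟨hx1, hx2⟩ ⟨hy1, hy2⟩
    refine ⟨fun i => ?_, fun i j => ?_⟩
    · show f i ^ k • (x.1 + y.1) = i' ((1 : S) ⊗ₜ[R] (x.2 i + y.2 i))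
      rw [smul_add, hx1, hy1, TensorProduct.tmul_add, map_add]
    · show f j ^ k • (x.2 i + y.2 i) = f i ^ k • (x.2 j + y.2 j)
      rw [smul_add, smul_add, hx2, hy2]
  zero_mem' := by
    refine ⟨fun i => ?_, fun i j => ?_⟩
    · show f i ^ k • (0 : E') = i' ((1 : S) ⊗ₜ[R] (0 : N))
      rw [smul_zero, TensorProduct.tmul_zero, map_zero]
    · show f j ^ k • (0 : N) = f i ^ k • (0 : N)
      rw [smul_zero, smul_zero]
  smul_mem' := by
    rintro r x ⟨hx1, hx2⟩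
    refine ⟨fun i => ?_, fun i j => ?_⟩
    · show f i ^ k • (r • x.1) = i' ((1 : S) ⊗ₜ[R] (r • x.2 i))
      rw [smul_comm, hx1, TensorProduct.tmul_smul, LinearMap.map_smul_of_tower]
    · show f j ^ k • (r • x.2 i) = f i ^ k • (r • x.2 j)
      rw [smul_comm, hx2, smul_comm]

theorem mem_EE (k : ℕ) (x : E' × (ι → N)) :
    x ∈ EE f i' k ↔ (∀ i, f i ^ k • x.1 = i' ((1 : S) ⊗ₜ[R] x.2 i)) ∧
      ∀ i j, f j ^ k • x.2 i = f i ^ k • x.2 j := Iff.rfl

/-- transition maps -/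
def tr (k l : ℕ) (h : k ≤ l) : EE f i' k →ₗ[R] EE f i' l where
  toFun x := ⟨(x.1.1, fun i => f i ^ (l - k) • x.1.2 i), by
    obtain ⟨hx1, hx2⟩ := x.2
    refine ⟨fun i => ?_, fun i j => ?_⟩
    · show f i ^ l • x.1.1 = i' ((1 : S) ⊗ₜ[R] (f i ^ (l - k) • x.1.2 i))
      rw [TensorProduct.tmul_smul, LinearMap.map_smul_of_tower, ← hx1, smul_smul, ← pow_add,
        Nat.sub_add_cancel h]
    · show f j ^ l • (f i ^ (l - k) • x.1.2 i) = f i ^ l • (f j ^ (l - k) • x.1.2 j)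
      have e1 : f j ^ l = f j ^ (l - k) * f j ^ k := by rw [← pow_add, Nat.sub_add_cancel h]
      have e2 : f i ^ l = f i ^ (l - k) * f i ^ k := by rw [← pow_add, Nat.sub_add_cancel h]
      rw [e1, e2, mul_smul, mul_smul, smul_comm (f j ^ k), hx2, smul_comm (f i ^ k) (f j ^ (l - k)),
        smul_comm (f j ^ (l - k)) (f i ^ (l - k))]⟩
  map_add' x y := by
    apply Subtype.ext
    refine Prod.ext rfl ?_
    funext i
    show f i ^ (l - k) • (x.1.2 i + y.1.2 i) = _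
    rw [smul_add]
    rfl
  map_smul' r x := by
    apply Subtype.ext
    refine Prod.ext rfl ?_
    funext i
    show f i ^ (l - k) • (r • x.1.2 i) = r • (f i ^ (l - k) • x.1.2 i)
    rw [smul_comm]

theorem tr_fst (k l : ℕ) (h : k ≤ l) (x : EE f i' k) : (tr f i' k l h x).1.1 = x.1.1 := rfl

theorem tr_snd (k l : ℕ) (h : k ≤ l) (x : EE f i' k) (i : ι) :
    (tr f i' k l h x).1.2 i = f i ^ (l - k) • x.1.2 i := rfl

instance : DirectedSystem (fun k => EE f i' k) (fun k l h => tr f i' k l h) where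
  map_self k x := by
    apply Subtype.ext
    refine Prod.ext rfl ?_
    funext i
    rw [tr_snd, Nat.sub_self, pow_zero, one_smul]
  map_map k l m hkl hlm x := by
    apply Subtype.ext
    refine Prod.ext rfl ?_
    funext i
    rw [tr_snd, tr_snd, tr_snd, smul_smul, ← pow_add]
    congr 2
    omega

/-- the glued module -/
abbrev GE : Type u := Module.DirectLimit (fun k => EE f i' k) (tr f i')

/-- `E → E'` -/
noncomputable def gE : GE f i' →ₗ[R] E' :=
  Module.DirectLimit.lift R ℕ (fun k => EE f i' k) (tr f i')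
    (fun k => LinearMap.fst R E' (ι → N) ∘ₗ (EE f i' k).subtype)
    (fun k l h x => rfl)

theorem gE_of (k : ℕ) (x : EE f i' k) :
    gE f i' (Module.DirectLimit.of R ℕ (fun k => EE f i' k) (tr f i') k x) = x.1.1 := by
  rw [gE, Module.DirectLimit.lift_of]
  rfl

/-- `N → E` -/
noncomputable def iE : N →ₗ[R] GE f i' :=
  Module.DirectLimit.of R ℕ (fun k => EE f i' k) (tr f i') 0 ∘ₗ
    LinearMap.codRestrict (EE f i' 0)
      (LinearMap.prod ((i'.restrictScalars R) ∘ₗ (TensorProduct.mk R S N 1))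
        (LinearMap.pi fun _ => LinearMap.id))
      (fun n => by
        refine ⟨fun i => ?_, fun i j => ?_⟩
        · show f i ^ 0 • i' ((1 : S) ⊗ₜ[R] n) = i' ((1 : S) ⊗ₜ[R] n)
          rw [pow_zero, one_smul]
        · show f j ^ 0 • n = f i ^ 0 • n
          rw [pow_zero, pow_zero])

/-- the element of level `0` attached to `n` -/
def lvl0 (n : N) : EE f i' 0 :=
  ⟨(i' ((1 : S) ⊗ₜ[R] n), fun _ => n), by
    refine ⟨fun i => ?_, fun i j => ?_⟩
    · show f i ^ 0 • i' ((1 : S) ⊗ₜ[R] n) = i' ((1 : S) ⊗ₜ[R] n)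
      rw [pow_zero, one_smul]
    · show f j ^ 0 • n = f i ^ 0 • n
      rw [pow_zero, pow_zero]⟩

theorem iE_apply (n : N) :
    iE f i' n = Module.DirectLimit.of R ℕ (fun k => EE f i' k) (tr f i') 0 (lvl0 f i' n) := rfl

theorem gE_iE (n : N) : gE f i' (iE f i' n) = i' ((1 : S) ⊗ₜ[R] n) := by
  rw [iE_apply, gE_of]
  rfl

end Glue


section Props

variable {R S : Type u} [CommRing R] [CommRing S] [Algebra R S]
  {ι : Type} (f : ι → R)
  {N M E' : Type u} [AddCommGroup N] [Module R N] [AddCommGroup M] [Module R M]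
  [AddCommGroup E'] [Module S E'] [Module R E'] [IsScalarTower R S E']
  (i' : S ⊗[R] N →ₗ[S] E') (p'' : E' →ₗ[R] M)
  (hi' : Function.Injective i')
  (hker : ∀ e' : E', p'' e' = 0 ↔ ∃ w, i' w = e')
  (hsurj : Function.Surjective p'')
  (hMt : ∀ m : M, ∃ k : ℕ, ∀ i, f i ^ k • m = 0)
  (hA0 : ∀ (k : ℕ) (w : S ⊗[R] N), (∀ i, f i ^ k • w = 0) →
    ∃ n : N, (∀ i, f i ^ k • n = 0) ∧ (1 : S) ⊗ₜ[R] n = w)
  (hA1i : ∀ (k : ℕ) (c : ι → N), (∀ i j, f j ^ k • c i = f i ^ k • c j) →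
    ∀ w : S ⊗[R] N, (∀ i, (1 : S) ⊗ₜ[R] c i = f i ^ k • w) → ∃ n : N, ∀ i, c i = f i ^ k • n)
  (hA1s : ∀ (k : ℕ) (w : ι → S ⊗[R] N), (∀ i j, f j ^ k • w i = f i ^ k • w j) →
    ∃ (c : ι → N) (v : S ⊗[R] N), (∀ i j, f j ^ k • c i = f i ^ k • c j) ∧
      ∀ i, w i = (1 : S) ⊗ₜ[R] c i + f i ^ k • v)
  (hTinj : ∀ (k : ℕ) (n : N), (∀ i, f i ^ k • n = 0) → (1 : S) ⊗ₜ[R] n = 0 → n = 0)

/-- `E → M` -/
noncomputable def pE : GE f i' →ₗ[R] M := p'' ∘ₗ gE f i'

theorem pE_apply (e : GE f i') : pE f i' p'' e = p'' (gE f i' e) := rfl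

include hker in
theorem pE_iE (n : N) : pE f i' p'' (iE f i' n) = 0 := by
  rw [pE_apply, gE_iE]
  exact (hker _).mpr ⟨_, rfl⟩

include hi' hTinj in
theorem iE_injective : Function.Injective (iE f i') := by
  rw [injective_iff_map_eq_zero]
  intro n hn
  rw [iE_apply] at hn
  obtain ⟨l, hl, h0⟩ := Module.DirectLimit.of.zero_exact hn
  have h1 : (tr f i' 0 l hl (lvl0 f i' n)).1 = 0 := congrArg Subtype.val h0
  have h2 : i' ((1 : S) ⊗ₜ[R] n) = 0 := congrArg Prod.fst h1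
  have h3 : ∀ i, f i ^ l • n = 0 := fun i => by
    have := congrFun (congrArg Prod.snd h1) i
    rw [tr_snd, Nat.sub_zero] at this
    exact this
  exact hTinj l n h3 (hi' (by rw [h2, map_zero]))

include hi' hker hA0 hA1i in
theorem ker_pE_le (e : GE f i') (he : pE f i' p'' e = 0) : ∃ n, iE f i' n = e := by
  obtain ⟨k, x, rfl⟩ := Module.DirectLimit.exists_of e
  rw [pE_apply, gE_of] at he
  obtain ⟨w, hw⟩ := (hker _).mp he
  obtain ⟨hx1, hx2⟩ := x.2
  have h1 : ∀ i, (1 : S) ⊗ₜ[R] x.1.2 i = f i ^ k • w := fun i => by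
    apply hi'
    rw [← hx1 i, ← hw, LinearMap.map_smul_of_tower]
  obtain ⟨n, hn⟩ := hA1i k x.1.2 hx2 w h1
  have h2 : ∀ i, f i ^ k • (w - (1 : S) ⊗ₜ[R] n) = 0 := fun i => by
    rw [smul_sub, ← h1 i, hn i, TensorProduct.tmul_smul, sub_self]
  obtain ⟨n', hn'0, hn'⟩ := hA0 k _ h2
  refine ⟨n + n', ?_⟩
  rw [iE_apply, ← Module.DirectLimit.of_f (hij := Nat.zero_le k)]
  congr 1
  apply Subtype.ext
  refine Prod.ext ?_ ?_
  · show i' ((1 : S) ⊗ₜ[R] (n + n')) = x.1.1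
    rw [TensorProduct.tmul_add, hn', ← hw]
    congr 1
    abel
  · funext i
    show f i ^ (k - 0) • (n + n') = x.1.2 i
    rw [Nat.sub_zero, smul_add, hn'0 i, add_zero, ← hn i]

include hi' hker hsurj hMt hA1s in
theorem pE_surjective : Function.Surjective (pE f i' p'') := by
  intro m
  obtain ⟨k, hk⟩ := hMt m
  obtain ⟨e₀, he₀⟩ := hsurj m
  have h1 : ∀ i, ∃ w, i' w = f i ^ k • e₀ := fun i => by
    apply (hker _).mp
    rw [map_smul, he₀, hk i]
  choose w hw using h1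
  have hcoc : ∀ i j, f j ^ k • w i = f i ^ k • w j := fun i j => by
    apply hi'
    rw [LinearMap.map_smul_of_tower, LinearMap.map_smul_of_tower, hw, hw, smul_comm]
  obtain ⟨c, v, hc, hwc⟩ := hA1s k w hcoc
  have hmem : ((e₀ - i' v, c) : E' × (ι → N)) ∈ EE f i' k := by
    refine ⟨fun i => ?_, hc⟩
    show f i ^ k • (e₀ - i' v) = i' ((1 : S) ⊗ₜ[R] c i)
    rw [smul_sub, ← hw i, hwc i, map_add, LinearMap.map_smul_of_tower]
    abel
  refine ⟨Module.DirectLimit.of R ℕ (fun k => EE f i' k) (tr f i') k ⟨_, hmem⟩, ?_⟩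
  rw [pE_apply, gE_of]
  show p'' (e₀ - i' v) = m
  rw [map_sub, he₀, (hker _).mpr ⟨v, rfl⟩, sub_zero]

end Props

end Groth.Agent.H91.KoszLow
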