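import Mathlib
import Groth.Agent.H91.KoszLowB
import Groth.Agent.H91.KoszLowC
import Groth.Agent.H10.TorsionFlat

/-!
# Lifting extensions by torsion modules along a flat map which is an isomorphism modulo `I`
-/

set_option autoImplicit false
set_option linter.style.haveILetI false
set_option linter.unusedSectionVars false
set_option linter.unusedVariables false
universe u

namespace Groth.Agent.H91.KoszLow

open TensorProduct

theorem extension_lift_of_torsion (R S : Type u) [CommRing R] [CommRing S] [Algebra R S]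
    [Module.Flat R S] (I : Ideal R) (hI : I.FG)
    (hq : Function.Bijective
      (Ideal.quotientMap (I.map (algebraMap R S)) (algebraMap R S) Ideal.le_comap_map))
    (N M : Type u) [AddCommGroup N] [Module R N] [AddCommGroup M] [Module R M]
    (hM : ∀ m : M, ∃ n : ℕ, ∀ a ∈ I ^ n, a • m = 0)
    (E' : Type u) [AddCommGroup E'] [Module S E'] [Module R E'] [IsScalarTower R S E']
    (i' : S ⊗[R] N →ₗ[S] E') (p' : E' →ₗ[S] S ⊗[R] M)
    (hi' : Function.Injective i') (hp' : Function.Surjective p')
    (hex' : LinearMap.range i' = LinearMap.ker p') :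
    ∃ (E : Type u) (_ : AddCommGroup E) (_ : Module R E) (i : N →ₗ[R] E) (p : E →ₗ[R] M)
      (g : E →ₗ[R] E'),
      Function.Injective i ∧ Function.Surjective p ∧ LinearMap.range i = LinearMap.ker p ∧
      (∀ n : N, g (i n) = i' ((1 : S) ⊗ₜ[R] n)) ∧ (∀ e : E, p' (g e) = (1 : S) ⊗ₜ[R] p e) := by
  classical
  obtain ⟨r, f, hf⟩ := Submodule.fg_iff_exists_fin_generating_family.mp hI
  have hf' : Ideal.span (Set.range f) = I := hf
  have hfI : ∀ i, f i ∈ I := fun i => hf' ▸ Ideal.subset_span ⟨i, rfl⟩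
  -- torsion modules are unchanged by base change
  have hTor : ∀ (T : Type u) [AddCommGroup T] [Module R T],
      (∀ t : T, ∃ n : ℕ, ∀ a ∈ I ^ n, a • t = 0) →
        Function.Bijective (TensorProduct.mk R S T 1) := fun T _ _ h =>
    Groth.Agent.H10.mk_bijective_of_pow_torsion I ((Groth.Agent.H10.quotBij_iff I).mpr hq) T h
  have hT : ∀ (k : ℕ) (T : Type u) [AddCommGroup T] [Module R T],
      (∀ (t : T) (i : Fin r), f i ^ k • t = 0) →
        Function.Bijective (TensorProduct.mk R S T 1) := by
    intro k T _ _ h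
    apply hTor
    have hrad : I ≤ (Ideal.span (Set.range fun i => f i ^ k)).radical := by
      rw [← hf', Ideal.span_le]
      rintro _ ⟨i, rfl⟩
      exact ⟨k, Ideal.subset_span ⟨i, rfl⟩⟩
    obtain ⟨n, hn⟩ := Ideal.exists_pow_le_of_le_radical_of_fg hrad hI
    intro x
    refine ⟨n, fun a ha => ?_⟩
    have hle : Ideal.span (Set.range fun i => f i ^ k) ≤ Ideal.torsionOf R T x := by
      rw [Ideal.span_le]
      rintro _ ⟨i, rfl⟩
      exact (Ideal.mem_torsionOf_iff _ _).mpr (h x i)
    exact (Ideal.mem_torsionOf_iff _ _).mp (hle (hn ha))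
  -- the `R`-linear map `E' → M`
  let eM : M ≃ₗ[R] S ⊗[R] M := LinearEquiv.ofBijective (TensorProduct.mk R S M 1) (hTor M hM)
  let p'' : E' →ₗ[R] M := eM.symm.toLinearMap ∘ₗ p'.restrictScalars R
  have hp'' : ∀ e', (1 : S) ⊗ₜ[R] p'' e' = p' e' := fun e' => eM.apply_symm_apply (p' e')
  have hker : ∀ e' : E', p'' e' = 0 ↔ ∃ w, i' w = e' := by
    intro e'
    have h1 : p'' e' = 0 ↔ p' e' = 0 := by
      constructor
      · intro h
        rw [← hp'', h, TensorProduct.tmul_zero]
      · intro h
        show eM.symm (p' e') = 0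
        rw [h, map_zero]
    rw [h1, ← LinearMap.mem_ker, ← hex']
    rfl
  have hsurj : Function.Surjective p'' := fun m => by
    obtain ⟨e', he'⟩ := hp' (eM m)
    exact ⟨e', by show eM.symm (p' e') = m; rw [he', eM.symm_apply_apply]⟩
  have hMt : ∀ m : M, ∃ k : ℕ, ∀ i, f i ^ k • m = 0 := fun m => by
    obtain ⟨n, hn⟩ := hM m
    exact ⟨n, fun i => hn _ (Ideal.pow_mem_pow (hfI i) n)⟩
  refine ⟨GE f i', inferInstance, inferInstance, iE f i', pE f i' p'', gE f i', ?_, ?_, ?_, ?_, ?_⟩
  · exact iE_injective f i' hi' (fun k => Tinj (fun i => f i ^ k) N (hT k))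
  · exact pE_surjective f i' p'' hi' hker hsurj hMt (fun k => A1s (fun i => f i ^ k) N (hT k))
  · ext e
    constructor
    · rintro ⟨n, rfl⟩
      exact pE_iE f i' p'' hker n
    · intro he
      obtain ⟨n, hn⟩ := ker_pE_le f i' p'' hi' hker (fun k => A0 (fun i => f i ^ k) N (hT k))
        (fun k => A1i (fun i => f i ^ k) N (hT k)) e he
      exact ⟨n, hn⟩
  · exact gE_iE f i'
  · intro e
    rw [pE_apply, hp'']

end Groth.Agent.H91.KoszLow
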