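import Mathlib

/-!
# Moving an integer vector to a multiple of the first basis vector (helper91)
-/

namespace Groth.Agent.H91.LatQuot

open Finset

theorem exists_equiv_single (k : ℕ) (d : Fin (k + 1) → ℤ) :
    ∃ A : (Fin (k + 1) → ℤ) ≃ₗ[ℤ] (Fin (k + 1) → ℤ),
      A d = Pi.single 0 (Finset.univ.gcd d) := by
  classical
  by_cases hD : Finset.univ.gcd d = 0
  · refine ⟨LinearEquiv.refl _ _, ?_⟩
    have : d = 0 := by
      funext i
      exact (Finset.gcd_eq_zero_iff.mp hD) i (Finset.mem_univ i)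
    rw [hD, this]
    simp
  · obtain ⟨D, hDdef⟩ : ∃ D : ℤ, D = Finset.univ.gcd d := ⟨_, rfl⟩
    rw [← hDdef] at hD ⊢
    obtain ⟨a, ha⟩ := Finset.gcd_eq_sum_mul Finset.univ d
    rw [← hDdef] at ha
    have hdvd : ∀ i, D ∣ d i := fun i => hDdef ▸ Finset.gcd_dvd (Finset.mem_univ i)
    choose u hu using hdvd
    have hlu : ∑ i, u i * a i = 1 := by
      have : D * ∑ i, u i * a i = D * 1 := by
        rw [Finset.mul_sum, mul_one]
        conv_rhs => rw [ha]
        refine Finset.sum_congr rfl fun i _ => ?_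
        rw [hu i]; ring
      exact mul_left_cancel₀ hD this
    -- the functional
    let lam : (Fin (k + 1) → ℤ) →ₗ[ℤ] ℤ := ∑ i, a i • LinearMap.proj i
    have hlam : ∀ x, lam x = ∑ i, a i * x i := by
      intro x
      simp [lam, LinearMap.sum_apply]
    have hlamu : lam u = 1 := by
      rw [hlam, ← hlu]
      refine Finset.sum_congr rfl fun i _ => ?_
      ring
    have hdu : d = D • u := by
      funext i
      rw [hu i]; simp
    let K := LinearMap.ker lam
    -- the splitting
    let f2 : (Fin (k + 1) → ℤ) →ₗ[ℤ] K :=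
      LinearMap.codRestrict K (LinearMap.id - (LinearMap.toSpanSingleton ℤ _ u).comp lam) (by
        intro x
        simp only [K, LinearMap.mem_ker, LinearMap.sub_apply, LinearMap.id_apply,
          LinearMap.comp_apply, LinearMap.toSpanSingleton_apply, map_sub, map_smul, hlamu]
        simp)
    let f : (Fin (k + 1) → ℤ) →ₗ[ℤ] (ℤ × K) := lam.prod f2
    let gg : (ℤ × K) →ₗ[ℤ] (Fin (k + 1) → ℤ) :=
      (LinearMap.toSpanSingleton ℤ _ u).coprod K.subtype
    have hfg : f.comp gg = LinearMap.id := by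
      apply LinearMap.ext
      rintro ⟨t, y⟩
      have hy : lam y.1 = 0 := y.2
      refine Prod.ext ?_ (Subtype.ext ?_)
      · simp [f, gg, hy, hlamu, -zsmul_eq_mul]
      · simp [f, f2, gg, hy, hlamu, -zsmul_eq_mul]
    have hgf : gg.comp f = LinearMap.id := by
      apply LinearMap.ext
      intro x
      simp [f, f2, gg, -zsmul_eq_mul]
    let e : (Fin (k + 1) → ℤ) ≃ₗ[ℤ] (ℤ × K) := LinearEquiv.ofLinearMap f gg hfg hgf
    have hrank : Module.finrank ℤ K = k := by
      have h1 := LinearEquiv.finrank_eq e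
      rw [Module.finrank_prod, Module.finrank_self, Module.finrank_fin_fun] at h1
      omega
    let bK : Module.Basis (Fin k) ℤ K := Module.finBasisOfFinrankEq ℤ K hrank
    let A : (Fin (k + 1) → ℤ) ≃ₗ[ℤ] (Fin (k + 1) → ℤ) :=
      (e.trans ((LinearEquiv.refl ℤ ℤ).prodCongr bK.equivFun)).trans
        (Fin.consLinearEquiv ℤ (fun _ : Fin (k + 1) => ℤ))
    refine ⟨A, ?_⟩
    have hed : e d = (D, 0) := by
      refine Prod.ext ?_ (Subtype.ext ?_)
      · simp [e, f, hdu, hlamu, -zsmul_eq_mul]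
      · simp [e, f, f2, hdu, hlamu, -zsmul_eq_mul]
    funext i
    simp only [A, LinearEquiv.trans_apply, hed]
    refine Fin.cases ?_ (fun j => ?_) i
    · simp [Fin.consLinearEquiv]
    · simp [Fin.consLinearEquiv]

end Groth.Agent.H91.LatQuot
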