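import Groth.Agent.H91.LatQuot

/-!
# The lattice quotient for a multiple of the first basis vector (helper91)
-/

namespace Groth.Agent.H91.LatQuot

open Finset

/-- evaluation at the standard basis. -/
def evEquiv (r : ℕ) (δ : ℕ) : ((Fin r → ℤ) →+ ZMod δ) ≃+ (Fin r → ZMod δ) where
  toFun φ i := φ (Pi.single i 1)
  invFun w :=
    { toFun := fun x => ∑ i, x i • w i
      map_zero' := by simp
      map_add' := by intro x y; simp [add_smul, Finset.sum_add_distrib] }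
  left_inv φ := by
    refine AddMonoidHom.functions_ext _ _ _ fun i x => ?_
    show ∑ j, (Pi.single i x : Fin r → ℤ) j • φ (Pi.single j 1) = φ (Pi.single i x)
    rw [Finset.sum_eq_single i]
    · rw [Pi.single_eq_same, ← map_zsmul]
      congr 1
      rw [← Pi.single_smul]
      simp
    · intro j _ hj
      rw [Pi.single_eq_of_ne hj, zero_smul]
    · intro h; exact absurd (Finset.mem_univ _) h
  right_inv w := by
    funext i
    show ∑ j, (Pi.single i (1 : ℤ) : Fin r → ℤ) j • w j = w i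
    rw [Finset.sum_eq_single i]
    · rw [Pi.single_eq_same, one_smul]
    · intro j _ hj
      rw [Pi.single_eq_of_ne hj, zero_smul]
    · intro h; exact absurd (Finset.mem_univ _) h
  map_add' φ ψ := by funext i; rfl

@[simp] theorem evEquiv_apply (r δ : ℕ) (φ : (Fin r → ℤ) →+ ZMod δ) (i : Fin r) :
    evEquiv r δ φ i = φ (Pi.single i 1) := rfl

/-! ### multiples in `ZMod δ` -/

theorem gcd_dvd_nat (δ : ℕ) (a : ℤ) : Int.gcd δ a ∣ δ := by
  have := Int.gcd_dvd_left (δ : ℤ) a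
  exact Int.natCast_dvd_natCast.mp this

theorem exists_mul_iff (δ : ℕ) (a : ℤ) (z : ZMod δ) :
    (∃ t : ℤ, z = ((a * t : ℤ) : ZMod δ)) ↔
      ZMod.castHom (gcd_dvd_nat δ a) (ZMod (Int.gcd δ a)) z = 0 := by
  obtain ⟨w, rfl⟩ := ZMod.intCast_surjective z
  rw [map_intCast, ZMod.intCast_zmod_eq_zero_iff_dvd]
  constructor
  · rintro ⟨t, ht⟩
    have h1 : (δ : ℤ) ∣ a * t - w := (ZMod.intCast_eq_intCast_iff_dvd_sub _ _ _).mp ht
    have h2 : (Int.gcd δ a : ℤ) ∣ a * t - w := (Int.gcd_dvd_left _ _).trans h1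
    have h3 : (Int.gcd δ a : ℤ) ∣ a * t := (Int.gcd_dvd_right _ _).mul_right t
    have := dvd_sub h3 h2
    simpa using this
  · rintro ⟨w', hw'⟩
    refine ⟨Int.gcdB δ a * w', ?_⟩
    rw [ZMod.intCast_eq_intCast_iff_dvd_sub]
    have hb := Int.gcd_eq_gcd_ab (δ : ℤ) a
    refine ⟨-(Int.gcdA δ a * w'), ?_⟩
    rw [hw', hb]
    ring


theorem exists_mul2_iff (δ : ℕ) (g D : ℤ) (z : ZMod δ) :
    (∃ s u : ℤ, z = ((D * s + (1 - g) * u : ℤ) : ZMod δ)) ↔
      ZMod.castHom (gcd_dvd_nat δ (Int.gcd (g - 1) D)) (ZMod (Int.gcd δ (Int.gcd (g - 1) D))) z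
        = 0 := by
  rw [← exists_mul_iff]
  obtain ⟨D', hD'⟩ := Int.gcd_dvd_right (g - 1) D
  obtain ⟨G', hG'⟩ := Int.gcd_dvd_left (g - 1) D
  constructor
  · rintro ⟨s, u, rfl⟩
    refine ⟨D' * s - G' * u, ?_⟩
    congr 1
    linear_combination s * hD' - u * hG'
  · rintro ⟨t, rfl⟩
    refine ⟨Int.gcdB (g - 1) D * t, -(Int.gcdA (g - 1) D * t), ?_⟩
    congr 1
    rw [Int.gcd_eq_gcd_ab (g - 1) D]
    ring

variable {k : ℕ} (δ : ℕ) (g : ℤ)

/-- the condition on values at the standard basis. -/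
def Cond (D : ℤ) (φ : (Fin (k + 1) → ℤ) →+ ZMod δ) : Prop :=
  (∃ t : ℤ, φ (Pi.single 0 1) = (((D + 1 - g) * t : ℤ) : ZMod δ)) ∧
    ∀ j : Fin k, ∃ s u : ℤ, φ (Pi.single j.succ 1) = ((D * s + (1 - g) * u : ℤ) : ZMod δ)

/-- the subgroup cut out by `Cond`. -/
def condSubgroup (D : ℤ) : AddSubgroup ((Fin (k + 1) → ℤ) →+ ZMod δ) where
  carrier := {φ | Cond δ g D φ}
  zero_mem' := by
    refine ⟨⟨0, by simp⟩, fun j => ⟨0, 0, by simp⟩⟩
  add_mem' := by
    rintro φ ψ ⟨⟨t, ht⟩, h2⟩ ⟨⟨t', ht'⟩, h2'⟩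
    refine ⟨⟨t + t', ?_⟩, fun j => ?_⟩
    · rw [AddMonoidHom.add_apply, ht, ht']
      push_cast; ring
    · obtain ⟨s, u, h⟩ := h2 j
      obtain ⟨s', u', h'⟩ := h2' j
      refine ⟨s + s', u + u', ?_⟩
      rw [AddMonoidHom.add_apply, h, h']
      push_cast; ring
  neg_mem' := by
    rintro φ ⟨⟨t, ht⟩, h2⟩
    refine ⟨⟨-t, ?_⟩, fun j => ?_⟩
    · rw [AddMonoidHom.neg_apply, ht]
      push_cast; ring
    · obtain ⟨s, u, h⟩ := h2 j
      refine ⟨-s, -u, ?_⟩
      rw [AddMonoidHom.neg_apply, h]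
      push_cast; ring

theorem single_eq_smul (D : ℤ) :
    (Pi.single 0 D : Fin (k + 1) → ℤ) = D • Pi.single 0 1 := by
  rw [← Pi.single_smul]; simp

theorem Sset_le_cond (D : ℤ) :
    ∀ φ ∈ Sset δ g (Pi.single 0 D : Fin (k + 1) → ℤ), φ ∈ condSubgroup δ g D := by
  rintro φ ⟨b, hb, h⟩
  refine ⟨⟨b (Pi.single 0 1) (Pi.single 0 1), ?_⟩, fun j => ?_⟩
  · rw [h, single_eq_smul, map_smul, LinearMap.smul_apply, smul_eq_mul]
    congr 1; ring
  · refine ⟨b (Pi.single 0 1) (Pi.single j.succ 1), b (Pi.single j.succ 1) (Pi.single j.succ 1), ?_⟩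
    rw [h, single_eq_smul, map_smul, LinearMap.smul_apply, smul_eq_mul]

/-- the symmetric matrix with prescribed first row and diagonal. -/
def symMat (t : ℤ) (s u : Fin k → ℤ) : Matrix (Fin (k + 1)) (Fin (k + 1)) ℤ :=
  fun i j => Fin.cases (Fin.cases t (fun j' => s j') j)
    (fun i' => Fin.cases (s i') (fun j' => if i' = j' then u i' else 0) j) i

theorem symMat_isSymm (t : ℤ) (s u : Fin k → ℤ) : (symMat t s u).IsSymm := by
  ext i j
  rw [Matrix.transpose_apply]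
  refine Fin.cases ?_ (fun i' => ?_) i <;> refine Fin.cases ?_ (fun j' => ?_) j
  · rfl
  · simp [symMat]
  · simp [symMat]
  · simp only [symMat, Fin.cases_succ]
    by_cases h : i' = j'
    · subst h; simp
    · rw [if_neg h, if_neg (Ne.symm h)]

theorem cond_le_Sset (hδ : (δ : ℤ) ∣ 2 * (g - 1)) (D : ℤ)
    {φ : (Fin (k + 1) → ℤ) →+ ZMod δ} (hφ : Cond δ g D φ) :
    φ ∈ Sset δ g (Pi.single 0 D : Fin (k + 1) → ℤ) := by
  obtain ⟨⟨t, ht⟩, h2⟩ := hφ
  choose s u hsu using h2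
  set b := Matrix.toBilin' (symMat t s u) with hb
  have hsymm : b.IsSymm := Matrix.isSymm_toBilin'_iff_isSymm.mpr (symMat_isSymm t s u)
  have hφb : φ = phiB δ g hδ (Pi.single 0 D) b hsymm := by
    refine AddMonoidHom.functions_ext _ _ _ fun i x => ?_
    have hx : (Pi.single i x : Fin (k + 1) → ℤ) = x • Pi.single i 1 := by
      rw [← Pi.single_smul]; simp
    rw [hx, map_zsmul, map_zsmul]
    congr 1
    show φ (Pi.single i 1) = ((b (Pi.single 0 D) (Pi.single i 1) +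
      (1 - g) * b (Pi.single i 1) (Pi.single i 1) : ℤ) : ZMod δ)
    rw [single_eq_smul, map_smul, LinearMap.smul_apply, smul_eq_mul, hb,
      Matrix.toBilin'_single, Matrix.toBilin'_single]
    refine Fin.cases ?_ (fun j => ?_) i
    · rw [ht]
      congr 1
      simp only [symMat, Fin.cases_zero]
      ring
    · rw [hsu j]
      congr 1
      simp [symMat]
  rw [hφb]
  exact phiB_mem δ g hδ _ b hsymm

theorem closure_eq_cond (hδ : (δ : ℤ) ∣ 2 * (g - 1)) (D : ℤ) :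
    AddSubgroup.closure (Sset δ g (Pi.single 0 D : Fin (k + 1) → ℤ)) = condSubgroup δ g D := by
  apply le_antisymm
  · rw [AddSubgroup.closure_le]
    exact fun φ hφ => Sset_le_cond δ g D φ hφ
  · intro φ hφ
    exact AddSubgroup.subset_closure (cond_le_Sset δ g hδ D hφ)

end Groth.Agent.H91.LatQuot
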