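import Groth.Agent.H91.LatCore

/-!
# The quotient and the subgroup for a multiple of the first basis vector (helper91)
-/

namespace Groth.Agent.H91.LatQuot

open Finset

variable {k : ℕ} (δ : ℕ) (g : ℤ)

/-- reduction of coordinates. -/
def thetaCoord (D : ℤ) : (Fin (k + 1) → ZMod δ) →+
    ZMod (Int.gcd δ (D + 1 - g)) × (Fin k → ZMod (Int.gcd δ (Int.gcd (g - 1) D))) where
  toFun w := (ZMod.castHom (gcd_dvd_nat δ (D + 1 - g)) _ (w 0),
    fun j => ZMod.castHom (gcd_dvd_nat δ (Int.gcd (g - 1) D)) _ (w j.succ))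
  map_zero' := by
    refine Prod.ext ?_ (funext fun j => ?_) <;> simp
  map_add' x y := by
    refine Prod.ext ?_ (funext fun j => ?_)
    · exact map_add (ZMod.castHom (gcd_dvd_nat δ (D + 1 - g)) _) (x 0) (y 0)
    · exact map_add (ZMod.castHom (gcd_dvd_nat δ (Int.gcd (g - 1) D)) _) (x j.succ) (y j.succ)

theorem thetaCoord_surjective (D : ℤ) : Function.Surjective (thetaCoord (k := k) δ g D) := by
  rintro ⟨a, v⟩
  obtain ⟨a', ha'⟩ := ZMod.castHom_surjective (gcd_dvd_nat δ (D + 1 - g)) a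
  have hv := fun j => ZMod.castHom_surjective (gcd_dvd_nat δ (Int.gcd (g - 1) D)) (v j)
  choose v' hv' using hv
  refine ⟨Fin.cons a' v', Prod.ext ?_ (funext fun j => ?_)⟩
  · simpa [thetaCoord] using ha'
  · simpa [thetaCoord] using hv' j

/-- the reduction map on homomorphisms. -/
def theta (D : ℤ) : ((Fin (k + 1) → ℤ) →+ ZMod δ) →+
    ZMod (Int.gcd δ (D + 1 - g)) × (Fin k → ZMod (Int.gcd δ (Int.gcd (g - 1) D))) :=
  (thetaCoord δ g D).comp (evEquiv (k + 1) δ).toAddMonoidHom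

theorem theta_surjective (D : ℤ) : Function.Surjective (theta (k := k) δ g D) :=
  (thetaCoord_surjective δ g D).comp (evEquiv (k + 1) δ).surjective

theorem ker_theta (D : ℤ) : (theta (k := k) δ g D).ker = condSubgroup δ g D := by
  ext φ
  rw [AddMonoidHom.mem_ker]
  show thetaCoord δ g D (evEquiv (k + 1) δ φ) = 0 ↔ Cond δ g D φ
  unfold Cond
  rw [exists_mul_iff]
  simp only [exists_mul2_iff]
  rw [Prod.ext_iff]
  simp only [thetaCoord, AddMonoidHom.coe_mk, ZeroHom.coe_mk, evEquiv_apply, Prod.fst_zero,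
    Prod.snd_zero]
  rw [funext_iff]
  rfl

/-- the quotient for `d = D e₀`. -/
theorem quot_single (hδ : (δ : ℤ) ∣ 2 * (g - 1)) (D : ℤ) :
    Nonempty ((((Fin (k + 1) → ℤ) →+ ZMod δ) ⧸
        AddSubgroup.closure (Sset δ g (Pi.single 0 D : Fin (k + 1) → ℤ))) ≃+
      (ZMod (Int.gcd δ (D + 1 - g)) × (Fin k → ZMod (Int.gcd δ (Int.gcd (g - 1) D))))) := by
  have h : AddSubgroup.closure (Sset δ g (Pi.single 0 D : Fin (k + 1) → ℤ)) =
      (theta δ g D).ker := (closure_eq_cond δ g hδ D).trans (ker_theta δ g D).symm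
  exact ⟨(QuotientAddGroup.quotientAddEquivOfEq h).trans
    (QuotientAddGroup.quotientKerEquivOfSurjective _ (theta_surjective δ g D))⟩

end Groth.Agent.H91.LatQuot
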