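import Groth.Agent.H91.LatBasis

/-!
# The lattice quotient attached to symmetric bilinear forms (helper91)
-/

namespace Groth.Agent.H91.LatQuot

open Finset

variable {r : ℕ} (δ : ℕ) (g : ℤ)

/-- the generating set of the subgroup. -/
def Sset (d : Fin r → ℤ) : Set ((Fin r → ℤ) →+ ZMod δ) :=
  {φ | ∃ b : LinearMap.BilinForm ℤ (Fin r → ℤ), b.IsSymm ∧
      ∀ x, φ x = ((b d x + (1 - g) * b x x : ℤ) : ZMod δ)}

/-- the additive map attached to a symmetric form. -/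
def phiB (hδ : (δ : ℤ) ∣ 2 * (g - 1)) (d : Fin r → ℤ)
    (b : LinearMap.BilinForm ℤ (Fin r → ℤ)) (hb : b.IsSymm) : (Fin r → ℤ) →+ ZMod δ where
  toFun x := ((b d x + (1 - g) * b x x : ℤ) : ZMod δ)
  map_zero' := by simp
  map_add' x y := by
    have h : ((2 * (g - 1) * b x y : ℤ) : ZMod δ) = 0 := by
      rw [ZMod.intCast_zmod_eq_zero_iff_dvd]
      exact Dvd.dvd.mul_right hδ _
    have e : b d (x + y) + (1 - g) * b (x + y) (x + y) =
        (b d x + (1 - g) * b x x) + (b d y + (1 - g) * b y y) - 2 * (g - 1) * b x y := by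
      simp only [map_add, LinearMap.add_apply]
      rw [hb.eq y x]
      ring
    rw [e, Int.cast_sub, h, sub_zero, Int.cast_add]

theorem phiB_mem (hδ : (δ : ℤ) ∣ 2 * (g - 1)) (d : Fin r → ℤ)
    (b : LinearMap.BilinForm ℤ (Fin r → ℤ)) (hb : b.IsSymm) :
    phiB δ g hδ d b hb ∈ Sset δ g d :=
  ⟨b, hb, fun _ => rfl⟩

/-- precomposition with the inverse of a linear automorphism. -/
def precomp (A : (Fin r → ℤ) ≃ₗ[ℤ] (Fin r → ℤ)) :
    ((Fin r → ℤ) →+ ZMod δ) ≃+ ((Fin r → ℤ) →+ ZMod δ) where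
  toFun φ := φ.comp A.symm.toLinearMap.toAddMonoidHom
  invFun φ := φ.comp A.toLinearMap.toAddMonoidHom
  left_inv φ := by ext x; simp
  right_inv φ := by ext x; simp
  map_add' φ ψ := by ext x; simp

theorem precomp_mem (A : (Fin r → ℤ) ≃ₗ[ℤ] (Fin r → ℤ)) (d : Fin r → ℤ)
    {φ : (Fin r → ℤ) →+ ZMod δ} (hφ : φ ∈ Sset δ g d) :
    precomp δ A φ ∈ Sset δ g (A d) := by
  obtain ⟨b, hb, h⟩ := hφ
  refine ⟨b.comp A.symm.toLinearMap A.symm.toLinearMap, ⟨fun x y => hb.eq _ _⟩, fun x => ?_⟩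
  show φ (A.symm x) = _
  rw [h]
  simp

theorem precomp_image (A : (Fin r → ℤ) ≃ₗ[ℤ] (Fin r → ℤ)) (d : Fin r → ℤ) :
    (precomp δ A) '' (Sset δ g d) = Sset δ g (A d) := by
  ext ψ
  constructor
  · rintro ⟨φ, hφ, rfl⟩
    exact precomp_mem δ g A d hφ
  · intro hψ
    refine ⟨precomp δ A.symm ψ, ?_, ?_⟩
    · have := precomp_mem δ g A.symm (A d) hψ
      rwa [LinearEquiv.symm_apply_apply] at this
    · ext x
      simp [precomp]

theorem map_closure_precomp (A : (Fin r → ℤ) ≃ₗ[ℤ] (Fin r → ℤ)) (d : Fin r → ℤ) :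
    AddSubgroup.map (precomp δ A : ((Fin r → ℤ) →+ ZMod δ) →+ _)
      (AddSubgroup.closure (Sset δ g d)) = AddSubgroup.closure (Sset δ g (A d)) := by
  rw [AddMonoidHom.map_closure]
  congr 1
  exact precomp_image δ g A d

/-- transport of the quotient. -/
noncomputable def quotCongr (A : (Fin r → ℤ) ≃ₗ[ℤ] (Fin r → ℤ)) (d : Fin r → ℤ) :
    (((Fin r → ℤ) →+ ZMod δ) ⧸ AddSubgroup.closure (Sset δ g d)) ≃+
      (((Fin r → ℤ) →+ ZMod δ) ⧸ AddSubgroup.closure (Sset δ g (A d))) :=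
  QuotientAddGroup.congr _ _ (precomp δ A) (map_closure_precomp δ g A d)

/-- transport of the subgroup. -/
noncomputable def subCongr (A : (Fin r → ℤ) ≃ₗ[ℤ] (Fin r → ℤ)) (d : Fin r → ℤ) :
    AddSubgroup.closure (Sset δ g d) ≃+ AddSubgroup.closure (Sset δ g (A d)) :=
  ((precomp δ A).addSubgroupMap _).trans
    (AddEquiv.addSubgroupCongr (map_closure_precomp δ g A d))

end Groth.Agent.H91.LatQuot
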