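import Groth.Agent.H91.LatMain

/-!
# The subgroup itself (helper91)
-/

namespace Groth.Agent.H91.LatQuot

open Finset

/-- multiplication by `n` as a map `ZMod (δ / n) →+ ZMod δ`. -/
def mulHom (δ n : ℕ) (hn : n ∣ δ) : ZMod (δ / n) →+ ZMod δ :=
  ZMod.lift (δ / n) ⟨(Int.castAddHom (ZMod δ)).comp (AddMonoidHom.mulLeft (n : ℤ)), by
    show (((n : ℤ) * ((δ / n : ℕ) : ℤ) : ℤ) : ZMod δ) = 0
    rw [← Nat.cast_mul, Nat.mul_div_cancel' hn]
    simp⟩

theorem mulHom_intCast (δ n : ℕ) (hn : n ∣ δ) (m : ℤ) :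
    mulHom δ n hn (m : ZMod (δ / n)) = (((n : ℤ) * m : ℤ) : ZMod δ) := by
  unfold mulHom
  rw [ZMod.lift_coe]
  rfl

theorem mulHom_injective (δ n : ℕ) (hδ0 : 0 < δ) (hn : n ∣ δ) :
    Function.Injective (mulHom δ n hn) := by
  unfold mulHom
  rw [ZMod.lift_injective]
  intro m hm
  have hm' : (((n : ℤ) * m : ℤ) : ZMod δ) = 0 := hm
  rw [ZMod.intCast_zmod_eq_zero_iff_dvd] at hm' ⊢
  have hnpos : 0 < n := Nat.pos_of_dvd_of_pos hn hδ0
  have hδ : (δ : ℤ) = (n : ℤ) * ((δ / n : ℕ) : ℤ) := by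
    rw [← Nat.cast_mul, Nat.mul_div_cancel' hn]
  rw [hδ] at hm'
  exact (mul_dvd_mul_iff_left (by exact_mod_cast hnpos.ne')).mp hm'

theorem mem_range_mulHom (δ n : ℕ) (hn : n ∣ δ) (z : ZMod δ) :
    z ∈ (mulHom δ n hn).range ↔ ZMod.castHom hn (ZMod n) z = 0 := by
  constructor
  · rintro ⟨y, rfl⟩
    obtain ⟨m, rfl⟩ := ZMod.intCast_surjective y
    rw [mulHom_intCast, map_intCast]
    push_cast
    simp
  · intro hz
    obtain ⟨w, rfl⟩ := ZMod.intCast_surjective z
    rw [map_intCast, ZMod.intCast_zmod_eq_zero_iff_dvd] at hz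
    obtain ⟨w', rfl⟩ := hz
    exact ⟨(w' : ZMod (δ / n)), mulHom_intCast δ n hn w'⟩

variable {k : ℕ} (δ : ℕ) (g : ℤ)

/-- the parametrisation of the kernel of `thetaCoord`. -/
def psiCoord (D : ℤ) :
    (ZMod (δ / Int.gcd δ (D + 1 - g)) × (Fin k → ZMod (δ / Int.gcd δ (Int.gcd (g - 1) D)))) →+
      (Fin (k + 1) → ZMod δ) where
  toFun p := Fin.cons (mulHom δ _ (gcd_dvd_nat δ (D + 1 - g)) p.1)
    (fun j => mulHom δ _ (gcd_dvd_nat δ (Int.gcd (g - 1) D)) (p.2 j))
  map_zero' := by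
    funext i
    refine Fin.cases ?_ (fun j => ?_) i <;> simp
  map_add' p q := by
    funext i
    refine Fin.cases ?_ (fun j => ?_) i <;> simp

theorem psiCoord_injective (hδ0 : 0 < δ) (D : ℤ) :
    Function.Injective (psiCoord (k := k) δ g D) := by
  intro p q h
  have h0 := congrFun h 0
  have hs := fun j : Fin k => congrFun h j.succ
  simp only [psiCoord, AddMonoidHom.coe_mk, ZeroHom.coe_mk, Fin.cons_zero, Fin.cons_succ]
    at h0 hs
  refine Prod.ext (mulHom_injective δ _ hδ0 _ h0) (funext fun j => ?_)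
  exact mulHom_injective δ _ hδ0 _ (hs j)

theorem range_psiCoord (D : ℤ) :
    (psiCoord (k := k) δ g D).range = (thetaCoord δ g D).ker := by
  ext w
  rw [AddMonoidHom.mem_ker]
  constructor
  · rintro ⟨p, rfl⟩
    refine Prod.ext ?_ (funext fun j => ?_)
    · show ZMod.castHom _ _ _ = 0
      rw [← mem_range_mulHom]
      exact ⟨p.1, by simp [psiCoord]⟩
    · show ZMod.castHom _ _ _ = 0
      rw [← mem_range_mulHom]
      exact ⟨p.2 j, by simp [psiCoord]⟩
  · intro h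
    have h1 : ZMod.castHom (gcd_dvd_nat δ (D + 1 - g)) (ZMod (Int.gcd δ (D + 1 - g))) (w 0) = 0 :=
      congrArg Prod.fst h
    have h2 : ∀ j : Fin k,
        ZMod.castHom (gcd_dvd_nat δ (Int.gcd (g - 1) D))
          (ZMod (Int.gcd δ (Int.gcd (g - 1) D))) (w j.succ) = 0 :=
      fun j => congrFun (congrArg Prod.snd h) j
    rw [← mem_range_mulHom] at h1
    obtain ⟨a, ha⟩ := h1
    have h2' := fun j => (mem_range_mulHom δ _ (gcd_dvd_nat δ (Int.gcd (g - 1) D)) _).mpr (h2 j)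
    choose v hv using h2'
    refine ⟨(a, v), ?_⟩
    funext i
    refine Fin.cases ?_ (fun j => ?_) i
    · simpa [psiCoord] using ha
    · simpa [psiCoord] using hv j

/-- the subgroup for `d = D e₀`. -/
theorem sub_single (hδ0 : 0 < δ) (hδ : (δ : ℤ) ∣ 2 * (g - 1)) (D : ℤ) :
    Nonempty (AddSubgroup.closure (Sset δ g (Pi.single 0 D : Fin (k + 1) → ℤ)) ≃+
      (ZMod (δ / Int.gcd δ (D + 1 - g)) ×
        (Fin k → ZMod (δ / Int.gcd δ (Int.gcd (g - 1) D))))) := by
  have h : AddSubgroup.closure (Sset δ g (Pi.single 0 D : Fin (k + 1) → ℤ)) =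
      (theta δ g D).ker := (closure_eq_cond δ g hδ D).trans (ker_theta δ g D).symm
  have h2 : AddSubgroup.map (evEquiv (k + 1) δ).toAddMonoidHom (theta δ g D).ker =
      (thetaCoord δ g D).ker := by
    have : (theta δ g D).ker =
        AddSubgroup.comap (evEquiv (k + 1) δ).toAddMonoidHom (thetaCoord δ g D).ker := by
      rw [AddMonoidHom.comap_ker]
      rfl
    rw [this]
    exact AddSubgroup.map_comap_eq_self_of_surjective (evEquiv (k + 1) δ).surjective _
  have e1 := AddEquiv.addSubgroupCongr h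
  have e2 := (evEquiv (k + 1) δ).addSubgroupMap (theta δ g D).ker
  have e3 := AddEquiv.addSubgroupCongr h2
  have e4 := AddEquiv.addSubgroupCongr (range_psiCoord (k := k) δ g D).symm
  have e5 := AddMonoidHom.ofInjective (psiCoord_injective (k := k) δ g hδ0 D)
  exact ⟨(((e1.trans e2).trans e3).trans e4).trans e5.symm⟩

end Groth.Agent.H91.LatQuot
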