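import Mathlib

/-!
Helper lemmas on kernels of localization maps `M/πM → (M/πM)_𝔓` at minimal primes over `(π)`.
-/

set_option autoImplicit false
universe u v

namespace Groth.Agent.H91

variable {A : Type u} [CommRing A]

lemma mem_span_smul_top {M : Type v} [AddCommGroup M] [Module A M] (π : A) (x : M) :
    x ∈ Ideal.span {π} • (⊤ : Submodule A M) ↔ ∃ m' : M, π • m' = x := by
  rw [Submodule.ideal_span_singleton_smul, Submodule.mem_smul_pointwise_iff_exists]
  simp

/-- The "dies at all primes in `T`" predicate, elementwise form. -/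
lemma mkQ_mem_iInf_ker_iff {M : Type v} [AddCommGroup M] [Module A M] (π : A)
    {ι : Type*} (𝔓 : ι → Ideal A) [∀ i, (𝔓 i).IsPrime] (T : Set ι) (m : M) :
    Submodule.mkQ (Ideal.span {π} • (⊤ : Submodule A M)) m ∈
      (⨅ i ∈ T, LinearMap.ker (LocalizedModule.mkLinearMap (𝔓 i).primeCompl
        (M ⧸ Ideal.span {π} • (⊤ : Submodule A M)))) ↔
    ∀ i ∈ T, ∃ s : A, s ∉ 𝔓 i ∧ ∃ m' : M, π • m' = s • m := by
  simp only [Submodule.mem_iInf, LocalizedModule.mem_ker_mkLinearMap_iff]
  refine forall₂_congr fun i _ => ?_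
  constructor
  · rintro ⟨s, hs, h⟩
    refine ⟨s, hs, ?_⟩
    rw [← map_smul, Submodule.mkQ_apply, Submodule.Quotient.mk_eq_zero, mem_span_smul_top] at h
    exact h
  · rintro ⟨s, hs, h⟩
    refine ⟨s, hs, ?_⟩
    rw [← map_smul, Submodule.mkQ_apply, Submodule.Quotient.mk_eq_zero, mem_span_smul_top]
    exact h

/-- Key lemma: an element of a minimal prime over `I` has a power which lands in `I`
after multiplication by an element outside the prime. -/
lemma exists_mul_pow_mem_of_mem_minimalPrimes {I p : Ideal A} (hp : p ∈ I.minimalPrimes)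
    {x : A} (hx : x ∈ p) : ∃ (n : ℕ) (u : A), u ∉ p ∧ u * x ^ n ∈ I := by
  have hpp : p.IsPrime := hp.isPrime
  have hrad := IsLocalization.AtPrime.radical_map_of_mem_minimalPrimes
    (A := Localization.AtPrime p) p I hp
  have hx' : algebraMap A (Localization.AtPrime p) x ∈
      (I.map (algebraMap A (Localization.AtPrime p))).radical := by
    rw [hrad]; exact Ideal.mem_map_of_mem _ hx
  obtain ⟨n, hn⟩ := hx'
  rw [IsLocalization.mem_map_algebraMap_iff (M := p.primeCompl)] at hn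
  obtain ⟨⟨a, b⟩, hn⟩ := hn
  rw [← map_pow, ← map_mul, IsLocalization.eq_iff_exists p.primeCompl] at hn
  obtain ⟨t, ht⟩ := hn
  simp only at ht
  refine ⟨n, t * b, (t * b).2, ?_⟩
  have : (t * b : A) * x ^ n = t * a := by
    rw [← ht]; ring
  rw [this]
  exact I.mul_mem_left _ a.2

/-- For distinct minimal primes over `(π)`: an element outside `𝔓 i` which is locally in `(π)` at
all `𝔓 j`, `j ∈ Y`, when `i ∉ Y`. -/
lemma exists_notMem_forall_mul_mem (π : A) {ι : Type*} (𝔓 : ι → Ideal A) [∀ i, (𝔓 i).IsPrime]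
    (h𝔓 : ∀ i, 𝔓 i ∈ (Ideal.span {π}).minimalPrimes) (h𝔓inj : Function.Injective 𝔓)
    (i : ι) (Y : Set ι) (hY : Y.Finite) (hi : i ∉ Y) :
    ∃ s : A, s ∉ 𝔓 i ∧ ∀ j ∈ Y, ∃ u : A, u ∉ 𝔓 j ∧ u * s ∈ Ideal.span {π} := by
  induction Y, hY using Set.Finite.induction_on with
  | empty => exact ⟨1, (Ideal.ne_top_iff_one _).mp (Ideal.IsPrime.ne_top inferInstance), by simp⟩
  | @insert j Y' hj hfin ih =>
    have hij : i ≠ j := fun h => hi (h ▸ Set.mem_insert _ _)
    obtain ⟨s', hs', H'⟩ := ih (fun h => hi (Set.mem_insert_of_mem _ h))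
    have hnle : ¬ 𝔓 j ≤ 𝔓 i := by
      intro hle
      have := (h𝔓 i).2 ⟨inferInstance, (h𝔓 j).1.2⟩ hle
      exact hij (h𝔓inj (le_antisymm this hle))
    obtain ⟨x, hxj, hxi⟩ := SetLike.not_le_iff_exists.mp hnle
    obtain ⟨n, u, hu, hux⟩ := exists_mul_pow_mem_of_mem_minimalPrimes (h𝔓 j) hxj
    refine ⟨x ^ n * s', ?_, ?_⟩
    · intro hmem
      rcases Ideal.IsPrime.mem_or_mem inferInstance hmem with h | h
      · exact hxi (Ideal.IsPrime.mem_of_pow_mem inferInstance n h)
      · exact hs' h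
    · intro k hk
      rcases Set.mem_insert_iff.mp hk with rfl | hk
      · refine ⟨u, hu, ?_⟩
        rw [← mul_assoc]
        exact Ideal.mul_mem_right _ _ hux
      · obtain ⟨u', hu', H⟩ := H' k hk
        refine ⟨u', hu', ?_⟩
        have : u' * (x ^ n * s') = x ^ n * (u' * s') := by ring
        rw [this]
        exact Ideal.mul_mem_left _ _ H

end Groth.Agent.H91
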