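import Groth.Agent.H91.SmoothKer

/-!
# Smooth monoid algebras of sharp monoids are polynomial algebras

Let `π : (σ →₀ ℕ) →+ N` be a surjection such that `π a = 0 → a = 0` and the images of the unit
vectors have no other representation.  If `R[N]` is formally smooth over `R` then
`R[σ →₀ ℕ] = MvPolynomial σ R → R[N]` is injective.
-/

namespace Groth.Agent.H91.MonAlgSmooth

open TensorProduct KaehlerDifferential MvPolynomial

/-- Kernel of `Finsupp.mapDomain f` for surjective `f`: spanned by differences of basis vectors with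
the same image. -/
theorem mem_span_of_mapDomain_eq_zero {M N R : Type*} [Ring R] (f : M → N)
    (hf : Function.Surjective f) (p : M →₀ R) (hp : Finsupp.mapDomain f p = 0) :
    p ∈ Submodule.span R {q : M →₀ R | ∃ a b, f a = f b ∧
      q = Finsupp.single a 1 - Finsupp.single b 1} := by
  classical
  obtain ⟨s, hs⟩ := hf.hasRightInverse
  have h0 : Finsupp.mapDomain (s ∘ f) p = 0 := by
    rw [Finsupp.mapDomain_comp, hp, Finsupp.mapDomain_zero]
  have h1 : p = p.sum (fun a r => Finsupp.single a r - Finsupp.single (s (f a)) r) := by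
    rw [Finsupp.sum_sub, Finsupp.sum_single]
    have : (p.sum fun a r => Finsupp.single (s (f a)) r) = Finsupp.mapDomain (s ∘ f) p := rfl
    rw [this, h0, sub_zero]
  rw [h1]
  refine Submodule.sum_mem _ fun a _ => ?_
  beta_reduce
  have h2 : Finsupp.single a (p a) - Finsupp.single (s (f a)) (p a) =
      (p a) • (Finsupp.single a (1 : R) - Finsupp.single (s (f a)) 1) := by
    rw [smul_sub, Finsupp.smul_single, Finsupp.smul_single, smul_eq_mul, mul_one]
  rw [h2]
  exact Submodule.smul_mem _ _ (Submodule.subset_span ⟨a, s (f a), (hs (f a)).symm, rfl⟩)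

/-- The same for `AddMonoidAlgebra`. -/
theorem mem_span_of_mapDomain_eq_zero' {M N R : Type*} [Ring R] (f : M → N)
    (hf : Function.Surjective f) (p : AddMonoidAlgebra R M)
    (hp : AddMonoidAlgebra.mapDomain f p = 0) :
    p ∈ Submodule.span R {q : AddMonoidAlgebra R M | ∃ a b, f a = f b ∧
      q = AddMonoidAlgebra.single a 1 - AddMonoidAlgebra.single b 1} := by
  have h0 : Finsupp.mapDomain f p.coeff = 0 := by
    have := congrArg AddMonoidAlgebra.coeff hp
    simpa [AddMonoidAlgebra.mapDomain] using this
  have h1 := mem_span_of_mapDomain_eq_zero f hf p.coeff h0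
  have h2 := Submodule.apply_mem_span_image_of_mem_span
    ((AddMonoidAlgebra.coeffLinearEquiv (M := M) (S := R) R).symm.toLinearMap) h1
  have h3 : (AddMonoidAlgebra.coeffLinearEquiv (M := M) (S := R) R).symm.toLinearMap p.coeff = p :=
    rfl
  rw [h3] at h2
  refine Submodule.span_mono ?_ h2
  rintro _ ⟨q, ⟨a, b, hab, rfl⟩, rfl⟩
  exact ⟨a, b, hab, rfl⟩

theorem mapDomain_surjective' {M N R : Type*} [Semiring R] (f : M → N)
    (hf : Function.Surjective f) :
    Function.Surjective (AddMonoidAlgebra.mapDomain (R := R) f) := by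
  intro y
  obtain ⟨x, hx⟩ := Finsupp.mapDomain_surjective hf y.coeff
  exact ⟨AddMonoidAlgebra.ofCoeff x, by rw [AddMonoidAlgebra.mapDomain]; simp [hx]⟩

variable {R : Type*} [CommRing R] {σ : Type*}

theorem monomial_mem_idealOfVars (a : σ →₀ ℕ) (ha : a ≠ 0) (c : R) :
    monomial a c ∈ idealOfVars σ R := by
  classical
  rw [← pow_one (idealOfVars σ R), mem_pow_idealOfVars_iff']
  intro x hx
  have hx0 : x = 0 := by
    have : Finsupp.degree x = 0 := by omega
    exact (Finsupp.degree_eq_zero_iff x).mp this
  rw [coeff_monomial, if_neg]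
  rw [hx0]; exact ha

theorem eq_zero_of_forall_mem_pow (p : MvPolynomial σ R)
    (h : ∀ n, p ∈ idealOfVars σ R ^ n) : p = 0 := by
  ext x
  rw [coeff_zero]
  exact (mem_pow_idealOfVars_iff' (Finsupp.degree x + 1) p).mp (h _) x (Nat.lt_succ_self _)

theorem sub_single_ne_zero (a : σ →₀ ℕ) (i : σ) (hi : a i ≠ 0)
    (ha : a ≠ Finsupp.single i 1) : a - Finsupp.single i 1 ≠ 0 := by
  classical
  intro h
  apply ha
  rw [tsub_eq_zero_iff_le] at h
  ext j
  have hj := h j
  by_cases hji : j = i
  · subst hji
    simp only [Finsupp.single_eq_same] at hj ⊢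
    omega
  · rw [Finsupp.single_eq_of_ne hji] at hj ⊢
    omega

theorem tmul_D_monomial_mem {A : Type*} [CommRing A] [Algebra R A] [Algebra (MvPolynomial σ R) A]
    [IsScalarTower R (MvPolynomial σ R) A] (a : σ →₀ ℕ) (ha : ∀ i, a ≠ Finsupp.single i 1) :
    (1 : A) ⊗ₜ[MvPolynomial σ R] KaehlerDifferential.D R (MvPolynomial σ R) (monomial a 1) ∈
      idealOfVars σ R • (⊤ : Submodule (MvPolynomial σ R)
        (A ⊗[MvPolynomial σ R] Ω[MvPolynomial σ R⁄R])) := by
  classical
  have hD : KaehlerDifferential.D R (MvPolynomial σ R) =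
      mkDerivation R (fun i => KaehlerDifferential.D R (MvPolynomial σ R) (X i)) :=
    derivation_ext fun i => (mkDerivation_X R
      (fun i => KaehlerDifferential.D R (MvPolynomial σ R) (X i)) i).symm
  rw [hD, mkDerivation_monomial, one_smul, Finsupp.sum, TensorProduct.tmul_sum]
  refine Submodule.sum_mem _ fun i hi => ?_
  rw [TensorProduct.tmul_smul]
  refine Submodule.smul_mem_smul ?_ trivial
  exact monomial_mem_idealOfVars _
    (sub_single_ne_zero a i (Finsupp.mem_support_iff.mp hi) (ha i)) _

variable {N : Type*} [AddCommMonoid N]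

theorem mapDomain_injective_of_formallySmooth (π : (σ →₀ ℕ) →+ N)
    (hsurj : Function.Surjective π)
    (hstar : ∀ (i : σ) (b : σ →₀ ℕ), π b = π (Finsupp.single i 1) → b = Finsupp.single i 1)
    (hzero : ∀ a : σ →₀ ℕ, π a = 0 → a = 0)
    [Algebra.FormallySmooth R (AddMonoidAlgebra R N)] :
    Function.Injective
      (AddMonoidAlgebra.mapDomainAlgHom R R π : MvPolynomial σ R →ₐ[R] AddMonoidAlgebra R N) := by
  classical
  set φ : MvPolynomial σ R →ₐ[R] AddMonoidAlgebra R N :=
    AddMonoidAlgebra.mapDomainAlgHom R R π with hφ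
  let _ : Algebra (MvPolynomial σ R) (AddMonoidAlgebra R N) := φ.toRingHom.toAlgebra
  have : IsScalarTower R (MvPolynomial σ R) (AddMonoidAlgebra R N) :=
    IsScalarTower.of_algebraMap_eq' φ.comp_algebraMap.symm
  have hφsurj : Function.Surjective (algebraMap (MvPolynomial σ R) (AddMonoidAlgebra R N)) :=
    mapDomain_surjective' π hsurj
  -- the kernel is spanned by binomials
  have hspan : ∀ p : MvPolynomial σ R, p ∈ RingHom.ker (algebraMap (MvPolynomial σ R)
      (AddMonoidAlgebra R N)) → p ∈ Submodule.span R {q : MvPolynomial σ R | ∃ a b, π a = π b ∧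
        q = monomial a 1 - monomial b 1} := by
    intro p hp
    have h := mem_span_of_mapDomain_eq_zero' (R := R) π hsurj p hp
    simpa only [single_eq_monomial] using h
  have hJ : RingHom.ker (algebraMap (MvPolynomial σ R) (AddMonoidAlgebra R N)) ≤
      idealOfVars σ R := by
    intro p hp
    have : Submodule.span R {q : MvPolynomial σ R | ∃ a b, π a = π b ∧
        q = monomial a 1 - monomial b 1} ≤ (idealOfVars σ R).restrictScalars R := by
      rw [Submodule.span_le]
      rintro q ⟨a, b, hab, rfl⟩
      by_cases hne : a = b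
      · subst hne; simp
      · have ha : a ≠ 0 := by
          rintro rfl
          exact hne (hzero b (by rw [← hab, map_zero])).symm
        have hb : b ≠ 0 := by
          rintro rfl
          exact hne (hzero a (by rw [hab, map_zero]))
        exact Ideal.sub_mem _ (monomial_mem_idealOfVars a ha 1) (monomial_mem_idealOfVars b hb 1)
    exact this (hspan p hp)
  have hD : ∀ x ∈ RingHom.ker (algebraMap (MvPolynomial σ R) (AddMonoidAlgebra R N)),
      (1 : AddMonoidAlgebra R N) ⊗ₜ[MvPolynomial σ R] KaehlerDifferential.D R (MvPolynomial σ R) x ∈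
        idealOfVars σ R • (⊤ : Submodule (MvPolynomial σ R)
          (AddMonoidAlgebra R N ⊗[MvPolynomial σ R] Ω[MvPolynomial σ R⁄R])) := by
    intro p hp
    let T : MvPolynomial σ R →ₗ[R]
        (AddMonoidAlgebra R N ⊗[MvPolynomial σ R] Ω[MvPolynomial σ R⁄R]) :=
      ((TensorProduct.mk (MvPolynomial σ R) (AddMonoidAlgebra R N) Ω[MvPolynomial σ R⁄R]
        1).restrictScalars R) ∘ₗ (KaehlerDifferential.D R (MvPolynomial σ R)).toLinearMap
    have : Submodule.span R {q : MvPolynomial σ R | ∃ a b, π a = π b ∧
        q = monomial a 1 - monomial b 1} ≤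
        Submodule.comap T ((idealOfVars σ R • (⊤ : Submodule (MvPolynomial σ R)
          (AddMonoidAlgebra R N ⊗[MvPolynomial σ R] Ω[MvPolynomial σ R⁄R]))).restrictScalars R) := by
      rw [Submodule.span_le]
      rintro q ⟨a, b, hab, rfl⟩
      by_cases hne : a = b
      · subst hne; simp
      · have ha : ∀ i, a ≠ Finsupp.single i 1 := by
          rintro i rfl
          exact hne (hstar i b hab.symm).symm
        have hb : ∀ i, b ≠ Finsupp.single i 1 := by
          rintro i rfl
          exact hne (hstar i a hab)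
        simp only [Submodule.comap_coe, Submodule.coe_restrictScalars, Set.mem_preimage,
          SetLike.mem_coe, map_sub]
        exact Submodule.sub_mem _ (tmul_D_monomial_mem a ha) (tmul_D_monomial_mem b hb)
    exact this (hspan p hp)
  have hmul := SmoothKer.ker_le_mul (R := R) hφsurj (idealOfVars σ R) hJ hD
  have hker : RingHom.ker (algebraMap (MvPolynomial σ R) (AddMonoidAlgebra R N)) = ⊥ := by
    rw [eq_bot_iff]
    intro p hp
    exact eq_zero_of_forall_mem_pow p fun n => SmoothKer.le_pow_of_le_mul _ _ hmul n hp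
  exact (RingHom.injective_iff_ker_eq_bot _).mpr hker

end Groth.Agent.H91.MonAlgSmooth
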