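import Mathlib

/-!
# Néron blow-up: elimination of the new variables up to a power of `π`
-/

set_option autoImplicit false
universe u

namespace Groth.Agent.H91.NBlow

open MvPolynomial

/-- In `C[y]/(π yᵢ - fᵢ)`, every polynomial times a power of `π` is congruent to a constant. -/
theorem exists_pow_mul_sub_mem {C : Type*} [CommRing C] {ι : Type*} (π : C) (f : ι → C)
    (u : MvPolynomial ι C) :
    ∃ (N : ℕ) (c : C), (MvPolynomial.C π) ^ N * u - MvPolynomial.C c ∈
      Ideal.span (Set.range fun i => (MvPolynomial.C π : MvPolynomial ι C) * X i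
        - MvPolynomial.C (f i)) := by
  induction u using MvPolynomial.induction_on with
  | C a =>
    refine ⟨0, a, ?_⟩
    simp
  | add p q hp hq =>
    obtain ⟨N₁, c₁, h₁⟩ := hp
    obtain ⟨N₂, c₂, h₂⟩ := hq
    refine ⟨N₁ + N₂, π ^ N₂ * c₁ + π ^ N₁ * c₂, ?_⟩
    have : (MvPolynomial.C π : MvPolynomial ι C) ^ (N₁ + N₂) * (p + q)
        - MvPolynomial.C (π ^ N₂ * c₁ + π ^ N₁ * c₂) =
        MvPolynomial.C π ^ N₂ * (MvPolynomial.C π ^ N₁ * p - MvPolynomial.C c₁) +
        MvPolynomial.C π ^ N₁ * (MvPolynomial.C π ^ N₂ * q - MvPolynomial.C c₂) := by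
      simp only [map_add, map_mul, map_pow]
      ring
    rw [this]
    exact Ideal.add_mem _ (Ideal.mul_mem_left _ _ h₁) (Ideal.mul_mem_left _ _ h₂)
  | mul_X p i hp =>
    obtain ⟨N, c, h⟩ := hp
    refine ⟨N + 1, c * f i, ?_⟩
    have : (MvPolynomial.C π : MvPolynomial ι C) ^ (N + 1) * (p * X i)
        - MvPolynomial.C (c * f i) =
        (X i * MvPolynomial.C π) * (MvPolynomial.C π ^ N * p - MvPolynomial.C c) +
        MvPolynomial.C c * (MvPolynomial.C π * X i - MvPolynomial.C (f i)) := by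
      simp only [map_mul]
      ring
    rw [this]
    exact Ideal.add_mem _ (Ideal.mul_mem_left _ _ h)
      (Ideal.mul_mem_left _ _ (Ideal.subset_span ⟨i, rfl⟩))

end Groth.Agent.H91.NBlow
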