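import Mathlib
import Groth.Prelude.Def_CAlgX
import Groth.Agent.H91.NBlowA
import Groth.Agent.H91.AdicJacII

/-!
# Néron blow-up: the abstract smoothness statement

`C` a local formally smooth `R`-algebra, `L` a local `C`-algebra generated (up to localization) by
elements `zᵢ` with `π zᵢ = fᵢ`, such that the `d fᵢ` are independent modulo the maximal ideal.
Then `L` is formally smooth over `R`.
-/

set_option autoImplicit false
set_option linter.style.haveILetI false
set_option linter.unusedSectionVars false
set_option linter.unusedVariables false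
universe u

namespace Groth.Agent.H91.NBlow

open TensorProduct KaehlerDifferential IsLocalRing MvPolynomial

section Abs

variable {R C L : Type u} [CommRing R] [CommRing C] [CommRing L] [Algebra R C] [Algebra R L]
  [Algebra C L] [IsScalarTower R C L] [IsLocalRing L]
  {ι : Type} (z : ι → L)

/-- the prime of `C[y]` over the maximal ideal of `L` -/
noncomputable abbrev qq : Ideal (MvPolynomial ι C) :=
  (maximalIdeal L).comap (aeval z : MvPolynomial ι C →ₐ[C] L).toRingHom

instance : (qq (C := C) z).IsPrime := Ideal.comap_isPrime _ _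

/-- the local ring `C[y]_𝔮` -/
abbrev PP : Type u := Localization.AtPrime (qq (C := C) z)

theorem isUnit_aeval_of_notMem (y : (qq (C := C) z).primeCompl) :
    IsUnit ((aeval z : MvPolynomial ι C →ₐ[C] L).toRingHom y) := by
  have h := y.2
  by_contra hu
  exact h ((mem_maximalIdeal _).mpr hu)

/-- the map `C[y]_𝔮 → L` -/
noncomputable def toL : PP (C := C) z →+* L :=
  IsLocalization.lift (M := (qq (C := C) z).primeCompl) (g := (aeval z).toRingHom)
    (isUnit_aeval_of_notMem z)

noncomputable instance algPL : Algebra (PP (C := C) z) L := (toL z).toAlgebra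

theorem algebraMap_PL_apply (u : MvPolynomial ι C) :
    algebraMap (PP (C := C) z) L (algebraMap (MvPolynomial ι C) (PP (C := C) z) u) = aeval z u := by
  show toL z _ = _
  rw [toL, IsLocalization.lift_eq]
  rfl

instance : IsScalarTower C (PP (C := C) z) L :=
  IsScalarTower.of_algebraMap_eq fun c => by
    rw [IsScalarTower.algebraMap_apply C (MvPolynomial ι C) (PP (C := C) z), algebraMap_PL_apply]
    simp

instance : IsScalarTower R (PP (C := C) z) L :=
  IsScalarTower.of_algebraMap_eq fun r => by
    rw [IsScalarTower.algebraMap_apply R C L, IsScalarTower.algebraMap_apply C (PP (C := C) z) L,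
      ← IsScalarTower.algebraMap_apply R C (PP (C := C) z)]

variable (π₀ : R) (f : ι → C)

/-- the relations `π yᵢ - fᵢ` -/
noncomputable def gg (i : ι) : MvPolynomial ι C :=
  MvPolynomial.C (algebraMap R C π₀) * X i - MvPolynomial.C (f i)

/-- the ideal of relations in `C[y]_𝔮` -/
noncomputable def GG : Ideal (PP (C := C) z) :=
  Ideal.span (Set.range fun i => algebraMap (MvPolynomial ι C) (PP (C := C) z) (gg π₀ f i))

theorem aeval_gg (hz : ∀ i, algebraMap R L π₀ * z i = algebraMap C L (f i)) (i : ι) :
    aeval z (gg π₀ f i) = 0 := by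
  rw [gg, map_sub, map_mul, aeval_C, aeval_C, aeval_X, ← IsScalarTower.algebraMap_apply R C L,
    hz, sub_self]

theorem GG_le_ker (hz : ∀ i, algebraMap R L π₀ * z i = algebraMap C L (f i)) :
    GG z π₀ f ≤ RingHom.ker (algebraMap (PP (C := C) z) L) := by
  rw [GG, Ideal.span_le]
  rintro _ ⟨i, rfl⟩
  rw [SetLike.mem_coe, RingHom.mem_ker, algebraMap_PL_apply, aeval_gg z π₀ f hz]

theorem algebraMap_PL_surjective
    (hgen : ∀ l : L, ∃ u v : MvPolynomial ι C, IsUnit (aeval z v) ∧ l * aeval z v = aeval z u) :
    Function.Surjective (algebraMap (PP (C := C) z) L) := by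
  intro l
  obtain ⟨u, v, hv, huv⟩ := hgen l
  have hvq : v ∈ (qq (C := C) z).primeCompl := by
    intro hmem
    exact (mem_maximalIdeal _).mp hmem hv
  refine ⟨IsLocalization.mk' (PP (C := C) z) u ⟨v, hvq⟩, ?_⟩
  have h1 : IsLocalization.mk' (PP (C := C) z) u ⟨v, hvq⟩ *
      algebraMap (MvPolynomial ι C) (PP (C := C) z) v =
      algebraMap (MvPolynomial ι C) (PP (C := C) z) u := IsLocalization.mk'_spec _ _ _
  have h2 := congrArg (algebraMap (PP (C := C) z) L) h1
  rw [map_mul, algebraMap_PL_apply, algebraMap_PL_apply, ← huv] at h2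
  exact hv.mul_left_injective h2

theorem pow_mul_mem_GG (hz : ∀ i, algebraMap R L π₀ * z i = algebraMap C L (f i))
    (hinj : Function.Injective (algebraMap C L))
    (x : PP (C := C) z) (hx : algebraMap (PP (C := C) z) L x = 0) :
    ∃ N : ℕ, algebraMap R (PP (C := C) z) π₀ ^ N * x ∈ GG z π₀ f := by
  obtain ⟨u, v, rfl⟩ := IsLocalization.exists_mk'_eq (qq (C := C) z).primeCompl x
  have h1 : IsLocalization.mk' (PP (C := C) z) u v *
      algebraMap (MvPolynomial ι C) (PP (C := C) z) v =
      algebraMap (MvPolynomial ι C) (PP (C := C) z) u := IsLocalization.mk'_spec _ _ _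
  have hu : aeval z u = 0 := by
    have h2 := congrArg (algebraMap (PP (C := C) z) L) h1
    rw [map_mul, hx, zero_mul, algebraMap_PL_apply] at h2
    exact h2.symm
  obtain ⟨N, c, hmem⟩ := exists_pow_mul_sub_mem (algebraMap R C π₀) f u
  have hker : Ideal.span (Set.range fun i => (MvPolynomial.C (algebraMap R C π₀) :
      MvPolynomial ι C) * X i - MvPolynomial.C (f i)) ≤
      RingHom.ker (aeval z : MvPolynomial ι C →ₐ[C] L).toRingHom := by
    rw [Ideal.span_le]
    rintro _ ⟨i, rfl⟩
    exact aeval_gg z π₀ f hz i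
  have h3 := hker hmem
  rw [RingHom.mem_ker] at h3
  have h4 : algebraMap C L c = 0 := by
    have : (aeval z : MvPolynomial ι C →ₐ[C] L)
        (MvPolynomial.C (algebraMap R C π₀) ^ N * u - MvPolynomial.C c) = 0 := h3
    rw [map_sub, map_mul, hu, mul_zero, zero_sub, neg_eq_zero, aeval_C] at this
    exact this
  have hc : c = 0 := hinj (by rw [h4, map_zero])
  rw [hc, map_zero, sub_zero] at hmem
  have h5 : algebraMap (MvPolynomial ι C) (PP (C := C) z)
      (MvPolynomial.C (algebraMap R C π₀) ^ N * u) ∈ GG z π₀ f := by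
    have := Ideal.mem_map_of_mem (algebraMap (MvPolynomial ι C) (PP (C := C) z)) hmem
    rw [Ideal.map_span, ← Set.range_comp] at this
    exact this
  refine ⟨N, ?_⟩
  have hvu : IsUnit (algebraMap (MvPolynomial ι C) (PP (C := C) z) v) :=
    IsLocalization.map_units _ v
  have h6 : algebraMap R (PP (C := C) z) π₀ ^ N * IsLocalization.mk' (PP (C := C) z) u v *
      algebraMap (MvPolynomial ι C) (PP (C := C) z) v ∈ GG z π₀ f := by
    rw [mul_assoc, h1]
    convert h5 using 1
    rw [map_mul, map_pow]
    congr 2
  obtain ⟨w, hw⟩ := hvu.exists_right_inv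
  have := Ideal.mul_mem_right w _ h6
  rwa [mul_assoc, hw, mul_one] at this

end Abs

end Groth.Agent.H91.NBlow
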