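import Mathlib
import Groth.Prelude.Def_CAlgX
import Groth.Agent.H91.NBlowB

/-!
# Néron blow-up: Jacobian criterion for `C[y]_𝔮 / (π yᵢ - fᵢ)`
-/

set_option autoImplicit false
set_option linter.style.haveILetI false
set_option linter.unusedSectionVars false
set_option linter.unusedVariables false
universe u

namespace Groth.Agent.H91.NBlow

open TensorProduct KaehlerDifferential IsLocalRing MvPolynomial

section Rep

theorem exists_sum_tmul {P K : Type*} [CommRing P] [CommRing K] [Algebra P K] {ι : Type}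
    [Fintype ι] (I : Ideal P) (g : ι → P) (hg : ∀ i, g i ∈ I)
    (hI : I = Ideal.span (Set.range g)) (w : K ⊗[P] I) :
    ∃ a : ι → K, w = ∑ i, a i ⊗ₜ[P] (⟨g i, hg i⟩ : I) := by
  induction w using TensorProduct.induction_on with
  | zero => exact ⟨0, by simp⟩
  | add x y hx hy =>
    obtain ⟨a, rfl⟩ := hx
    obtain ⟨b, rfl⟩ := hy
    refine ⟨a + b, ?_⟩
    simp only [Pi.add_apply, add_tmul, Finset.sum_add_distrib]
  | tmul k x =>
    have hx : (x : P) ∈ Ideal.span (Set.range g) := hI ▸ x.2
    obtain ⟨c, hc⟩ := (Ideal.mem_span_range_iff_exists_fun).mp hx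
    have hx' : x = ∑ i, c i • (⟨g i, hg i⟩ : I) := by
      apply Subtype.ext
      rw [← hc]
      simp [Submodule.coe_sum]
    refine ⟨fun i => c i • k, ?_⟩
    rw [hx', tmul_sum]
    refine Finset.sum_congr rfl fun i _ => ?_
    rw [tmul_smul, smul_tmul']

end Rep

section Jac

variable {R C L : Type u} [CommRing R] [CommRing C] [CommRing L] [Algebra R C] [Algebra R L]
  [Algebra C L] [IsScalarTower R C L] [IsLocalRing L] [IsLocalRing C]
  [IsLocalHom (algebraMap C L)]
  {ι : Type} [Fintype ι] (z : ι → L) (π₀ : R) (f : ι → C)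

theorem GG_le_maximalIdeal (hz : ∀ i, algebraMap R L π₀ * z i = algebraMap C L (f i)) :
    GG z π₀ f ≤ maximalIdeal (PP (C := C) z) := by
  refine le_maximalIdeal ?_
  intro htop
  have h1 := GG_le_ker z π₀ f hz
  rw [htop, top_le_iff] at h1
  have h2 : (1 : PP (C := C) z) ∈ RingHom.ker (algebraMap (PP (C := C) z) L) := by
    rw [h1]; trivial
  rw [RingHom.mem_ker, map_one] at h2
  exact one_ne_zero h2

theorem algebraMap_pi_mem (hπL : algebraMap R L π₀ ∈ maximalIdeal L) :
    algebraMap R (PP (C := C) z) π₀ ∈ maximalIdeal (PP (C := C) z) := by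
  rw [IsScalarTower.algebraMap_apply R C (PP (C := C) z),
    IsScalarTower.algebraMap_apply C (MvPolynomial ι C) (PP (C := C) z),
    IsLocalization.AtPrime.to_map_mem_maximal_iff (PP (C := C) z) (qq (C := C) z)]
  show (aeval z : MvPolynomial ι C →ₐ[C] L) (algebraMap C (MvPolynomial ι C) (algebraMap R C π₀)) ∈
    maximalIdeal L
  rw [MvPolynomial.algebraMap_eq, aeval_C, ← IsScalarTower.algebraMap_apply]
  exact hπL

theorem algebraMap_C_mem (c : C) (hc : c ∈ maximalIdeal C) :
    algebraMap C (PP (C := C) z) c ∈ maximalIdeal (PP (C := C) z) := by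
  rw [IsScalarTower.algebraMap_apply C (MvPolynomial ι C) (PP (C := C) z),
    IsLocalization.AtPrime.to_map_mem_maximal_iff (PP (C := C) z) (qq (C := C) z)]
  show (aeval z : MvPolynomial ι C →ₐ[C] L) (algebraMap C (MvPolynomial ι C) c) ∈
    maximalIdeal L
  rw [MvPolynomial.algebraMap_eq, aeval_C]
  rw [mem_maximalIdeal, mem_nonunits_iff] at hc ⊢
  intro hu
  exact hc (isUnit_of_map_unit (algebraMap C L) c hu)

variable [IsNoetherianRing C] [Algebra.FormallySmooth R C] [Algebra.EssFiniteType R C]

instance : Algebra.FormallySmooth R (PP (C := C) z) := by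
  haveI : Algebra.FormallySmooth R (MvPolynomial ι C) := .comp R C _
  haveI : Algebra.FormallySmooth (MvPolynomial ι C) (PP (C := C) z) :=
    .of_isLocalization (qq (C := C) z).primeCompl
  exact .comp R (MvPolynomial ι C) _

instance : Algebra.FormallySmooth C (PP (C := C) z) := by
  haveI : Algebra.FormallySmooth (MvPolynomial ι C) (PP (C := C) z) :=
    .of_isLocalization (qq (C := C) z).primeCompl
  exact .comp C (MvPolynomial ι C) _

instance : Algebra.EssFiniteType R (PP (C := C) z) := by
  haveI : Algebra.EssFiniteType R (MvPolynomial ι C) := .comp R C _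
  haveI : Algebra.EssFiniteType (MvPolynomial ι C) (PP (C := C) z) :=
    .of_isLocalization _ (qq (C := C) z).primeCompl
  exact .comp R (MvPolynomial ι C) _

instance : Module.Free (PP (C := C) z) Ω[PP (C := C) z⁄R] :=
  Module.free_of_flat_of_isLocalRing

local notation "P" => PP (C := C) z
local notation "G" => GG z π₀ f

/-- the Jacobian computation: the quotient `C[y]_𝔮 / (π yᵢ - fᵢ)` is formally smooth over `R`. -/
theorem formallySmooth_quot (hz : ∀ i, algebraMap R L π₀ * z i = algebraMap C L (f i))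
    (hπL : algebraMap R L π₀ ∈ maximalIdeal L)
    (d : ι → Derivation R C (ResidueField C))
    (hd1 : ∀ i, d i (f i) = 1) (hd0 : ∀ i j, i ≠ j → d j (f i) = 0) :
    Algebra.FormallySmooth R (PP (C := C) z ⧸ GG z π₀ f) := by
  classical
  have hGm : G ≤ maximalIdeal P := GG_le_maximalIdeal z π₀ f hz
  haveI : Nontrivial (P ⧸ G) := Ideal.Quotient.nontrivial_iff.mpr (fun h => by
    rw [h] at hGm
    exact (maximalIdeal.isMaximal P).ne_top (top_le_iff.mp hGm))
  haveI : IsLocalRing (P ⧸ G) :=
    IsLocalRing.of_surjective' (Ideal.Quotient.mk G) Ideal.Quotient.mk_surjective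
  letI algSK : Algebra (P ⧸ G) (ResidueField P) := (Ideal.Quotient.lift G (IsLocalRing.residue P)
    (fun a ha => by rw [IsLocalRing.residue_eq_zero_iff]; exact hGm ha)).toAlgebra
  haveI : IsScalarTower P (P ⧸ G) (ResidueField P) :=
    IsScalarTower.of_algebraMap_eq (R := P) (S := P ⧸ G) (A := (ResidueField P)) fun x => rfl
  have h₁ : Function.Surjective (algebraMap P (P ⧸ G)) := Ideal.Quotient.mk_surjective
  have hker : RingHom.ker (algebraMap P (P ⧸ G)) = G := Ideal.mk_ker
  have h₂ : (RingHom.ker (algebraMap P (P ⧸ G))).FG := by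
    rw [hker]
    exact Submodule.fg_span (Set.finite_range _)
  refine (Algebra.FormallySmooth.iff_injective_cotangentComplexBaseChange (R := R) (S := P ⧸ G) P
    (ResidueField P) h₁ h₂ ?_).mpr ?_
  · intro x hx
    obtain ⟨p, rfl⟩ := Ideal.Quotient.mk_surjective x
    rw [RingHom.mem_ker]
    show IsLocalRing.residue P p = 0
    rw [IsLocalRing.residue_eq_zero_iff, mem_maximalIdeal, mem_nonunits_iff]
    intro hu
    exact (mem_maximalIdeal _).mp hx (hu.map (Ideal.Quotient.mk G))
  rw [injective_iff_map_eq_zero]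
  intro w hw
  -- generators of the kernel
  let g' : ι → P := fun i => algebraMap (MvPolynomial ι C) P (gg π₀ f i)
  have hg' : ∀ i, g' i ∈ RingHom.ker (algebraMap P (P ⧸ G)) := fun i => by
    rw [hker]
    exact Ideal.subset_span ⟨i, rfl⟩
  obtain ⟨a, rfl⟩ := exists_sum_tmul (RingHom.ker (algebraMap P (P ⧸ G))) g' hg'
    (by rw [hker]; rfl) w
  -- the image
  have hπK : algebraMap P (ResidueField P) (algebraMap R P π₀) = 0 := by
    show IsLocalRing.residue P _ = 0
    rw [IsLocalRing.residue_eq_zero_iff]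
    exact algebraMap_pi_mem z π₀ hπL
  have hDg : ∀ i, (1 : (ResidueField P)) ⊗ₜ[P] D R P (g' i) =
      - ((mapBaseChange R C P).lTensor (ResidueField P) ((1 : (ResidueField P)) ⊗ₜ[P] ((1 : P) ⊗ₜ[C] D R C (f i)))) := by
    intro i
    have e1 : g' i = algebraMap R P π₀ * algebraMap (MvPolynomial ι C) P (X i)
        - algebraMap C P (f i) := by
      simp only [g', gg, map_sub, map_mul]
      rw [IsScalarTower.algebraMap_apply R C P, IsScalarTower.algebraMap_apply C (MvPolynomial ι C) P,
        IsScalarTower.algebraMap_apply C (MvPolynomial ι C) P]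
      rfl
    rw [e1, map_sub, Derivation.leibniz, Derivation.map_algebraMap, smul_zero, add_zero,
      tmul_sub, tmul_smul, smul_tmul', Algebra.smul_def, mul_one, hπK, zero_tmul, zero_sub,
      LinearMap.lTensor_tmul, mapBaseChange_tmul]
    simp only [KaehlerDifferential.map_D]
    congr 2
    exact (one_smul P (D R P (algebraMap C P (f i)))).symm
  have himg : (cotangentComplexBaseChange R (P ⧸ G) P (ResidueField P))
      (∑ i, a i ⊗ₜ[P] (⟨g' i, hg' i⟩ : RingHom.ker (algebraMap P (P ⧸ G)))) =
      - ((mapBaseChange R C P).lTensor (ResidueField P)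
        (∑ i, a i • ((1 : (ResidueField P)) ⊗ₜ[P] ((1 : P) ⊗ₜ[C] D R C (f i))))) := by
    have hlin : ∀ (b : ResidueField P) (x : ResidueField P ⊗[P] (P ⊗[C] Ω[C⁄R])),
        (mapBaseChange R C P).lTensor (ResidueField P) (b • x) =
          b • (mapBaseChange R C P).lTensor (ResidueField P) x := fun b x =>
      map_smul (LinearMap.baseChange (ResidueField P) (mapBaseChange R C P)) b x
    rw [map_sum, map_sum, ← Finset.sum_neg_distrib]
    refine Finset.sum_congr rfl fun i _ => ?_
    rw [cotangentComplexBaseChange_tmul, kerToTensor_apply, hDg i, smul_neg, hlin]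
  rw [himg, neg_eq_zero] at hw
  -- injectivity of `(ResidueField P) ⊗ (P ⊗ Ω_C) → (ResidueField P) ⊗ Ω_P`
  have hAd : CAlgX.IsAdicFormallySmooth C P (maximalIdeal P) := by
    intro E _ _ J hJ ψ _
    obtain ⟨χ, hχ⟩ := Algebra.FormallySmooth.exists_lift J ⟨2, hJ⟩ ψ
    exact ⟨χ, hχ⟩
  have hinj : Function.Injective ((mapBaseChange R C P).lTensor (ResidueField P)) :=
    Groth.Agent.H91.AdicJac.injective_lTensor_mapBaseChange (Λ := R) (A := C) (B := P)
      (maximalIdeal P) hAd
  have hw' : ∑ i, a i • ((1 : (ResidueField P)) ⊗ₜ[P] ((1 : P) ⊗ₜ[C] D R C (f i))) = 0 :=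
    hinj (by rw [hw, map_zero])
  -- functionals
  have hCK : ∀ c ∈ maximalIdeal C, (Algebra.ofId C (ResidueField P)) c = 0 := by
    intro c hc
    show algebraMap C (ResidueField P) c = 0
    rw [IsScalarTower.algebraMap_apply C P (ResidueField P)]
    show IsLocalRing.residue P _ = 0
    rw [IsLocalRing.residue_eq_zero_iff]
    exact algebraMap_C_mem z c hc
  let ι₀ : ResidueField C →ₐ[C] (ResidueField P) := Ideal.Quotient.liftₐ (maximalIdeal C) (Algebra.ofId C (ResidueField P)) hCK
  have hι₀ : ∀ c : C, ι₀ (residue C c) = algebraMap C (ResidueField P) c := fun c => rfl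
  have hzero : ∀ j, a j = 0 := by
    intro j
    let ℓ : Ω[C⁄R] →ₗ[C] (ResidueField P) := (ι₀.toLinearMap.compDer (d j)).liftKaehlerDifferential
    let Φ : (ResidueField P) ⊗[P] (P ⊗[C] Ω[C⁄R]) →ₗ[(ResidueField P)] (ResidueField P) :=
      (ℓ.liftBaseChange (ResidueField P)) ∘ₗ (AlgebraTensorModule.cancelBaseChange C P (ResidueField P) (ResidueField P) Ω[C⁄R]).toLinearMap
    have hΦ : ∀ i, Φ ((1 : (ResidueField P)) ⊗ₜ[P] ((1 : P) ⊗ₜ[C] D R C (f i))) = if i = j then 1 else 0 := by
      intro i
      simp only [Φ, LinearMap.comp_apply, LinearEquiv.coe_coe,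
        AlgebraTensorModule.cancelBaseChange_tmul, one_smul, LinearMap.liftBaseChange_tmul, ℓ,
        Derivation.liftKaehlerDifferential_comp_D]
      have hcd : (ι₀.toLinearMap.compDer (d j)) (f i) = ι₀ (d j (f i)) := rfl
      rw [hcd]
      split_ifs with hij
      · subst hij
        rw [hd1]
        exact map_one ι₀
      · rw [hd0 i j hij]
        exact map_zero ι₀
    have := congrArg Φ hw'
    rw [map_sum, map_zero] at this
    simp only [map_smul, hΦ, smul_eq_mul, mul_ite, mul_one, mul_zero, Finset.sum_ite_eq',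
      Finset.mem_univ, if_true] at this
    exact this
  simp [hzero]

/-- **Abstract Néron blow-up smoothness.** -/
theorem formallySmooth_of_blowup [Module.Flat R C] (hπ₀ : IsSMulRegular R π₀)
    (hinj : Function.Injective (algebraMap C L))
    (hz : ∀ i, algebraMap R L π₀ * z i = algebraMap C L (f i))
    (hπL : algebraMap R L π₀ ∈ maximalIdeal L)
    (hgen : ∀ l : L, ∃ u v : MvPolynomial ι C, IsUnit (aeval z v) ∧ l * aeval z v = aeval z u)
    (d : ι → Derivation R C (ResidueField C))
    (hd1 : ∀ i, d i (f i) = 1) (hd0 : ∀ i j, i ≠ j → d j (f i) = 0) :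
    Algebra.FormallySmooth R L := by
  haveI hfs : Algebra.FormallySmooth R (P ⧸ G) := formallySmooth_quot z π₀ f hz hπL d hd1 hd0
  haveI : Module.Flat (MvPolynomial ι C) P := IsLocalization.flat _ (qq (C := C) z).primeCompl
  haveI : Module.Flat R (MvPolynomial ι C) := Module.Flat.trans R C _
  haveI : Module.Flat R P := Module.Flat.trans R (MvPolynomial ι C) _
  haveI : IsNoetherianRing P :=
    IsLocalization.isNoetherianRing (qq (C := C) z).primeCompl _ inferInstance
  haveI : Module.Flat R (P ⧸ G) :=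
    Algebra.FormallySmooth.flat_of_algHom_of_isNoetherianRing (R := R) (S := P) (A := P ⧸ G)
      (IsScalarTower.toAlgHom R P (P ⧸ G)) Ideal.Quotient.mk_surjective
  have hreg : IsSMulRegular (P ⧸ G) (algebraMap R (P ⧸ G) π₀) := IsSMulRegular.of_flat (R := R) (S := P ⧸ G) hπ₀
  have hsurj : Function.Surjective (IsScalarTower.toAlgHom R P L) :=
    algebraMap_PL_surjective z hgen
  have hkerG : G = RingHom.ker (IsScalarTower.toAlgHom R P L) := by
    apply le_antisymm
    · exact GG_le_ker z π₀ f hz
    · intro x hx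
      obtain ⟨N, hN⟩ := pow_mul_mem_GG z π₀ f hz hinj x hx
      have h1 : (algebraMap R (P ⧸ G) π₀) ^ N • (Ideal.Quotient.mk G x) = 0 := by
        rw [smul_eq_mul, IsScalarTower.algebraMap_apply R P (P ⧸ G)]
        show (Ideal.Quotient.mk G) _ ^ N * _ = 0
        rw [← map_pow, ← map_mul, Ideal.Quotient.eq_zero_iff_mem]
        exact hN
      have h2 := (hreg.pow N) (h1.trans (smul_zero _).symm)
      exact Ideal.Quotient.eq_zero_iff_mem.mp h2
  let e : (P ⧸ G) ≃ₐ[R] L :=
    (Ideal.quotientEquivAlgOfEq R hkerG).trans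
      (Ideal.quotientKerAlgEquivOfSurjective hsurj)
  exact Algebra.FormallySmooth.of_equiv (R := R) (A := P ⧸ G) (B := L) e

end Jac

end Groth.Agent.H91.NBlow
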