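import Mathlib

/-!
# Néron blow-up: derivations dual to a minimal system of generators

`C` a local `R`-algebra (local map) whose residue field is formally smooth over the residue field
of `R`.  From a finite generating family of the maximal ideal of `C` we extract a subfamily
`a ∘ s` which, together with `𝔪_R C`, generates the maximal ideal, and `R`-derivations
`d j : C → κ(C)` with `d j (a (s i)) = δ_ij`.
-/

set_option autoImplicit false
set_option linter.style.haveILetI false
set_option linter.unusedSectionVars false
set_option linter.unusedVariables false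
universe u

namespace Groth.Agent.H91.NBlow

open IsLocalRing

section Der

variable {R C : Type u} [CommRing R] [IsLocalRing R] [CommRing C] [IsLocalRing C] [Algebra R C]
  [IsLocalHom (algebraMap R C)]

/-- the ideal `𝔫² + 𝔪_R C` -/
noncomputable abbrev JJ : Ideal C :=
  maximalIdeal C ^ 2 ⊔ (maximalIdeal R).map (algebraMap R C)

variable (R C) in
theorem JJ_le : JJ (R := R) (C := C) ≤ maximalIdeal C := by
  refine sup_le (Ideal.pow_le_self two_ne_zero) ?_
  rw [Ideal.map_le_iff_le_comap]
  intro x hx
  exact ((IsLocalRing.local_hom_TFAE (algebraMap R C)).out 0 2 rfl rfl).mp inferInstance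
    (Ideal.mem_map_of_mem _ hx)

variable (R C) in
/-- the `κ(R)`-algebra structure on `C/(𝔫² + 𝔪_R C)` -/
noncomputable def algE : Algebra (ResidueField R) (C ⧸ JJ (R := R) (C := C)) :=
  (Ideal.Quotient.lift (maximalIdeal R) (algebraMap R (C ⧸ JJ (R := R) (C := C)))
    (fun r hr => by
      rw [IsScalarTower.algebraMap_apply R C (C ⧸ JJ (R := R) (C := C))]
      show Ideal.Quotient.mk _ _ = 0
      rw [Ideal.Quotient.eq_zero_iff_mem]
      exact Ideal.mem_sup_right (Ideal.mem_map_of_mem _ hr))).toAlgebra

attribute [local instance] algE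

theorem algE_residue (r : R) :
    algebraMap (ResidueField R) (C ⧸ JJ (R := R) (C := C)) (residue R r) =
      algebraMap R (C ⧸ JJ (R := R) (C := C)) r := rfl

instance : IsScalarTower R (ResidueField R) (C ⧸ JJ (R := R) (C := C)) :=
  IsScalarTower.of_algebraMap_eq fun r => rfl

variable (R C) in
/-- the projection `C/(𝔫² + 𝔪_R C) → κ(C)` -/
noncomputable def pE : (C ⧸ JJ (R := R) (C := C)) →ₐ[ResidueField R] ResidueField C :=
  { Ideal.Quotient.factor (JJ_le R C) with
    commutes' := fun x => by
      obtain ⟨r, rfl⟩ := residue_surjective x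
      rfl }

theorem pE_mk (c : C) : pE R C (Ideal.Quotient.mk _ c) = residue C c := rfl

theorem pE_surjective : Function.Surjective (pE R C) := fun x => by
  obtain ⟨c, rfl⟩ := residue_surjective x
  exact ⟨Ideal.Quotient.mk _ c, rfl⟩

theorem mul_eq_zero_of_pE {x y : C ⧸ JJ (R := R) (C := C)} (hx : pE R C x = 0)
    (hy : pE R C y = 0) : x * y = 0 := by
  obtain ⟨a, rfl⟩ := Ideal.Quotient.mk_surjective x
  obtain ⟨b, rfl⟩ := Ideal.Quotient.mk_surjective y
  rw [pE_mk, residue_eq_zero_iff] at hx hy
  rw [← map_mul, Ideal.Quotient.eq_zero_iff_mem]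
  refine Ideal.mem_sup_left ?_
  rw [pow_two]
  exact Ideal.mul_mem_mul hx hy

theorem ker_pE_isNilpotent : IsNilpotent (RingHom.ker
    (pE R C : (C ⧸ JJ (R := R) (C := C)) →+* ResidueField C)) := by
  refine ⟨2, ?_⟩
  rw [pow_two, Ideal.zero_eq_bot, eq_bot_iff, Ideal.mul_le]
  intro x hx y hy
  rw [Ideal.mem_bot]
  exact mul_eq_zero_of_pE hx hy

variable [Algebra.FormallySmooth (ResidueField R) (ResidueField C)]

variable (R C) in
/-- a coefficient field of `C/(𝔫² + 𝔪_R C)` -/
noncomputable def sigE : ResidueField C →ₐ[ResidueField R] (C ⧸ JJ (R := R) (C := C)) :=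
  Algebra.FormallySmooth.liftOfSurjective (AlgHom.id _ _) (pE R C) pE_surjective
    ker_pE_isNilpotent

theorem pE_sigE (x : ResidueField C) : pE R C (sigE R C x) = x :=
  Algebra.FormallySmooth.liftOfSurjective_apply _ _ _ _ x

variable (R) in
/-- `e ↦ e - σ(p e)` -/
noncomputable def delE (e : C ⧸ JJ (R := R) (C := C)) : C ⧸ JJ (R := R) (C := C) :=
  e - sigE R C (pE R C e)

theorem pE_delE (e : C ⧸ JJ (R := R) (C := C)) : pE R C (delE R e) = 0 := by
  rw [delE, map_sub, pE_sigE, sub_self]

theorem delE_mul (x y : C ⧸ JJ (R := R) (C := C)) :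
    delE R (x * y) = sigE R C (pE R C x) * delE R y + sigE R C (pE R C y) * delE R x := by
  have h := mul_eq_zero_of_pE (pE_delE x) (pE_delE y)
  simp only [delE, map_mul] at h ⊢
  linear_combination h

variable (R C) in
/-- the `κ(C)`-vector space structure on `C/(𝔫² + 𝔪_R C)` given by the coefficient field -/
noncomputable def modE : Module (ResidueField C) (C ⧸ JJ (R := R) (C := C)) :=
  Module.compHom _ (sigE R C).toRingHom

attribute [local instance] modE

theorem modE_smul (x : ResidueField C) (e : C ⧸ JJ (R := R) (C := C)) :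
    x • e = sigE R C x * e := rfl

/-- the derivation attached to a functional -/
noncomputable def derOf (l : (C ⧸ JJ (R := R) (C := C)) →ₗ[ResidueField C] ResidueField C) :
    Derivation R C (ResidueField C) :=
  Derivation.mk'
    { toFun := fun c => l (delE R (Ideal.Quotient.mk _ c))
      map_add' := fun a b => by
        have : delE R (Ideal.Quotient.mk (JJ (R := R) (C := C)) (a + b)) =
            delE R (Ideal.Quotient.mk _ a) + delE R (Ideal.Quotient.mk _ b) := by
          simp only [delE, map_add]
          ring
        rw [this, map_add]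
      map_smul' := fun r c => by
        have h1 : delE R (Ideal.Quotient.mk (JJ (R := R) (C := C)) (r • c)) =
            (algebraMap R (ResidueField C) r) • delE R (Ideal.Quotient.mk _ c) := by
          rw [modE_smul, IsScalarTower.algebraMap_apply R (ResidueField R) (ResidueField C),
            AlgHom.commutes, ← IsScalarTower.algebraMap_apply, Algebra.smul_def, map_mul,
            delE, delE, map_mul, map_mul, mul_sub]
          congr 2
          have : pE R C (Ideal.Quotient.mk _ (algebraMap R C r)) =
              algebraMap R (ResidueField C) r := rfl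
          rw [this, IsScalarTower.algebraMap_apply R (ResidueField R) (ResidueField C),
            AlgHom.commutes, ← IsScalarTower.algebraMap_apply]
        rw [h1, map_smul, RingHom.id_apply, smul_eq_mul, Algebra.smul_def] }
    (fun a b => by
      show l (delE R (Ideal.Quotient.mk _ (a * b))) =
        a • l (delE R (Ideal.Quotient.mk _ b)) + b • l (delE R (Ideal.Quotient.mk _ a))
      rw [map_mul, delE_mul, map_add, ← modE_smul, ← modE_smul, map_smul, map_smul]
      rfl)

theorem derOf_apply (l : (C ⧸ JJ (R := R) (C := C)) →ₗ[ResidueField C] ResidueField C) (c : C) :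
    derOf l c = l (delE R (Ideal.Quotient.mk _ c)) := rfl

/-- **Dual derivations.** -/
theorem exists_subfamily_derivations {r : ℕ} (a : Fin r → C)
    (ha : Ideal.span (Set.range a) = maximalIdeal C) :
    ∃ (ι : Type) (_ : Fintype ι) (s : ι → Fin r),
      maximalIdeal C = (maximalIdeal R).map (algebraMap R C) ⊔ Ideal.span (Set.range (a ∘ s)) ∧
      ∃ d : ι → Derivation R C (ResidueField C),
        (∀ i, d i (a (s i)) = 1) ∧ ∀ i j, i ≠ j → d j (a (s i)) = 0 := by
  classical
  have ham : ∀ l, a l ∈ maximalIdeal C := fun l => ha ▸ Ideal.subset_span ⟨l, rfl⟩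
  let v : Fin r → C ⧸ JJ (R := R) (C := C) := fun l => Ideal.Quotient.mk _ (a l)
  have hpv : ∀ l, pE R C (v l) = 0 := fun l => by
    rw [pE_mk, residue_eq_zero_iff]
    exact ham l
  obtain ⟨κ, s, hs, hspan, hli⟩ := exists_linearIndependent' (K := ResidueField C) v
  haveI : Fintype κ := Fintype.ofInjective s hs
  refine ⟨κ, inferInstance, s, ?_, ?_⟩
  · -- generation
    apply le_antisymm
    · have hfg : (maximalIdeal C).FG := by
        rw [← ha]
        exact Submodule.fg_span (Set.finite_range a)
      refine Submodule.le_of_le_smul_of_le_jacobson_bot hfg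
        (IsLocalRing.jacobson_eq_maximalIdeal ⊥ bot_ne_top).ge ?_
      rw [← ha, Ideal.span_le]
      rintro _ ⟨l, rfl⟩
      have hvl : v l ∈ Submodule.span (ResidueField C) (Set.range (v ∘ s)) := by
        rw [hspan]
        exact Submodule.subset_span ⟨l, rfl⟩
      obtain ⟨x, hx⟩ := (Submodule.mem_span_range_iff_exists_fun (ResidueField C)).mp hvl
      choose c hc using fun i => residue_surjective (x i)
      have key : ∀ i, x i • (v ∘ s) i = Ideal.Quotient.mk _ (c i * a (s i)) := by
        intro i
        rw [modE_smul, map_mul, ← hc i]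
        have h1 : pE R C (sigE R C (residue C (c i)) - Ideal.Quotient.mk _ (c i)) = 0 := by
          rw [map_sub, pE_sigE, pE_mk, sub_self]
        have h2 := mul_eq_zero_of_pE h1 (hpv (s i))
        rw [sub_mul, sub_eq_zero] at h2
        exact h2
      have hmem : a l - ∑ i, c i * a (s i) ∈ JJ (R := R) (C := C) := by
        rw [← Ideal.Quotient.eq_zero_iff_mem, map_sub, map_sum, sub_eq_zero]
        show v l = _
        rw [← hx]
        exact (Finset.sum_congr rfl fun i _ => key i)
      have hsum : ∑ i, c i * a (s i) ∈ Ideal.span (Set.range (a ∘ s)) :=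
        Ideal.sum_mem _ fun i _ => Ideal.mul_mem_left _ _ (Ideal.subset_span ⟨i, rfl⟩)
      obtain ⟨y, hy, w, hw, hyw⟩ := Submodule.mem_sup.mp hmem
      have : a l = (w + ∑ i, c i * a (s i)) + y := by
        rw [add_comm y w] at hyw
        linear_combination -hyw
      rw [SetLike.mem_coe, this]
      refine Submodule.add_mem_sup (Submodule.add_mem_sup hw hsum) ?_
      rw [smul_eq_mul, ← pow_two, ha]
      exact hy
    · refine sup_le ?_ ?_
      · exact le_trans le_sup_right (JJ_le R C)
      · rw [Ideal.span_le]
        rintro _ ⟨i, rfl⟩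
        exact ham _
  · -- dual functionals
    have hker : LinearMap.ker (Finsupp.linearCombination (ResidueField C) (v ∘ s)) = ⊥ :=
      LinearMap.ker_eq_bot.mpr hli
    obtain ⟨g, hg⟩ := LinearMap.exists_leftInverse_of_injective _ hker
    have hgv : ∀ i, g (v (s i)) = Finsupp.single i 1 := by
      intro i
      have := LinearMap.congr_fun hg (Finsupp.single i 1)
      simpa using this
    have hdel : ∀ i, delE R (Ideal.Quotient.mk (JJ (R := R) (C := C)) (a (s i))) = v (s i) := by
      intro i
      have h1 : pE R C (Ideal.Quotient.mk (JJ (R := R) (C := C)) (a (s i))) = 0 := hpv (s i)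
      rw [delE, h1, map_zero, sub_zero]
    refine ⟨fun j => derOf ((Finsupp.lapply j) ∘ₗ g), fun i => ?_, fun i j hij => ?_⟩
    · rw [derOf_apply, hdel, LinearMap.comp_apply, hgv, Finsupp.lapply_apply,
        Finsupp.single_eq_same]
    · rw [derOf_apply, hdel, LinearMap.comp_apply, hgv, Finsupp.lapply_apply,
        Finsupp.single_apply, if_neg hij]

end Der

end Groth.Agent.H91.NBlow
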