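import Mathlib
import Groth.Prelude.Def_BlowUp2
import Groth.Agent.H91.NBlowC
import Groth.Agent.H91.NBlowD
import Groth.Agent.H47.FSSep
import Groth.Agent.H94.DVRSection
import Groth.Agent.Lead.RegularLocal

/-!
# Néron blow-up: the affine blow-up algebra `A[𝔭/π]` is smooth at the relevant prime
-/

set_option autoImplicit false
set_option quotPrecheck false
set_option linter.style.haveILetI false
set_option linter.unusedSectionVars false
set_option linter.unusedVariables false
universe u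

namespace Groth.Agent.H91.NBlow

open IsLocalRing MvPolynomial

section Blow

variable {A : Type u} [CommRing A] (𝔭 : Ideal A) (a : A)

/-- the generator `x / a` of the affine blow-up algebra -/
noncomputable def bgen (x : A) (hx : x ∈ 𝔭) : ↥(BlowUp.affineAlgebra A 𝔭 a) :=
  ⟨IsLocalization.mk' (Localization.Away a) x ⟨a, Submonoid.mem_powers a⟩,
    Algebra.subset_adjoin ⟨x, hx, rfl⟩⟩

theorem algebraMap_mul_bgen (x : A) (hx : x ∈ 𝔭) :
    algebraMap A ↥(BlowUp.affineAlgebra A 𝔭 a) a * bgen 𝔭 a x hx =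
      algebraMap A ↥(BlowUp.affineAlgebra A 𝔭 a) x := by
  apply Subtype.ext
  show algebraMap A (Localization.Away a) a *
    IsLocalization.mk' (Localization.Away a) x ⟨a, Submonoid.mem_powers a⟩ = algebraMap A _ x
  rw [mul_comm]
  exact IsLocalization.mk'_spec (Localization.Away a) x ⟨a, Submonoid.mem_powers a⟩

end Blow


section Main

variable {R Λ A : Type u} [CommRing R] [CommRing Λ] [IsLocalRing Λ] [CommRing A]
  [Algebra R A] [Algebra A Λ] (π : R)
  (φ' : BlowUp.affineAlgebra A ((maximalIdeal Λ).comap (algebraMap A Λ)) (algebraMap R A π) →ₐ[A] Λ)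

local notation "𝔭₀" => (maximalIdeal Λ).comap (algebraMap A Λ)
local notation "A'" => ↥(BlowUp.affineAlgebra A ((maximalIdeal Λ).comap (algebraMap A Λ))
  (algebraMap R A π))
local notation "𝔭'" => (maximalIdeal Λ).comap (AlgHom.toRingHom φ')

theorem algebraMap_mem_primeCompl (s : Ideal.primeCompl 𝔭₀) :
    algebraMap A A' s ∈ Ideal.primeCompl 𝔭' := by
  intro h
  apply s.2
  have : φ' (algebraMap A A' s) ∈ maximalIdeal Λ := h
  rwa [φ'.commutes] at this

theorem algebraMap_pi_mem_nonZeroDivisors_A' :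
    algebraMap A A' (algebraMap R A π) ∈ nonZeroDivisors A' := by
  rw [mem_nonZeroDivisors_iff_right]
  intro x hx
  have h1 : (x * algebraMap A A' (algebraMap R A π) : A').val = 0 := by rw [hx]; rfl
  have h2 : x.val * algebraMap A (Localization.Away (algebraMap R A π)) (algebraMap R A π) = 0 :=
    h1
  have hu : IsUnit (algebraMap A (Localization.Away (algebraMap R A π)) (algebraMap R A π)) :=
    IsLocalization.Away.algebraMap_isUnit _
  apply Subtype.ext
  exact hu.mul_left_eq_zero.mp h2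

section LL

variable {LL : Type u} [CommRing LL]
  [Algebra (↥(BlowUp.affineAlgebra A ((maximalIdeal Λ).comap (algebraMap A Λ))
    (algebraMap R A π))) LL]
  [IsLocalization.AtPrime LL ((maximalIdeal Λ).comap (AlgHom.toRingHom φ'))] [IsLocalRing LL]
  [Algebra A LL]
  [IsScalarTower A (↥(BlowUp.affineAlgebra A ((maximalIdeal Λ).comap (algebraMap A Λ))
    (algebraMap R A π))) LL]
  [Algebra R LL] [IsScalarTower R A LL]

include φ' in
theorem isUnit_algebraMap_AL (s : Ideal.primeCompl 𝔭₀) : IsUnit (algebraMap A LL s) := by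
  rw [IsScalarTower.algebraMap_apply A A' LL]
  exact IsLocalization.map_units LL
    (⟨_, algebraMap_mem_primeCompl π φ' s⟩ : Ideal.primeCompl 𝔭')

include φ' in
theorem algebraMap_AL_mem_iff (x : A) :
    algebraMap A LL x ∈ maximalIdeal LL ↔ x ∈ 𝔭₀ := by
  rw [IsScalarTower.algebraMap_apply A A' LL,
    IsLocalization.AtPrime.to_map_mem_maximal_iff LL 𝔭']
  show φ' (algebraMap A A' x) ∈ maximalIdeal Λ ↔ _
  rw [φ'.commutes]
  rfl

include φ' in
theorem algebraMap_pi_mem_nonZeroDivisors_L :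
    algebraMap R LL π ∈ nonZeroDivisors LL := by
  rw [IsScalarTower.algebraMap_apply R A LL, IsScalarTower.algebraMap_apply A A' LL]
  exact IsLocalization.nonZeroDivisors_le_comap (Ideal.primeCompl 𝔭') LL
    (algebraMap_pi_mem_nonZeroDivisors_A' π)

include φ' in
theorem pi_mul_cancel_L (x y : LL) (h : algebraMap R LL π * x = algebraMap R LL π * y) :
    x = y := by
  have hnz : algebraMap R LL π ∈ nonZeroDivisors LL := algebraMap_pi_mem_nonZeroDivisors_L π φ'
  have h0 : algebraMap R LL π * (x - y) = 0 := by rw [mul_sub, h, sub_self]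
  exact sub_eq_zero.mp ((mem_nonZeroDivisors_iff.mp hnz).1 _ h0)

variable {CC : Type u} [CommRing CC] [Algebra A CC]
  [IsLocalization.AtPrime CC ((maximalIdeal Λ).comap (algebraMap A Λ))] [IsLocalRing CC]
  [Algebra R CC] [IsScalarTower R A CC] [Algebra CC LL] [IsScalarTower A CC LL]

theorem algebraMap_CL_apply (x : A) :
    algebraMap CC LL (algebraMap A CC x) = algebraMap A LL x :=
  (IsScalarTower.algebraMap_apply A CC LL x).symm

include A in
theorem isScalarTower_RCL : IsScalarTower R CC LL :=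
  IsScalarTower.of_algebraMap_eq fun r => by
    rw [IsScalarTower.algebraMap_apply R A LL, IsScalarTower.algebraMap_apply R A CC,
      ← IsScalarTower.algebraMap_apply A CC LL]

include φ' in
theorem isLocalHom_CL : IsLocalHom (algebraMap CC LL) := by
  refine ((IsLocalRing.local_hom_TFAE (algebraMap CC LL)).out 0 2).mpr ?_
  rw [← IsLocalization.AtPrime.map_eq_maximalIdeal 𝔭₀ CC, Ideal.map_map,
    Ideal.map_le_iff_le_comap]
  intro x hx
  rw [Ideal.mem_comap]
  show algebraMap CC LL (algebraMap A CC x) ∈ _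
  rw [algebraMap_CL_apply, algebraMap_AL_mem_iff π φ']
  exact hx

include φ' in
theorem algebraMap_CL_injective [IsDomain CC]
    (hreg : ∀ (k : ℕ) (y : A), algebraMap R A π ^ k * y = 0 → y = 0) :
    Function.Injective (algebraMap CC LL) := by
  rw [injective_iff_map_eq_zero]
  intro c hc
  obtain ⟨x, s, rfl⟩ := IsLocalization.exists_mk'_eq (Ideal.primeCompl 𝔭₀) c
  have h1 : IsLocalization.mk' CC x s * algebraMap A CC s = algebraMap A CC x :=
    IsLocalization.mk'_spec _ _ _
  have h2 : algebraMap A LL x = 0 := by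
    have := congrArg (algebraMap CC LL) h1
    rw [map_mul, hc, zero_mul, algebraMap_CL_apply] at this
    exact this.symm
  suffices hx : algebraMap A CC x = 0 by
    rw [IsLocalization.mk'_eq_zero_iff]
    exact (IsLocalization.map_eq_zero_iff (Ideal.primeCompl 𝔭₀) CC x).mp hx
  rw [IsScalarTower.algebraMap_apply A A' LL] at h2
  obtain ⟨t, ht⟩ := (IsLocalization.map_eq_zero_iff (Ideal.primeCompl 𝔭') LL _).mp h2
  obtain ⟨j, t₀, hj⟩ := IsLocalization.Away.surj (algebraMap R A π) (t.1.val)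
  -- `t₀ * x = 0` in `A`
  have h3 : algebraMap A (Localization.Away (algebraMap R A π)) (t₀ * x) = 0 := by
    have h4 : (t.1 * algebraMap A A' x : A').val = 0 := by rw [ht]; rfl
    have h5 : t.1.val * algebraMap A (Localization.Away (algebraMap R A π)) x = 0 := h4
    rw [map_mul, ← hj, mul_right_comm, h5, zero_mul]
  obtain ⟨⟨_, k, rfl⟩, hk⟩ :=
    (IsLocalization.map_eq_zero_iff (Submonoid.powers (algebraMap R A π)) _ _).mp h3
  have h6 : t₀ * x = 0 := hreg k _ hk
  have h7 : algebraMap A CC t₀ * algebraMap A CC x = 0 := by rw [← map_mul, h6, map_zero]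
  rcases mul_eq_zero.mp h7 with h8 | h8
  · exfalso
    obtain ⟨s', hs'⟩ := (IsLocalization.map_eq_zero_iff (Ideal.primeCompl 𝔭₀) CC t₀).mp h8
    have h9 : algebraMap A A' t₀ = t.1 * algebraMap A A' (algebraMap R A π) ^ j := by
      apply Subtype.ext
      exact hj.symm
    have h10 : (algebraMap A A' s' * t.1) * algebraMap A A' (algebraMap R A π) ^ j = 0 := by
      rw [mul_assoc, ← h9, ← map_mul, hs', map_zero]
    have hnz : algebraMap A A' (algebraMap R A π) ∈ nonZeroDivisors A' :=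
      algebraMap_pi_mem_nonZeroDivisors_A' π
    have h11 : algebraMap A A' s' * t.1 = 0 :=
      (mem_nonZeroDivisors_iff_right.mp (pow_mem hnz j)) _ h10
    have h12 : algebraMap A A' s' * t.1 ∈ Ideal.primeCompl 𝔭' :=
      mul_mem (algebraMap_mem_primeCompl π φ' s') t.2
    rw [h11] at h12
    exact h12 (zero_mem _)
  · exact h8


section Gen

variable {ι : Type} [Fintype ι] (x₀ : ι → A)
  (hx₀ : ∀ i, x₀ i ∈ (maximalIdeal Λ).comap (algebraMap A Λ))

variable (LL) in
/-- the elements `xᵢ / π` of `A'_𝔭'` -/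
noncomputable def zz (i : ι) : LL :=
  algebraMap A' LL (bgen 𝔭₀ (algebraMap R A π) (x₀ i) (hx₀ i))

theorem algebraMap_mul_algebraMap_bgen (x : A) (hx : x ∈ (maximalIdeal Λ).comap (algebraMap A Λ)) :
    algebraMap R LL π * algebraMap A' LL (bgen 𝔭₀ (algebraMap R A π) x hx) =
      algebraMap A LL x := by
  rw [IsScalarTower.algebraMap_apply R A LL, IsScalarTower.algebraMap_apply A A' LL,
    ← map_mul, algebraMap_mul_bgen, ← IsScalarTower.algebraMap_apply A A' LL]

theorem algebraMap_mul_zz (i : ι) :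
    algebraMap R LL π * zz π LL x₀ hx₀ i = algebraMap CC LL (algebraMap A CC (x₀ i)) := by
  rw [zz, algebraMap_mul_algebraMap_bgen, algebraMap_CL_apply]

include φ' in
theorem exists_aeval_zz_eq_bgen
    (hm : maximalIdeal CC = Ideal.span {algebraMap R CC π} ⊔
      Ideal.span (Set.range fun i => algebraMap A CC (x₀ i)))
    (x : A) (hx : x ∈ (maximalIdeal Λ).comap (algebraMap A Λ)) :
    ∃ u : MvPolynomial ι CC, aeval (zz π LL x₀ hx₀) u =
      algebraMap A' LL (bgen 𝔭₀ (algebraMap R A π) x hx) := by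
  haveI : IsScalarTower R CC LL := isScalarTower_RCL (A := A)
  have h1 : algebraMap A CC x ∈ maximalIdeal CC :=
    (IsLocalization.AtPrime.to_map_mem_maximal_iff CC 𝔭₀ x).mpr hx
  rw [hm, Submodule.mem_sup] at h1
  obtain ⟨c₀, hc₀, c₁, hc₁, hsum⟩ := h1
  obtain ⟨b, rfl⟩ := Ideal.mem_span_singleton'.mp hc₀
  obtain ⟨c, rfl⟩ := (Ideal.mem_span_range_iff_exists_fun).mp hc₁
  refine ⟨MvPolynomial.C b + ∑ i, MvPolynomial.C (c i) * X i, ?_⟩
  have h2 : algebraMap R LL π * algebraMap A' LL (bgen 𝔭₀ (algebraMap R A π) x hx) =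
      algebraMap CC LL (algebraMap A CC x) := by
    rw [algebraMap_mul_algebraMap_bgen, algebraMap_CL_apply]
  have h3 : algebraMap R LL π *
      aeval (zz π LL x₀ hx₀) (MvPolynomial.C b + ∑ i, MvPolynomial.C (c i) * X i) =
      algebraMap CC LL (algebraMap A CC x) := by
    rw [← hsum, map_add, aeval_C, map_sum, map_add, map_mul, map_sum, mul_add, Finset.mul_sum,
      ← IsScalarTower.algebraMap_apply R CC LL, mul_comm]
    congr 1
    refine Finset.sum_congr rfl fun i _ => ?_
    rw [map_mul, aeval_C, aeval_X, map_mul, ← algebraMap_mul_zz π x₀ hx₀ i]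
    ring
  exact pi_mul_cancel_L π φ' _ _ (h3.trans h2.symm)


include φ' in
theorem exists_aeval_zz_eq
    (hm : maximalIdeal CC = Ideal.span {algebraMap R CC π} ⊔
      Ideal.span (Set.range fun i => algebraMap A CC (x₀ i)))
    (y : A') :
    ∃ u : MvPolynomial ι CC, aeval (zz π LL x₀ hx₀) u = algebraMap A' LL y := by
  obtain ⟨y, hy⟩ := y
  induction hy using Algebra.adjoin_induction with
  | mem y hy =>
    obtain ⟨x, hx, rfl⟩ := hy
    exact exists_aeval_zz_eq_bgen π φ' x₀ hx₀ hm x hx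
  | algebraMap r =>
    refine ⟨MvPolynomial.C (algebraMap A CC r), ?_⟩
    rw [aeval_C, algebraMap_CL_apply]
    exact IsScalarTower.algebraMap_apply A A' LL r
  | add y₁ y₂ h₁ h₂ ih₁ ih₂ =>
    obtain ⟨u₁, hu₁⟩ := ih₁
    obtain ⟨u₂, hu₂⟩ := ih₂
    refine ⟨u₁ + u₂, ?_⟩
    rw [map_add, hu₁, hu₂, ← map_add]
    rfl
  | mul y₁ y₂ h₁ h₂ ih₁ ih₂ =>
    obtain ⟨u₁, hu₁⟩ := ih₁
    obtain ⟨u₂, hu₂⟩ := ih₂
    refine ⟨u₁ * u₂, ?_⟩
    rw [map_mul, hu₁, hu₂, ← map_mul]
    rfl

include φ' in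
theorem hgen_zz
    (hm : maximalIdeal CC = Ideal.span {algebraMap R CC π} ⊔
      Ideal.span (Set.range fun i => algebraMap A CC (x₀ i)))
    (l : LL) :
    ∃ u v : MvPolynomial ι CC, IsUnit (aeval (zz π LL x₀ hx₀) v) ∧
      l * aeval (zz π LL x₀ hx₀) v = aeval (zz π LL x₀ hx₀) u := by
  obtain ⟨y, t, rfl⟩ := IsLocalization.exists_mk'_eq (Ideal.primeCompl 𝔭') l
  obtain ⟨u, hu⟩ := exists_aeval_zz_eq (LL := LL) π φ' x₀ hx₀ hm y
  obtain ⟨v, hv⟩ := exists_aeval_zz_eq (LL := LL) π φ' x₀ hx₀ hm t.1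
  refine ⟨u, v, ?_, ?_⟩
  · rw [hv]
    exact IsLocalization.map_units LL t
  · rw [hu, hv]
    exact IsLocalization.mk'_spec LL y t

end Gen


include φ' in
/-- generic form of the Néron blow-up smoothness statement -/
theorem formallySmooth_LL [IsLocalRing R] [IsLocalHom (algebraMap R CC)]
    [IsNoetherianRing CC] [Algebra.FormallySmooth R CC] [Algebra.EssFiniteType R CC]
    [Module.Flat R CC] [IsDomain CC]
    [Algebra.FormallySmooth (ResidueField R) (ResidueField CC)]
    (hπ : maximalIdeal R = Ideal.span {π}) (hπ₀ : IsSMulRegular R π)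
    (hreg : ∀ (k : ℕ) (y : A), algebraMap R A π ^ k * y = 0 → y = 0)
    (hπΛ : algebraMap A Λ (algebraMap R A π) ∈ maximalIdeal Λ)
    (hfg : ((maximalIdeal Λ).comap (algebraMap A Λ)).FG) :
    Algebra.FormallySmooth R LL := by
  obtain ⟨r, a₀, ha₀⟩ := Submodule.fg_iff_exists_fin_generating_family.mp hfg
  have ha₀' : Ideal.span (Set.range a₀) = 𝔭₀ := ha₀
  have ha : Ideal.span (Set.range (algebraMap A CC ∘ a₀)) = maximalIdeal CC := by
    rw [← IsLocalization.AtPrime.map_eq_maximalIdeal 𝔭₀ CC, ← ha₀', Ideal.map_span,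
      Set.range_comp]
  obtain ⟨ι, _, s, hm, d, hd1, hd0⟩ :=
    exists_subfamily_derivations (R := R) (algebraMap A CC ∘ a₀) ha
  have hx₀ : ∀ i, a₀ (s i) ∈ (maximalIdeal Λ).comap (algebraMap A Λ) := fun i => by
    rw [← ha₀']
    exact Ideal.subset_span ⟨s i, rfl⟩
  have hm' : maximalIdeal CC = Ideal.span {algebraMap R CC π} ⊔
      Ideal.span (Set.range fun i => algebraMap A CC (a₀ (s i))) := by
    rw [hm, hπ, Ideal.map_span, Set.image_singleton]
    rfl
  haveI : IsScalarTower R CC LL := isScalarTower_RCL (A := A)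
  haveI : IsLocalHom (algebraMap CC LL) := isLocalHom_CL π φ'
  refine formallySmooth_of_blowup (C := CC) (L := LL) (zz π LL (fun i => a₀ (s i)) hx₀) π
    (fun i => algebraMap A CC (a₀ (s i))) hπ₀ (algebraMap_CL_injective π φ' hreg)
    (fun i => algebraMap_mul_zz π (fun i => a₀ (s i)) hx₀ i) ?_
    (hgen_zz π φ' (fun i => a₀ (s i)) hx₀ hm') d hd1 hd0
  rw [IsScalarTower.algebraMap_apply R A LL, algebraMap_AL_mem_iff π φ']
  exact hπΛ

end LL

end Main

end Groth.Agent.H91.NBlow
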