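import Mathlib
import Groth.Prelude.Def_BlowUp2
import Groth.Agent.H91.NBlowE

/-!
# Néron blow-up: the concrete statement for discrete valuation rings
-/

set_option autoImplicit false
set_option quotPrecheck false
set_option linter.style.haveILetI false
set_option linter.unusedSectionVars false
set_option linter.unusedVariables false
universe u

namespace Groth.Agent.H91.NBlow

open IsLocalRing MvPolynomial

section Concrete

variable {R Λ A : Type u} [CommRing R] [IsDomain R] [IsDiscreteValuationRing R]
  [CommRing Λ] [IsLocalRing Λ] [Algebra R Λ] [IsLocalHom (algebraMap R Λ)]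
  [CommRing A] [Algebra R A] [Algebra A Λ] [IsScalarTower R A Λ]

local notation "𝔭₀" => (maximalIdeal Λ).comap (algebraMap A Λ)
local notation "C₀" => Localization.AtPrime ((maximalIdeal Λ).comap (algebraMap A Λ))

/-- the local map `A_𝔭 → Λ` -/
noncomputable def toΛ : C₀ →ₐ[R] Λ :=
  IsLocalization.liftAlgHom (M := Ideal.primeCompl 𝔭₀) (f := IsScalarTower.toAlgHom R A Λ)
    (fun y => by
      have h := y.2
      by_contra hu
      exact h ((mem_maximalIdeal _).mpr hu))

theorem toΛ_algebraMap (x : A) : toΛ (R := R) (Λ := Λ) (A := A) (algebraMap A C₀ x) =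
    algebraMap A Λ x := by
  rw [toΛ, IsLocalization.liftAlgHom_apply, IsLocalization.lift_eq]
  rfl

instance : IsLocalHom (toΛ (R := R) (Λ := Λ) (A := A)) := by
  constructor
  intro c hc
  obtain ⟨x, s, rfl⟩ := IsLocalization.exists_mk'_eq (Ideal.primeCompl 𝔭₀) c
  have h1 : IsLocalization.mk' C₀ x s * algebraMap A C₀ s = algebraMap A C₀ x :=
    IsLocalization.mk'_spec _ _ _
  have h2 := congrArg (toΛ (R := R) (Λ := Λ) (A := A)) h1
  rw [map_mul, toΛ_algebraMap, toΛ_algebraMap] at h2
  have hs : IsUnit (algebraMap A Λ s) := by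
    have h := s.2
    by_contra hu
    exact h ((mem_maximalIdeal _).mpr hu)
  have hx : IsUnit (algebraMap A Λ x) := h2 ▸ hc.mul hs
  have hx' : x ∈ Ideal.primeCompl 𝔭₀ := fun hmem => (mem_maximalIdeal _).mp hmem hx
  exact (IsLocalization.AtPrime.isUnit_mk'_iff C₀ 𝔭₀ x s).mpr hx'

theorem isLocalHom_RC : IsLocalHom (algebraMap R C₀) := by
  haveI : IsLocalHom ((toΛ (R := R) (Λ := Λ) (A := A)).toRingHom.comp (algebraMap R C₀)) := by
    have : (toΛ (R := R) (Λ := Λ) (A := A)).toRingHom.comp (algebraMap R C₀) =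
        algebraMap R Λ := (toΛ (R := R) (Λ := Λ) (A := A)).comp_algebraMap
    rw [this]
    infer_instance
  exact isLocalHom_of_comp (algebraMap R C₀) (toΛ (R := R) (Λ := Λ) (A := A)).toRingHom

theorem formallySmooth_residueField
    (hsep : Algebra.IsGeometricallyReduced (ResidueField R) (ResidueField Λ)) :
    letI := isLocalHom_RC (R := R) (Λ := Λ) (A := A)
    Algebra.FormallySmooth (ResidueField R) (ResidueField C₀) := by
  letI := isLocalHom_RC (R := R) (Λ := Λ) (A := A)
  rw [Groth.Agent.H47.formallySmooth_field_iff_isGeometricallyReduced]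
  exact Algebra.IsGeometricallyReduced.of_injective
    (ResidueField.mapAlgHom' (toΛ (R := R) (Λ := Λ) (A := A)))
    (ResidueField.mapAlgHom' (toΛ (R := R) (Λ := Λ) (A := A))).toRingHom.injective


/-- **Néron blow-up preserves smoothness** (concrete form). -/
theorem isSmoothAt_blowup [Module.Flat R A] [Algebra.FiniteType R A]
    (hsep : Algebra.IsGeometricallyReduced (ResidueField R) (ResidueField Λ))
    (π : R) (hπ : maximalIdeal R = Ideal.span {π})
    (hsm : Algebra.IsSmoothAt R ((maximalIdeal Λ).comap (algebraMap A Λ)))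
    (φ' : BlowUp.affineAlgebra A ((maximalIdeal Λ).comap (algebraMap A Λ)) (algebraMap R A π)
      →ₐ[A] Λ) :
    Algebra.IsSmoothAt R ((maximalIdeal Λ).comap φ'.toRingHom) := by
  haveI : IsNoetherianRing A := Algebra.FiniteType.isNoetherianRing R A
  haveI : Algebra.FinitePresentation R A :=
    Algebra.FinitePresentation.of_finiteType.mp inferInstance
  haveI : Algebra.IsSmoothAt R 𝔭₀ := hsm
  haveI : Algebra.FormallySmooth R C₀ := hsm
  haveI hloc := isLocalHom_RC (R := R) (Λ := Λ) (A := A)
  haveI : IsNoetherianRing C₀ :=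
    IsLocalization.isNoetherianRing (Ideal.primeCompl 𝔭₀) C₀ inferInstance
  haveI : Algebra.EssFiniteType A C₀ := .of_isLocalization C₀ (Ideal.primeCompl 𝔭₀)
  haveI : Algebra.EssFiniteType R C₀ := .comp R A C₀
  haveI : Module.Flat A C₀ := IsLocalization.flat C₀ (Ideal.primeCompl 𝔭₀)
  haveI : Module.Flat R C₀ := Module.Flat.trans R A C₀
  haveI : IsRegularLocalRing C₀ :=
    Groth.Agent.H94.DVRSection.isRegularLocalRing_of_isSmoothAt R A 𝔭₀
  haveI : IsDomain C₀ := Groth.Agent.Lead.RLR.isDomain C₀
  haveI : Algebra.FormallySmooth (ResidueField R) (ResidueField C₀) :=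
    formallySmooth_residueField hsep
  have hπne : π ≠ 0 := by
    rintro rfl
    have : maximalIdeal R = ⊥ := by rw [hπ]; simp
    exact IsDiscreteValuationRing.not_a_field R this
  have hπ₀ : IsSMulRegular R π := (IsRegular.of_ne_zero hπne).isSMulRegular
  have hπA : IsSMulRegular A (algebraMap R A π) := IsSMulRegular.of_flat hπ₀
  have hreg : ∀ (k : ℕ) (y : A), algebraMap R A π ^ k * y = 0 → y = 0 := by
    intro k y hy
    have := (hπA.pow k)
    exact this (by simpa using hy)
  have hπΛ : algebraMap A Λ (algebraMap R A π) ∈ maximalIdeal Λ := by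
    rw [← IsScalarTower.algebraMap_apply R A Λ]
    have hπm : π ∈ maximalIdeal R := by rw [hπ]; exact Ideal.mem_span_singleton_self π
    exact ((IsLocalRing.local_hom_TFAE (algebraMap R Λ)).out 0 3 rfl rfl).mp inferInstance hπm
  have hfg : ((maximalIdeal Λ).comap (algebraMap A Λ)).FG :=
    (isNoetherianRing_iff_ideal_fg A).mp inferInstance _
  letI : Algebra C₀ (Localization.AtPrime ((maximalIdeal Λ).comap φ'.toRingHom)) :=
    (IsLocalization.lift (M := Ideal.primeCompl 𝔭₀)
      (g := algebraMap A (Localization.AtPrime ((maximalIdeal Λ).comap φ'.toRingHom)))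
      (isUnit_algebraMap_AL
        (LL := Localization.AtPrime ((maximalIdeal Λ).comap φ'.toRingHom)) π φ')).toAlgebra
  haveI : IsScalarTower A C₀ (Localization.AtPrime ((maximalIdeal Λ).comap φ'.toRingHom)) :=
    IsScalarTower.of_algebraMap_eq fun x => (IsLocalization.lift_eq _ _).symm
  exact formallySmooth_LL (CC := C₀)
    (LL := Localization.AtPrime ((maximalIdeal Λ).comap φ'.toRingHom)) π φ' hπ hπ₀ hreg hπΛ hfg

end Concrete

end Groth.Agent.H91.NBlow
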