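import Mathlib
import Groth.Agent.H91.SepG

/-!
# Néron desingularization, part C: the Artinian quotients are ind-smooth
-/

set_option autoImplicit false
universe u

open Smoothing IsLocalRing

namespace Groth.Agent.H91.Neron

open Groth.Agent.H91.SepG

section

variable {R Λ : Type u} [CommRing R] [IsNoetherianRing R] [CommRing Λ] [Algebra R Λ]
  [IsLocalRing R] [IsLocalRing Λ] [IsLocalHom (algebraMap R Λ)]
  (he : (maximalIdeal R).map (algebraMap R Λ) = maximalIdeal Λ)
  (K : Ideal R) (hK : K ≤ maximalIdeal R)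

/-- the residue field of `R ⧸ K` -/
abbrev k₁ := (R ⧸ K) ⧸ M₁ K (maximalIdeal R)

/-- the closed fibre of `Λ ⧸ K Λ` -/
abbrev F₁ := (Λ ⧸ K.map (algebraMap R Λ)) ⧸
  (M₁ K (maximalIdeal R)).map (algebraMap (R ⧸ K) (Λ ⧸ K.map (algebraMap R Λ)))

/-- the map `R → k₁` -/
noncomputable def fk : R →+* k₁ K := (Ideal.Quotient.mk _).comp (Ideal.Quotient.mk K)

/-- the map `Λ → F₁` -/
noncomputable def fF : Λ →+* F₁ (Λ := Λ) K := (Ideal.Quotient.mk _).comp (Ideal.Quotient.mk _)

theorem fk_surjective : Function.Surjective (fk K) :=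
  Ideal.Quotient.mk_surjective.comp Ideal.Quotient.mk_surjective

theorem fF_surjective : Function.Surjective (fF (Λ := Λ) K) :=
  Ideal.Quotient.mk_surjective.comp Ideal.Quotient.mk_surjective

include hK in
theorem ker_fk : RingHom.ker (fk K) = maximalIdeal R := by
  haveI := M₁_isMaximal K (maximalIdeal R) hK
  letI : Field (k₁ K) := Ideal.Quotient.field _
  exact IsLocalRing.eq_maximalIdeal (RingHom.ker_isMaximal_of_surjective _ (fk_surjective K))

include hK he in
theorem map_M₁_eq : (M₁ K (maximalIdeal R)).map (algebraMap (R ⧸ K) (Λ ⧸ K.map (algebraMap R Λ))) =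
    (maximalIdeal Λ).map (Ideal.Quotient.mk (K.map (algebraMap R Λ))) := by
  have h1 : (algebraMap (R ⧸ K) (Λ ⧸ K.map (algebraMap R Λ))).comp (Ideal.Quotient.mk K) =
      (Ideal.Quotient.mk (K.map (algebraMap R Λ))).comp (algebraMap R Λ) := by
    ext r
    rfl
  rw [← he, Ideal.map_map (algebraMap R Λ) (Ideal.Quotient.mk (K.map (algebraMap R Λ))), ← h1,
    ← Ideal.map_map (Ideal.Quotient.mk K) (algebraMap (R ⧸ K) (Λ ⧸ K.map (algebraMap R Λ)))]

include hK he in
theorem map_M₁_isMaximal' :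
    ((M₁ K (maximalIdeal R)).map
      (algebraMap (R ⧸ K) (Λ ⧸ K.map (algebraMap R Λ)))).IsMaximal := by
  rw [map_M₁_eq he K hK]
  have hKΛ : K.map (algebraMap R Λ) ≤ maximalIdeal Λ := by
    rw [← he]
    exact Ideal.map_mono hK
  rcases Ideal.map_eq_top_or_isMaximal_of_surjective (Ideal.Quotient.mk (K.map (algebraMap R Λ)))
    Ideal.Quotient.mk_surjective (maximalIdeal.isMaximal Λ) with h | h
  · exfalso
    have h2 : ((maximalIdeal Λ).map (Ideal.Quotient.mk (K.map (algebraMap R Λ)))).comap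
        (Ideal.Quotient.mk (K.map (algebraMap R Λ))) = maximalIdeal Λ := by
      rw [Ideal.comap_map_of_surjective _ Ideal.Quotient.mk_surjective,
        ← RingHom.ker_eq_comap_bot, Ideal.mk_ker, sup_eq_left]
      exact hKΛ
    rw [h, Ideal.comap_top] at h2
    exact (maximalIdeal.isMaximal Λ).ne_top h2.symm
  · exact h

include hK he in
theorem ker_fF : RingHom.ker (fF (Λ := Λ) K) = maximalIdeal Λ := by
  haveI := map_M₁_isMaximal' he K hK
  letI : Field (F₁ (Λ := Λ) K) := Ideal.Quotient.field _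
  exact IsLocalRing.eq_maximalIdeal (RingHom.ker_isMaximal_of_surjective _ (fF_surjective K))

/-- the isomorphism of residue fields `κ(R) ≃ k₁` -/
noncomputable def ek : ResidueField R ≃+* k₁ K :=
  (Ideal.quotEquivOfEq (ker_fk K hK).symm).trans
    (RingHom.quotientKerEquivOfSurjective (fk_surjective K))

theorem ek_mk (r : R) : ek K hK (Ideal.Quotient.mk _ r) = fk K r := rfl

/-- the isomorphism of residue fields `κ(Λ) ≃ F₁` -/
noncomputable def eF : ResidueField Λ ≃+* F₁ (Λ := Λ) K :=
  (Ideal.quotEquivOfEq (ker_fF he K hK).symm).trans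
    (RingHom.quotientKerEquivOfSurjective (fF_surjective K))

theorem eF_mk (y : Λ) : eF he K hK (Ideal.Quotient.mk _ y) = fF K y := rfl

theorem eF_comm (z : ResidueField R) :
    eF he K hK (algebraMap (ResidueField R) (ResidueField Λ) z) =
      algebraMap (k₁ K) (F₁ (Λ := Λ) K) (ek K hK z) := by
  obtain ⟨r, rfl⟩ := Ideal.Quotient.mk_surjective z
  rfl

include he hK in
theorem formallySmooth_F₁ [Algebra.FormallySmooth (ResidueField R) (ResidueField Λ)] :
    Algebra.FormallySmooth (k₁ K) (F₁ (Λ := Λ) K) := by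
  letI a1 : Algebra (ResidueField R) (k₁ K) := (ek K hK).toRingHom.toAlgebra
  letI a2 : Algebra (ResidueField R) (F₁ (Λ := Λ) K) :=
    ((algebraMap (k₁ K) (F₁ (Λ := Λ) K)).comp (ek K hK).toRingHom).toAlgebra
  haveI : IsScalarTower (ResidueField R) (k₁ K) (F₁ (Λ := Λ) K) :=
    IsScalarTower.of_algebraMap_eq fun _ => rfl
  let e' : ResidueField Λ ≃ₐ[ResidueField R] F₁ (Λ := Λ) K :=
    AlgEquiv.ofRingEquiv (f := eF he K hK) (fun z => eF_comm he K hK z)
  haveI : Algebra.FormallySmooth (ResidueField R) (F₁ (Λ := Λ) K) :=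
    Algebra.FormallySmooth.of_equiv e'
  haveI : Algebra.FormallyUnramified (ResidueField R) (k₁ K) :=
    Algebra.FormallyUnramified.of_surjective (Algebra.ofId (ResidueField R) (k₁ K))
      (ek K hK).surjective
  exact Algebra.FormallySmooth.of_restrictScalars (ResidueField R) (k₁ K) (F₁ (Λ := Λ) K)

include he hK in
/-- the Artinian quotients are ind-smooth -/
theorem indSmooth_quot [Module.Flat R Λ]
    [Algebra.FormallySmooth (ResidueField R) (ResidueField Λ)]
    (hnil : maximalIdeal R ≤ K.radical) :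
    IndSmooth (R ⧸ K) (Λ ⧸ K.map (algebraMap R Λ)) := by
  haveI := M₁_isMaximal K (maximalIdeal R) hK
  haveI := map_M₁_isMaximal' he K hK
  haveI := formallySmooth_F₁ he K hK
  haveI : Module.Flat (R ⧸ K) (Λ ⧸ K.map (algebraMap R Λ)) := by
    refine Groth.Agent.H91.SepE.flat_quotient_of_flat (S := Λ) K ?_ ?_
    · exact Ideal.Quotient.mk_surjective
    · rw [Ideal.Quotient.algebraMap_eq, Ideal.mk_ker]
  letI : Field (k₁ K) := Ideal.Quotient.field _
  letI : Field (F₁ (Λ := Λ) K) := Ideal.Quotient.field _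
  exact Groth.Agent.S2022.result (M₁ K (maximalIdeal R))
    (M₁_isNilpotent K (maximalIdeal R) hnil)
    (Groth.Agent.H91.SepInd.indSmooth_of_formallySmooth_field)

end

end Groth.Agent.H91.Neron
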