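import Mathlib
import Groth.Agent.H91.NeronC
import Groth.Agent.H91.NeronB
import Groth.Agent.H91.ResStepD
import Groth.Agent.S6822

/-!
# Néron desingularization, part D: the local problems
-/

set_option autoImplicit false
universe u

open Smoothing IsLocalRing TensorProduct

namespace Groth.Agent.H91.Neron

open Groth.Agent.H91.SepG Groth.Agent.H91.LocStep

/-- version of `LocStep.resolvable_of_indSmooth` with a general localization of the base -/
theorem resolvable_of_indSmooth' {R₁ C₁ Λ₁ Rₚ Λq : Type u} [CommRing R₁] [IsNoetherianRing R₁]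
    [CommRing C₁] [Algebra R₁ C₁] [Algebra.FinitePresentation R₁ C₁] [CommRing Λ₁] [Algebra R₁ Λ₁]
    (φ₁ : C₁ →ₐ[R₁] Λ₁) (𝔮₁ : Ideal Λ₁) [𝔮₁.IsPrime]
    [CommRing Rₚ] [Algebra R₁ Rₚ] [IsLocalization.AtPrime Rₚ (𝔮₁.comap (algebraMap R₁ Λ₁))]
    [CommRing Λq] [Algebra Λ₁ Λq] [IsLocalization.AtPrime Λq 𝔮₁] [Algebra R₁ Λq]
    [IsScalarTower R₁ Λ₁ Λq] [Algebra Rₚ Λq] [IsScalarTower R₁ Rₚ Λq]
    (hdim : ringKrullDim Λq = 0) (hind : IndSmooth Rₚ Λq) : Resolvable R₁ φ₁ 𝔮₁ := by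
  classical
  by_cases hle : singRad R₁ φ₁ ≤ 𝔮₁
  · haveI : Ring.KrullDimLE 0 Λq := ⟨le_of_eq hdim⟩
    haveI : IsLocalRing Λq := IsLocalization.AtPrime.isLocalRing Λq 𝔮₁
    have hmin : 𝔮₁ ∈ (singRad R₁ φ₁).minimalPrimes := by
      refine ⟨⟨inferInstance, hle⟩, fun p' ⟨hp', _⟩ hp'q => ?_⟩
      have hdisj : Disjoint (𝔮₁.primeCompl : Set Λ₁) (p' : Set Λ₁) := by
        rw [Set.disjoint_left]
        intro z hz hz'
        exact hz (hp'q hz')
      haveI hp'' : (p'.map (algebraMap Λ₁ Λq)).IsPrime :=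
        IsLocalization.isPrime_of_isPrime_disjoint 𝔮₁.primeCompl Λq p' hp' hdisj
      have hmax : (p'.map (algebraMap Λ₁ Λq)).IsMaximal := Ideal.isMaximal_of_isPrime _
      have h1 : p'.map (algebraMap Λ₁ Λq) = IsLocalRing.maximalIdeal Λq :=
        IsLocalRing.eq_maximalIdeal hmax
      have h2 : 𝔮₁.map (algebraMap Λ₁ Λq) = IsLocalRing.maximalIdeal Λq :=
        IsLocalization.AtPrime.map_eq_maximalIdeal 𝔮₁ Λq
      have h3 : (p'.map (algebraMap Λ₁ Λq)).comap (algebraMap Λ₁ Λq) = p' :=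
        IsLocalization.comap_map_of_isPrime_disjoint 𝔮₁.primeCompl Λq hp' hdisj
      have h4 : (𝔮₁.map (algebraMap Λ₁ Λq)).comap (algebraMap Λ₁ Λq) = 𝔮₁ := by
        rw [h2]
        exact IsLocalization.AtPrime.comap_maximalIdeal Λq 𝔮₁
      rw [← h3, h1, ← h2, h4]
    refine Groth.Agent.S2034.result (Rₚ := Rₚ) (Λq := Λq) φ₁ 𝔮₁ hmin hdim ?_
    obtain ⟨B, _, _, hB, g, h, hgh⟩ := hind (Rₚ ⊗[R₁] C₁) inferInstance
      (Algebra.TensorProduct.lift (Algebra.ofId Rₚ Λq) ((IsScalarTower.toAlgHom R₁ Λ₁ Λq).comp φ₁)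
        (fun _ _ => Commute.all _ _))
    haveI := hB
    have htop : singRad Rₚ h = ⊤ := by
      unfold singRad
      rw [singularIdeal_eq_top_of_smooth, Ideal.map_top, Ideal.radical_top]
    refine ⟨B, inferInstance, inferInstance, inferInstance, g, h, hgh, ?_, ?_⟩
    · rw [htop]; exact le_top
    · rw [htop]
      intro hcon
      have h2 : 𝔮₁.map (algebraMap Λ₁ Λq) = IsLocalRing.maximalIdeal Λq :=
        IsLocalization.AtPrime.map_eq_maximalIdeal 𝔮₁ Λq
      rw [h2] at hcon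
      exact (IsLocalRing.maximalIdeal.isMaximal Λq).ne_top (top_le_iff.mp hcon)
  · exact ⟨C₁, inferInstance, inferInstance, inferInstance, AlgHom.id R₁ C₁, φ₁,
      AlgHom.comp_id φ₁, le_rfl, hle⟩

section Reduced

variable {R Λ : Type u} [CommRing R] [IsNoetherianRing R] [CommRing Λ] [Algebra R Λ]
  [IsLocalRing R] [IsLocalRing Λ] [IsLocalHom (algebraMap R Λ)]
  (he : (maximalIdeal R).map (algebraMap R Λ) = maximalIdeal Λ)
  (K : Ideal R) (hK : K ≤ maximalIdeal R)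

include he hK in
/-- the reduced problem over the Artinian quotient can be resolved -/
theorem reduced_resolvable [Module.Flat R Λ]
    [Algebra.FormallySmooth (ResidueField R) (ResidueField Λ)]
    (hnil : maximalIdeal R ≤ K.radical)
    {C₁ : Type u} [CommRing C₁] [Algebra (R ⧸ K) C₁] [Algebra.FinitePresentation (R ⧸ K) C₁]
    (φ₁ : C₁ →ₐ[R ⧸ K] (Λ ⧸ K.map (algebraMap R Λ)))
    [h𝔮₁ : ((maximalIdeal Λ).map (Ideal.Quotient.mk (K.map (algebraMap R Λ)))).IsPrime] :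
    Resolvable (R ⧸ K) φ₁ ((maximalIdeal Λ).map (Ideal.Quotient.mk (K.map (algebraMap R Λ)))) := by
  haveI := M₁_isMaximal K (maximalIdeal R) hK
  haveI hJmax := map_M₁_isMaximal' he K hK
  have hJnil : (M₁ K (maximalIdeal R)).map (algebraMap (R ⧸ K) (Λ ⧸ K.map (algebraMap R Λ))) ≤
      nilradical (Λ ⧸ K.map (algebraMap R Λ)) := by
    rw [Ideal.map_le_iff_le_comap]
    intro x hx
    have h1 : IsNilpotent x := M₁_le_nilradical K (maximalIdeal R) hnil hx
    exact h1.map _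
  haveI : IsLocalization.AtPrime (Λ ⧸ K.map (algebraMap R Λ))
      ((maximalIdeal Λ).map (Ideal.Quotient.mk (K.map (algebraMap R Λ)))) :=
    Groth.Agent.H91.SepF.isLocalization_atPrime_of_le_nilradical _ hJnil _
  refine resolvable_of_indSmooth (Λq := Λ ⧸ K.map (algebraMap R Λ)) φ₁ _ ?_ ?_ ?_
  · exact Groth.Agent.H91.SepF.isLocalization_atPrime_of_le_nilradical (M₁ K (maximalIdeal R))
      (M₁_le_nilradical K (maximalIdeal R) hnil) _
  · exact Groth.Agent.H91.SepF.ringKrullDim_eq_zero_of_le_nilradical _ hJnil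
  · exact indSmooth_quot he K hK hnil

end Reduced

end Groth.Agent.H91.Neron
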