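import Mathlib
import Groth.Agent.H91.NeronD

/-!
# Néron desingularization, part E: the problem at the maximal ideal
-/

set_option autoImplicit false
universe u

open Smoothing IsLocalRing TensorProduct

namespace Groth.Agent.H91.Neron

section Max

variable {R Λ : Type u} [CommRing R] [IsNoetherianRing R] [CommRing Λ] [Algebra R Λ]
  [IsLocalRing R] [IsLocalRing Λ] [IsLocalHom (algebraMap R Λ)] [IsDomain R] [IsDomain Λ]
  (he : (maximalIdeal R).map (algebraMap R Λ) = maximalIdeal Λ)
  (hinj : Function.Injective (algebraMap R Λ))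
  (π : R) (hπ : maximalIdeal R = Ideal.span {π}) (hπ0 : π ≠ 0)

include he hinj hπ hπ0 in
theorem resolvable_max [Module.Flat R Λ]
    [Algebra.FormallySmooth (ResidueField R) (ResidueField Λ)]
    {A : Type u} [CommRing A] [Algebra R A] [Algebra.FinitePresentation R A] (φ : A →ₐ[R] Λ)
    (n : ℕ) (hn : algebraMap R Λ π ^ n ∈ (singularIdeal R A).map φ) :
    Resolvable R φ (maximalIdeal Λ) := by
  classical
  haveI : IsNoetherianRing A := Algebra.FiniteType.isNoetherianRing R A
  obtain ⟨r', a', ha'⟩ := Submodule.fg_iff_exists_fin_generating_family.1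
    (IsNoetherian.noetherian (singularIdeal R A))
  let a : Fin (r' + 1) → A := Fin.cons 0 a'
  have hspan : Ideal.span (Set.range a) = singularIdeal R A := by
    change Ideal.span (Set.range (Fin.cons 0 a' : Fin (r' + 1) → A)) = _
    rw [Fin.range_cons, Ideal.span_insert_zero]
    exact ha'
  have ha : ∀ j, a j ∈ singularIdeal R A := fun j => by
    rw [← hspan]; exact Ideal.subset_span ⟨j, rfl⟩
  have hmapspan : (singularIdeal R A).map φ = Ideal.span (Set.range fun j => φ (a j)) := by
    rw [← hspan, Ideal.map_span, ← Set.range_comp]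
    rfl
  rw [hmapspan] at hn
  obtain ⟨l, hl⟩ := Ideal.mem_span_range_iff_exists_fun.mp hn
  obtain ⟨C, _, _, hfpC, ι, hH, -, ⟨c, hc, hstd⟩, hP⟩ :=
    phase1 (R := R) (A := A) 1 n (r' + 1) (Nat.succ_pos r') (fun _ => π) a ha
  obtain ⟨φC, hφC⟩ := hP Λ φ (fun _ => l) (fun _ => hl.symm)
  haveI := hfpC
  have hπm : π ∈ maximalIdeal R := by
    rw [hπ]; exact Ideal.subset_span rfl
  have hπΛ : algebraMap R Λ π ∈ maximalIdeal Λ := by
    rw [← he]; exact Ideal.mem_map_of_mem _ hπm
  have hπΛ0 : algebraMap R Λ π ≠ 0 := fun h => hπ0 (hinj (h.trans (map_zero _).symm))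
  let K : Ideal R := Ideal.span (Set.range fun _ : Fin 1 => (π ^ c) ^ 8)
  have hKle : K ≤ maximalIdeal R := by
    rw [Ideal.span_le]
    rintro _ ⟨i, rfl⟩
    change (π ^ c) ^ 8 ∈ maximalIdeal R
    rw [← pow_mul]
    exact Ideal.pow_mem_of_mem _ hπm _ (Nat.mul_pos hc (by norm_num))
  have hnil : maximalIdeal R ≤ K.radical := by
    rw [hπ, Ideal.span_le, Set.singleton_subset_iff]
    refine ⟨c * 8, ?_⟩
    rw [pow_mul]
    exact Ideal.subset_span ⟨0, rfl⟩
  have hKΛ : K.map (algebraMap R Λ) ≤ maximalIdeal Λ := by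
    rw [← he]; exact Ideal.map_mono hKle
  haveI : Algebra.FinitePresentation (R ⧸ K) (C ⧸ K.map (algebraMap R C)) :=
    Groth.Agent.H91.ResStep.finitePresentation_of_isStrictlyStandard
      (Groth.Agent.H91.ResStep.isStrictlyStandard_mk K _ (hstd 0))
  haveI : ((maximalIdeal Λ).map (Ideal.Quotient.mk (K.map (algebraMap R Λ)))).IsPrime :=
    Ideal.map_isPrime_of_surjective Ideal.Quotient.mk_surjective (by
      rw [Ideal.mk_ker]
      exact hKΛ)
  have hempty : ∀ (i : Fin 1) (f : {j : Fin 1 // (j : ℕ) < (i : ℕ)} → R),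
      Ideal.span (Set.range f) = ⊥ := by
    intro i f
    have : IsEmpty {j : Fin 1 // (j : ℕ) < (i : ℕ)} := ⟨fun j => by
      have := j.2
      have hi : (i : ℕ) = 0 := by omega
      omega⟩
    rw [Set.range_eq_empty, Ideal.span_empty]
  have hemptyΛ : ∀ (i : Fin 1) (f : {j : Fin 1 // (j : ℕ) < (i : ℕ)} → Λ),
      Ideal.span (Set.range f) = ⊥ := by
    intro i f
    have : IsEmpty {j : Fin 1 // (j : ℕ) < (i : ℕ)} := ⟨fun j => by
      have := j.2
      have hi : (i : ℕ) = 0 := by omega
      omega⟩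
    rw [Set.range_eq_empty, Ideal.span_empty]
  have hres : Resolvable R φC (maximalIdeal Λ) := by
    refine Groth.Agent.S6822.result φC (maximalIdeal Λ) one_pos (fun _ => π ^ c) ?_ ?_ ?_ hstd K rfl
      (Groth.Agent.H91.ResStep.φQ φC K) (fun _ => rfl) ?_
    · intro _
      rw [map_pow]
      exact Ideal.pow_mem_of_mem _ hπΛ _ hc
    · intro i x hx
      obtain ⟨y, rfl⟩ := Ideal.Quotient.mk_surjective x
      rw [← map_pow, ← map_mul, Ideal.Quotient.eq_zero_iff_mem, hempty, Ideal.mem_bot] at hx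
      have hy : y = 0 := by
        rcases mul_eq_zero.mp hx with h | h
        · exact absurd (pow_eq_zero_iff (by norm_num) |>.mp h)
            (pow_ne_zero _ hπ0)
        · exact h
      rw [hy, map_zero, mul_zero]
    · intro i x hx
      obtain ⟨y, rfl⟩ := Ideal.Quotient.mk_surjective x
      have hx' : (algebraMap R Λ (π ^ c)) ^ 2 * y ∈ Ideal.span (Set.range
          fun j : {j : Fin 1 // (j : ℕ) < (i : ℕ)} =>
            algebraMap R Λ ((fun _ : Fin 1 => π ^ c) (j : Fin 1)) ^ 8) := by
        rw [← Ideal.Quotient.eq_zero_iff_mem, map_mul, map_pow]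
        exact hx
      rw [hemptyΛ, Ideal.mem_bot] at hx'
      have hy : y = 0 := by
        rcases mul_eq_zero.mp hx' with h | h
        · exfalso
          have h1 := pow_eq_zero_iff (by norm_num) |>.mp h
          rw [map_pow] at h1
          exact pow_ne_zero _ hπΛ0 h1
        · exact h
      rw [hy, map_zero, mul_zero]
    · exact reduced_resolvable he K hKle hnil _
  obtain ⟨B', _, _, hfpB', g', h', hgh', hle', hnle'⟩ := hres
  refine ⟨B', inferInstance, inferInstance, hfpB', g'.comp ι, h', ?_, ?_, hnle'⟩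
  · ext y
    change h' (g' (ι y)) = φ y
    rw [← hφC y, ← hgh']
    rfl
  · refine le_trans ?_ hle'
    unfold singRad
    rw [Ideal.radical_le_radical_iff, hmapspan, Ideal.span_le]
    rintro _ ⟨j, rfl⟩
    apply Ideal.le_radical
    change φ (a j) ∈ _
    rw [← hφC]
    exact Ideal.mem_map_of_mem _ (hH j)

end Max

end Groth.Agent.H91.Neron
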