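import Mathlib
import Groth.Agent.H91.NeronE

/-!
# Néron desingularization, part F: the generic point and the final assembly
-/

set_option autoImplicit false
universe u

open Smoothing IsLocalRing TensorProduct

namespace Groth.Agent.H91.Neron

section Bot

variable {R Λ K L : Type u} [CommRing R] [IsNoetherianRing R] [IsDomain R] [CommRing Λ]
  [IsDomain Λ] [Algebra R Λ] (hinj : Function.Injective (algebraMap R Λ))
  [Field K] [Algebra R K] [IsFractionRing R K] [Field L] [Algebra Λ L] [IsFractionRing Λ L]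
  [Algebra K L] [Algebra R L] [IsScalarTower R K L] [IsScalarTower R Λ L]

include hinj in
theorem resolvable_bot [Algebra.FormallySmooth K L]
    {A : Type u} [CommRing A] [Algebra R A] [Algebra.FinitePresentation R A] (φ : A →ₐ[R] Λ) :
    Resolvable R φ (⊥ : Ideal Λ) := by
  haveI hbp : (⊥ : Ideal Λ).IsPrime := Ideal.bot_prime
  have h1 : ((⊥ : Ideal Λ).comap (algebraMap R Λ)).primeCompl = nonZeroDivisors R := by
    ext x
    rw [mem_nonZeroDivisors_iff_ne_zero]
    change x ∉ (⊥ : Ideal Λ).comap (algebraMap R Λ) ↔ _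
    rw [Ideal.mem_comap, Ideal.mem_bot, map_eq_zero_iff _ hinj]
  have h2 : (⊥ : Ideal Λ).primeCompl = nonZeroDivisors Λ := by
    ext x
    rw [mem_nonZeroDivisors_iff_ne_zero]
    change x ∉ (⊥ : Ideal Λ) ↔ _
    rw [Ideal.mem_bot]
  haveI i1 : IsLocalization.AtPrime K ((⊥ : Ideal Λ).comap (algebraMap R Λ)) := by
    change IsLocalization ((⊥ : Ideal Λ).comap (algebraMap R Λ)).primeCompl K
    rw [h1]
    infer_instance
  haveI i2 : IsLocalization.AtPrime L (⊥ : Ideal Λ) := by
    change IsLocalization (⊥ : Ideal Λ).primeCompl L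
    rw [h2]
    infer_instance
  exact resolvable_of_indSmooth' (Rₚ := K) (Λq := L) φ ⊥ (ringKrullDim_eq_zero_of_field L)
    Groth.Agent.H91.SepInd.indSmooth_of_formallySmooth_field

end Bot

theorem main {R Λ K L : Type u} [CommRing R] [IsDomain R]
    [IsDiscreteValuationRing R] [CommRing Λ] [IsDomain Λ] [IsDiscreteValuationRing Λ] [Algebra R Λ]
    [NoZeroSMulDivisors R Λ] [IsLocalHom (algebraMap R Λ)]
    (he : (IsLocalRing.maximalIdeal R).map (algebraMap R Λ) = IsLocalRing.maximalIdeal Λ)
    [Algebra.IsGeometricallyReduced (IsLocalRing.ResidueField R) (IsLocalRing.ResidueField Λ)]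
    [Field K] [Algebra R K] [IsFractionRing R K] [Field L] [Algebra Λ L] [IsFractionRing Λ L]
    [Algebra K L] [Algebra R L] [IsScalarTower R K L] [IsScalarTower R Λ L]
    [Algebra.IsGeometricallyReduced K L] :
    Smoothing.IndSmooth R Λ := by
  haveI : Algebra.FormallySmooth (ResidueField R) (ResidueField Λ) :=
    Groth.Agent.H47.formallySmooth_field_iff_isGeometricallyReduced.mpr inferInstance
  haveI : Algebra.FormallySmooth K L :=
    Groth.Agent.H47.formallySmooth_field_iff_isGeometricallyReduced.mpr inferInstance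
  have hinj : Function.Injective (algebraMap R Λ) := FaithfulSMul.algebraMap_injective R Λ
  obtain ⟨π, hπirr⟩ := IsDiscreteValuationRing.exists_irreducible R
  have hπ : maximalIdeal R = Ideal.span {π} := hπirr.maximalIdeal_eq
  have hπΛ : algebraMap R Λ π ∈ maximalIdeal Λ := by
    rw [← he]
    apply Ideal.mem_map_of_mem
    rw [hπ]; exact Ideal.subset_span rfl
  apply indSmooth_of_resolvable
  intro A _ _ _ φ 𝔮 _ hmin
  by_cases h𝔮 : 𝔮 = ⊥
  · subst h𝔮
    exact resolvable_bot (K := K) (L := L) hinj φ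
  · have h𝔮max : 𝔮 = maximalIdeal Λ :=
      IsLocalRing.eq_maximalIdeal (Ring.DimensionLEOne.maximalOfPrime h𝔮 inferInstance)
    subst h𝔮max
    have hrad : maximalIdeal Λ ≤ ((singularIdeal R A).map φ).radical := by
      rw [Ideal.radical_eq_sInf]
      refine le_sInf ?_
      rintro P ⟨hIP, hP⟩
      by_cases hP0 : P = ⊥
      · exfalso
        subst hP0
        have h1 : singRad R φ ≤ (⊥ : Ideal Λ) := by
          unfold singRad
          rw [hP.radical_le_iff]
          exact hIP
        exact h𝔮 (le_bot_iff.mp (hmin.2 ⟨hP, h1⟩ bot_le))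
      · rw [IsLocalRing.eq_maximalIdeal (Ring.DimensionLEOne.maximalOfPrime hP0 hP)]
    obtain ⟨n, hn⟩ := Ideal.exists_pow_le_of_le_radical_of_fg hrad (IsNoetherian.noetherian _)
    exact resolvable_max he hinj π hπ hπirr.ne_zero φ n (hn (Ideal.pow_mem_pow hπΛ n))

end Groth.Agent.H91.Neron
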