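import Mathlib
import Groth.Agent.H9.Chevalley

/-!
# Auxiliary lemmas for sections through a node (S19894)

* `isLocalHom_of_retraction`: a ring map out of a local ring having a section is local.
* `exists_pow_forall_span_eq`: in a Noetherian local UFD `T`, if `τ₁ τ₂ = D ≠ 0` then there is `N`
  such that every factorisation `a b = D` with `a ≡ τ₁`, `b ≡ τ₂` modulo `𝔪^N` has
  `(a) = (τ₁)` and `(b) = (τ₂)`.
-/

set_option autoImplicit false
universe u

namespace Groth.Agent.H91.NodeSecA

open IsLocalRing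

/-- a ring map `r : B → A` out of a local ring admitting a section is a local homomorphism. -/
theorem isLocalHom_of_retraction {A B : Type*} [CommRing A] [CommRing B] [Nontrivial A]
    [IsLocalRing B] (i : A →+* B) (r : B →+* A) (h : ∀ a, r (i a) = a) : IsLocalHom r := by
  constructor
  intro b hb
  by_contra hnb
  have hbm : b ∈ maximalIdeal B := (mem_maximalIdeal b).mpr hnb
  have hker : RingHom.ker r ≤ maximalIdeal B :=
    le_maximalIdeal (RingHom.ker_ne_top r)
  have h1 : b - i (r b) ∈ RingHom.ker r := by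
    rw [RingHom.mem_ker, map_sub, h, sub_self]
  have h2 : i (r b) ∈ maximalIdeal B := by
    have := (maximalIdeal B).sub_mem hbm (hker h1)
    simpa using this
  exact ((mem_maximalIdeal _).mp h2) (hb.map i)

section UFD

variable {T : Type*} [CommRing T] [IsDomain T] [UniqueFactorizationMonoid T]

/-- the principal ideals generated by divisors of a nonzero element of a UFD form a finite set. -/
theorem finite_span_dvd (D : T) (hD : D ≠ 0) :
    {J : Ideal T | ∃ d : T, d ∣ D ∧ J = Ideal.span {d}}.Finite := by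
  classical
  have hD' : Associates.mk D ≠ 0 := by
    rwa [Ne, Associates.mk_eq_zero]
  haveI : Fintype {x : Associates T // x ∣ Associates.mk D} :=
    UniqueFactorizationMonoid.fintypeSubtypeDvd (Associates.mk D) hD'
  refine Set.Finite.subset (Set.finite_range
    (fun x : {x : Associates T // x ∣ Associates.mk D} => Ideal.span {Quotient.out x.1})) ?_
  rintro J ⟨d, hd, rfl⟩
  refine ⟨⟨Associates.mk d, Associates.mk_dvd_mk.mpr hd⟩, ?_⟩
  change Ideal.span {Quotient.out (Associates.mk d)} = Ideal.span {d}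
  rw [Ideal.span_singleton_eq_span_singleton]
  exact Associates.mk_eq_mk_iff_associated.mp (Associates.quot_out _)

variable [IsNoetherianRing T] [IsLocalRing T]

theorem exists_pow_forall_span_eq (D τ₁ τ₂ : T) (hD : D ≠ 0) (h : τ₁ * τ₂ = D) :
    ∃ N : ℕ, ∀ a b : T, a * b = D → a - τ₁ ∈ maximalIdeal T ^ N →
      b - τ₂ ∈ maximalIdeal T ^ N →
      Ideal.span {a} = Ideal.span {τ₁} ∧ Ideal.span {b} = Ideal.span {τ₂} := by
  classical
  have hfin := finite_span_dvd D hD
  -- for each ideal `J` and `τ`, eventually `τ ∈ J ⊔ 𝔪^N → τ ∈ J`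
  have hev : ∀ (τ : T) (J : Ideal T), ∀ᶠ N in Filter.atTop,
      (τ ∈ J ⊔ maximalIdeal T ^ N → τ ∈ J) := by
    intro τ J
    by_cases hτ : τ ∈ J
    · exact Filter.Eventually.of_forall (fun _ _ => hτ)
    · have : ¬ ∀ n : ℕ, τ ∈ J ⊔ maximalIdeal T ^ n :=
        fun hall => hτ (Groth.Agent.H9.mem_of_forall_mem_sup_pow J τ hall)
      push_neg at this
      obtain ⟨N, hN⟩ := this
      rw [Filter.eventually_atTop]
      refine ⟨N, fun n hn hmem => absurd ?_ hN⟩
      exact (sup_le_sup_left (Ideal.pow_le_pow_right hn) J) hmem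
  have hall : ∀ᶠ N in Filter.atTop, ∀ J ∈ {J : Ideal T | ∃ d : T, d ∣ D ∧ J = Ideal.span {d}},
      ((τ₁ ∈ J ⊔ maximalIdeal T ^ N → τ₁ ∈ J) ∧ (τ₂ ∈ J ⊔ maximalIdeal T ^ N → τ₂ ∈ J)) := by
    rw [Filter.eventually_all_finite hfin]
    intro J _
    exact (hev τ₁ J).and (hev τ₂ J)
  obtain ⟨N, hN⟩ := Filter.eventually_atTop.mp hall
  refine ⟨N, fun a b hab ha hb => ?_⟩
  have h1 : τ₁ ∈ Ideal.span {a} := by
    refine (hN N le_rfl (Ideal.span {a}) ⟨a, ⟨b, hab.symm⟩, rfl⟩).1 ?_
    have : τ₁ = a - (a - τ₁) := by ring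
    rw [this]
    exact Ideal.sub_mem _ (Ideal.mem_sup_left (Ideal.mem_span_singleton_self a))
      (Ideal.mem_sup_right ha)
  have h2 : τ₂ ∈ Ideal.span {b} := by
    refine (hN N le_rfl (Ideal.span {b}) ⟨b, ⟨a, by rw [mul_comm]; exact hab.symm⟩, rfl⟩).2 ?_
    have : τ₂ = b - (b - τ₂) := by ring
    rw [this]
    exact Ideal.sub_mem _ (Ideal.mem_sup_left (Ideal.mem_span_singleton_self b))
      (Ideal.mem_sup_right hb)
  obtain ⟨x, hx⟩ := Ideal.mem_span_singleton.mp h1
  obtain ⟨y, hy⟩ := Ideal.mem_span_singleton.mp h2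
  have hxy : x * y = 1 := by
    have : D * (x * y) = D * 1 := by
      rw [mul_one]
      calc D * (x * y) = (a * x) * (b * y) := by rw [← hab]; ring
        _ = D := by rw [← hx, ← hy, h]
    exact mul_left_cancel₀ hD this
  have hxu : IsUnit x := IsUnit.of_mul_eq_one y hxy
  have hyu : IsUnit y := IsUnit.of_mul_eq_one x (by rw [mul_comm]; exact hxy)
  constructor
  · rw [Ideal.span_singleton_eq_span_singleton, hx]
    exact (associated_mul_unit_right a x hxu)
  · rw [Ideal.span_singleton_eq_span_singleton, hy]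
    exact (associated_mul_unit_right b y hyu)

end UFD

end Groth.Agent.H91.NodeSecA
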