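import Mathlib
import Groth.Agent.S0596

/-!
# Approximating formal sections of essentially finite type algebras (for S19894)

`R` a henselian local G-ring, `C` an `R`-algebra essentially of finite type, and
`φ : C →ₐ[R] R^` an `R`-algebra map to the completion.  Then for every `N` there is an
`R`-algebra map `g : C →ₐ[R] R` congruent to `φ` modulo `𝔪^N R^` (Artin approximation).
-/

set_option autoImplicit false
universe u

namespace Groth.Agent.H91.NodeSecB

open IsLocalRing

variable (R : Type u) [CommRing R] [HenselianLocalRing R] (hG : CAlg.IsGRing R)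

include hG

theorem exists_algHom_approx_of_finiteType (B : Type u) [CommRing B] [Algebra R B]
    [Algebra.FiniteType R B] (φ : B →ₐ[R] AdicCompletion (maximalIdeal R) R) (N : ℕ) :
    ∃ g : B →ₐ[R] R, ∀ x, algebraMap R (AdicCompletion (maximalIdeal R) R) (g x) - φ x ∈
      (maximalIdeal R ^ N).map (algebraMap R (AdicCompletion (maximalIdeal R) R)) := by
  haveI : IsNoetherianRing R := hG.1
  obtain ⟨n, f, hf⟩ := Algebra.FiniteType.iff_quotient_mvPolynomial''.mp ‹Algebra.FiniteType R B›
  obtain ⟨m, F, hF⟩ := Submodule.fg_iff_exists_fin_generating_family.mp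
    (IsNoetherian.noetherian (RingHom.ker f.toRingHom))
  let a : Fin n → AdicCompletion (maximalIdeal R) R := fun i => φ (f (MvPolynomial.X i))
  have hφf : ∀ p : MvPolynomial (Fin n) R,
      MvPolynomial.eval a (MvPolynomial.map
        (algebraMap R (AdicCompletion (maximalIdeal R) R)) p) = φ (f p) := by
    intro p
    have h1 : (MvPolynomial.aeval a : MvPolynomial (Fin n) R →ₐ[R] _) = φ.comp f := by
      apply MvPolynomial.algHom_ext
      intro i
      simp [a]
    rw [MvPolynomial.eval_map, ← MvPolynomial.aeval_def, h1]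
    rfl
  have ha : ∀ j, MvPolynomial.eval a (MvPolynomial.map
      (algebraMap R (AdicCompletion (maximalIdeal R) R)) (F j)) = 0 := by
    intro j
    rw [hφf]
    have h1 : F j ∈ RingHom.ker f.toRingHom := by
      rw [← hF]; exact Submodule.subset_span ⟨j, rfl⟩
    have h2 : f (F j) = 0 := h1
    rw [h2, map_zero]
  obtain ⟨b, hb0, hbN⟩ := Groth.Agent.S0596.result R hG n m F a ha N
  let g₀ : MvPolynomial (Fin n) R →ₐ[R] R := MvPolynomial.aeval b
  have hg₀ : ∀ p ∈ RingHom.ker f.toRingHom, g₀ p = 0 := by
    intro p hp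
    have h1 : Ideal.span (Set.range F) ≤ RingHom.ker g₀.toRingHom := by
      rw [Ideal.span_le]
      rintro _ ⟨j, rfl⟩
      change g₀ (F j) = 0
      exact hb0 j
    have h2 : p ∈ Ideal.span (Set.range F) := by
      change p ∈ Submodule.span _ (Set.range F)
      rw [hF]; exact hp
    exact h1 h2
  let e := Ideal.quotientKerAlgEquivOfSurjective hf
  let g : B →ₐ[R] R :=
    (Ideal.Quotient.liftₐ (RingHom.ker f.toRingHom) g₀ hg₀).comp e.symm.toAlgHom
  have hgf : ∀ p, g (f p) = g₀ p := by
    intro p
    have h1 : e.symm (f p) = Ideal.Quotient.mk _ p := by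
      rw [AlgEquiv.symm_apply_eq]
      rfl
    change (Ideal.Quotient.liftₐ (RingHom.ker f.toRingHom) g₀ hg₀) (e.symm (f p)) = g₀ p
    rw [h1]
    rfl
  refine ⟨g, fun x => ?_⟩
  obtain ⟨p, rfl⟩ := hf x
  rw [hgf]
  have h3 : (Ideal.Quotient.mk ((maximalIdeal R ^ N).map
        (algebraMap R (AdicCompletion (maximalIdeal R) R)))).comp
      ((algebraMap R (AdicCompletion (maximalIdeal R) R)).comp g₀.toRingHom) =
      (Ideal.Quotient.mk ((maximalIdeal R ^ N).map
        (algebraMap R (AdicCompletion (maximalIdeal R) R)))).comp (φ.comp f).toRingHom := by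
    apply MvPolynomial.ringHom_ext
    · intro r
      simp [g₀]
    · intro i
      simp only [RingHom.coe_comp, Function.comp_apply, AlgHom.toRingHom_eq_coe,
        RingHom.coe_coe, AlgHom.comp_apply]
      rw [Ideal.Quotient.eq]
      have h4 : g₀ (MvPolynomial.X i) = b i := by simp [g₀]
      rw [h4]
      have h5 := hbN i
      have h6 : algebraMap R (AdicCompletion (maximalIdeal R) R) (b i) - φ (f (MvPolynomial.X i)) =
          - (a i - algebraMap R (AdicCompletion (maximalIdeal R) R) (b i)) := by
        simp [a]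
      rw [h6]
      exact neg_mem h5
  have h7 := RingHom.congr_fun h3 p
  simp only [RingHom.coe_comp, Function.comp_apply, AlgHom.toRingHom_eq_coe,
    RingHom.coe_coe, AlgHom.comp_apply] at h7
  exact Ideal.Quotient.eq.mp h7

theorem exists_algHom_approx (C : Type u) [CommRing C] [Algebra R C]
    [Algebra.EssFiniteType R C] (φ : C →ₐ[R] AdicCompletion (maximalIdeal R) R) (N : ℕ) :
    ∃ g : C →ₐ[R] R, ∀ c, algebraMap R (AdicCompletion (maximalIdeal R) R) (g c) - φ c ∈
      (maximalIdeal R ^ N).map (algebraMap R (AdicCompletion (maximalIdeal R) R)) := by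
  haveI : IsNoetherianRing R := hG.1
  let B := Algebra.EssFiniteType.subalgebra R C
  let M := Algebra.EssFiniteType.submonoid R C
  let φB : B →ₐ[R] AdicCompletion (maximalIdeal R) R := φ.comp B.val
  obtain ⟨gB, hgB⟩ := exists_algHom_approx_of_finiteType R hG B φB (N + 1)
  have hJle : (maximalIdeal R ^ (N + 1)).map
      (algebraMap R (AdicCompletion (maximalIdeal R) R)) ≤
      maximalIdeal (AdicCompletion (maximalIdeal R) R) := by
    rw [AdicCompletion.maximalIdeal_eq_map]
    exact Ideal.map_mono (Ideal.pow_le_self (Nat.succ_ne_zero N))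
  have hJN : (maximalIdeal R ^ (N + 1)).map
      (algebraMap R (AdicCompletion (maximalIdeal R) R)) ≤
      (maximalIdeal R ^ N).map (algebraMap R (AdicCompletion (maximalIdeal R) R)) :=
    Ideal.map_mono (Ideal.pow_le_pow_right (Nat.le_succ N))
  have hu : ∀ s : M, IsUnit (gB s) := by
    intro s
    by_contra hns
    have h1 : gB s ∈ maximalIdeal R := (mem_maximalIdeal _).mpr hns
    have h2 : algebraMap R (AdicCompletion (maximalIdeal R) R) (gB s) ∈
        maximalIdeal (AdicCompletion (maximalIdeal R) R) := by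
      rw [AdicCompletion.maximalIdeal_eq_map]
      exact Ideal.mem_map_of_mem _ h1
    have h3 : φB s ∈ maximalIdeal (AdicCompletion (maximalIdeal R) R) := by
      have := Ideal.sub_mem _ h2 (hJle (hgB s))
      simpa using this
    have h4 : IsUnit (algebraMap B C s) := s.2
    have h5 : IsUnit (φB s) := h4.map φ
    exact ((mem_maximalIdeal _).mp h3) h5
  let g : C →ₐ[R] R := IsLocalization.liftAlgHom (M := M) (f := gB) hu
  refine ⟨g, fun c => ?_⟩
  obtain ⟨⟨x, s⟩, hxs⟩ := IsLocalization.surj M c
  have hgx : g (algebraMap B C x) = gB x := IsLocalization.lift_eq hu x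
  have hgs : g (algebraMap B C s) = gB s := IsLocalization.lift_eq hu s
  have h1 : g c * gB s = gB x := by
    rw [← hgs, ← hgx, ← map_mul]
    exact congrArg g hxs
  have h2 : φ c * φB s = φB x := by
    change φ c * φ (algebraMap B C s) = φ (algebraMap B C x)
    rw [← map_mul]
    exact congrArg φ hxs
  have hsu : IsUnit (algebraMap R (AdicCompletion (maximalIdeal R) R) (gB s)) :=
    (hu s).map _
  have h3 : (algebraMap R (AdicCompletion (maximalIdeal R) R) (g c) - φ c) *
      algebraMap R (AdicCompletion (maximalIdeal R) R) (gB s) =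
      (algebraMap R (AdicCompletion (maximalIdeal R) R) (gB x) - φB x) -
        φ c * (algebraMap R (AdicCompletion (maximalIdeal R) R) (gB s) - φB s) := by
    rw [← h1, ← h2, map_mul]
    ring
  have h4 : (algebraMap R (AdicCompletion (maximalIdeal R) R) (g c) - φ c) *
      algebraMap R (AdicCompletion (maximalIdeal R) R) (gB s) ∈
      (maximalIdeal R ^ N).map (algebraMap R (AdicCompletion (maximalIdeal R) R)) := by
    rw [h3]
    exact Ideal.sub_mem _ (hJN (hgB x)) (Ideal.mul_mem_left _ _ (hJN (hgB s)))
  exact (Ideal.mul_unit_mem_iff_mem _ hsu).mp h4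

end Groth.Agent.H91.NodeSecB
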