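import Mathlib
import Groth.Prelude.Def_FSch3
import Groth.Agent.H20.ComplMap
import Groth.Agent.H47.PSEvalGen
import Groth.Agent.Lead.CompletionIAdic
import Groth.Agent.H91.NodeSecA
import Groth.Agent.H91.NodeSecB

/-!
# Sections through a node realising a given factorisation (S19894)
-/

set_option autoImplicit false
universe u

namespace Groth.Agent.H91.NodeSecC

open IsLocalRing MvPowerSeries

section Density

variable {C : Type u} [CommRing C] (I : Ideal C)

/-- density of `C` in its `I`-adic completion, `I` finitely generated. -/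
theorem exists_sub_mem_map_pow (hI : I.FG) (N : ℕ) (z : AdicCompletion I C) :
    ∃ c : C, z - algebraMap C (AdicCompletion I C) c ∈
      (I ^ N).map (algebraMap C (AdicCompletion I C)) := by
  obtain ⟨c, hc⟩ := Submodule.Quotient.mk_surjective _ (AdicCompletion.eval I C N z)
  refine ⟨c, ?_⟩
  have h1 : z - AdicCompletion.of I C c ∈ LinearMap.ker (AdicCompletion.eval I C N) := by
    rw [LinearMap.mem_ker, map_sub, AdicCompletion.eval_of, ← hc]
    exact sub_self _
  rw [← AdicCompletion.pow_smul_top_eq_ker_eval hI, Ideal.smul_top_eq_map] at h1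
  exact h1

end Density

section Main

variable (R : Type u) [CommRing R] [HenselianLocalRing R] (hG : CAlg.IsGRing R)
  [IsDomain (AdicCompletion (maximalIdeal R) R)]
  [UniqueFactorizationMonoid (AdicCompletion (maximalIdeal R) R)]
  (Δ t₁ t₂ : R) (hΔ : Δ ≠ 0) (ht₁ : t₁ ∈ maximalIdeal R) (ht₂ : t₂ ∈ maximalIdeal R)
  (ht : t₁ * t₂ = Δ)
  (C : Type u) [CommRing C] [IsLocalRing C] [Algebra R C] [IsLocalHom (algebraMap R C)]
  [Algebra.EssFiniteType R C]
  (ψ : AdicCompletion (maximalIdeal C) C ≃+*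
    (MvPowerSeries (Fin 2) (AdicCompletion (maximalIdeal R) R) ⧸
      Ideal.span {(X 0 * X 1 - MvPowerSeries.C (algebraMap R (AdicCompletion (maximalIdeal R) R) Δ) :
        MvPowerSeries (Fin 2) (AdicCompletion (maximalIdeal R) R))}))
  (hψ : ψ.toRingHom.comp ((algebraMap C (AdicCompletion (maximalIdeal C) C)).comp (algebraMap R C)) =
    (Ideal.Quotient.mk _).comp ((MvPowerSeries.C : AdicCompletion (maximalIdeal R) R →+*
      MvPowerSeries (Fin 2) (AdicCompletion (maximalIdeal R) R)).comp
        (algebraMap R (AdicCompletion (maximalIdeal R) R))))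

include hG hΔ ht₁ ht₂ ht hψ

local notation "ι" => algebraMap R (AdicCompletion (maximalIdeal R) R)
local notation "ιC" => algebraMap C (AdicCompletion (maximalIdeal C) C)

theorem exists_retraction :
    ∃ (g : C →ₐ[R] R) (ĝ : AdicCompletion (maximalIdeal C) C →+* AdicCompletion (maximalIdeal R) R),
      ĝ.comp (algebraMap C (AdicCompletion (maximalIdeal C) C)) =
        (algebraMap R (AdicCompletion (maximalIdeal R) R)).comp g.toRingHom ∧
      Ideal.span {ĝ (ψ.symm (Ideal.Quotient.mk _ (X 0)))} =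
        Ideal.span {algebraMap R (AdicCompletion (maximalIdeal R) R) t₁} ∧
      Ideal.span {ĝ (ψ.symm (Ideal.Quotient.mk _ (X 1)))} =
        Ideal.span {algebraMap R (AdicCompletion (maximalIdeal R) R) t₂} := by
  haveI : IsNoetherianRing R := hG.1
  haveI : IsNoetherianRing C := Algebra.EssFiniteType.isNoetherianRing R C
  haveI : IsNoetherianRing (AdicCompletion (maximalIdeal R) R) :=
    Groth.Agent.Lead.RLR.isNoetherianRing_adicCompletion' R _
  -- the formal section
  have hmem : ∀ t ∈ maximalIdeal R, ι t ∈ maximalIdeal (AdicCompletion (maximalIdeal R) R) := by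
    intro t ht
    rw [AdicCompletion.maximalIdeal_eq_map]
    exact Ideal.mem_map_of_mem _ ht
  let bb : Fin 2 → AdicCompletion (maximalIdeal R) R := ![ι t₁, ι t₂]
  have hbb : ∀ i, bb i ∈ maximalIdeal (AdicCompletion (maximalIdeal R) R) := by
    intro i
    fin_cases i
    · exact hmem t₁ ht₁
    · exact hmem t₂ ht₂
  obtain ⟨ev, hev⟩ := Groth.Agent.H47.PSEvalGen.exists_evalHom_complete
    (k := AdicCompletion (maximalIdeal R) R)
    (maximalIdeal (AdicCompletion (maximalIdeal R) R)) bb hbb
  have hevC : ∀ a : AdicCompletion (maximalIdeal R) R, ev (MvPowerSeries.C a) = a := by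
    intro a
    have := ev.commutes a
    rwa [← MvPowerSeries.c_eq_algebraMap] at this
  have hev0 : ev (X 0) = ι t₁ := by rw [hev]; rfl
  have hev1 : ev (X 1) = ι t₂ := by rw [hev]; rfl
  have hkill : ∀ p ∈ Ideal.span {(X 0 * X 1 - MvPowerSeries.C (ι Δ) :
      MvPowerSeries (Fin 2) (AdicCompletion (maximalIdeal R) R))}, ev.toRingHom p = 0 := by
    intro p hp
    have h1 : Ideal.span {(X 0 * X 1 - MvPowerSeries.C (ι Δ) :
        MvPowerSeries (Fin 2) (AdicCompletion (maximalIdeal R) R))} ≤ RingHom.ker ev.toRingHom := by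
      rw [Ideal.span_le, Set.singleton_subset_iff]
      change ev (X 0 * X 1 - MvPowerSeries.C (ι Δ)) = 0
      rw [map_sub, map_mul, hev0, hev1, hevC, ← map_mul, ht, sub_self]
    exact h1 hp
  let σ := Ideal.Quotient.lift _ ev.toRingHom hkill
  have hσmk : ∀ p, σ (Ideal.Quotient.mk _ p) = ev p := fun p => rfl
  -- the formal point as an `R`-algebra map
  let φ : C →ₐ[R] AdicCompletion (maximalIdeal R) R :=
    { toRingHom := σ.comp (ψ.toRingHom.comp ιC)
      commutes' := by
        intro r
        have h1 := RingHom.congr_fun hψ r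
        simp only [RingHom.coe_comp, Function.comp_apply] at h1
        change σ (ψ.toRingHom (ιC (algebraMap R C r))) = ι r
        rw [h1, hσmk, hevC] }
  have hφ : ∀ c, φ c = σ (ψ (ιC c)) := fun c => rfl
  -- the exponent
  have hιinj : Function.Injective ι := AdicCompletion.of_injective (maximalIdeal R) R
  have hD : ι Δ ≠ 0 := by
    rw [Ne, ← map_zero ι]
    exact fun h => hΔ (hιinj h)
  obtain ⟨N, hN⟩ := Groth.Agent.H91.NodeSecA.exists_pow_forall_span_eq (ι Δ) (ι t₁) (ι t₂) hD
    (by rw [← map_mul, ht])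
  -- approximation
  obtain ⟨g, hg⟩ := Groth.Agent.H91.NodeSecB.exists_algHom_approx R hG C φ N
  have hJle : (maximalIdeal R ^ N).map ι ≤ maximalIdeal (AdicCompletion (maximalIdeal R) R) ^ N := by
    rw [AdicCompletion.maximalIdeal_eq_map, ← Ideal.map_pow]
  haveI hgloc : IsLocalHom g.toRingHom :=
    Groth.Agent.H91.NodeSecA.isLocalHom_of_retraction (algebraMap R C) g.toRingHom
      (fun a => g.commutes a)
  have hgmap : (maximalIdeal C).map g.toRingHom ≤ maximalIdeal R := by
    rw [Ideal.map_le_iff_le_comap]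
    intro c hc
    rw [Ideal.mem_comap, mem_maximalIdeal, mem_nonunits_iff]
    intro hu
    exact ((mem_maximalIdeal c).mp hc) (hgloc.map_nonunit c hu)
  let ĝ := FSch.complMap (maximalIdeal C) (maximalIdeal R) g.toRingHom hgmap
  have hĝι : ∀ c, ĝ (ιC c) = ι (g c) := by
    intro c
    exact Groth.Agent.H20.complMap_of (maximalIdeal C) (maximalIdeal R) g.toRingHom hgmap c
  -- the key congruence
  have hcongC : ∀ c, ĝ (ιC c) - σ (ψ (ιC c)) ∈
      maximalIdeal (AdicCompletion (maximalIdeal R) R) ^ N := by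
    intro c
    rw [hĝι, ← hφ]
    exact hJle (hg c)
  have hkillĝ : ∀ w ∈ (maximalIdeal C ^ N).map ιC,
      ĝ w ∈ maximalIdeal (AdicCompletion (maximalIdeal R) R) ^ N := by
    intro w hw
    have h1 : (maximalIdeal C ^ N).map ιC ≤
        (maximalIdeal (AdicCompletion (maximalIdeal R) R) ^ N).comap ĝ := by
      rw [Ideal.map_le_iff_le_comap]
      intro x hx
      rw [Ideal.mem_comap, Ideal.mem_comap, hĝι]
      apply hJle
      apply Ideal.mem_map_of_mem
      have h2 : g.toRingHom x ∈ (maximalIdeal C ^ N).map g.toRingHom :=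
        Ideal.mem_map_of_mem _ hx
      rw [Ideal.map_pow] at h2
      exact Ideal.pow_right_mono hgmap N h2
    exact h1 hw
  have hkillσ : ∀ w ∈ (maximalIdeal C ^ N).map ιC,
      σ (ψ w) ∈ maximalIdeal (AdicCompletion (maximalIdeal R) R) ^ N := by
    intro w hw
    have h1 : (maximalIdeal C ^ N).map ιC ≤
        (maximalIdeal (AdicCompletion (maximalIdeal R) R) ^ N).comap (σ.comp ψ.toRingHom) := by
      rw [Ideal.map_le_iff_le_comap]
      intro x hx
      rw [Ideal.mem_comap, Ideal.mem_comap]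
      change σ (ψ (ιC x)) ∈ _
      have h2 := hcongC x
      have h3 := hkillĝ (ιC x) (Ideal.mem_map_of_mem _ hx)
      have h4 : σ (ψ (ιC x)) = ĝ (ιC x) - (ĝ (ιC x) - σ (ψ (ιC x))) := by ring
      rw [h4]
      exact Ideal.sub_mem _ h3 h2
    exact h1 hw
  have hcong : ∀ z, ĝ z - σ (ψ z) ∈ maximalIdeal (AdicCompletion (maximalIdeal R) R) ^ N := by
    intro z
    obtain ⟨c, hc⟩ := exists_sub_mem_map_pow (maximalIdeal C)
      (maximalIdeal C).fg_of_isNoetherianRing N z
    have h1 : ĝ z - σ (ψ z) = (ĝ (ιC c) - σ (ψ (ιC c))) + (ĝ (z - ιC c) - σ (ψ (z - ιC c))) := by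
      rw [map_sub, map_sub, map_sub]; ring
    rw [h1]
    exact Ideal.add_mem _ (hcongC c) (Ideal.sub_mem _ (hkillĝ _ hc) (hkillσ _ hc))
  -- conclusion
  refine ⟨g, ĝ, ?_, ?_⟩
  · exact RingHom.ext fun c => hĝι c
  · have ha := hcong (ψ.symm (Ideal.Quotient.mk _ (X 0)))
    have hb := hcong (ψ.symm (Ideal.Quotient.mk _ (X 1)))
    rw [RingEquiv.apply_symm_apply, hσmk, hev0] at ha
    rw [RingEquiv.apply_symm_apply, hσmk, hev1] at hb
    refine hN _ _ ?_ ha hb
    rw [← map_mul, ← map_mul, ← map_mul]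
    have h1 : (Ideal.Quotient.mk (Ideal.span {(X 0 * X 1 - MvPowerSeries.C (ι Δ) :
        MvPowerSeries (Fin 2) (AdicCompletion (maximalIdeal R) R))})) (X 0 * X 1) =
        ψ (ιC (algebraMap R C Δ)) := by
      have h2 := RingHom.congr_fun hψ Δ
      simp only [RingHom.coe_comp, Function.comp_apply] at h2
      change ψ (ιC (algebraMap R C Δ)) = _ at h2
      rw [h2, Ideal.Quotient.eq]
      exact Ideal.subset_span rfl
    rw [h1, RingEquiv.symm_apply_apply, hĝι, g.commutes]
    rfl

end Main

end Groth.Agent.H91.NodeSecC
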