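import Mathlib
import Groth.Agent.H61.PSBasic

/-!
# Uniqueness of the thickness ideal of a formal node (for S17737)

* `restr i : MvPowerSeries σ A →+* PowerSeries A`: set all variables but `X i` to zero.
* `eq_zero_of_mul_eq_C`: in `S[[X]]`, `S` Noetherian local, if `W * Z = C s` with
  `W ≡ X · unit` and `Z ≡ 0` modulo the maximal ideal, then `Z = 0` and `s = 0`.
-/

set_option autoImplicit false
universe u

namespace Groth.Agent.H91.NodeThickA

open IsLocalRing

section Restr

variable {σ : Type*} [DecidableEq σ] {A : Type*} [CommRing A] (i : σ)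

/-- the ring map `A[[X_j : j ∈ σ]] → A[[X]]` sending `X i` to `X` and the other variables to `0`. -/
noncomputable def restr : MvPowerSeries σ A →+* PowerSeries A where
  toFun f := PowerSeries.mk fun n => MvPowerSeries.coeff (Finsupp.single i n) f
  map_one' := by
    ext n
    rw [PowerSeries.coeff_mk, PowerSeries.coeff_one, MvPowerSeries.coeff_one]
    by_cases hn : n = 0
    · subst hn; simp
    · rw [if_neg hn, if_neg]
      intro h
      apply hn
      have := DFunLike.congr_fun h i
      simpa using this
  map_mul' f g := by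
    ext n
    rw [PowerSeries.coeff_mk, PowerSeries.coeff_mul, MvPowerSeries.coeff_mul,
      Finsupp.antidiagonal_single, Finset.sum_map]
    apply Finset.sum_congr rfl
    intro p _
    rw [PowerSeries.coeff_mk, PowerSeries.coeff_mk]
    rfl
  map_zero' := by
    ext n
    rw [PowerSeries.coeff_mk]
    simp
  map_add' f g := by
    ext n
    rw [PowerSeries.coeff_mk, map_add, map_add, PowerSeries.coeff_mk, PowerSeries.coeff_mk]

theorem coeff_restr (n : ℕ) (f : MvPowerSeries σ A) :
    PowerSeries.coeff n (restr i f) = MvPowerSeries.coeff (Finsupp.single i n) f := by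
  change PowerSeries.coeff n (PowerSeries.mk fun n => MvPowerSeries.coeff (Finsupp.single i n) f) = _
  rw [PowerSeries.coeff_mk]

theorem restr_C (t : A) : restr i (MvPowerSeries.C t : MvPowerSeries σ A) = PowerSeries.C t := by
  ext n
  rw [coeff_restr, MvPowerSeries.coeff_C, PowerSeries.coeff_C]
  by_cases hn : n = 0
  · subst hn; simp
  · rw [if_neg hn, if_neg]
    intro h
    apply hn
    have := DFunLike.congr_fun h i
    simpa using this

theorem restr_X_self : restr i (MvPowerSeries.X i : MvPowerSeries σ A) = PowerSeries.X := by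
  ext n
  rw [coeff_restr, MvPowerSeries.coeff_X, PowerSeries.coeff_X]
  by_cases hn : n = 1
  · subst hn; simp
  · rw [if_neg hn, if_neg]
    intro h
    apply hn
    have := DFunLike.congr_fun h i
    simpa using this

theorem restr_X_ne {j : σ} (hj : j ≠ i) :
    restr i (MvPowerSeries.X j : MvPowerSeries σ A) = 0 := by
  ext n
  rw [coeff_restr, MvPowerSeries.coeff_X, map_zero, if_neg]
  intro h
  have := DFunLike.congr_fun h j
  simp [hj] at this

theorem constantCoeff_restr (f : MvPowerSeries σ A) :
    PowerSeries.constantCoeff (restr i f) = MvPowerSeries.constantCoeff f := by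
  rw [← PowerSeries.coeff_zero_eq_constantCoeff_apply, coeff_restr, Finsupp.single_zero,
    MvPowerSeries.coeff_zero_eq_constantCoeff_apply]

end Restr

section Key

variable {S : Type*} [CommRing S] [IsLocalRing S] [IsNoetherianRing S]

/-- in `S[[X]]`: if `W * Z = C s` with `W ≡ X · unit` and `Z ≡ 0` mod `𝔪`, then `Z = 0`, `s = 0`. -/
theorem eq_zero_of_mul_eq_C (W Z : PowerSeries S) (s : S) (h : W * Z = PowerSeries.C s)
    (hW0 : PowerSeries.coeff 0 W ∈ maximalIdeal S) (hW1 : IsUnit (PowerSeries.coeff 1 W))
    (hZ : ∀ n, PowerSeries.coeff n Z ∈ maximalIdeal S) : s = 0 := by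
  classical
  set B : Ideal S := Ideal.span (Set.range fun n => PowerSeries.coeff n Z) with hB
  have hzB : ∀ n, PowerSeries.coeff n Z ∈ B := fun n => Ideal.subset_span ⟨n, rfl⟩
  set w0 := PowerSeries.coeff 0 W with hw0
  have key : ∀ n, PowerSeries.coeff n Z ∈ Ideal.span {w0} * B := by
    intro n
    induction n using Nat.strong_induction_on with
    | _ n ih =>
      have h1 : PowerSeries.coeff (n + 1) (W * Z) = 0 := by
        rw [h, PowerSeries.coeff_C, if_neg (Nat.succ_ne_zero n)]
      rw [PowerSeries.coeff_mul] at h1
      have hmem : ((1 : ℕ), n) ∈ Finset.HasAntidiagonal.antidiagonal (n + 1) := by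
        rw [Finset.HasAntidiagonal.mem_antidiagonal]; omega
      rw [← Finset.add_sum_erase _ _ hmem] at h1
      have h2 : ∑ p ∈ (Finset.HasAntidiagonal.antidiagonal (n + 1)).erase (1, n),
          PowerSeries.coeff p.1 W * PowerSeries.coeff p.2 Z ∈ Ideal.span {w0} * B := by
        apply Ideal.sum_mem
        intro p hp
        rw [Finset.mem_erase, Finset.HasAntidiagonal.mem_antidiagonal] at hp
        obtain ⟨hne, hsum⟩ := hp
        rcases Nat.eq_zero_or_pos p.1 with h0 | hpos
        · rw [h0]
          exact Ideal.mul_mem_mul (Ideal.mem_span_singleton_self w0) (hzB _)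
        · have hp1 : p.1 ≠ 1 := by
            intro h1'
            apply hne
            ext
            · exact h1'
            · simp only; omega
          have hlt : p.2 < n := by omega
          exact Ideal.mul_mem_left _ _ (ih p.2 hlt)
      have h3 : PowerSeries.coeff 1 W * PowerSeries.coeff n Z ∈ Ideal.span {w0} * B := by
        have : PowerSeries.coeff 1 W * PowerSeries.coeff n Z =
            - ∑ p ∈ (Finset.HasAntidiagonal.antidiagonal (n + 1)).erase (1, n),
              PowerSeries.coeff p.1 W * PowerSeries.coeff p.2 Z := by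
          rw [eq_neg_iff_add_eq_zero]; exact h1
        rw [this]
        exact neg_mem h2
      exact (Ideal.unit_mul_mem_iff_mem _ hW1).mp h3
  have hle : B ≤ maximalIdeal S • B := by
    rw [hB, Ideal.span_le]
    rintro _ ⟨n, rfl⟩
    have h1 : Ideal.span {w0} * B ≤ maximalIdeal S * B :=
      Ideal.mul_mono_left ((Ideal.span_singleton_le_iff_mem _).mpr hW0)
    exact h1 (key n)
  have hB0 : B = ⊥ :=
    Submodule.eq_bot_of_le_smul_of_le_jacobson_bot (maximalIdeal S) B
      (IsNoetherian.noetherian B) hle (maximalIdeal_le_jacobson ⊥)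
  have hZ0 : Z = 0 := by
    ext n
    have := hzB n
    rw [hB0, Ideal.mem_bot] at this
    rw [this, map_zero]
  rw [hZ0, mul_zero] at h
  have h4 := congrArg (PowerSeries.coeff 0) h
  rw [PowerSeries.coeff_zero_C, map_zero] at h4
  exact h4.symm

end Key

end Groth.Agent.H91.NodeThickA
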