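import Mathlib
import Groth.Agent.H91.NodeThickA

/-!
# Uniqueness of the thickness ideal of a formal node (for S17737), main lemma

`T` Noetherian local, `a b ∈ 𝔪_T`, `Θ : T[[x,y]]/(xy - a) ≃+* T[[x,y]]/(xy - b)` a ring isomorphism
fixing (the classes of) `a` and of a generating set of `𝔪_T`.  Then `a ∈ bT`.
-/

set_option autoImplicit false
universe u

namespace Groth.Agent.H91.NodeThickB

open IsLocalRing Groth.Agent.H91.NodeThickA

variable {T : Type u} [CommRing T] [IsLocalRing T] [IsNoetherianRing T]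

/-- the ideal `(xy - a)` of `T[[x,y]]`. -/
noncomputable abbrev nodeIdeal (a : T) : Ideal (MvPowerSeries (Fin 2) T) :=
  Ideal.span {(MvPowerSeries.X 0 * MvPowerSeries.X 1 - MvPowerSeries.C a :
    MvPowerSeries (Fin 2) T)}

section Q

variable (b : T)

/-- `T[[x,y]] → (T/b)[[x]]`, `x ↦ X`, `y ↦ 0`. -/
noncomputable def q₀ : MvPowerSeries (Fin 2) T →+* PowerSeries (T ⧸ Ideal.span {b}) :=
  (PowerSeries.map (Ideal.Quotient.mk (Ideal.span {b}))).comp (restr (0 : Fin 2))

theorem q₀_X0 : q₀ b (MvPowerSeries.X 0) = PowerSeries.X := by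
  rw [q₀, RingHom.comp_apply, restr_X_self, PowerSeries.map_X]

theorem q₀_X1 : q₀ b (MvPowerSeries.X 1) = 0 := by
  rw [q₀, RingHom.comp_apply, restr_X_ne (0 : Fin 2) (by decide : (1 : Fin 2) ≠ 0), map_zero]

theorem q₀_C (t : T) : q₀ b (MvPowerSeries.C t) = PowerSeries.C (Ideal.Quotient.mk _ t) := by
  rw [q₀, RingHom.comp_apply, restr_C, PowerSeries.map_C]

theorem constantCoeff_q₀ (f : MvPowerSeries (Fin 2) T) :
    PowerSeries.constantCoeff (q₀ b f) =
      Ideal.Quotient.mk (Ideal.span {b}) (MvPowerSeries.constantCoeff f) := by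
  rw [q₀, RingHom.comp_apply, ← PowerSeries.coeff_zero_eq_constantCoeff_apply,
    PowerSeries.coeff_map, PowerSeries.coeff_zero_eq_constantCoeff_apply, constantCoeff_restr]

theorem q₀_kills : ∀ p ∈ nodeIdeal b, q₀ b p = 0 := by
  intro p hp
  have h1 : nodeIdeal b ≤ RingHom.ker (q₀ b) := by
    rw [nodeIdeal, Ideal.span_le, Set.singleton_subset_iff]
    change q₀ b _ = 0
    rw [map_sub, map_mul, q₀_X1, mul_zero, q₀_C, zero_sub, neg_eq_zero]
    have : Ideal.Quotient.mk (Ideal.span {b}) b = 0 :=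
      Ideal.Quotient.eq_zero_iff_mem.mpr (Ideal.mem_span_singleton_self b)
    rw [this, map_zero]
  exact h1 hp

/-- `T[[x,y]]/(xy - b) → (T/b)[[x]]`. -/
noncomputable def q : (MvPowerSeries (Fin 2) T ⧸ nodeIdeal b) →+* PowerSeries (T ⧸ Ideal.span {b}) :=
  Ideal.Quotient.lift (nodeIdeal b) (q₀ b) (q₀_kills b)

theorem q_mk (f : MvPowerSeries (Fin 2) T) : q b (Ideal.Quotient.mk _ f) = q₀ b f := rfl

end Q

theorem mem_span_of_nodeRing_equiv (a b : T) (ha : a ∈ maximalIdeal T) (hb : b ∈ maximalIdeal T)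
    (Θ : (MvPowerSeries (Fin 2) T ⧸ nodeIdeal a) ≃+* (MvPowerSeries (Fin 2) T ⧸ nodeIdeal b))
    (G : Set T) (hG : Ideal.span G = maximalIdeal T)
    (hΘG : ∀ g ∈ G, Θ (Ideal.Quotient.mk _ (MvPowerSeries.C g)) =
      Ideal.Quotient.mk _ (MvPowerSeries.C g))
    (hΘa : Θ (Ideal.Quotient.mk _ (MvPowerSeries.C a)) = Ideal.Quotient.mk _ (MvPowerSeries.C a)) :
    a ∈ Ideal.span {b} := by
  classical
  -- the quotient `S = T/b`
  have hbtop : Ideal.span {b} ≠ (⊤ : Ideal T) := by
    intro h
    have h1 : Ideal.span {b} ≤ maximalIdeal T := (Ideal.span_singleton_le_iff_mem _).mpr hb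
    rw [h] at h1
    exact (Ideal.IsPrime.ne_top inferInstance) (top_le_iff.mp h1)
  haveI : Nontrivial (T ⧸ Ideal.span {b}) := Ideal.Quotient.nontrivial_iff.mpr hbtop
  haveI : IsLocalRing (T ⧸ Ideal.span {b}) :=
    IsLocalRing.of_surjective' (Ideal.Quotient.mk (Ideal.span {b})) Ideal.Quotient.mk_surjective
  -- residue maps
  let ε : T →+* ResidueField (T ⧸ Ideal.span {b}) :=
    (residue (T ⧸ Ideal.span {b})).comp (Ideal.Quotient.mk (Ideal.span {b}))
  have hε : ∀ t ∈ maximalIdeal T, ε t = 0 := by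
    intro t ht
    by_contra hne
    have h1 : IsUnit (Ideal.Quotient.mk (Ideal.span {b}) t) := by
      by_contra hnu
      exact hne ((residue_eq_zero_iff _).mpr ((mem_maximalIdeal _).mpr hnu))
    obtain ⟨s', hs'⟩ := h1.exists_right_inv
    obtain ⟨s, rfl⟩ := Ideal.Quotient.mk_surjective s'
    rw [← map_mul, ← map_one (Ideal.Quotient.mk (Ideal.span {b})), Ideal.Quotient.eq] at hs'
    have h2 : t * s - 1 ∈ maximalIdeal T :=
      ((Ideal.span_singleton_le_iff_mem _).mpr hb) hs'
    have h3 : (1 : T) ∈ maximalIdeal T := by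
      have := (maximalIdeal T).sub_mem (Ideal.mul_mem_right s _ ht) h2
      simpa using this
    exact (Ideal.IsPrime.ne_top inferInstance) ((Ideal.eq_top_iff_one _).mpr h3)
  let π : PowerSeries (T ⧸ Ideal.span {b}) →+* PowerSeries (ResidueField (T ⧸ Ideal.span {b})) :=
    PowerSeries.map (residue (T ⧸ Ideal.span {b}))
  have hπq₀ : ∀ f : MvPowerSeries (Fin 2) T,
      PowerSeries.constantCoeff (π (q₀ b f)) = ε (MvPowerSeries.constantCoeff f) := by
    intro f
    change PowerSeries.constantCoeff (PowerSeries.map _ (q₀ b f)) = _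
    rw [← PowerSeries.coeff_zero_eq_constantCoeff_apply, PowerSeries.coeff_map,
      PowerSeries.coeff_zero_eq_constantCoeff_apply, constantCoeff_q₀]
    rfl
  -- nonunits of the target have vanishing constant coefficient after `π ∘ q`
  have hF2 : ∀ c : MvPowerSeries (Fin 2) T ⧸ nodeIdeal b, ¬ IsUnit c →
      PowerSeries.constantCoeff (π (q b c)) = 0 := by
    intro c hc
    obtain ⟨f, rfl⟩ := Ideal.Quotient.mk_surjective c
    rw [q_mk, hπq₀]
    apply hε
    rw [mem_maximalIdeal, mem_nonunits_iff]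
    intro hu
    exact hc ((MvPowerSeries.isUnit_iff_constantCoeff.mpr hu).map _)
  -- `x`, `y` are nonunits of the source
  have hF3 : ∀ i : Fin 2, ¬ IsUnit (Ideal.Quotient.mk (nodeIdeal a)
      (MvPowerSeries.X i : MvPowerSeries (Fin 2) T)) := by
    intro i hu
    let εT : MvPowerSeries (Fin 2) T →+* ResidueField T :=
      (residue T).comp MvPowerSeries.constantCoeff
    have hk : nodeIdeal a ≤ RingHom.ker εT := by
      rw [nodeIdeal, Ideal.span_le, Set.singleton_subset_iff]
      change εT _ = 0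
      change residue T (MvPowerSeries.constantCoeff _) = 0
      rw [map_sub, map_mul, MvPowerSeries.constantCoeff_X, zero_mul, MvPowerSeries.constantCoeff_C,
        zero_sub, map_neg, neg_eq_zero]
      exact (residue_eq_zero_iff _).mpr ha
    obtain ⟨g', hg'⟩ := hu.exists_right_inv
    obtain ⟨g, rfl⟩ := Ideal.Quotient.mk_surjective g'
    rw [← map_mul, ← map_one (Ideal.Quotient.mk (nodeIdeal a)), Ideal.Quotient.eq] at hg'
    have h1 : εT (MvPowerSeries.X i * g - 1) = 0 := hk hg'
    have h2 : εT (MvPowerSeries.X i * g - 1) = -1 := by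
      change residue T (MvPowerSeries.constantCoeff _) = -1
      rw [map_sub, map_mul, MvPowerSeries.constantCoeff_X, zero_mul, map_one, zero_sub, map_neg,
        map_one]
    rw [h2] at h1
    exact one_ne_zero (neg_eq_zero.mp h1)
  have hΘnu : ∀ i : Fin 2, ¬ IsUnit (Θ (Ideal.Quotient.mk (nodeIdeal a)
      (MvPowerSeries.X i : MvPowerSeries (Fin 2) T))) := by
    intro i hu
    apply hF3 i
    have := hu.map Θ.symm.toRingHom
    simpa using this
  set W := q b (Θ (Ideal.Quotient.mk (nodeIdeal a) (MvPowerSeries.X 0))) with hW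
  set Z := q b (Θ (Ideal.Quotient.mk (nodeIdeal a) (MvPowerSeries.X 1))) with hZ
  have hWZ : W * Z = PowerSeries.C (Ideal.Quotient.mk (Ideal.span {b}) a) := by
    rw [hW, hZ, ← map_mul, ← map_mul, ← map_mul]
    have h1 : Ideal.Quotient.mk (nodeIdeal a) (MvPowerSeries.X 0 * MvPowerSeries.X 1) =
        Ideal.Quotient.mk (nodeIdeal a) (MvPowerSeries.C a) := by
      rw [Ideal.Quotient.eq]
      exact Ideal.subset_span rfl
    rw [h1, hΘa, q_mk, q₀_C]
  have hπW0 : PowerSeries.constantCoeff (π W) = 0 := hF2 _ (hΘnu 0)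
  have hπZ0 : PowerSeries.constantCoeff (π Z) = 0 := hF2 _ (hΘnu 1)
  have hπWZ : π W * π Z = 0 := by
    rw [← map_mul, hWZ]
    change PowerSeries.map _ (PowerSeries.C _) = 0
    rw [PowerSeries.map_C]
    have : (residue (T ⧸ Ideal.span {b})) (Ideal.Quotient.mk (Ideal.span {b}) a) = 0 := hε a ha
    rw [this, map_zero]
  -- `X` lies in the ideal generated by `π W`, `π Z`
  have hF4 : ∃ u v : PowerSeries (ResidueField (T ⧸ Ideal.span {b})),
      (PowerSeries.X : PowerSeries (ResidueField (T ⧸ Ideal.span {b}))) = π W * u + π Z * v := by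
    obtain ⟨f, hf⟩ := Ideal.Quotient.mk_surjective
      (Θ.symm (Ideal.Quotient.mk (nodeIdeal b) (MvPowerSeries.X 0)))
    have hΘf : Θ (Ideal.Quotient.mk (nodeIdeal a) f) =
        Ideal.Quotient.mk (nodeIdeal b) (MvPowerSeries.X 0) := by
      rw [hf, RingEquiv.apply_symm_apply]
    have hf0 : MvPowerSeries.constantCoeff f ∈ maximalIdeal T := by
      rw [mem_maximalIdeal, mem_nonunits_iff]
      intro hu
      have h1 : IsUnit (Ideal.Quotient.mk (nodeIdeal b)
          (MvPowerSeries.X 0 : MvPowerSeries (Fin 2) T)) := by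
        rw [← hΘf]
        exact ((MvPowerSeries.isUnit_iff_constantCoeff.mpr hu).map _).map Θ
      have h2 := h1.map (q b)
      rw [q_mk, q₀_X0] at h2
      have h3 := h2.map (PowerSeries.constantCoeff (R := T ⧸ Ideal.span {b}))
      rw [PowerSeries.constantCoeff_X] at h3
      exact not_isUnit_zero h3
    have hdec : f - MvPowerSeries.C (MvPowerSeries.constantCoeff f) ∈
        Ideal.span (Set.range (MvPowerSeries.X : Fin 2 → MvPowerSeries (Fin 2) T)) := by
      have := Groth.Agent.H61.mem_span_X_pow_of_coeff_eq_zero 1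
        (f - MvPowerSeries.C (MvPowerSeries.constantCoeff f)) (by
          intro α hα
          have hα0 : α = 0 := by
            have : α.degree = 0 := by omega
            exact (Finsupp.degree_eq_zero_iff α).mp this
          rw [hα0, MvPowerSeries.coeff_zero_eq_constantCoeff_apply, map_sub,
            MvPowerSeries.constantCoeff_C, sub_self])
      rwa [pow_one] at this
    obtain ⟨cf, hcf⟩ := (Ideal.mem_span_range_iff_exists_fun).mp hdec
    rw [Fin.sum_univ_two] at hcf
    have hfeq : f = MvPowerSeries.C (MvPowerSeries.constantCoeff f) +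
        (MvPowerSeries.X 0 * cf 0 + MvPowerSeries.X 1 * cf 1) := by
      rw [mul_comm (MvPowerSeries.X 0), mul_comm (MvPowerSeries.X 1), hcf]; ring
    -- the ring map `t ↦ π q Θ (C t)` kills `𝔪_T`
    let lam : T →+* PowerSeries (ResidueField (T ⧸ Ideal.span {b})) :=
      (π.comp (q b)).comp (Θ.toRingHom.comp
        ((Ideal.Quotient.mk (nodeIdeal a)).comp MvPowerSeries.C))
    have hlam : maximalIdeal T ≤ RingHom.ker lam := by
      rw [← hG, Ideal.span_le]
      intro g hg
      change π (q b (Θ (Ideal.Quotient.mk (nodeIdeal a) (MvPowerSeries.C g)))) = 0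
      rw [hΘG g hg, q_mk, q₀_C]
      change PowerSeries.map _ (PowerSeries.C _) = 0
      rw [PowerSeries.map_C]
      have hgm : g ∈ maximalIdeal T := by rw [← hG]; exact Ideal.subset_span hg
      have : (residue (T ⧸ Ideal.span {b})) (Ideal.Quotient.mk (Ideal.span {b}) g) = 0 := hε g hgm
      rw [this, map_zero]
    have h0 : π (q b (Θ (Ideal.Quotient.mk (nodeIdeal a)
        (MvPowerSeries.C (MvPowerSeries.constantCoeff f))))) = 0 := hlam hf0
    refine ⟨π (q b (Θ (Ideal.Quotient.mk (nodeIdeal a) (cf 0)))),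
      π (q b (Θ (Ideal.Quotient.mk (nodeIdeal a) (cf 1)))), ?_⟩
    have h1 : (PowerSeries.X : PowerSeries (ResidueField (T ⧸ Ideal.span {b}))) =
        π (q b (Θ (Ideal.Quotient.mk (nodeIdeal a) f))) := by
      rw [hΘf, q_mk, q₀_X0]
      change _ = PowerSeries.map _ PowerSeries.X
      rw [PowerSeries.map_X]
    rw [h1, hfeq]
    simp only [map_add, map_mul]
    rw [h0, zero_add]
  obtain ⟨u, v, huv⟩ := hF4
  -- general conclusion from one of the two being zero mod `𝔪`
  have concl : ∀ (W' Z' : PowerSeries (T ⧸ Ideal.span {b})),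
      W' * Z' = PowerSeries.C (Ideal.Quotient.mk (Ideal.span {b}) a) →
      PowerSeries.constantCoeff (π W') = 0 → π Z' = 0 →
      (∃ u' : PowerSeries (ResidueField (T ⧸ Ideal.span {b})),
        (PowerSeries.X : PowerSeries (ResidueField (T ⧸ Ideal.span {b}))) = π W' * u') →
      a ∈ Ideal.span {b} := by
    intro W' Z' hmul hW'0 hZ'0 ⟨u', hu'⟩
    have hcoeff : ∀ n, PowerSeries.coeff n (π W') = residue _ (PowerSeries.coeff n W') :=
      fun n => PowerSeries.coeff_map _ _ _
    have hcoeffZ : ∀ n, PowerSeries.coeff n (π Z') = residue _ (PowerSeries.coeff n Z') :=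
      fun n => PowerSeries.coeff_map _ _ _
    obtain ⟨w', hw'⟩ := PowerSeries.X_dvd_iff.mpr hW'0
    have h1 : (PowerSeries.X : PowerSeries (ResidueField (T ⧸ Ideal.span {b}))) * 1 =
        PowerSeries.X * (w' * u') := by
      rw [mul_one, ← mul_assoc, ← hw']; exact hu'
    have h2 : w' * u' = 1 := (mul_left_cancel₀ PowerSeries.X_ne_zero h1).symm
    have h3 : PowerSeries.coeff 1 (π W') ≠ 0 := by
      rw [hw', PowerSeries.coeff_succ_X_mul, PowerSeries.coeff_zero_eq_constantCoeff_apply]
      intro h0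
      have h4 := congrArg (PowerSeries.constantCoeff (R := ResidueField (T ⧸ Ideal.span {b}))) h2
      rw [map_mul, h0, zero_mul, map_one] at h4
      exact zero_ne_one h4
    have hW1 : IsUnit (PowerSeries.coeff 1 W') := by
      by_contra hnu
      apply h3
      rw [hcoeff]
      exact (residue_eq_zero_iff _).mpr ((mem_maximalIdeal _).mpr hnu)
    have hW0 : PowerSeries.coeff 0 W' ∈ maximalIdeal (T ⧸ Ideal.span {b}) := by
      rw [← residue_eq_zero_iff, ← hcoeff, PowerSeries.coeff_zero_eq_constantCoeff_apply]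
      exact hW'0
    have hZn : ∀ n, PowerSeries.coeff n Z' ∈ maximalIdeal (T ⧸ Ideal.span {b}) := by
      intro n
      rw [← residue_eq_zero_iff, ← hcoeffZ, hZ'0, map_zero]
    have h5 := eq_zero_of_mul_eq_C W' Z' _ hmul hW0 hW1 hZn
    exact Ideal.Quotient.eq_zero_iff_mem.mp h5
  rcases mul_eq_zero.mp hπWZ with hW0' | hZ0'
  · -- `π W = 0`: use `Z` as the generator
    refine concl Z W (by rw [mul_comm]; exact hWZ) hπZ0 hW0' ⟨v, ?_⟩
    rw [huv, hW0', zero_mul, zero_add]
  · refine concl W Z hWZ hπW0 hZ0' ⟨u, ?_⟩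
    rw [huv, hZ0', zero_mul, add_zero]

end Groth.Agent.H91.NodeThickB
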