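import Groth.Agent.H91.PhiRed

/-!
# The stability expression as modular part plus half a cut (helper91)
-/

open Finset

namespace Groth.Agent.H91.PhiRed

universe u
variable {V E : Type u} [Fintype V] [Fintype E] [DecidableEq V] [DecidableEq E]

open LabGraph DualGr PhiStab Groth.Agent.H74.CircCoprime Groth.Agent.H74.SpanTree
  Groth.Agent.H74.Incidence

/-- the modular part attached to a datum. -/
noncomputable def psi (ends : E → V × V) (φ : V → ℝ) (m : V → ℤ) (N : Finset E) (v : V) : ℝ :=
  (m v : ℝ) - φ v + (endCount ends N v : ℝ) / 2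

theorem cut_eq (ends : E → V × V) (N : Finset E) (S : Finset V) :
    cut ends S = cutIn ends N S + cutIn ends Nᶜ S := by
  unfold cut cutIn
  rw [← Finset.card_filter_add_card_filter_not (fun e => e ∈ N)]
  congr 2
  · ext e; simp only [Finset.mem_filter, Finset.mem_univ, true_and]; tauto
  · ext e; simp only [Finset.mem_filter, Finset.mem_univ, true_and, Finset.mem_compl]; tauto

theorem sum_endCount_eq (ends : E → V × V) (N : Finset E) (S : Finset V) :
    ∑ v ∈ S, endCount ends N v = 2 * (N ∩ inner ends S).card + cutIn ends N S := by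
  unfold endCount cutIn
  rw [Finset.sum_comm, ← Finset.filter_mem_eq_inter, Finset.card_filter, Finset.card_filter,
    Finset.mul_sum, ← Finset.sum_add_distrib]
  refine Finset.sum_congr rfl fun e _ => ?_
  rw [Finset.sum_add_distrib, Finset.sum_ite_eq, Finset.sum_ite_eq]
  by_cases a1 : (ends e).1 ∈ S <;> by_cases a2 : (ends e).2 ∈ S <;> simp [a1, a2, mem_inner]

theorem sum_endCount_univ (ends : E → V × V) (N : Finset E) :
    ∑ v : V, endCount ends N v = 2 * N.card := by
  rw [sum_endCount_eq]
  have h1 : inner ends (Finset.univ : Finset V) = Finset.univ := by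
    ext e; simp [mem_inner]
  have h2 : cutIn ends N (Finset.univ : Finset V) = 0 := by
    unfold cutIn
    rw [Finset.card_eq_zero, Finset.filter_eq_empty_iff]
    intro e _
    simp
  rw [h1, h2, Finset.inter_univ, add_zero]

theorem sum_psi (ends : E → V × V) (φ : V → ℝ) (m : V → ℤ) (N : Finset E)
    (hdeg : (∑ v : V, φ v) = (totDeg m N : ℝ)) : ∑ v : V, psi ends φ m N v = 0 := by
  unfold psi
  rw [Finset.sum_add_distrib, Finset.sum_sub_distrib, ← Finset.sum_div, hdeg]
  have := sum_endCount_univ ends N
  have h2 : (∑ v : V, (endCount ends N v : ℝ)) = 2 * (N.card : ℝ) := by exact_mod_cast this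
  rw [h2]
  unfold totDeg
  push_cast
  ring

theorem stab_eq (ends : E → V × V) (φ : V → ℝ) (m : V → ℤ) (N : Finset E) (S : Finset V) :
    (degOn ends m N S : ℝ) - ((∑ v ∈ S, φ v) - (cut ends S : ℝ) / 2) =
      ff ends Nᶜ (psi ends φ m N) S := by
  unfold ff psi degOn
  rw [Finset.sum_add_distrib, Finset.sum_sub_distrib, ← Finset.sum_div]
  have h1 := sum_endCount_eq ends N S
  have h1' : (∑ v ∈ S, (endCount ends N v : ℝ)) =
      2 * ((N ∩ inner ends S).card : ℝ) + (cutIn ends N S : ℝ) := by exact_mod_cast h1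
  have h2 := cut_eq ends N S
  have h2' : (cut ends S : ℝ) = (cutIn ends N S : ℝ) + (cutIn ends Nᶜ S : ℝ) := by
    exact_mod_cast h2
  rw [h1', h2']
  push_cast
  ring

theorem isSemistable_iff (ends : E → V × V) (φ : V → ℝ) (m : V → ℤ) (N : Finset E) :
    IsSemistable ends φ m N ↔ ∀ S : Finset V, S.Nonempty → S ≠ Finset.univ →
      0 ≤ ff ends Nᶜ (psi ends φ m N) S := by
  unfold IsSemistable
  refine forall_congr' fun S => forall_congr' fun _ => forall_congr' fun _ => ?_
  rw [← stab_eq, sub_nonneg]

theorem isStable_iff (ends : E → V × V) (φ : V → ℝ) (m : V → ℤ) (N : Finset E) :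
    IsStable ends φ m N ↔ ∀ S : Finset V, S.Nonempty → S ≠ Finset.univ →
      0 < ff ends Nᶜ (psi ends φ m N) S := by
  unfold IsStable
  refine forall_congr' fun S => forall_congr' fun _ => forall_congr' fun _ => ?_
  rw [← stab_eq, sub_pos]

end Groth.Agent.H91.PhiRed
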