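import Groth.Agent.H74.TreeSide
import Mathlib

/-!
# Reduction of stability inequalities to elementary vertex sets (helper91)
-/

open Finset

namespace Groth.Agent.H91.PhiRed

universe u
variable {V E : Type u} [Fintype V] [Fintype E] [DecidableEq V] [DecidableEq E]

open LabGraph DualGr PhiStab Groth.Agent.H74.CircCoprime Groth.Agent.H74.SpanTree
  Groth.Agent.H74.Incidence

/-- Connected induced subgraph, expressed inside `V`. -/
def IsConn (ends : E → V × V) (S : Finset V) : Prop :=
  S.Nonempty ∧ ∀ u ∈ S, ∀ v ∈ S, ReachIn ends (inner ends S) u v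

omit [DecidableEq E] in
theorem mem_inner (ends : E → V × V) (S : Finset V) (e : E) :
    e ∈ inner ends S ↔ (ends e).1 ∈ S ∧ (ends e).2 ∈ S := by
  simp [PhiStab.inner]

omit [DecidableEq E] in
theorem inner_mono (ends : E → V × V) {S U : Finset V} (h : S ⊆ U) :
    inner ends S ⊆ inner ends U := by
  intro e he
  rw [mem_inner] at he ⊢
  exact ⟨h he.1, h he.2⟩

omit [DecidableEq E] in
theorem mem_of_reach_inner (ends : E → V × V) (S : Finset V) {u v : V} (hu : u ∈ S)
    (h : ReachIn ends (inner ends S) u v) : v ∈ S := by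
  induction h with
  | refl => exact hu
  | tail _ hbc _ =>
    obtain ⟨e, he, h | h⟩ := hbc
    · rw [mem_inner, h] at he; exact he.2
    · rw [mem_inner, h] at he; exact he.1

omit [DecidableEq E] in
theorem connected_ind_iff (ends : E → V × V) (S : Finset V) :
    LabGraph.Connected (indEnds ends S) ↔ IsConn ends S := by
  constructor
  · rintro ⟨⟨⟨v, hv⟩⟩, h⟩
    refine ⟨⟨v, hv⟩, fun a ha b hb => ?_⟩
    have := h ⟨a, ha⟩ ⟨b, hb⟩
    refine Relation.ReflTransGen.lift (r := LabGraph.Adj (indEnds ends S)) Subtype.val ?_ _ _ this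
    rintro x y ⟨e, he⟩
    refine ⟨e.1, e.2, ?_⟩
    rcases he with he | he
    · left
      have h1 := congrArg (fun p => (p.1.1, p.2.1)) he
      simpa [indEnds] using h1
    · right
      have h1 := congrArg (fun p => (p.1.1, p.2.1)) he
      simpa [indEnds] using h1
  · rintro ⟨⟨v, hv⟩, h⟩
    refine ⟨⟨⟨v, hv⟩⟩, fun a b => ?_⟩
    have key : ∀ y, ReachIn ends (inner ends S) a.1 y →
        ∃ hy : y ∈ S, Relation.ReflTransGen (LabGraph.Adj (indEnds ends S)) a ⟨y, hy⟩ := by
      intro y hy
      induction hy with
      | refl => exact ⟨a.2, Relation.ReflTransGen.refl⟩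
      | @tail b c _ hbc ih =>
        obtain ⟨hb, ihb⟩ := ih
        obtain ⟨e, he, h'⟩ := hbc
        have he' := (mem_inner ends S e).mp he
        rcases h' with h' | h'
        · have hc : c ∈ S := by rw [h'] at he'; exact he'.2
          refine ⟨hc, ihb.tail ⟨⟨e, he⟩, Or.inl ?_⟩⟩
          refine Prod.ext (Subtype.ext ?_) (Subtype.ext ?_)
          · simp [indEnds, h']
          · simp [indEnds, h']
        · have hc : c ∈ S := by rw [h'] at he'; exact he'.1
          refine ⟨hc, ihb.tail ⟨⟨e, he⟩, Or.inr ?_⟩⟩
          refine Prod.ext (Subtype.ext ?_) (Subtype.ext ?_)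
          · simp [indEnds, h']
          · simp [indEnds, h']
    obtain ⟨_, hb⟩ := key b.1 (h a.1 a.2 b.1 b.2)
    exact hb

omit [DecidableEq E] in
theorem isElementary_iff (ends : E → V × V) (S : Finset V) :
    IsElementary ends S ↔ IsConn ends S ∧ IsConn ends Sᶜ := by
  unfold IsElementary
  rw [connected_ind_iff, connected_ind_iff]

/-! ### counting -/

/-- number of edges of `F` with exactly one endpoint in `S`. -/
def cutIn (ends : E → V × V) (F : Finset E) (S : Finset V) : ℕ :=
  (F.filter (fun e => ((ends e).1 ∈ S ∧ (ends e).2 ∉ S) ∨ ((ends e).1 ∉ S ∧ (ends e).2 ∈ S))).card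

/-- the modular-plus-half-cut function. -/
noncomputable def ff (ends : E → V × V) (F : Finset E) (ψ : V → ℝ) (S : Finset V) : ℝ :=
  ∑ v ∈ S, ψ v + (cutIn ends F S : ℝ) / 2

/-- no edge joins `A` and `B`. -/
def Sep (ends : E → V × V) (A B : Finset V) : Prop :=
  ∀ e, ((ends e).1 ∈ A → (ends e).2 ∉ B) ∧ ((ends e).1 ∈ B → (ends e).2 ∉ A)

omit [Fintype V] [Fintype E] [DecidableEq E] in
theorem cutIn_union (ends : E → V × V) (F : Finset E) {A B : Finset V} (hd : Disjoint A B)
    (hs : Sep ends A B) : cutIn ends F (A ∪ B) = cutIn ends F A + cutIn ends F B := by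
  unfold cutIn
  rw [Finset.card_filter, Finset.card_filter, Finset.card_filter, ← Finset.sum_add_distrib]
  refine Finset.sum_congr rfl fun e _ => ?_
  have h1 : (ends e).1 ∈ A → (ends e).1 ∉ B := fun h => Finset.disjoint_left.mp hd h
  have h2 : (ends e).2 ∈ A → (ends e).2 ∉ B := fun h => Finset.disjoint_left.mp hd h
  have h3 := (hs e).1
  have h4 := (hs e).2
  simp only [Finset.mem_union]
  by_cases a1 : (ends e).1 ∈ A <;> by_cases a2 : (ends e).2 ∈ A <;>
    by_cases b1 : (ends e).1 ∈ B <;> by_cases b2 : (ends e).2 ∈ B <;>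
    simp_all

omit [Fintype E] [DecidableEq E] in
theorem cutIn_compl (ends : E → V × V) (F : Finset E) (S : Finset V) :
    cutIn ends F Sᶜ = cutIn ends F S := by
  unfold cutIn
  congr 1
  refine Finset.filter_congr fun e _ => ?_
  simp only [Finset.mem_compl]
  tauto

omit [Fintype V] [Fintype E] [DecidableEq E] in
theorem ff_union (ends : E → V × V) (F : Finset E) (ψ : V → ℝ) {A B : Finset V}
    (hd : Disjoint A B) (hs : Sep ends A B) :
    ff ends F ψ (A ∪ B) = ff ends F ψ A + ff ends F ψ B := by
  unfold ff
  rw [Finset.sum_union hd, cutIn_union ends F hd hs]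
  push_cast
  ring

omit [Fintype E] [DecidableEq E] in
theorem ff_compl (ends : E → V × V) (F : Finset E) (ψ : V → ℝ) (hψ : ∑ v, ψ v = 0)
    (S : Finset V) : ff ends F ψ S + ff ends F ψ Sᶜ = (cutIn ends F S : ℝ) := by
  unfold ff
  rw [cutIn_compl]
  have := Finset.sum_add_sum_compl S ψ
  linarith

omit [Fintype E] [DecidableEq E] in
theorem ff_split (ends : E → V × V) (F : Finset E) (ψ : V → ℝ) (hψ : ∑ v, ψ v = 0)
    {S C D : Finset V} (hCD : C ∪ D = Sᶜ) (hd : Disjoint C D) (hs : Sep ends C D) :
    ff ends F ψ S = ff ends F ψ (S ∪ C) + ff ends F ψ (S ∪ D) := by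
  have hmem : ∀ v, v ∉ S ↔ (v ∈ C ∨ v ∈ D) := by
    intro v
    have := Finset.ext_iff.mp hCD v
    rw [Finset.mem_union, Finset.mem_compl] at this
    exact this.symm
  have hdis : ∀ v, v ∈ C → v ∉ D := fun v h => Finset.disjoint_left.mp hd h
  have e1 : Dᶜ = S ∪ C := by
    ext v
    have := hmem v; have := hdis v
    simp only [Finset.mem_compl, Finset.mem_union]
    tauto
  have e2 : Cᶜ = S ∪ D := by
    ext v
    have := hmem v; have := hdis v
    simp only [Finset.mem_compl, Finset.mem_union]
    tauto
  have h1 := ff_compl ends F ψ hψ D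
  have h2 := ff_compl ends F ψ hψ C
  have h3 := ff_compl ends F ψ hψ S
  have h4 := ff_union ends F ψ hd hs
  have h5 := cutIn_union ends F hd hs
  rw [hCD] at h4 h5
  rw [cutIn_compl] at h5
  rw [e1] at h1
  rw [e2] at h2
  have h5' : (cutIn ends F S : ℝ) = cutIn ends F C + cutIn ends F D := by exact_mod_cast h5
  linarith

/-! ### components -/

open Classical in
/-- the connected component of `s` inside the induced subgraph on `S`. -/
noncomputable def comp (ends : E → V × V) (S : Finset V) (s : V) : Finset V :=
  S.filter (fun v => ReachIn ends (inner ends S) s v)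

omit [DecidableEq E] in
theorem mem_comp (ends : E → V × V) (S : Finset V) (s v : V) :
    v ∈ comp ends S s ↔ v ∈ S ∧ ReachIn ends (inner ends S) s v := by
  classical
  simp [comp]

omit [DecidableEq E] in
theorem comp_subset (ends : E → V × V) (S : Finset V) (s : V) : comp ends S s ⊆ S := by
  intro v hv
  exact ((mem_comp ends S s v).mp hv).1

omit [DecidableEq E] in
theorem self_mem_comp (ends : E → V × V) (S : Finset V) {s : V} (hs : s ∈ S) :
    s ∈ comp ends S s :=
  (mem_comp ends S s s).mpr ⟨hs, Relation.ReflTransGen.refl⟩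

omit [DecidableEq E] in
theorem comp_isConn (ends : E → V × V) (S : Finset V) {s : V} (hs : s ∈ S) :
    IsConn ends (comp ends S s) := by
  refine ⟨⟨s, self_mem_comp ends S hs⟩, ?_⟩
  have key : ∀ v, ReachIn ends (inner ends S) s v →
      ReachIn ends (inner ends (comp ends S s)) s v := by
    intro v hv
    induction hv with
    | refl => exact Relation.ReflTransGen.refl
    | @tail b c hsb hbc ih =>
      refine ih.tail ?_
      obtain ⟨e, he, h'⟩ := hbc
      refine ⟨e, ?_, h'⟩
      have hbS : b ∈ S := mem_of_reach_inner ends S hs hsb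
      have hsc : ReachIn ends (inner ends S) s c := hsb.tail ⟨e, he, h'⟩
      have hcS : c ∈ S := mem_of_reach_inner ends S hs hsc
      have hb : b ∈ comp ends S s := (mem_comp ends S s b).mpr ⟨hbS, hsb⟩
      have hc : c ∈ comp ends S s := (mem_comp ends S s c).mpr ⟨hcS, hsc⟩
      rw [mem_inner]
      rcases h' with h' | h' <;> rw [h'] <;> simp [hb, hc]
  intro u hu v hv
  have h1 := key u ((mem_comp ends S s u).mp hu).2
  have h2 := key v ((mem_comp ends S s v).mp hv).2
  exact (reachIn_symm ends _ h1).trans h2

omit [DecidableEq E] in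
theorem comp_sep (ends : E → V × V) (S : Finset V) (s : V) :
    Sep ends (comp ends S s) (S \ comp ends S s) := by
  intro e
  constructor
  · intro h1 h2
    rw [Finset.mem_sdiff] at h2
    rw [mem_comp] at h1
    apply h2.2
    rw [mem_comp]
    refine ⟨h2.1, h1.2.tail ⟨e, ?_, Or.inl rfl⟩⟩
    rw [mem_inner]; exact ⟨h1.1, h2.1⟩
  · intro h1 h2
    rw [Finset.mem_sdiff] at h1
    rw [mem_comp] at h2
    apply h1.2
    rw [mem_comp]
    refine ⟨h1.1, h2.2.tail ⟨e, ?_, Or.inr rfl⟩⟩
    rw [mem_inner]; exact ⟨h1.1, h2.1⟩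

omit [DecidableEq E] in
theorem first_exit (ends : E → V × V) (X : Finset V) {x y : V} (hx : x ∈ X)
    (h : Relation.ReflTransGen (LabGraph.Adj ends) x y) :
    (ReachIn ends (inner ends X) x y) ∨
      ∃ u, ∃ w, w ∉ X ∧ ReachIn ends (inner ends X) x u ∧ LabGraph.Adj ends u w := by
  induction h with
  | refl => exact Or.inl Relation.ReflTransGen.refl
  | @tail b c _ hbc ih =>
    rcases ih with ih | ih
    · by_cases hc : c ∈ X
      · have hb : b ∈ X := mem_of_reach_inner ends X hx ih
        left
        refine ih.tail ?_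
        obtain ⟨e, h'⟩ := hbc
        refine ⟨e, ?_, h'⟩
        rw [mem_inner]
        rcases h' with h' | h' <;> rw [h'] <;> simp [hb, hc]
      · right
        exact ⟨b, c, hc, ih, hbc⟩
    · exact Or.inr ih


omit [DecidableEq E] in
theorem isConn_union (ends : E → V × V)
    (hconn : ∀ u w, Relation.ReflTransGen (LabGraph.Adj ends) u w)
    {S X : Finset V} (hS : IsConn ends S) (hd : Disjoint S X)
    (hX : ∀ u ∈ X, ∀ w, w ∉ X → LabGraph.Adj ends u w → w ∈ S) :
    IsConn ends (S ∪ X) := by
  obtain ⟨⟨s₀, hs₀⟩, hS2⟩ := hS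
  have hsub1 : inner ends S ⊆ inner ends (S ∪ X) := inner_mono ends Finset.subset_union_left
  have hsub2 : inner ends X ⊆ inner ends (S ∪ X) := inner_mono ends Finset.subset_union_right
  have key : ∀ u ∈ S ∪ X, ReachIn ends (inner ends (S ∪ X)) u s₀ := by
    intro u hu
    rw [Finset.mem_union] at hu
    rcases hu with hu | hu
    · exact reachIn_mono ends hsub1 (hS2 u hu s₀ hs₀)
    · rcases first_exit ends X hu (hconn u s₀) with h | ⟨a, w, hw, hua, haw⟩
      · exact absurd (mem_of_reach_inner ends X hu h) (Finset.disjoint_left.mp hd hs₀)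
      · have ha : a ∈ X := mem_of_reach_inner ends X hu hua
        have hwS : w ∈ S := hX a ha w hw haw
        have h1 : ReachIn ends (inner ends (S ∪ X)) u a := reachIn_mono ends hsub2 hua
        have h2 : ReachIn ends (inner ends (S ∪ X)) w s₀ :=
          reachIn_mono ends hsub1 (hS2 w hwS s₀ hs₀)
        refine (h1.tail ?_).trans h2
        obtain ⟨e, h'⟩ := haw
        refine ⟨e, ?_, h'⟩
        rw [mem_inner]
        rcases h' with h' | h' <;> rw [h'] <;> simp [ha, hwS]
  refine ⟨⟨s₀, Finset.mem_union_left _ hs₀⟩, fun u hu v hv => ?_⟩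
  exact (key u hu).trans (reachIn_symm ends _ (key v hv))

omit [DecidableEq E] in
theorem sep_adj (ends : E → V × V) {A B : Finset V} (hs : Sep ends A B) {u w : V}
    (hu : u ∈ A) (hw : w ∈ B) : ¬ LabGraph.Adj ends u w := by
  rintro ⟨e, h | h⟩
  · have := (hs e).1
    rw [h] at this
    exact this hu hw
  · have := (hs e).2
    rw [h] at this
    exact this hw hu

omit [DecidableEq E] in
/-- Step A: connected sets. -/
theorem stepA (ends : E → V × V)
    (hconn : ∀ u w, Relation.ReflTransGen (LabGraph.Adj ends) u w)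
    (F : Finset E) (ψ : V → ℝ) (hψ : ∑ v, ψ v = 0) (P : ℝ → Prop)
    (hadd : ∀ a b, P a → P b → P (a + b))
    (hel : ∀ S, IsConn ends S → IsConn ends Sᶜ → P (ff ends F ψ S)) :
    ∀ n, ∀ S : Finset V, IsConn ends S → S ≠ Finset.univ → Sᶜ.card = n → P (ff ends F ψ S) := by
  intro n
  induction n using Nat.strong_induction_on with
  | _ n ih =>
    intro S hS hne hn
    by_cases hc : IsConn ends Sᶜ
    · exact hel S hS hc
    · have hne' : Sᶜ.Nonempty := by
        rw [Finset.nonempty_iff_ne_empty]
        intro h
        exact hne ((Finset.compl_eq_empty_iff S).mp h)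
      obtain ⟨c₀, hc₀⟩ := hne'
      set C := comp ends Sᶜ c₀ with hC
      set D := Sᶜ \ C with hD
      have hCsub : C ⊆ Sᶜ := comp_subset ends Sᶜ c₀
      have hc₀C : c₀ ∈ C := self_mem_comp ends Sᶜ hc₀
      have hCD : C ∪ D = Sᶜ := Finset.union_sdiff_of_subset hCsub
      have hdis : Disjoint C D := Finset.disjoint_sdiff
      have hsep : Sep ends C D := comp_sep ends Sᶜ c₀
      have hDne : D.Nonempty := by
        rw [Finset.nonempty_iff_ne_empty]
        intro h
        apply hc
        have : Sᶜ = C := by rw [← hCD, h, Finset.union_empty]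
        rw [this]
        exact comp_isConn ends Sᶜ hc₀
      have hmem : ∀ v, v ∉ S ↔ (v ∈ C ∨ v ∈ D) := by
        intro v
        have := Finset.ext_iff.mp hCD v
        rw [Finset.mem_union, Finset.mem_compl] at this
        exact this.symm
      have hdl : ∀ v, v ∈ C → v ∉ D := fun v h => Finset.disjoint_left.mp hdis h
      have dSC : Disjoint S C := by
        rw [Finset.disjoint_left]; intro v hv hvC; exact (hmem v).mpr (Or.inl hvC) hv
      have dSD : Disjoint S D := by
        rw [Finset.disjoint_left]; intro v hv hvD; exact (hmem v).mpr (Or.inr hvD) hv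
      have c1 : IsConn ends (S ∪ C) := by
        refine isConn_union ends hconn hS dSC ?_
        intro u hu w hw hadj
        by_contra hwS
        rcases (hmem w).mp hwS with h | h
        · exact hw h
        · exact sep_adj ends hsep hu h hadj
      have c2 : IsConn ends (S ∪ D) := by
        refine isConn_union ends hconn hS dSD ?_
        intro u hu w hw hadj
        by_contra hwS
        rcases (hmem w).mp hwS with h | h
        · apply sep_adj ends hsep h hu
          obtain ⟨e, h'⟩ := hadj
          exact ⟨e, h'.symm⟩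
        · exact hw h
      have e1 : (S ∪ C)ᶜ = D := by
        ext v
        have := hmem v; have := hdl v
        simp only [Finset.mem_compl, Finset.mem_union]
        tauto
      have e2 : (S ∪ D)ᶜ = C := by
        ext v
        have := hmem v; have := hdl v
        simp only [Finset.mem_compl, Finset.mem_union]
        tauto
      have hcard : C.card + D.card = n := by
        rw [← hn, ← hCD, Finset.card_union_of_disjoint hdis]
      have hCpos : 0 < C.card := Finset.card_pos.mpr ⟨c₀, hc₀C⟩
      have hDpos : 0 < D.card := Finset.card_pos.mpr hDne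
      have n1 : S ∪ C ≠ Finset.univ := by
        intro h
        rw [h, Finset.compl_univ] at e1
        rw [← e1] at hDne
        exact Finset.not_nonempty_empty hDne
      have n2 : S ∪ D ≠ Finset.univ := by
        intro h
        rw [h, Finset.compl_univ] at e2
        rw [← e2] at hc₀C
        exact absurd hc₀C (Finset.notMem_empty _)
      rw [ff_split ends F ψ hψ hCD hdis hsep]
      refine hadd _ _ ?_ ?_
      · exact ih D.card (by omega) (S ∪ C) c1 n1 (by rw [e1])
      · exact ih C.card (by omega) (S ∪ D) c2 n2 (by rw [e2])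

omit [DecidableEq E] in
/-- Step B: all nonempty proper sets. -/
theorem stepB (ends : E → V × V)
    (hconn : ∀ u w, Relation.ReflTransGen (LabGraph.Adj ends) u w)
    (F : Finset E) (ψ : V → ℝ) (hψ : ∑ v, ψ v = 0) (P : ℝ → Prop)
    (hadd : ∀ a b, P a → P b → P (a + b))
    (hel : ∀ S, IsConn ends S → IsConn ends Sᶜ → P (ff ends F ψ S)) :
    ∀ n, ∀ S : Finset V, S.Nonempty → S ≠ Finset.univ → S.card = n → P (ff ends F ψ S) := by
  intro n
  induction n using Nat.strong_induction_on with
  | _ n ih =>
    intro S hSne hne hn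
    by_cases hc : IsConn ends S
    · exact stepA ends hconn F ψ hψ P hadd hel _ S hc hne rfl
    · obtain ⟨s₀, hs₀⟩ := hSne
      set A := comp ends S s₀ with hA
      set B := S \ A with hB
      have hAsub : A ⊆ S := comp_subset ends S s₀
      have hs₀A : s₀ ∈ A := self_mem_comp ends S hs₀
      have hAB : A ∪ B = S := Finset.union_sdiff_of_subset hAsub
      have hdis : Disjoint A B := Finset.disjoint_sdiff
      have hsep : Sep ends A B := comp_sep ends S s₀
      have hBne : B.Nonempty := by
        rw [Finset.nonempty_iff_ne_empty]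
        intro h
        apply hc
        have : S = A := by rw [← hAB, h, Finset.union_empty]
        rw [this]
        exact comp_isConn ends S hs₀
      have hBsub : B ⊆ S := Finset.sdiff_subset
      have nA : A ≠ Finset.univ := by
        intro h
        apply hne
        rw [Finset.eq_univ_iff_forall]
        intro v
        exact hAsub (h ▸ Finset.mem_univ v)
      have nB : B ≠ Finset.univ := by
        intro h
        apply hne
        rw [Finset.eq_univ_iff_forall]
        intro v
        exact hBsub (h ▸ Finset.mem_univ v)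
      have hcard : A.card + B.card = n := by
        rw [← hn, ← hAB, Finset.card_union_of_disjoint hdis]
      have hApos : 0 < A.card := Finset.card_pos.mpr ⟨s₀, hs₀A⟩
      have h1 := ff_union ends F ψ hdis hsep
      rw [hAB] at h1
      rw [h1]
      refine hadd _ _ ?_ ?_
      · exact stepA ends hconn F ψ hψ P hadd hel _ A (comp_isConn ends S hs₀) nA rfl
      · exact ih B.card (by omega) B hBne nB rfl

omit [DecidableEq E] in
/-- The reduction: a property closed under addition that holds for `ff` of all elementary sets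
holds for `ff` of all nonempty proper sets. -/
theorem reduction (ends : E → V × V) (hconn : LabGraph.Connected ends)
    (F : Finset E) (ψ : V → ℝ) (hψ : ∑ v, ψ v = 0) (P : ℝ → Prop)
    (hadd : ∀ a b, P a → P b → P (a + b))
    (hel : ∀ S, IsElementary ends S → P (ff ends F ψ S))
    (S : Finset V) (hS : S.Nonempty) (hne : S ≠ Finset.univ) : P (ff ends F ψ S) := by
  refine stepB ends hconn.2 F ψ hψ P hadd ?_ _ S hS hne rfl
  intro S h1 h2
  exact hel S ((isElementary_iff ends S).mpr ⟨h1, h2⟩)

omit [DecidableEq E] in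
theorem isElementary_nonempty (ends : E → V × V) {S : Finset V} (h : IsElementary ends S) :
    S.Nonempty ∧ S ≠ Finset.univ := by
  rw [isElementary_iff] at h
  refine ⟨h.1.1, ?_⟩
  intro hS
  obtain ⟨v, hv⟩ := h.2.1
  rw [hS, Finset.compl_univ] at hv
  exact absurd hv (Finset.notMem_empty _)

end Groth.Agent.H91.PhiRed
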