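import Groth.Agent.H91.PhiId

/-!
# Stability on trees (helper91)
-/

open Finset

namespace Groth.Agent.H91.PhiRed

universe u
variable {V E : Type u} [Fintype V] [Fintype E] [DecidableEq V] [DecidableEq E]

open LabGraph DualGr PhiStab Groth.Agent.H74.CircCoprime Groth.Agent.H74.SpanTree
  Groth.Agent.H74.Incidence Groth.Agent.H74.TreeSide

theorem fst_mem_side (ends : E → V × V) (e : E) : (ends e).1 ∈ side ends e :=
  (mem_side_iff ends e _).mpr Relation.ReflTransGen.refl

theorem snd_notMem_side (ends : E → V × V) (hT : IsTree ends) (e : E) :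
    (ends e).2 ∉ side ends e := by
  rw [mem_side_iff]
  intro h
  have h' := reachIn_symm ends _ h
  exact not_reachIn_of_no_circuit ends (Finset.univ.erase e) e (Finset.notMem_erase _ _)
    (fun C _ => hT.2 C) h'

theorem side_iff_of_ne (ends : E → V × V) {e e' : E} (hne : e' ≠ e) :
    (ends e').1 ∈ side ends e ↔ (ends e').2 ∈ side ends e := by
  rw [mem_side_iff, mem_side_iff]
  exact reachIn_ends ends _ _ (Finset.mem_erase.mpr ⟨hne, Finset.mem_univ _⟩)

theorem cutIn_side (ends : E → V × V) (hT : IsTree ends) (e : E) :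
    cutIn ends Finset.univ (side ends e) = 1 := by
  unfold cutIn
  rw [Finset.card_eq_one]
  refine ⟨e, ?_⟩
  ext e'
  simp only [Finset.mem_filter, Finset.mem_univ, true_and, Finset.mem_singleton]
  constructor
  · intro h
    by_contra hne
    have := side_iff_of_ne ends hne
    tauto
  · rintro rfl
    exact Or.inl ⟨fst_mem_side ends e', snd_notMem_side ends hT e'⟩

theorem side_eq_of_cut (ends : E → V × V) (hT : IsTree ends) {S : Finset V} {e : E}
    (h1 : IsConn ends S) (h2 : IsConn ends Sᶜ) (ha : (ends e).1 ∈ S) (hb : (ends e).2 ∉ S) :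
    S = side ends e := by
  have hsub1 : inner ends S ⊆ Finset.univ.erase e := by
    intro e' he'
    rw [Finset.mem_erase]
    refine ⟨?_, Finset.mem_univ _⟩
    rintro rfl
    rw [mem_inner] at he'
    exact hb he'.2
  have hsub2 : inner ends Sᶜ ⊆ Finset.univ.erase e := by
    intro e' he'
    rw [Finset.mem_erase]
    refine ⟨?_, Finset.mem_univ _⟩
    rintro rfl
    rw [mem_inner, Finset.mem_compl] at he'
    exact he'.1 ha
  ext v
  rw [mem_side_iff]
  constructor
  · intro hv
    exact reachIn_mono ends hsub1 (h1.2 _ ha v hv)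
  · intro hv
    by_contra hvS
    have hb' : (ends e).2 ∈ Sᶜ := Finset.mem_compl.mpr hb
    have hv' : v ∈ Sᶜ := Finset.mem_compl.mpr hvS
    have h3 : ReachIn ends (Finset.univ.erase e) v (ends e).2 :=
      reachIn_mono ends hsub2 (h2.2 v hv' _ hb')
    have h4 := hv.trans h3
    exact not_reachIn_of_no_circuit ends (Finset.univ.erase e) e (Finset.notMem_erase _ _)
      (fun C _ => hT.2 C) (reachIn_symm ends _ h4)

theorem exists_side_of_elementary (ends : E → V × V) (hT : IsTree ends) {S : Finset V}
    (hS : IsElementary ends S) : ∃ e, S = side ends e ∨ Sᶜ = side ends e := by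
  rw [isElementary_iff] at hS
  obtain ⟨h1, h2⟩ := hS
  obtain ⟨s, hs⟩ := h1.1
  obtain ⟨t, ht⟩ := h2.1
  rcases first_exit ends S hs (hT.1.2 s t) with h | ⟨u, w, hw, hsu, e, he⟩
  · exact absurd (mem_of_reach_inner ends S hs h) (Finset.mem_compl.mp ht)
  · have hu : u ∈ S := mem_of_reach_inner ends S hs hsu
    rcases he with he | he
    · refine ⟨e, Or.inl (side_eq_of_cut ends hT h1 h2 ?_ ?_)⟩
      · rw [he]; exact hu
      · rw [he]; exact hw
    · refine ⟨e, Or.inr (side_eq_of_cut ends hT h2 (by rwa [compl_compl]) ?_ ?_)⟩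
      · rw [he]; exact Finset.mem_compl.mpr hw
      · rw [he, Finset.mem_compl, not_not]; exact hu

theorem side_nonempty (ends : E → V × V) (e : E) : (side ends e).Nonempty :=
  ⟨_, fst_mem_side ends e⟩

theorem side_ne_univ (ends : E → V × V) (hT : IsTree ends) (e : E) :
    side ends e ≠ Finset.univ := by
  intro h
  exact snd_notMem_side ends hT e (h ▸ Finset.mem_univ _)

theorem side_compl_nonempty (ends : E → V × V) (hT : IsTree ends) (e : E) :
    (side ends e)ᶜ.Nonempty :=
  ⟨_, Finset.mem_compl.mpr (snd_notMem_side ends hT e)⟩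

theorem side_compl_ne_univ (ends : E → V × V) (e : E) :
    (side ends e)ᶜ ≠ Finset.univ := by
  intro h
  have := Finset.mem_univ (ends e).1
  rw [← h, Finset.mem_compl] at this
  exact this (fst_mem_side ends e)

theorem ff_side (ends : E → V × V) (hT : IsTree ends) (ψ : V → ℝ) (e : E) :
    ff ends Finset.univ ψ (side ends e) = ∑ v ∈ side ends e, ψ v + 1 / 2 := by
  unfold ff
  rw [cutIn_side ends hT]
  norm_num

theorem ff_side_compl (ends : E → V × V) (hT : IsTree ends) (ψ : V → ℝ) (hψ : ∑ v, ψ v = 0)
    (e : E) : ff ends Finset.univ ψ (side ends e)ᶜ = -∑ v ∈ side ends e, ψ v + 1 / 2 := by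
  have h := ff_compl ends Finset.univ ψ hψ (side ends e)
  rw [ff_side ends hT, cutIn_side ends hT] at h
  push_cast at h
  linarith

/-- On a tree, a property closed under addition holds for all nonempty proper vertex sets as soon
as it holds for the two sides of every edge. -/
theorem tree_reduction (ends : E → V × V) (hT : IsTree ends) (ψ : V → ℝ) (hψ : ∑ v, ψ v = 0)
    (P : ℝ → Prop) (hadd : ∀ a b, P a → P b → P (a + b))
    (hside : ∀ e, P (∑ v ∈ side ends e, ψ v + 1 / 2) ∧ P (-∑ v ∈ side ends e, ψ v + 1 / 2))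
    (S : Finset V) (hS : S.Nonempty) (hne : S ≠ Finset.univ) : P (ff ends Finset.univ ψ S) := by
  refine reduction ends hT.1 Finset.univ ψ hψ P hadd ?_ S hS hne
  intro S' hS'
  obtain ⟨e, h | h⟩ := exists_side_of_elementary ends hT hS'
  · rw [h, ff_side ends hT]
    exact (hside e).1
  · have h' : S' = (side ends e)ᶜ := by rw [← h, compl_compl]
    rw [h', ff_side_compl ends hT ψ hψ]
    exact (hside e).2

/-! ### integer side sums -/

omit [DecidableEq E] in
theorem sum_boundary (ends : E → V × V) (f : E → ℤ) (S : Finset V) :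
    ∑ v ∈ S, LabGraph.boundary ends f v =
      ∑ e : E, f e * ((if (ends e).2 ∈ S then 1 else 0) - (if (ends e).1 ∈ S then 1 else 0)) := by
  simp only [LabGraph.boundary]
  rw [Finset.sum_comm]
  refine Finset.sum_congr rfl fun e _ => ?_
  rw [Finset.sum_sub_distrib, Finset.sum_ite_eq, Finset.sum_ite_eq]
  split_ifs <;> ring

theorem exists_sideSum_int (ends : E → V × V) (hT : IsTree ends) (c : E → ℤ) (c₀ : ℤ) :
    ∃ m : V → ℤ, (∀ e : E, (∑ v ∈ side ends e, m v) = c e) ∧ (∑ v : V, m v) = c₀ := by
  classical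
  obtain ⟨v₀⟩ := hT.1.1
  set f : E → ℤ := fun e => -(c e - if v₀ ∈ side ends e then c₀ else 0) with hf
  refine ⟨fun v => LabGraph.boundary ends f v + if v = v₀ then c₀ else 0, ?_, ?_⟩
  · intro e
    rw [Finset.sum_add_distrib, sum_boundary]
    have h1 : ∑ v ∈ side ends e, (if v = v₀ then c₀ else 0) =
        if v₀ ∈ side ends e then c₀ else 0 := by
      rw [Finset.sum_ite_eq']
    rw [h1]
    have ha := fst_mem_side ends e
    have hb := snd_notMem_side ends hT e
    rw [Finset.sum_eq_single e]
    · rw [if_pos ha, if_neg hb]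
      simp only [hf]
      ring
    · intro e' _ hne
      have hiff := side_iff_of_ne ends hne
      by_cases h : (ends e').1 ∈ side ends e
      · rw [if_pos h, if_pos (hiff.mp h)]; ring
      · rw [if_neg h, if_neg (fun h' => h (hiff.mpr h'))]; ring
    · intro h; exact absurd (Finset.mem_univ _) h
  · rw [Finset.sum_add_distrib, sum_boundary]
    simp


/-! ### spanning subgraphs -/

theorem cutIn_sub (ends : E → V × V) (T : Finset E) (S : Finset V) :
    cutIn (spanEnds ends T) Finset.univ S = cutIn ends T S := by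
  unfold cutIn
  refine Finset.card_bij (fun e _ => e.1) ?_ ?_ ?_
  · intro e he
    simp only [Finset.mem_filter, Finset.mem_univ, true_and] at he
    simp only [Finset.mem_filter]
    exact ⟨e.2, he⟩
  · intro a _ b _ h; exact Subtype.ext h
  · intro e he
    simp only [Finset.mem_filter] at he
    refine ⟨⟨e, he.1⟩, ?_, rfl⟩
    simp only [Finset.mem_filter, Finset.mem_univ, true_and]
    exact he.2

theorem ff_sub (ends : E → V × V) (T : Finset E) (ψ : V → ℝ) (S : Finset V) :
    ff (spanEnds ends T) Finset.univ ψ S = ff ends T ψ S := by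
  unfold ff
  rw [cutIn_sub]

theorem stable_span_iff (ends : E → V × V) (T : Finset E) (hT : IsTree (spanEnds ends T))
    (φ : V → ℝ) (m : V → ℤ) (hdeg : (∑ v : V, φ v) = (totDeg m Tᶜ : ℝ)) :
    IsStable ends φ m Tᶜ ↔ ∀ e : {e // e ∈ T},
      |∑ v ∈ side (spanEnds ends T) e, psi ends φ m Tᶜ v| < 1 / 2 := by
  have hψ := sum_psi ends φ m Tᶜ hdeg
  rw [isStable_iff, compl_compl]
  constructor
  · intro h e
    rw [abs_lt]
    have h1 := h _ (side_nonempty (spanEnds ends T) e) (side_ne_univ (spanEnds ends T) hT e)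
    have h2 := h _ (side_compl_nonempty (spanEnds ends T) hT e)
      (side_compl_ne_univ (spanEnds ends T) e)
    rw [← ff_sub, ff_side _ hT] at h1
    rw [← ff_sub, ff_side_compl _ hT _ hψ] at h2
    constructor <;> linarith
  · intro h S hS hne
    rw [← ff_sub]
    refine tree_reduction (spanEnds ends T) hT _ hψ (fun x => 0 < x)
      (fun a b ha hb => add_pos ha hb) ?_ S hS hne
    intro e
    have := abs_lt.mp (h e)
    constructor <;> linarith [this.1, this.2]

theorem semistable_span_iff (ends : E → V × V) (T : Finset E) (hT : IsTree (spanEnds ends T))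
    (φ : V → ℝ) (m : V → ℤ) (hdeg : (∑ v : V, φ v) = (totDeg m Tᶜ : ℝ)) :
    IsSemistable ends φ m Tᶜ ↔ ∀ e : {e // e ∈ T},
      |∑ v ∈ side (spanEnds ends T) e, psi ends φ m Tᶜ v| ≤ 1 / 2 := by
  have hψ := sum_psi ends φ m Tᶜ hdeg
  rw [isSemistable_iff, compl_compl]
  constructor
  · intro h e
    rw [abs_le]
    have h1 := h _ (side_nonempty (spanEnds ends T) e) (side_ne_univ (spanEnds ends T) hT e)
    have h2 := h _ (side_compl_nonempty (spanEnds ends T) hT e)
      (side_compl_ne_univ (spanEnds ends T) e)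
    rw [← ff_sub, ff_side _ hT] at h1
    rw [← ff_sub, ff_side_compl _ hT _ hψ] at h2
    constructor <;> linarith
  · intro h S hS hne
    rw [← ff_sub]
    refine tree_reduction (spanEnds ends T) hT _ hψ (fun x => 0 ≤ x)
      (fun a b ha hb => add_nonneg ha hb) ?_ S hS hne
    intro e
    have := abs_le.mp (h e)
    constructor <;> linarith [this.1, this.2]

end Groth.Agent.H91.PhiRed
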