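import Mathlib
import Groth.Agent.H91.QuadOrdD

/-!
# The formal Morse lemma for ordinary quadratic series, continued (for S4007)
-/

set_option autoImplicit false
universe u

namespace Groth.Agent.H91.QuadOrdE

open MvPowerSeries VanCyc IsLocalRing Finsupp
open Groth.Agent.H91.QuadOrdA Groth.Agent.H91.QuadOrdB Groth.Agent.H91.QuadOrdD

variable {k : Type u} [Field k] {N : ℕ}

local notation "P" => MvPowerSeries (Fin N) k

/-- an ordinary quadratic form is not `0` modulo `𝔪³`. -/
theorem qser_notMem_cube (a : Fin N → Fin N → k) (ha : QuadOrd a) (hN : 0 < N) :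
    qser a ∉ maximalIdeal P ^ 3 := by
  intro hmem
  -- `Q(v) = 0` for all `v`
  have hQ0 : ∀ v : Fin N → k, quadEval a v = 0 := by
    intro v
    obtain ⟨ψ, hψ⟩ := Groth.Agent.H47.PSEvalGen.exists_evalHom_complete (k := k)
      (R := PowerSeries k) (Ideal.span {(PowerSeries.X : PowerSeries k)})
      (fun i : Fin N => algebraMap k (PowerSeries k) (v i) * PowerSeries.X)
      (fun i => Ideal.mul_mem_left _ _ (Ideal.mem_span_singleton_self _))
    have h1 : Ideal.map (ψ : P →+* PowerSeries k) (maximalIdeal P) ≤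
        Ideal.span {(PowerSeries.X : PowerSeries k)} := by
      rw [Groth.Agent.H44.maximalIdeal_eq_span_X', Ideal.map_span, Ideal.span_le]
      rintro _ ⟨_, ⟨i, rfl⟩, rfl⟩
      change ψ (X i) ∈ _
      rw [hψ]
      exact Ideal.mul_mem_left _ _ (Ideal.mem_span_singleton_self _)
    have h2 : ψ (qser a) ∈ Ideal.span {(PowerSeries.X : PowerSeries k)} ^ 3 := by
      have := Ideal.mem_map_of_mem (ψ : P →+* PowerSeries k) hmem
      rw [Ideal.map_pow] at this
      exact Ideal.pow_right_mono h1 3 this
    have h3 : ψ (qser a) = PowerSeries.X ^ 2 * algebraMap k (PowerSeries k) (quadEval a v) := by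
      have e1 := quadEval_map (ψ : P →+* PowerSeries k) (tab P a) (fun i => (X i : P))
      have e2 : (fun i j => (ψ : P →+* PowerSeries k) (tab P a i j)) = tab (PowerSeries k) a := by
        funext i j
        exact ψ.commutes (a i j)
      have e3 : (fun i => (ψ : P →+* PowerSeries k) (X i)) =
          (PowerSeries.X : PowerSeries k) • (fun i => algebraMap k (PowerSeries k) (v i)) := by
        funext i
        change ψ (X i) = _
        rw [hψ, Pi.smul_apply, smul_eq_mul, mul_comm]
      rw [e2, e3, quadEval_smul] at e1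
      rw [← quadEval_map (algebraMap k (PowerSeries k)) a v] at e1
      exact e1
    rw [h3, Ideal.span_singleton_pow, Ideal.mem_span_singleton, PowerSeries.X_pow_dvd_iff] at h2
    have h4 := h2 2 (by norm_num)
    have h5 : PowerSeries.coeff 2 ((PowerSeries.X : PowerSeries k) ^ 2 *
        algebraMap k (PowerSeries k) (quadEval a v)) = quadEval a v := by
      have := PowerSeries.coeff_X_pow_mul (algebraMap k (PowerSeries k) (quadEval a v)) 2 0
      rw [zero_add] at this
      rw [this]
      simp
    rw [h5] at h4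
    exact h4
  -- the polar form vanishes
  have hlin : ∀ (v : Fin N → k) (i : Fin N), lin a v i = 0 := by
    classical
    intro v i
    have h1 := quadEval_add a v (Pi.single i 1)
    rw [hQ0, hQ0, hQ0, zero_add, add_zero] at h1
    rw [h1, Finset.sum_eq_single i]
    · simp
    · intro j _ hji
      simp [Pi.single_apply, hji]
    · intro h; exact absurd (Finset.mem_univ i) h
  have h1 : (fun _ : Fin N => (1 : k)) = 0 := by
    apply ha _ (hQ0 _)
    rw [← lin_eq_mulVec]
    funext i
    exact hlin _ i
  have := congrFun h1 ⟨0, hN⟩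
  simp at this

/-- automorphisms of `k[[x]]` from coordinates congruent to the `x_i` modulo `𝔪²`. -/
theorem exists_algEquiv_of_sub_mem_sq (y : Fin N → P)
    (h : ∀ i, y i - X i ∈ maximalIdeal P ^ 2) :
    ∃ θ : P ≃ₐ[k] P, ∀ i, θ (X i) = y i := by
  classical
  have hy : ∀ i, y i ∈ maximalIdeal P := by
    intro i
    have : y i = X i + (y i - X i) := by ring
    rw [this]
    exact Ideal.add_mem _ (X_mem i) (Ideal.pow_le_self two_ne_zero (h i))
  obtain ⟨θ₀, hθ₀⟩ := Groth.Agent.H47.PSEvalGen.exists_evalHom_complete (k := k) (R := P)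
    (maximalIdeal P) y hy
  have hmap : Ideal.map (θ₀ : P →+* P) (maximalIdeal P) ≤ maximalIdeal P := by
    rw [Groth.Agent.H44.maximalIdeal_eq_span_X', Ideal.map_span, Ideal.span_le]
    rintro _ ⟨_, ⟨i, rfl⟩, rfl⟩
    change θ₀ (X i) ∈ _
    rw [hθ₀, ← Groth.Agent.H44.maximalIdeal_eq_span_X']
    exact hy i
  have hsq : ∀ r ∈ maximalIdeal P ^ 2, θ₀ r ∈ maximalIdeal P ^ 2 := by
    intro r hr
    have := Ideal.mem_map_of_mem (θ₀ : P →+* P) hr
    rw [Ideal.map_pow] at this
    exact Ideal.pow_right_mono hmap 2 this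
  have hC : ∀ c : k, θ₀ (C c) = C c := by
    intro c
    have : (C c : P) = algebraMap k P c := by
      rw [MvPowerSeries.algebraMap_apply, Algebra.algebraMap_self, RingHom.id_apply]
    rw [this, θ₀.commutes]
  have hkey : ∀ c : P, (θ₀ : P →+* P) c - c ∈ maximalIdeal P ^ 2 := by
    intro c
    set c' := c - C (constantCoeff c) with hc'
    have hc0 : constantCoeff c' = 0 := by
      rw [hc', map_sub, constantCoeff_C, sub_self]
    let _ : LinearOrder (Fin N) := inferInstance
    have hr := Groth.Agent.H44.sub_linear_mem_sq c' hc0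
    rw [← pow_two] at hr
    set r := c' - ∑ i, C (coeff (single i 1) c') * X i with hrdef
    have hc : c = C (constantCoeff c) + ∑ i, C (coeff (single i 1) c') * X i + r := by
      rw [hrdef, hc']; ring
    have e1 : (θ₀ : P →+* P) c - c =
        ∑ i, C (coeff (single i 1) c') * (y i - X i) + (θ₀ r - r) := by
      conv_lhs => rw [hc]
      change θ₀ _ - _ = _
      rw [map_add, map_add, hC, map_sum]
      simp only [map_mul, hC, hθ₀, mul_sub, Finset.sum_sub_distrib]
      ring
    rw [e1]
    refine Ideal.add_mem _ (sum_mem fun i _ => Ideal.mul_mem_left _ _ (h i)) ?_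
    exact Ideal.sub_mem _ (hsq r hr) hr
  have hbij : Function.Bijective θ₀ :=
    Groth.Agent.H13.ComplIsoEtale.bijective_of_sub_mem_sq (maximalIdeal P) (θ₀ : P →+* P) hkey
  exact ⟨AlgEquiv.ofBijective θ₀ hbij, fun i => hθ₀ i⟩

end Groth.Agent.H91.QuadOrdE
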