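import Mathlib
import Groth.Agent.H91.QuadOrdE

/-!
# The formal Morse lemma for ordinary quadratic series: main statement (for S4007)
-/

set_option autoImplicit false
universe u

namespace Groth.Agent.H91.QuadOrdF

open MvPowerSeries VanCyc IsLocalRing Finsupp
open Groth.Agent.H91.QuadOrdA Groth.Agent.H91.QuadOrdB Groth.Agent.H91.QuadOrdD
  Groth.Agent.H91.QuadOrdE

variable {k : Type u} [Field k] [IsAlgClosed k] {N : ℕ}

local notation "P" => MvPowerSeries (Fin N) k

theorem nonempty_algEquiv (f : P) (hf : OrdQuadSeries f) (hN : 0 < N) :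
    Nonempty ((P ⧸ Ideal.span {qser (quadPart f)}) ≃ₐ[k] (P ⧸ Ideal.span {f})) := by
  classical
  set a := quadPart f with ha
  have haO : QuadOrd a := hf.2
  have hfQ : f - qser a ∈ maximalIdeal P ^ 3 := sub_qser_mem_cube f hf.1
  have hfm2 : f ∈ maximalIdeal P ^ 2 := by
    have : f = (f - qser a) + qser a := by ring
    rw [this]
    exact Ideal.add_mem _ (Ideal.pow_le_pow_right (by norm_num) hfQ) (qser_mem_sq a)
  have hfm : f ∈ maximalIdeal P := Ideal.pow_le_self two_ne_zero hfm2
  have hne : Ideal.span {f} ≠ ⊤ := by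
    intro h
    have : Ideal.span {f} ≤ maximalIdeal P := by
      rw [Ideal.span_le, Set.singleton_subset_iff]; exact hfm
    rw [h] at this
    exact (Ideal.IsPrime.ne_top inferInstance) (top_le_iff.mp this)
  haveI : Nontrivial (P ⧸ Ideal.span {f}) := Ideal.Quotient.nontrivial_iff.mpr hne
  haveI : IsLocalRing (P ⧸ Ideal.span {f}) :=
    IsLocalRing.of_surjective' (Ideal.Quotient.mk (Ideal.span {f})) Ideal.Quotient.mk_surjective
  haveI : IsAdicComplete (maximalIdeal (P ⧸ Ideal.span {f})) (P ⧸ Ideal.span {f}) :=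
    Groth.Agent.H26.ComplQuot.isAdicComplete_quotient (Ideal.span {f})
  set mk := Ideal.Quotient.mk (Ideal.span {f}) with hmk
  have hmax : maximalIdeal (P ⧸ Ideal.span {f}) = (maximalIdeal P).map mk :=
    (IsLocalRing.map_maximalIdeal_of_surjective mk Ideal.Quotient.mk_surjective).symm
  have hmaxpow : ∀ n, maximalIdeal (P ⧸ Ideal.span {f}) ^ n = (maximalIdeal P ^ n).map mk := by
    intro n; rw [hmax, Ideal.map_pow]
  -- the approximate solution
  set y₀ : Fin N → P ⧸ Ideal.span {f} := fun i => mk (X i) with hy₀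
  have hspan : Ideal.span (Set.range y₀) = maximalIdeal (P ⧸ Ideal.span {f}) := by
    rw [hmax, Groth.Agent.H44.maximalIdeal_eq_span_X', Ideal.map_span, ← Set.range_comp]
    rfl
  have htab : ∀ (φ : P →+* (P ⧸ Ideal.span {f})), (∀ c, φ (algebraMap k P c) =
      algebraMap k (P ⧸ Ideal.span {f}) c) →
      (fun i j => φ (tab P a i j)) = tab (P ⧸ Ideal.span {f}) a := by
    intro φ hφ
    funext i j
    exact hφ (a i j)
  have hmkalg : ∀ c, mk (algebraMap k P c) = algebraMap k (P ⧸ Ideal.span {f}) c := fun c => rfl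
  have hQy₀ : quadEval (tab (P ⧸ Ideal.span {f}) a) y₀ = mk (qser a) := by
    have e1 := quadEval_map mk (tab P a) (fun i => (X i : P))
    rw [htab mk hmkalg] at e1
    exact e1.symm
  have hQ3 : quadEval (tab (P ⧸ Ideal.span {f}) a) y₀ ∈
      maximalIdeal (P ⧸ Ideal.span {f}) ^ 3 := by
    rw [hQy₀, hmaxpow]
    have h1 : mk (qser a) = mk (-(f - qser a)) := by
      rw [eq_comm, ← sub_eq_zero, ← map_sub, hmk, Ideal.Quotient.eq_zero_iff_mem]
      have : -(f - qser a) - qser a = -f := by ring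
      rw [this]
      exact (Ideal.neg_mem_iff _).mpr (Ideal.mem_span_singleton_self f)
    rw [h1]
    exact Ideal.mem_map_of_mem _ ((Ideal.neg_mem_iff _).mpr hfQ)
  obtain ⟨y, hy2, hQy⟩ := Groth.Agent.H91.QuadOrdC.exists_zero_of_approx a haO y₀ hspan hQ3
  -- lifts
  have hlift : ∀ i, ∃ z ∈ maximalIdeal P ^ 2, mk z = y i - y₀ i := by
    intro i
    have := hy2 i
    rw [hmaxpow] at this
    exact (Ideal.mem_map_iff_of_surjective mk Ideal.Quotient.mk_surjective).mp this
  choose z hz2 hz using hlift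
  set yt : Fin N → P := fun i => X i + z i with hyt
  have hmkyt : ∀ i, mk (yt i) = y i := by
    intro i
    rw [hyt, map_add, hz]
    simp [hy₀]
  obtain ⟨θ, hθ⟩ := exists_algEquiv_of_sub_mem_sq yt (fun i => by
    simp only [hyt, add_sub_cancel_left]; exact hz2 i)
  -- `θ Q ∈ (f)`
  have hθQ : θ (qser a) = quadEval (tab P a) yt := by
    have e1 := quadEval_map (θ : P →+* P) (tab P a) (fun i => (X i : P))
    have e2 : (fun i j => (θ : P →+* P) (tab P a i j)) = tab P a := by
      funext i j
      exact θ.commutes (a i j)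
    have e3 : (fun i => (θ : P →+* P) (X i)) = yt := by
      funext i
      exact hθ i
    rw [e2, e3] at e1
    exact e1
  have hmem : θ (qser a) ∈ Ideal.span {f} := by
    rw [← Ideal.Quotient.eq_zero_iff_mem, hθQ]
    have e1 := quadEval_map mk (tab P a) yt
    rw [htab mk hmkalg] at e1
    rw [← hmk, e1]
    have : (fun i => mk (yt i)) = y := funext hmkyt
    rw [this, hQy]
  obtain ⟨u, hu⟩ := Ideal.mem_span_singleton'.mp hmem
  have huu : IsUnit u := by
    by_contra hnu
    have hum : u ∈ maximalIdeal P := (mem_maximalIdeal u).mpr hnu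
    have h1 : θ (qser a) ∈ maximalIdeal P ^ 3 := by
      rw [← hu]
      have h3 : (3 : ℕ) = 1 + 2 := rfl
      rw [h3, pow_add, pow_one]
      exact Ideal.mul_mem_mul hum hfm2
    have h2 := Groth.Agent.H13.ComplIsoEtale.equiv_mem_pow (θ.symm : P ≃+* P) 3 _ h1
    have h3 : (θ.symm : P ≃+* P) (θ (qser a)) = qser a := θ.symm_apply_apply _
    rw [h3] at h2
    exact qser_notMem_cube a haO hN h2
  refine ⟨Ideal.quotientEquivAlg (Ideal.span {qser a}) (Ideal.span {f}) θ ?_⟩
  rw [Ideal.map_span, Set.image_singleton]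
  change _ = Ideal.span {θ (qser a)}
  rw [← hu, Ideal.span_singleton_mul_left_unit huu]

end Groth.Agent.H91.QuadOrdF
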