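import Mathlib
import Groth.Prelude.Def_Found
import Groth.Prelude.Def_CAlgX
import Groth.Agent.H23.RegHomAdic
import Groth.Agent.H23.FlatOfAdic2
import Groth.Agent.H47.DVRAdic
import Groth.Agent.H47.RegSmoothField
import Groth.Agent.H48.TensorNormal
import Groth.Agent.H26.SkFlat

/-!
# Regular homomorphisms from adic formal smoothness of all the local maps

Converse of `Groth.Agent.H23.RegHomAdic.adic_of_isRegularHom`.
-/

set_option autoImplicit false
set_option linter.style.haveILetI false
set_option linter.unusedSectionVars false
set_option linter.unusedVariables false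
universe u

namespace Groth.Agent.H91.RegAdicLoc

open IsLocalRing TensorProduct

section GeomReg

/-- Geometric regularity can be checked on the local rings. -/
theorem geomReg_of_forall_atPrime (k : Type u) [Field k] (S : Type u) [CommRing S] [Algebra k S]
    [IsNoetherianRing S]
    (h : ∀ (q : Ideal S) [q.IsPrime], CAlg.IsGeometricallyRegular k (Localization.AtPrime q)) :
    CAlg.IsGeometricallyRegular k S := by
  intro k' _ _ hfin
  haveI := hfin
  haveI : IsNoetherianRing (k' ⊗[k] S) := by
    haveI : IsNoetherianRing (S ⊗[k] k') := Algebra.FiniteType.isNoetherianRing S _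
    exact isNoetherianRing_of_ringEquiv _ (Algebra.TensorProduct.comm k S k').toRingEquiv
  rw [isRegularRing_iff]
  intro P hP
  let q : Ideal S := P.comap (Algebra.TensorProduct.includeRight (R := k) (A := k') (B := S))
  haveI hq : q.IsPrime := Ideal.comap_isPrime _ P
  haveI hreg : IsRegularRing (k' ⊗[k] Localization.AtPrime q) := h q k' hfin
  letI : Algebra (k' ⊗[k] S) (k' ⊗[k] Localization.AtPrime q) :=
    (Algebra.TensorProduct.map (AlgHom.id k k')
      (IsScalarTower.toAlgHom k S (Localization.AtPrime q))).toRingHom.toAlgebra
  haveI := Groth.Agent.H48.TensorNormal.isLocalization_tensor_right k k' S q.primeCompl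
    (Localization.AtPrime q)
  refine Groth.Agent.H47.RSF.isRegularLocalRing_atPrime_of_isLocalization
    (S := k' ⊗[k] Localization.AtPrime q)
    (q.primeCompl.map (Algebra.TensorProduct.includeRight (R := k) (A := k') (B := S))) P ?_
  rw [Set.disjoint_left]
  rintro _ ⟨s, hs, rfl⟩ hmem
  exact hs hmem

end GeomReg

section Core

variable (R S : Type u) [CommRing R] [CommRing S] [Algebra R S] [IsNoetherianRing S]

open Algebra.TensorProduct in
set_option backward.isDefEq.respectTransparency false in
/-- If `R_p → S_r` is adically formally smooth, then the local ring of the fibre at the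
corresponding prime is adically formally smooth over `κ(p)`. -/
theorem fibre_adic (p : Ideal R) [p.IsPrime]
    (q₀ : Ideal (p.Fiber S)) [q₀.IsPrime]
    [Algebra (Localization.AtPrime p)
      (Localization.AtPrime (q₀.comap (includeRight (R := R) (A := p.ResidueField) (B := S))))]
    [IsScalarTower R (Localization.AtPrime p)
      (Localization.AtPrime (q₀.comap (includeRight (R := R) (A := p.ResidueField) (B := S))))]
    (h : CAlgX.IsAdicFormallySmooth (Localization.AtPrime p)
      (Localization.AtPrime (q₀.comap (includeRight (R := R) (A := p.ResidueField) (B := S))))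
      (maximalIdeal _)) :
    CAlgX.IsAdicFormallySmooth p.ResidueField (Localization.AtPrime q₀) (maximalIdeal _) := by
  set r := q₀.comap (includeRight (R := R) (A := p.ResidueField) (B := S)) with hr
  have hrp : r.LiesOver p := inferInstance
  have halg : algebraMap (Localization.AtPrime p) (Localization.AtPrime r) =
      Localization.localRingHom p r (algebraMap R S) Ideal.LiesOver.over := by
    apply IsLocalization.ringHom_ext p.primeCompl
    ext a
    simp only [RingHom.comp_apply]
    rw [← IsScalarTower.algebraMap_apply R (Localization.AtPrime p) (Localization.AtPrime r),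
      Localization.localRingHom_to_map, ← IsScalarTower.algebraMap_apply R S]
  haveI : Localization.AtPrime.IsLiesOverAlgebra p r := ⟨halg⟩
  have hloc : IsLocalHom (algebraMap (Localization.AtPrime p) (Localization.AtPrime r)) := by
    rw [halg]
    exact Localization.isLocalHom_localRingHom p r (algebraMap R S) Ideal.LiesOver.over
  let e₀ := Ideal.Fiber.localizationAlgEquivQuotient p q₀
  have hideal : p.map (algebraMap R (Localization.AtPrime r)) =
      (maximalIdeal (Localization.AtPrime p)).map
        (algebraMap (Localization.AtPrime p) (Localization.AtPrime r)) := by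
    rw [← Localization.AtPrime.map_eq_maximalIdeal, Ideal.map_map,
      ← IsScalarTower.algebraMap_eq]
  let e₁ : (Localization.AtPrime r ⧸ p.map (algebraMap R (Localization.AtPrime r)))
      ≃ₐ[Localization.AtPrime p]
      (Localization.AtPrime r ⧸ (maximalIdeal (Localization.AtPrime p)).map
        (algebraMap (Localization.AtPrime p) (Localization.AtPrime r))) :=
    Ideal.quotientEquivAlgOfEq _ hideal
  have hle : (maximalIdeal (Localization.AtPrime p)).map
      (algebraMap (Localization.AtPrime p) (Localization.AtPrime r)) ≤
      maximalIdeal (Localization.AtPrime r) :=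
    IsLocalRing.map_maximalIdeal_le _
  have hq := Groth.Agent.H47.DVRAdic.adic_quotient (maximalIdeal (Localization.AtPrime p))
    (maximalIdeal (Localization.AtPrime r)) h
  let j : (Localization.AtPrime p ⧸ maximalIdeal (Localization.AtPrime p)) →+* p.ResidueField :=
    RingHom.id _
  have hj : ∀ a : Localization.AtPrime p,
      j (algebraMap (Localization.AtPrime p)
        (Localization.AtPrime p ⧸ maximalIdeal (Localization.AtPrime p)) a) =
      algebraMap (Localization.AtPrime p) p.ResidueField a := fun a => rfl
  have h₁ : Function.Surjective (algebraMap (Localization.AtPrime p) p.ResidueField) :=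
    IsLocalRing.residue_surjective
  have h₂ : Function.Surjective (algebraMap (Localization.AtPrime p)
      (Localization.AtPrime p ⧸ maximalIdeal (Localization.AtPrime p))) :=
    Ideal.Quotient.mk_surjective
  have hne : (maximalIdeal (Localization.AtPrime r)).map (Ideal.Quotient.mk
        ((maximalIdeal (Localization.AtPrime p)).map
          (algebraMap (Localization.AtPrime p) (Localization.AtPrime r)))) ≠ ⊤ := by
    intro htop
    have h1 := Ideal.comap_map_of_surjective (Ideal.Quotient.mk
        ((maximalIdeal (Localization.AtPrime p)).map
          (algebraMap (Localization.AtPrime p) (Localization.AtPrime r))))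
      Ideal.Quotient.mk_surjective (maximalIdeal (Localization.AtPrime r))
    rw [htop, Ideal.comap_top, ← RingHom.ker_eq_comap_bot, Ideal.mk_ker,
      sup_eq_left.mpr hle] at h1
    exact (IsLocalRing.maximalIdeal.isMaximal _).ne_top h1.symm
  have h𝔫 : ∀ x ∈ (maximalIdeal (Localization.AtPrime r)).map (Ideal.Quotient.mk
        ((maximalIdeal (Localization.AtPrime p)).map
          (algebraMap (Localization.AtPrime p) (Localization.AtPrime r)))),
      (e₀.trans e₁).symm x ∈ maximalIdeal (Localization.AtPrime q₀) := by
    intro x hx
    rw [mem_maximalIdeal, mem_nonunits_iff]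
    intro hu
    have hu' : IsUnit x := by
      have := hu.map (e₀.trans e₁)
      rwa [AlgEquiv.apply_symm_apply] at this
    exact hne (Ideal.eq_top_of_isUnit_mem _ hx hu')
  exact Groth.Agent.H23.RegHomAdic.adic_transport (A₁ := Localization.AtPrime p)
    (κ₁ := Localization.AtPrime p ⧸ maximalIdeal (Localization.AtPrime p))
    (κ₂ := p.ResidueField) h₂ h₁ j hj
    (e₀.trans e₁).symm _ (maximalIdeal _) h𝔫 hq

/-- change of the base prime along an equality. -/
theorem adic_of_eq (r : Ideal S) [r.IsPrime] (p : Ideal R) [p.IsPrime]
    (hp : p = Ideal.comap (algebraMap R S) r)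
    (H : letI := (Localization.localRingHom (Ideal.comap (algebraMap R S) r) r
        (algebraMap R S) rfl).toAlgebra
      CAlgX.IsAdicFormallySmooth (Localization.AtPrime (Ideal.comap (algebraMap R S) r))
        (Localization.AtPrime r) (maximalIdeal (Localization.AtPrime r))) :
    letI := (Localization.localRingHom p r (algebraMap R S) hp).toAlgebra
    CAlgX.IsAdicFormallySmooth (Localization.AtPrime p) (Localization.AtPrime r)
      (maximalIdeal (Localization.AtPrime r)) := by
  subst hp
  exact H

theorem isScalarTower_localRingHom (r : Ideal S) [r.IsPrime] (p : Ideal R) [p.IsPrime]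
    (hp : p = Ideal.comap (algebraMap R S) r) :
    letI := (Localization.localRingHom p r (algebraMap R S) hp).toAlgebra
    IsScalarTower R (Localization.AtPrime p) (Localization.AtPrime r) := by
  letI := (Localization.localRingHom p r (algebraMap R S) hp).toAlgebra
  refine IsScalarTower.of_algebraMap_eq (fun a => ?_)
  rw [RingHom.algebraMap_toAlgebra, Localization.localRingHom_to_map,
    ← IsScalarTower.algebraMap_apply]

open Algebra.TensorProduct in
/-- **Converse**: if all the local maps `R_p → S_q` are adically formally smooth (`R`, `S`
Noetherian), then `R → S` is a regular homomorphism. -/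
theorem isRegularHom_of_forall_adic [IsNoetherianRing R]
    (hall : ∀ (q : Ideal S) [q.IsPrime],
      letI := (Localization.localRingHom (Ideal.comap (algebraMap R S) q) q
        (algebraMap R S) rfl).toAlgebra
      CAlgX.IsAdicFormallySmooth (Localization.AtPrime (Ideal.comap (algebraMap R S) q))
        (Localization.AtPrime q) (maximalIdeal (Localization.AtPrime q))) :
    CAlg.IsRegularHom R S := by
  refine ⟨?_, fun p hp => ⟨Groth.Agent.H26.SkFlat.isNoetherianRing_fiber S p, ?_⟩⟩
  · rw [← RingHom.flat_algebraMap_iff]
    apply RingHom.Flat.ofLocalizationPrime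
    intro q hq
    letI := (Localization.localRingHom (Ideal.comap (algebraMap R S) q) q
        (algebraMap R S) rfl).toAlgebra
    haveI : IsLocalHom (algebraMap (Localization.AtPrime (Ideal.comap (algebraMap R S) q))
        (Localization.AtPrime q)) :=
      Localization.isLocalHom_localRingHom _ q (algebraMap R S) rfl
    haveI : IsNoetherianRing (Localization.AtPrime q) :=
      IsLocalization.isNoetherianRing q.primeCompl _ inferInstance
    haveI : IsNoetherianRing (Localization.AtPrime (Ideal.comap (algebraMap R S) q)) :=
      IsLocalization.isNoetherianRing (Ideal.comap (algebraMap R S) q).primeCompl _ inferInstance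
    exact Groth.Agent.H23.FlatOfAdic.flat_of_adic (hall q)
  · haveI := Groth.Agent.H26.SkFlat.isNoetherianRing_fiber S p
    apply geomReg_of_forall_atPrime
    intro q₀ hq₀
    haveI : IsNoetherianRing (Localization.AtPrime q₀) :=
      IsLocalization.isNoetherianRing q₀.primeCompl _ inferInstance
    rw [← Groth.Agent.H23.GeomRegIff.adic_iff_geomReg]
    have hrp : (q₀.comap (includeRight (R := R) (A := p.ResidueField) (B := S))).LiesOver p :=
      inferInstance
    letI := (Localization.localRingHom p
      (q₀.comap (includeRight (R := R) (A := p.ResidueField) (B := S)))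
      (algebraMap R S) Ideal.LiesOver.over).toAlgebra
    haveI := isScalarTower_localRingHom R S
      (q₀.comap (includeRight (R := R) (A := p.ResidueField) (B := S))) p Ideal.LiesOver.over
    apply fibre_adic R S p q₀
    exact adic_of_eq R S _ p Ideal.LiesOver.over (hall _)

end Core

end Groth.Agent.H91.RegAdicLoc
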