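import Mathlib
import Groth.Agent.H2.LocalCrit

/-!
# Two ingredients for flatness along a regular sequence (helper91)

* `tor1Zero_of_cokernel`: a piece of the long exact `Tor` sequence in helper2's elementary
  `Tor1Zero` formalism: `0 → N' → N → N'' → 0` exact, `Tor₁(N, M) = 0` and `N' ⊗ M → N ⊗ M`
  injective imply `Tor₁(N'', M) = 0`.
* `mem_of_monomial_mul_mem`: in a polynomial ring, a power of a variable is a nonzerodivisor modulo
  a monomial ideal whose generators do not involve that variable.
-/

set_option autoImplicit false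
universe u
open scoped TensorProduct
open Function (Injective Surjective Exact)

namespace Groth.Agent.H91.RegFlat

open Groth.Agent.H2

section Tor

variable {R : Type u} [CommRing R] {N' N N'' M : Type u} [AddCommGroup N'] [Module R N']
  [AddCommGroup N] [Module R N] [AddCommGroup N''] [Module R N''] [AddCommGroup M] [Module R M]

theorem tor1Zero_of_cokernel (f : N' →ₗ[R] N) (g : N →ₗ[R] N'') (hfg : Exact f g)
    (hg : Surjective g) (hN : Tor1Zero R N M) (hinj : Injective (f.rTensor M)) :
    Tor1Zero R N'' M := by
  intro K F _ _ _ _ _ i p hi hip hp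
  have hN' := hN K F i p hi hip hp
  rw [injective_iff_map_eq_zero]
  intro z hz
  obtain ⟨y, rfl⟩ := LinearMap.rTensor_surjective K hg z
  have h1 : g.rTensor F (i.lTensor N y) = 0 := by
    rw [← LinearMap.comp_apply, LinearMap.rTensor_comp_lTensor, ← LinearMap.lTensor_comp_rTensor,
      LinearMap.comp_apply]
    exact hz
  obtain ⟨w, hw⟩ := (rTensor_exact F hfg hg (i.lTensor N y)).mp h1
  have h2 : p.lTensor N' w = 0 := by
    apply hinj
    rw [map_zero, ← LinearMap.comp_apply, LinearMap.rTensor_comp_lTensor,
      ← LinearMap.lTensor_comp_rTensor, LinearMap.comp_apply, hw, ← LinearMap.comp_apply,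
      ← LinearMap.lTensor_comp, hip.linearMap_comp_eq_zero, LinearMap.lTensor_zero,
      LinearMap.zero_apply]
  obtain ⟨v, hv⟩ := (lTensor_exact N' hip hp w).mp h2
  have h3 : y = f.rTensor K v := by
    apply hN'
    rw [← LinearMap.comp_apply (i.lTensor N), LinearMap.lTensor_comp_rTensor,
      ← LinearMap.rTensor_comp_lTensor, LinearMap.comp_apply, hv, hw]
  rw [h3, ← LinearMap.comp_apply, ← LinearMap.rTensor_comp, hfg.linearMap_comp_eq_zero,
    LinearMap.rTensor_zero, LinearMap.zero_apply]

end Tor

section Monomial

open MvPolynomial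

variable {k : Type u} [CommRing k] {σ : Type*}

/-- A power of the variable `X i` is a nonzerodivisor modulo a monomial ideal whose generators do
not involve `X i`. -/
theorem mem_of_monomial_mul_mem (S : Set (σ →₀ ℕ)) (i : σ) (hS : ∀ s ∈ S, s i = 0) (m : ℕ)
    (y : MvPolynomial σ k)
    (hy : monomial (Finsupp.single i m) (1 : k) * y ∈
      Ideal.span ((fun s => monomial s (1 : k)) '' S)) :
    y ∈ Ideal.span ((fun s => monomial s (1 : k)) '' S) := by
  classical
  rw [mem_ideal_span_monomial_image] at hy ⊢
  intro t ht
  have hmem : Finsupp.single i m + t ∈ (monomial (Finsupp.single i m) (1 : k) * y).support := by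
    rw [mem_support_iff, coeff_monomial_mul, one_mul]
    exact mem_support_iff.mp ht
  obtain ⟨s, hs, hle⟩ := hy _ hmem
  refine ⟨s, hs, fun j => ?_⟩
  by_cases hj : j = i
  · subst hj
    rw [hS s hs]
    exact Nat.zero_le _
  · have := hle j
    rwa [Finsupp.add_apply, Finsupp.single_apply, if_neg (Ne.symm hj), zero_add] at this

end Monomial

end Groth.Agent.H91.RegFlat
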