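import Groth.Prelude.Def_Magnet3
import Mathlib

/-!
Scheme-theoretic dominance of `A(M)_S ×_S W ⟶ A(N)_S ×_S W` for an injective monoid map `N →+ M`,
and the resulting cancellation lemma for morphisms into separated schemes.
-/

set_option autoImplicit false
universe u
open CategoryTheory Limits AlgebraicGeometry TensorProduct MonoidalCategory CartesianMonoidalCategory

namespace Groth.Agent.H91

/-- Two morphisms into a separated `Z`-scheme agreeing after precomposition with a
scheme-theoretically dominant morphism are equal. -/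
lemma ext_of_isSchemeTheoreticallyDominant_of_isSeparated {W X Y Z : Scheme.{u}} {f g : X ⟶ Y}
    (s : Y ⟶ Z) [IsSeparated s] (h : f ≫ s = g ≫ s)
    (ι : W ⟶ X) [IsSchemeTheoreticallyDominant ι] (hU : ι ≫ f = ι ≫ g) : f = g := by
  let X' : Over Z := Over.mk (f ≫ s)
  let Y' : Over Z := Over.mk s
  let U' : Over Z := Over.mk (ι ≫ f ≫ s)
  let f' : X' ⟶ Y' := Over.homMk f
  let g' : X' ⟶ Y' := Over.homMk g
  let ι' : U' ⟶ X' := Over.homMk ι
  have : IsSeparated Y'.hom := ‹_›
  have hfac : (equalizer.lift ι' (show ι' ≫ f' = ι' ≫ g' by ext1; exact hU)).left ≫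
      (equalizer.ι f' g').left = ι := by
    rw [← Over.comp_left, equalizer.lift_ι]; rfl
  have hker : (equalizer.ι f' g').left.ker = ⊥ := by
    rw [eq_bot_iff]
    have := Scheme.Hom.le_ker_comp
      (equalizer.lift ι' (show ι' ≫ f' = ι' ≫ g' by ext1; exact hU)).left (equalizer.ι f' g').left
    rw [hfac, ι.ker_eq_bot] at this
    exact this
  have := IsClosedImmersion.isIso_iff_ker_eq_bot.mpr hker
  rw [← cancel_epi (equalizer.ι f' g').left]
  exact congr($(equalizer.condition f' g').left)


/-- a morphism to an affine scheme which is injective on global sections is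
scheme-theoretically dominant. -/
lemma isSchemeTheoreticallyDominant_of_appTop_injective {X Y : Scheme.{u}} (f : X ⟶ Y) [IsAffine Y]
    (hf : Function.Injective f.appTop.hom) : IsSchemeTheoreticallyDominant f := by
  constructor
  rw [Scheme.ker_of_isAffine]
  have : RingHom.ker f.appTop.hom = ⊥ := (RingHom.injective_iff_ker_eq_bot _).mp hf
  rw [this]
  apply Scheme.IdealSheafData.ext_of_isAffine
  simp

lemma isSchemeTheoreticallyDominant_SpecMap {A B : CommRingCat.{u}} (φ : A ⟶ B)
    (hφ : Function.Injective φ.hom) : IsSchemeTheoreticallyDominant (Spec.map φ) := by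
  apply isSchemeTheoreticallyDominant_of_appTop_injective
  have h := Scheme.ΓSpecIso_naturality φ
  have : (Spec.map φ).appTop = (Scheme.ΓSpecIso A).hom ≫ φ ≫ (Scheme.ΓSpecIso B).inv := by
    rw [← Category.assoc, ← h, Category.assoc, Iso.hom_inv_id, Category.comp_id]
  rw [this]
  intro x y hxy
  simp only [CommRingCat.hom_comp, RingHom.comp_apply] at hxy
  have h1 := (ConcreteCategory.bijective_of_isIso (Scheme.ΓSpecIso B).inv).1 hxy
  have h2 := hφ h1
  exact (ConcreteCategory.bijective_of_isIso (Scheme.ΓSpecIso A).hom).1 h2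


/-- Affine case: base change of `Spec C' ⟶ Spec C` over `Spec Λ` along `Spec R ⟶ Spec Λ` is
scheme-theoretically dominant as soon as `C ⊗ R → C' ⊗ R` is injective. -/
lemma isSchemeTheoreticallyDominant_of_tensor_injective
    (Λ C C' R : Type u) [CommRing Λ] [CommRing C] [CommRing C'] [CommRing R]
    [Algebra Λ C] [Algebra Λ C'] [Algebra Λ R] (γ : C →ₐ[Λ] C')
    (hγ : Function.Injective (Algebra.TensorProduct.map γ (AlgHom.id Λ R)))
    {E E' : Scheme.{u}} (a : E ⟶ Spec (CommRingCat.of C)) (b : E ⟶ Spec (CommRingCat.of R))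
    (a' : E' ⟶ Spec (CommRingCat.of C')) (b' : E' ⟶ Spec (CommRingCat.of R)) (w : E' ⟶ E)
    (sq1 : IsPullback a b (Spec.map (CommRingCat.ofHom (algebraMap Λ C)))
      (Spec.map (CommRingCat.ofHom (algebraMap Λ R))))
    (sq2 : IsPullback a' b' (Spec.map (CommRingCat.ofHom (algebraMap Λ C')))
      (Spec.map (CommRingCat.ofHom (algebraMap Λ R))))
    (hwa : w ≫ a = a' ≫ Spec.map (CommRingCat.ofHom γ.toRingHom)) (hwb : w ≫ b = b') :
    IsSchemeTheoreticallyDominant w := by
  have T := isPullback_SpecMap_of_isPushout _ _ _ _ (CommRingCat.isPushout_tensorProduct Λ C R)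
  have T' := isPullback_SpecMap_of_isPushout _ _ _ _ (CommRingCat.isPushout_tensorProduct Λ C' R)
  let e := sq1.isoIsPullback _ _ T
  let e' := sq2.isoIsPullback _ _ T'
  let φ : CommRingCat.of (C ⊗[Λ] R) ⟶ CommRingCat.of (C' ⊗[Λ] R) :=
    CommRingCat.ofHom (Algebra.TensorProduct.map γ (AlgHom.id Λ R)).toRingHom
  have hw : w = e'.hom ≫ Spec.map φ ≫ e.inv := by
    apply sq1.hom_ext
    · rw [hwa, Category.assoc, Category.assoc, IsPullback.isoIsPullback_inv_fst, ← Spec.map_comp]
      have : CommRingCat.ofHom (Algebra.TensorProduct.includeLeftRingHom (R := Λ) (A := C) (B := R))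
          ≫ φ = CommRingCat.ofHom γ.toRingHom ≫
            CommRingCat.ofHom (Algebra.TensorProduct.includeLeftRingHom (R := Λ) (A := C') (B := R)) := by
        ext x
        simp [φ]
      rw [this, Spec.map_comp, ← Category.assoc, IsPullback.isoIsPullback_hom_fst]
    · rw [hwb, Category.assoc, Category.assoc, IsPullback.isoIsPullback_inv_snd, ← Spec.map_comp]
      have : CommRingCat.ofHom (Algebra.TensorProduct.includeRight (R := Λ) (A := C) (B := R)).toRingHom
          ≫ φ =
            CommRingCat.ofHom (Algebra.TensorProduct.includeRight (R := Λ) (A := C') (B := R)).toRingHom := by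
        ext x
        simp [φ]
      rw [this, IsPullback.isoIsPullback_hom_snd]
  have : IsSchemeTheoreticallyDominant (Spec.map φ) :=
    isSchemeTheoreticallyDominant_SpecMap φ hγ
  rw [hw]
  infer_instance


lemma isSchemeTheoreticallyDominant_of_tensor_injective'
    (Λ C C' : Type u) [CommRing Λ] [CommRing C] [CommRing C']
    [Algebra Λ C] [Algebra Λ C'] (γ : C →ₐ[Λ] C')
    (hγ : ∀ (R : Type u) [CommRing R] [Algebra Λ R],
      Function.Injective (Algebra.TensorProduct.map γ (AlgHom.id Λ R)))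
    (R : CommRingCat.{u}) (t : Spec R ⟶ Spec (CommRingCat.of Λ))
    {E E' : Scheme.{u}} (a : E ⟶ Spec (CommRingCat.of C)) (b : E ⟶ Spec R)
    (a' : E' ⟶ Spec (CommRingCat.of C')) (b' : E' ⟶ Spec R) (w : E' ⟶ E)
    (sq1 : IsPullback a b (Spec.map (CommRingCat.ofHom (algebraMap Λ C))) t)
    (sq2 : IsPullback a' b' (Spec.map (CommRingCat.ofHom (algebraMap Λ C'))) t)
    (hwa : w ≫ a = a' ≫ Spec.map (CommRingCat.ofHom γ.toRingHom)) (hwb : w ≫ b = b') :
    IsSchemeTheoreticallyDominant w := by
  let τ : CommRingCat.of Λ ⟶ R := Spec.preimage t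
  let _ : Algebra Λ R := τ.hom.toAlgebra
  have ht : Spec.map (CommRingCat.ofHom (algebraMap Λ R)) = t := Spec.map_preimage t
  rw [← ht] at sq1 sq2
  exact isSchemeTheoreticallyDominant_of_tensor_injective Λ C C' R γ (hγ R) a b a' b' w sq1 sq2
    hwa hwb


/-- General base: base change of `Spec C' ⟶ Spec C` over `Spec Λ` along any `W ⟶ Spec Λ` is
scheme-theoretically dominant as soon as `C ⊗ R → C' ⊗ R` is injective for all `Λ`-algebras `R`. -/
lemma isSchemeTheoreticallyDominant_of_forall_tensor_injective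
    (Λ C C' : Type u) [CommRing Λ] [CommRing C] [CommRing C']
    [Algebra Λ C] [Algebra Λ C'] (γ : C →ₐ[Λ] C')
    (hγ : ∀ (R : Type u) [CommRing R] [Algebra Λ R],
      Function.Injective (Algebra.TensorProduct.map γ (AlgHom.id Λ R)))
    {E E' W : Scheme.{u}} (t : W ⟶ Spec (CommRingCat.of Λ))
    (a : E ⟶ Spec (CommRingCat.of C)) (b : E ⟶ W)
    (a' : E' ⟶ Spec (CommRingCat.of C')) (b' : E' ⟶ W) (w : E' ⟶ E)
    (sq1 : IsPullback a b (Spec.map (CommRingCat.ofHom (algebraMap Λ C))) t)
    (sq2 : IsPullback a' b' (Spec.map (CommRingCat.ofHom (algebraMap Λ C'))) t)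
    (hwa : w ≫ a = a' ≫ Spec.map (CommRingCat.ofHom γ.toRingHom)) (hwb : w ≫ b = b') :
    IsSchemeTheoreticallyDominant w := by
  -- `w` is a base change of `Spec.map γ`, hence quasi-compact
  have hf : Spec.map (CommRingCat.ofHom γ.toRingHom) ≫
      Spec.map (CommRingCat.ofHom (algebraMap Λ C)) =
      Spec.map (CommRingCat.ofHom (algebraMap Λ C')) := by
    rw [← Spec.map_comp]
    congr 1
    ext x
    simp
  have sqw : IsPullback a' w (Spec.map (CommRingCat.ofHom γ.toRingHom)) a := by
    refine IsPullback.of_bot ?_ hwa.symm sq1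
    rw [hwb, hf]
    exact sq2
  have : QuasiCompact w := MorphismProperty.of_isPullback sqw inferInstance
  let 𝒰 := W.affineCover
  -- pieces
  have key : ∀ (i : 𝒰.I₀) (V : (pullback b (𝒰.f i)).affineOpens),
      w.ker.ideal ⟨(pullback.fst b (𝒰.f i)) ''ᵁ V.1, V.2.image_of_isOpenImmersion _⟩ = ⊥ := by
    intro i V
    let wi : pullback b' (𝒰.f i) ⟶ pullback b (𝒰.f i) :=
      pullback.map b' (𝒰.f i) b (𝒰.f i) w (𝟙 _) (𝟙 _) (by simp [hwb]) (by simp)
    have hwi1 : wi ≫ pullback.fst b (𝒰.f i) = pullback.fst b' (𝒰.f i) ≫ w :=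
      pullback.lift_fst _ _ _
    have hwi2 : wi ≫ pullback.snd b (𝒰.f i) = pullback.snd b' (𝒰.f i) :=
      (pullback.lift_snd _ _ _).trans (Category.comp_id _)
    have H : IsPullback wi (pullback.fst b' (𝒰.f i)) (pullback.fst b (𝒰.f i)) w := by
      refine IsPullback.of_right ?_ hwi1 (IsPullback.of_hasPullback b (𝒰.f i)).flip
      rw [hwi2, hwb]
      exact (IsPullback.of_hasPullback b' (𝒰.f i)).flip
    have hdom : IsSchemeTheoreticallyDominant wi := by
      refine isSchemeTheoreticallyDominant_of_tensor_injective' Λ C C' γ hγ _ (𝒰.f i ≫ t)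
        (pullback.fst b (𝒰.f i) ≫ a) (pullback.snd b (𝒰.f i))
        (pullback.fst b' (𝒰.f i) ≫ a') (pullback.snd b' (𝒰.f i)) wi ?_ ?_ ?_ hwi2
      · exact (IsPullback.of_hasPullback b (𝒰.f i)).paste_horiz sq1
      · exact (IsPullback.of_hasPullback b' (𝒰.f i)).paste_horiz sq2
      · rw [← Category.assoc, hwi1, Category.assoc, hwa, Category.assoc]
    have h1 := Scheme.ker_ideal_of_isPullback_of_isOpenImmersion w wi _ _ H V
    rw [wi.ker_eq_bot] at h1
    -- comap along an isomorphism
    set I := w.ker.ideal ⟨(pullback.fst b (𝒰.f i)) ''ᵁ V.1, V.2.image_of_isOpenImmersion _⟩ with hI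
    rw [eq_bot_iff]
    intro x hx
    have hinv : Function.Surjective ((pullback.fst b (𝒰.f i)).appIso V.1).inv.hom :=
      (ConcreteCategory.bijective_of_isIso ((pullback.fst b (𝒰.f i)).appIso V.1).inv).2
    obtain ⟨y, rfl⟩ := hinv x
    have hy : y ∈ I.comap ((pullback.fst b (𝒰.f i)).appIso V.1).inv.hom := hx
    rw [← h1] at hy
    have : y = 0 := by simpa using hy
    rw [this, map_zero]
    exact Ideal.zero_mem _
  constructor
  refine Scheme.IdealSheafData.ext_of_iSup_eq_top
    (ι := Σ i : 𝒰.I₀, (pullback b (𝒰.f i)).affineOpens)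
    (fun p => ⟨(pullback.fst b (𝒰.f p.1)) ''ᵁ p.2.1, p.2.2.image_of_isOpenImmersion _⟩) ?_ ?_
  · rw [eq_top_iff]
    rintro x -
    obtain ⟨i, y, hy⟩ := 𝒰.exists_eq (b x)
    have hxr : x ∈ Set.range (pullback.fst b (𝒰.f i)) := by
      rw [Scheme.Pullback.range_fst]
      exact ⟨y, hy⟩
    obtain ⟨z, rfl⟩ := hxr
    obtain ⟨_, ⟨V, hV, rfl⟩, hzV, -⟩ :=
      (pullback b (𝒰.f i)).isBasis_affineOpens.exists_subset_of_mem_open (Set.mem_univ z)
        isOpen_univ
    refine TopologicalSpace.Opens.mem_iSup.mpr ⟨⟨i, ⟨V, hV⟩⟩, ?_⟩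
    exact ⟨z, hzV, rfl⟩
  · rintro ⟨i, V⟩
    rw [key i V]
    simp


/-- linear retraction of `mapDomain f` for injective `f` -/
noncomputable def comapDomainLin (Λ : Type u) [CommRing Λ] {G H : Type} (f : G → H)
    (hf : Function.Injective f) : MonoidAlgebra Λ H →ₗ[Λ] MonoidAlgebra Λ G where
  toFun x := .ofCoeff (Finsupp.comapDomain f x.coeff hf.injOn)
  map_add' x y := by
    ext g
    simp [Finsupp.comapDomain_apply]
  map_smul' r x := by
    ext g
    simp [Finsupp.comapDomain_apply]

lemma comapDomainLin_mapDomain (Λ : Type u) [CommRing Λ] {G H : Type} (f : G → H)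
    (hf : Function.Injective f) (x : MonoidAlgebra Λ G) :
    comapDomainLin Λ f hf (MonoidAlgebra.mapDomain f x) = x := by
  ext g
  simp [comapDomainLin, Finsupp.comapDomain_apply, Finsupp.mapDomain_apply hf]

lemma mapDomain_tensor_injective (Λ : Type u) [CommRing Λ] {G H : Type} [Monoid G] [Monoid H]
    (f : G →* H) (hf : Function.Injective f) (R : Type u) [CommRing R] [Algebra Λ R] :
    Function.Injective (Algebra.TensorProduct.map (MonoidAlgebra.mapDomainAlgHom Λ Λ f)
      (AlgHom.id Λ R)) := by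
  have hli : Function.LeftInverse (LinearMap.rTensor R (comapDomainLin Λ f hf))
      (Algebra.TensorProduct.map (MonoidAlgebra.mapDomainAlgHom Λ Λ f) (AlgHom.id Λ R)) := by
    intro z
    induction z using TensorProduct.induction_on with
    | zero => simp
    | tmul x y =>
      simp only [Algebra.TensorProduct.map_tmul, AlgHom.coe_id, id_eq, LinearMap.rTensor_tmul]
      congr 1
      exact comapDomainLin_mapDomain Λ f hf x
    | add x y hx hy => rw [map_add, map_add, hx, hy]
  exact hli.injective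


theorem dominant_whiskerRight (S : Scheme.{u}) {M N : Type} [AddCommMonoid M] [AddCommMonoid N]
    (g : N →+ M) (hg : Function.Injective g) (W : Over S) :
    IsSchemeTheoreticallyDominant (Magnet.AMonS.map S g ▷ W).left := by
  have sqN : IsPullback
      (pullback.fst (Magnet.AMonS S N).hom W.hom ≫
        pullback.fst (Magnet.AMon (ULift.{u} ℤ) N).hom (Limits.IsTerminal.from specULiftZIsTerminal S))
      (pullback.snd (Magnet.AMonS S N).hom W.hom)
      (Spec.map (CommRingCat.ofHom (algebraMap (ULift.{u} ℤ)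
        (MonoidAlgebra (ULift.{u} ℤ) (Multiplicative N)))))
      (W.hom ≫ Limits.IsTerminal.from specULiftZIsTerminal S) :=
    ((IsPullback.of_hasPullback (Magnet.AMonS S N).hom W.hom).flip.paste_vert
      (IsPullback.of_hasPullback (Magnet.AMon (ULift.{u} ℤ) N).hom
        (Limits.IsTerminal.from specULiftZIsTerminal S)).flip).flip
  have sqM : IsPullback
      (pullback.fst (Magnet.AMonS S M).hom W.hom ≫
        pullback.fst (Magnet.AMon (ULift.{u} ℤ) M).hom (Limits.IsTerminal.from specULiftZIsTerminal S))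
      (pullback.snd (Magnet.AMonS S M).hom W.hom)
      (Spec.map (CommRingCat.ofHom (algebraMap (ULift.{u} ℤ)
        (MonoidAlgebra (ULift.{u} ℤ) (Multiplicative M)))))
      (W.hom ≫ Limits.IsTerminal.from specULiftZIsTerminal S) :=
    ((IsPullback.of_hasPullback (Magnet.AMonS S M).hom W.hom).flip.paste_vert
      (IsPullback.of_hasPullback (Magnet.AMon (ULift.{u} ℤ) M).hom
        (Limits.IsTerminal.from specULiftZIsTerminal S)).flip).flip
  have h1 : (Magnet.AMonS.map S g ▷ W).left ≫ pullback.fst (Magnet.AMonS S N).hom W.hom =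
      pullback.fst (Magnet.AMonS S M).hom W.hom ≫ (Magnet.AMonS.map S g).left :=
    Over.whiskerRight_left_fst _
  have h2 : (Magnet.AMonS.map S g).left ≫
      pullback.fst (Magnet.AMon (ULift.{u} ℤ) N).hom (Limits.IsTerminal.from specULiftZIsTerminal S) =
      pullback.fst (Magnet.AMon (ULift.{u} ℤ) M).hom (Limits.IsTerminal.from specULiftZIsTerminal S) ≫
        (Magnet.AMon.map (ULift.{u} ℤ) g).left := pullback.lift_fst _ _ _
  have h3 : (Magnet.AMon.map (ULift.{u} ℤ) g).left = Spec.map (CommRingCat.ofHom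
      (MonoidAlgebra.mapDomainAlgHom (ULift.{u} ℤ) (ULift.{u} ℤ)
        (AddMonoidHom.toMultiplicative g)).toRingHom) := rfl
  have h4 : (Magnet.AMonS.map S g ▷ W).left ≫ pullback.snd (Magnet.AMonS S N).hom W.hom =
      pullback.snd (Magnet.AMonS S M).hom W.hom := Over.whiskerRight_left_snd _
  refine isSchemeTheoreticallyDominant_of_forall_tensor_injective (ULift.{u} ℤ)
    (MonoidAlgebra (ULift.{u} ℤ) (Multiplicative N)) (MonoidAlgebra (ULift.{u} ℤ) (Multiplicative M))
    (MonoidAlgebra.mapDomainAlgHom (ULift.{u} ℤ) (ULift.{u} ℤ) (AddMonoidHom.toMultiplicative g))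
    (fun R _ _ => mapDomain_tensor_injective (ULift.{u} ℤ) (AddMonoidHom.toMultiplicative g)
      (fun x y h => hg h) R)
    _ _ _ _ _ _ sqN sqM ?_ h4
  calc (Magnet.AMonS.map S g ▷ W).left ≫ pullback.fst (Magnet.AMonS S N).hom W.hom ≫
        pullback.fst (Magnet.AMon (ULift.{u} ℤ) N).hom (Limits.IsTerminal.from specULiftZIsTerminal S)
      = ((Magnet.AMonS.map S g ▷ W).left ≫ pullback.fst (Magnet.AMonS S N).hom W.hom) ≫
        pullback.fst (Magnet.AMon (ULift.{u} ℤ) N).hom (Limits.IsTerminal.from specULiftZIsTerminal S) :=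
        (Category.assoc _ _ _).symm
    _ = (pullback.fst (Magnet.AMonS S M).hom W.hom ≫ (Magnet.AMonS.map S g).left) ≫
        pullback.fst (Magnet.AMon (ULift.{u} ℤ) N).hom (Limits.IsTerminal.from specULiftZIsTerminal S) := by
        rw [h1]
    _ = pullback.fst (Magnet.AMonS S M).hom W.hom ≫ ((Magnet.AMonS.map S g).left ≫
        pullback.fst (Magnet.AMon (ULift.{u} ℤ) N).hom (Limits.IsTerminal.from specULiftZIsTerminal S)) :=
        Category.assoc _ _ _
    _ = pullback.fst (Magnet.AMonS S M).hom W.hom ≫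
        (pullback.fst (Magnet.AMon (ULift.{u} ℤ) M).hom (Limits.IsTerminal.from specULiftZIsTerminal S) ≫
        (Magnet.AMon.map (ULift.{u} ℤ) g).left) := by rw [h2]
    _ = _ := by rw [h3]; exact (Category.assoc _ _ _).symm


/-- KEY LEMMA: for an injective monoid map `g : N →+ M`, morphisms out of `A(N)_S ×_S W` into a
separated `S`-scheme are determined by their restriction along `A(M)_S ×_S W ⟶ A(N)_S ×_S W`. -/
theorem whiskerRight_cancel (S : Scheme.{u}) {M N : Type} [AddCommMonoid M] [AddCommMonoid N]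
    (g : N →+ M) (hg : Function.Injective g) (W X : Over S) [IsSeparated X.hom]
    (φ₁ φ₂ : Magnet.AMonS S N ⊗ W ⟶ X)
    (h : (Magnet.AMonS.map S g ▷ W) ≫ φ₁ = (Magnet.AMonS.map S g ▷ W) ≫ φ₂) : φ₁ = φ₂ := by
  have := dominant_whiskerRight S g hg W
  apply Over.OverMorphism.ext
  refine ext_of_isSchemeTheoreticallyDominant_of_isSeparated X.hom (by rw [Over.w, Over.w])
    (Magnet.AMonS.map S g ▷ W).left ?_
  rw [← Over.comp_left, h, Over.comp_left]

end Groth.Agent.H91
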