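import Mathlib

/-!
# Minimal generators of a fine sharp monoid

For a finitely generated cancellative commutative monoid `N` whose only unit is `0`, a generating
finset `S` of minimal cardinality has the following properties for the induced map
`pi S : (S →₀ ℕ) →+ N`: it is surjective, `pi S a = 0 → a = 0`, and the only way to write a generator
`i ∈ S` as a combination of generators is the trivial one.
-/

namespace Groth.Agent.H91.SharpMon

open Finsupp

variable {N : Type*} [AddCommMonoid N]

/-- The monoid hom from exponent vectors on a finset of elements of `N`. -/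
noncomputable def pi (S : Finset N) : (S →₀ ℕ) →+ N :=
  (Finsupp.linearCombination ℕ (Subtype.val : S → N)).toAddMonoidHom

lemma pi_apply (S : Finset N) (a : S →₀ ℕ) : pi S a = a.sum fun j k => k • (j : N) := by
  simp [pi, Finsupp.linearCombination_apply]

@[simp] lemma pi_single (S : Finset N) (i : S) (k : ℕ) : pi S (single i k) = k • (i : N) := by
  simp [pi]

lemma pi_surjective (S : Finset N) (hS : AddSubmonoid.closure (S : Set N) = ⊤) :
    Function.Surjective (pi S) := by
  intro y
  have hy : y ∈ AddSubmonoid.closure (S : Set N) := by rw [hS]; trivial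
  induction hy using AddSubmonoid.closure_induction with
  | mem x hx => exact ⟨single ⟨x, hx⟩ 1, by simp⟩
  | zero => exact ⟨0, map_zero _⟩
  | add x y _ _ hx hy =>
    obtain ⟨a, rfl⟩ := hx
    obtain ⟨b, rfl⟩ := hy
    exact ⟨a + b, map_add _ _ _⟩

lemma eq_single_add {ι : Type*} (c : ι →₀ ℕ) (j : ι) (hj : c j ≠ 0) :
    c = single j 1 + (c - single j 1) := by
  classical
  ext k
  by_cases hk : k = j
  · subst hk
    simp only [coe_add, coe_tsub, Pi.add_apply, single_eq_same, Pi.sub_apply]
    omega
  · simp [Ne.symm hk]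

lemma pi_mem_closure_erase [DecidableEq N] (S : Finset N) (i : S) (b : S →₀ ℕ) (hb : b i = 0) :
    pi S b ∈ AddSubmonoid.closure ((S.erase (i : N) : Finset N) : Set N) := by
  rw [pi_apply]
  refine AddSubmonoid.sum_mem _ fun j hj => ?_
  refine AddSubmonoid.nsmul_mem _ (AddSubmonoid.subset_closure ?_) _
  have hji : j ≠ i := by
    rintro rfl
    exact (Finsupp.mem_support_iff.mp hj) hb
  simp only [Finset.coe_erase, Set.mem_sdiff, Finset.mem_coe, Set.mem_singleton_iff]
  exact ⟨j.2, fun h => hji (Subtype.ext h)⟩

lemma closure_erase_eq_top [DecidableEq N] (S : Finset N)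
    (hS : AddSubmonoid.closure (S : Set N) = ⊤) (x : N)
    (hx : x ∈ AddSubmonoid.closure ((S.erase x : Finset N) : Set N)) :
    AddSubmonoid.closure ((S.erase x : Finset N) : Set N) = ⊤ := by
  rw [eq_top_iff, ← hS, AddSubmonoid.closure_le]
  intro y hy
  by_cases hyx : y = x
  · subst hyx; exact hx
  · exact AddSubmonoid.subset_closure (by simpa [hyx] using hy)

theorem exists_min_gens [AddMonoid.FG N] [IsCancelAdd N]
    (hsharp : ∀ n : N, IsAddUnit n → n = 0) :
    ∃ S : Finset N, Function.Surjective (pi S) ∧
      (∀ (i : S) (b : S →₀ ℕ), pi S b = (i : N) → b = single i 1) ∧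
      (∀ a : S →₀ ℕ, pi S a = 0 → a = 0) := by
  classical
  have hfg : ∃ n : ℕ, ∃ S : Finset N, S.card = n ∧ AddSubmonoid.closure (S : Set N) = ⊤ := by
    obtain ⟨S, hS⟩ := (AddMonoid.fg_def.mp (inferInstance : AddMonoid.FG N))
    exact ⟨_, S, rfl, hS⟩
  obtain ⟨S, hcard, hS⟩ := Nat.find_spec hfg
  have hmin : ∀ T : Finset N, AddSubmonoid.closure (T : Set N) = ⊤ → S.card ≤ T.card := by
    intro T hT
    rw [hcard]
    exact Nat.find_min' hfg ⟨T, rfl, hT⟩
  -- no generator can be removed
  have hnot : ∀ i : S, (i : N) ∉ AddSubmonoid.closure ((S.erase (i : N) : Finset N) : Set N) := by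
    intro i hi
    have h1 := hmin _ (closure_erase_eq_top S hS _ hi)
    have h2 := Finset.card_erase_lt_of_mem i.2
    omega
  have h0 : ∀ j : S, (j : N) ≠ 0 := by
    intro j hj
    apply hnot j
    rw [hj]
    exact zero_mem _
  have hzero : ∀ a : S →₀ ℕ, pi S a = 0 → a = 0 := by
    intro a ha
    by_contra hne
    obtain ⟨j, hj⟩ : ∃ j, a j ≠ 0 := by
      by_contra hall
      push Not at hall
      exact hne (Finsupp.ext hall)
    rw [eq_single_add a j hj, map_add, pi_single, one_smul] at ha
    exact h0 j (hsharp _ (isAddUnit_iff_exists_neg.mpr ⟨_, ha⟩))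
  refine ⟨S, pi_surjective S hS, ?_, hzero⟩
  intro i b hb
  by_cases hbi : b i = 0
  · exact absurd (hb ▸ pi_mem_closure_erase S i b hbi) (hnot i)
  · have hb' := hb
    rw [eq_single_add b i hbi, map_add, pi_single, one_smul] at hb'
    have hc : pi S (b - single i 1) = 0 := by
      have : (i : N) + pi S (b - single i 1) = (i : N) + 0 := by rw [hb', add_zero]
      exact add_left_cancel this
    rw [eq_single_add b i hbi, hzero _ hc, add_zero]

end Groth.Agent.H91.SharpMon
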