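import Groth.Agent.H91.SharpMon

/-!
# A length function on a fine sharp monoid

For a finitely generated cancellative commutative monoid `N` whose only unit is `0` there is a
function `ℓ : N → ℕ` with `ℓ m < ℓ (m + k)` for `k ≠ 0`.
-/

namespace Groth.Agent.H91.SharpMon

open Finsupp

variable {N : Type*} [AddCommMonoid N]

theorem fiber_finite [IsCancelAdd N] (S : Finset N)
    (hzero : ∀ a : S →₀ ℕ, pi S a = 0 → a = 0) (n : N) :
    {a : S →₀ ℕ | pi S a = n}.Finite := by
  apply WellQuasiOrderedLE.finite_of_isAntichain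
  intro a ha b hb hab hle
  apply hab
  obtain ⟨c, rfl⟩ := exists_add_of_le hle
  have h1 : pi S a + pi S c = pi S a + 0 := by
    rw [← map_add, add_zero]
    exact (hb : pi S (a + c) = n).trans (ha : pi S a = n).symm
  have h2 := hzero c (add_left_cancel h1)
  rw [h2, add_zero]

theorem exists_length [AddMonoid.FG N] [IsCancelAdd N]
    (hsharp : ∀ n : N, IsAddUnit n → n = 0) :
    ∃ ℓ : N → ℕ, ∀ m k : N, k ≠ 0 → ℓ m < ℓ (m + k) := by
  classical
  obtain ⟨S, hsurj, -, hzero⟩ := exists_min_gens hsharp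
  let ℓ : N → ℕ := fun n => (fiber_finite S hzero n).toFinset.sup Finsupp.degree
  refine ⟨ℓ, ?_⟩
  intro m k hk
  have hne : (fiber_finite S hzero m).toFinset.Nonempty := by
    obtain ⟨a, ha⟩ := hsurj m
    exact ⟨a, by simpa using ha⟩
  obtain ⟨a, ha, hmax⟩ := Finset.exists_mem_eq_sup _ hne Finsupp.degree
  obtain ⟨b, hb⟩ := hsurj k
  have hb0 : b ≠ 0 := by
    rintro rfl
    exact hk (by rw [← hb, map_zero])
  have hdeg : 1 ≤ Finsupp.degree b := by
    rw [Nat.one_le_iff_ne_zero, Ne, Finsupp.degree_eq_zero_iff]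
    exact hb0
  have hab : a + b ∈ (fiber_finite S hzero (m + k)).toFinset := by
    have : pi S a = m := by simpa using ha
    simp [map_add, this, hb]
  have h1 : Finsupp.degree (a + b) ≤ ℓ (m + k) := Finset.le_sup (f := Finsupp.degree) hab
  have h2 : Finsupp.degree (a + b) = Finsupp.degree a + Finsupp.degree b := map_add _ _ _
  show ℓ m < ℓ (m + k)
  have h3 : ℓ m = Finsupp.degree a := hmax
  omega

end Groth.Agent.H91.SharpMon
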