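import Mathlib

/-!
# Auxiliary linear algebra for stably free differentials
-/

set_option autoImplicit false
universe u

namespace Groth.Agent.H91.StdFree

/-- descend a derivation along a surjection -/
theorem exists_derivation_of_surjective {R A P Q : Type*} [CommRing R] [CommRing A] [Algebra R A]
    [CommRing P] [Algebra R P] (hom : P →ₐ[R] A) (hsurj : Function.Surjective hom)
    [AddCommGroup Q] [Module R Q] [Module A Q] [IsScalarTower R A Q] [Module P Q]
    [IsScalarTower R P Q] (hPQ : ∀ (p : P) (q : Q), p • q = hom p • q) (δ₀ : Derivation R P Q)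
    (hker : ∀ x, hom x = 0 → δ₀ x = 0) : ∃ δ : Derivation R A Q, ∀ x, δ (hom x) = δ₀ x := by
  classical
  have key : ∀ x y, hom x = hom y → δ₀ x = δ₀ y := by
    intro x y hxy
    have h1 : δ₀ (x - y) = 0 := hker _ (by rw [map_sub, hxy, sub_self])
    rwa [map_sub, sub_eq_zero] at h1
  let s : A → P := Function.surjInv hsurj
  have hs : ∀ y, hom (s y) = y := Function.surjInv_eq hsurj
  let L : A →ₗ[R] Q :=
    { toFun := fun y => δ₀ (s y)
      map_add' := fun y z => by
        rw [← map_add]
        exact key _ _ (by rw [map_add, hs, hs, hs])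
      map_smul' := fun r y => by
        rw [RingHom.id_apply, ← Derivation.map_smul]
        exact key _ _ (by rw [map_smul, hs, hs]) }
  have hL : ∀ x, L (hom x) = δ₀ x := fun x => key _ _ (hs _)
  refine ⟨Derivation.mk' L ?_, fun x => hL x⟩
  intro y z
  obtain ⟨x, rfl⟩ := hsurj y
  obtain ⟨x', rfl⟩ := hsurj z
  rw [← map_mul, hL, hL, hL, Derivation.leibniz, hPQ, hPQ]

/-- a matrix whose maximal minors generate the unit ideal has a right inverse -/
theorem exists_right_inverse {S : Type*} [CommRing S] {c n : ℕ} (M : Matrix (Fin c) (Fin n) S)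
    (b : (Fin c → Fin n) → S)
    (hb : ∑ cols : Fin c → Fin n, b cols * (M.submatrix id cols).det = 1) :
    ∃ N : Matrix (Fin n) (Fin c) S, M * N = 1 := by
  classical
  let Pc : (Fin c → Fin n) → Matrix (Fin n) (Fin c) S := fun cols =>
    Matrix.of fun k' k => if cols k = k' then 1 else 0
  have hPc : ∀ cols, M * Pc cols = M.submatrix id cols := by
    intro cols
    ext i k
    rw [Matrix.mul_apply, Matrix.submatrix_apply, id]
    simp only [Pc, Matrix.of_apply, mul_ite, mul_one, mul_zero]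
    rw [Finset.sum_ite_eq]
    simp
  refine ⟨∑ cols : Fin c → Fin n, b cols • (Pc cols * (M.submatrix id cols).adjugate), ?_⟩
  rw [Matrix.mul_sum]
  have h1 : ∀ cols : Fin c → Fin n, M * (b cols • (Pc cols * (M.submatrix id cols).adjugate)) =
      (b cols * (M.submatrix id cols).det) • (1 : Matrix (Fin c) (Fin c) S) := by
    intro cols
    rw [Matrix.mul_smul, ← Matrix.mul_assoc, hPc, Matrix.mul_adjugate, smul_smul]
  rw [Finset.sum_congr rfl fun cols _ => h1 cols, ← Finset.sum_smul, hb, one_smul]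

/-- the splitting -/
theorem exists_equiv_of_split {S Ω : Type*} [CommRing S] [AddCommGroup Ω] [Module S Ω] {c n : ℕ}
    (M : Matrix (Fin c) (Fin n) S) (N : Matrix (Fin n) (Fin c) S) (hMN : M * N = 1)
    (θ : (Fin n → S) →ₗ[S] Ω) (hθ : Function.Surjective θ)
    (hker : ∀ w, θ w = 0 ↔ ∃ v : Fin c → S, w = Matrix.vecMul v M) :
    Nonempty ((Ω × (Fin c → S)) ≃ₗ[S] (Fin n → S)) := by
  classical
  let σ : (Fin n → S) →ₗ[S] (Fin c → S) := Matrix.vecMulLinear N
  have hσ : ∀ w, σ w = Matrix.vecMul w N := fun _ => rfl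
  have hσρ : ∀ v : Fin c → S, σ (Matrix.vecMul v M) = v := by
    intro v
    rw [hσ, Matrix.vecMul_vecMul, hMN, Matrix.vecMul_one]
  have hθρ : ∀ v : Fin c → S, θ (Matrix.vecMul v M) = 0 := fun v => (hker _).2 ⟨v, rfl⟩
  let Φ : (Fin n → S) →ₗ[S] (Ω × (Fin c → S)) := θ.prod σ
  have hΦ : Function.Bijective Φ := by
    constructor
    · rw [injective_iff_map_eq_zero]
      intro w hw
      have h1 : θ w = 0 := congrArg Prod.fst hw
      have h2 : σ w = 0 := congrArg Prod.snd hw
      obtain ⟨v, rfl⟩ := (hker w).1 h1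
      rw [hσρ] at h2
      rw [h2, Matrix.zero_vecMul]
    · rintro ⟨ω, v⟩
      obtain ⟨w₀, rfl⟩ := hθ ω
      refine ⟨w₀ + Matrix.vecMul (v - σ w₀) M, ?_⟩
      apply Prod.ext
      · change θ (w₀ + Matrix.vecMul (v - σ w₀) M) = θ w₀
        rw [map_add, hθρ, add_zero]
      · change σ (w₀ + Matrix.vecMul (v - σ w₀) M) = v
        rw [map_add, hσρ, add_sub_cancel]
  exact ⟨(LinearEquiv.ofBijective Φ hΦ).symm⟩

end Groth.Agent.H91.StdFree
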