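import Mathlib
import Groth.Prelude.Def_Smoothing
import Groth.Agent.H91.StdFreeA
import Groth.Agent.H91.ResStepB
import Groth.Agent.H91.LiftLemG
import Groth.Agent.H91.SepTools

/-!
# Strictly standard elements: the localization is smooth with stably free differentials
-/

set_option autoImplicit false
set_option linter.style.haveILetI false
set_option maxHeartbeats 800000
universe u

open MvPolynomial Smoothing KaehlerDifferential TensorProduct

namespace Groth.Agent.H91.StdFree

/-- chain rule -/
theorem D_map_eq_sum {R B : Type u} [CommRing R] [CommRing B] [Algebra R B] {n : ℕ}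
    (ψ : MvPolynomial (Fin n) R →ₐ[R] B) (p : MvPolynomial (Fin n) R) :
    D R B (ψ p) = ∑ k, ψ (pderiv k p) • D R B (ψ (X k)) := by
  classical
  induction p using MvPolynomial.induction_on with
  | C r =>
    rw [← algebraMap_eq, AlgHom.commutes, Derivation.map_algebraMap]
    symm
    refine Finset.sum_eq_zero fun k _ => ?_
    rw [algebraMap_eq, pderiv_C, map_zero, zero_smul]
  | add p q hp hq =>
    rw [map_add, map_add, hp, hq, ← Finset.sum_add_distrib]
    refine Finset.sum_congr rfl fun k _ => ?_
    rw [map_add, map_add, add_smul]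
  | mul_X p j hp =>
    rw [map_mul, Derivation.leibniz, hp]
    have h1 : ∀ k, ψ (pderiv k (p * X j)) • D R B (ψ (X k)) =
        ψ (X j) • (ψ (pderiv k p) • D R B (ψ (X k))) +
          (if k = j then ψ p • D R B (ψ (X j)) else 0) := by
      intro k
      rw [Derivation.leibniz, pderiv_X, smul_eq_mul, smul_eq_mul, map_add, map_mul, map_mul,
        add_smul, smul_smul, add_comm]
      by_cases hk : k = j
      · subst hk
        rw [if_pos rfl, Pi.single_eq_same, map_one, mul_one, mul_comm]
      · rw [if_neg hk, Pi.single_eq_of_ne (Ne.symm hk), map_zero, mul_zero, zero_smul, mul_comm]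
    rw [Finset.sum_congr rfl fun k _ => h1 k, Finset.sum_add_distrib, ← Finset.smul_sum,
      Finset.sum_ite_eq' Finset.univ j, if_pos (Finset.mem_univ j), add_comm]

theorem main {R A : Type u} [CommRing R] [CommRing A] [Algebra R A] (a : A)
    (ha : IsStrictlyStandard R A a) :
    Algebra.Smooth R (Localization.Away a) ∧
      ∃ p q : ℕ, Nonempty ((Ω[Localization.Away a⁄R] × (Fin p → Localization.Away a))
        ≃ₗ[Localization.Away a] (Fin q → Localization.Away a)) := by
  classical
  haveI hfpA : Algebra.FinitePresentation R A :=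
    Groth.Agent.H91.ResStep.finitePresentation_of_isStrictlyStandard ha
  have hsm : Algebra.Smooth R (Localization.Away a) := by
    have h1 : Algebra.FormallySmooth R (Localization.Away a) :=
      (Groth.Agent.H91.SepTools.mem_singularIdeal_iff a).1
        (Groth.Agent.H91.LiftLem.mem_singularIdeal_of_isStrictlyStandard ha)
    have h2 : Algebra.FinitePresentation R (Localization.Away a) :=
      Algebra.FinitePresentation.trans R A (Localization.Away a)
    exact ⟨h1, h2⟩
  refine ⟨hsm, ?_⟩
  obtain ⟨P, hspan, hKT⟩ := ha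
  obtain ⟨n, m, c, hcn, hcm, f, hom, hsurj, hker⟩ := P
  simp only at hspan hKT
  -- notation
  let ι : A →ₐ[R] Localization.Away a := IsScalarTower.toAlgHom R A (Localization.Away a)
  let ψ : MvPolynomial (Fin n) R →ₐ[R] Localization.Away a := ι.comp hom
  have hψ : ∀ p, ψ p = algebraMap A (Localization.Away a) (hom p) := fun _ => rfl
  have hkerf : ∀ F : MvPolynomial (Fin n) R, hom F = 0 ↔ F ∈ Ideal.span (Set.range f) := by
    intro F
    rw [← hker, RingHom.mem_ker]
    rfl
  have hfker : ∀ j, hom (f j) = 0 := fun j => (hkerf _).2 (Ideal.subset_span ⟨j, rfl⟩)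
  have hψker : ∀ F ∈ Ideal.span (Set.range f), ψ F = 0 := fun F hF => by
    rw [hψ, (hkerf F).2 hF, map_zero]
  -- the Jacobian matrix
  let M : Matrix (Fin c) (Fin n) (Localization.Away a) :=
    Matrix.of fun i k => ψ (pderiv k (f (Fin.castLE hcm i)))
  have hdet : ∀ cols : Fin c → Fin n, (M.submatrix id cols).det =
      ψ (jacobianMinor f (Fin.castLE hcm) cols) := by
    intro cols
    unfold jacobianMinor
    rw [AlgHom.map_det]
    congr 1
  -- the unit
  obtain ⟨bA, hbA⟩ := (Ideal.mem_span_range_iff_exists_fun).1 hspan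
  let inv : Localization.Away a := IsLocalization.Away.invSelf a
  have hinv : algebraMap A (Localization.Away a) a * inv = 1 :=
    IsLocalization.Away.mul_invSelf a
  have hb : ∑ cols : Fin c → Fin n,
      (algebraMap A (Localization.Away a) (bA cols) * inv) * (M.submatrix id cols).det = 1 := by
    have h1 : ∀ cols : Fin c → Fin n,
        (algebraMap A (Localization.Away a) (bA cols) * inv) * (M.submatrix id cols).det =
        inv * algebraMap A (Localization.Away a)
          (bA cols * hom (jacobianMinor f (Fin.castLE hcm) cols)) := by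
      intro cols
      rw [hdet, hψ, map_mul]
      ring
    rw [Finset.sum_congr rfl fun cols _ => h1 cols, ← Finset.mul_sum, ← map_sum, hbA, mul_comm]
    exact hinv
  obtain ⟨N, hMN⟩ := exists_right_inverse M _ hb
  -- the map θ
  let θ : (Fin n → Localization.Away a) →ₗ[Localization.Away a] Ω[Localization.Away a⁄R] :=
    Fintype.linearCombination (Localization.Away a)
      (fun k => D R (Localization.Away a) (ψ (X k)))
  have hθ : ∀ w, θ w = ∑ k, w k • D R (Localization.Away a) (ψ (X k)) := fun w =>
    Fintype.linearCombination_apply _ _ _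
  -- surjectivity
  have hDψ : ∀ p, D R (Localization.Away a) (ψ p) ∈ LinearMap.range θ := by
    intro p
    rw [D_map_eq_sum]
    exact ⟨fun k => ψ (pderiv k p), hθ _⟩
  have hθsurj : Function.Surjective θ := by
    rw [← LinearMap.range_eq_top, eq_top_iff, ← KaehlerDifferential.span_range_derivation,
      Submodule.span_le]
    rintro _ ⟨y, rfl⟩
    obtain ⟨⟨b, ⟨_, k, rfl⟩⟩, hy⟩ := IsLocalization.surj (Submonoid.powers a) y
    simp only at hy
    obtain ⟨pb, rfl⟩ := hsurj b
    obtain ⟨pa, hpa⟩ := hsurj (a ^ k)
    have h1 : D R (Localization.Away a) (y * algebraMap A (Localization.Away a) (a ^ k)) =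
        D R (Localization.Away a) (ψ pb) := by rw [hy]; rfl
    rw [Derivation.leibniz] at h1
    have h2 : algebraMap A (Localization.Away a) (a ^ k) • D R (Localization.Away a) y =
        D R (Localization.Away a) (ψ pb) - y • D R (Localization.Away a) (ψ pa) := by
      rw [hψ pa, hpa, ← h1]
      abel
    have hunit : IsUnit (algebraMap A (Localization.Away a) (a ^ k)) :=
      IsLocalization.map_units (Localization.Away a) (⟨a ^ k, k, rfl⟩ : Submonoid.powers a)
    obtain ⟨u, hu⟩ := hunit
    have h3 : D R (Localization.Away a) y =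
        (↑u⁻¹ : Localization.Away a) • (algebraMap A (Localization.Away a) (a ^ k) •
          D R (Localization.Away a) y) := by
      rw [← hu, smul_smul, Units.inv_mul, one_smul]
    rw [SetLike.mem_coe, h3, h2]
    exact Submodule.smul_mem _ _ (Submodule.sub_mem _ (hDψ pb) (Submodule.smul_mem _ _ (hDψ pa)))
  -- the quotient module
  let ρ : (Fin c → Localization.Away a) →ₗ[Localization.Away a] (Fin n → Localization.Away a) :=
    Matrix.vecMulLinear M
  have hρ : ∀ v, ρ v = Matrix.vecMul v M := fun _ => rfl
  -- θ ∘ ρ = 0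
  have hθρ : ∀ v, θ (Matrix.vecMul v M) = 0 := by
    intro v
    rw [hθ]
    have h1 : ∀ k, (Matrix.vecMul v M) k • D R (Localization.Away a) (ψ (X k)) =
        ∑ i, v i • (ψ (pderiv k (f (Fin.castLE hcm i))) • D R (Localization.Away a) (ψ (X k))) := by
      intro k
      simp only [Matrix.vecMul, dotProduct, M, Matrix.of_apply, Finset.sum_smul, smul_smul]
    rw [Finset.sum_congr rfl fun k _ => h1 k, Finset.sum_comm]
    refine Finset.sum_eq_zero fun i _ => ?_
    rw [← Finset.smul_sum, ← D_map_eq_sum, hψ, hfker, map_zero, map_zero, smul_zero]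
  -- the derivation
  let Q := (Fin n → Localization.Away a) ⧸ LinearMap.range ρ
  have hAQ : ∀ (x : A) (z : Q), x • z = algebraMap A (Localization.Away a) x • z :=
    fun x z => (algebraMap_smul (Localization.Away a) x z).symm
  letI algPA : Algebra (MvPolynomial (Fin n) R) (Localization.Away a) :=
    (ψ : MvPolynomial (Fin n) R →+* Localization.Away a).toAlgebra
  have hPQ' : ∀ (p : MvPolynomial (Fin n) R) (z : Q), p • z = ψ p • z :=
    fun p z => (algebraMap_smul (Localization.Away a) p z).symm
  haveI towRPQ : IsScalarTower R (MvPolynomial (Fin n) R) Q :=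
    ⟨fun r x z => by
      rw [hPQ', hPQ', map_smul, smul_assoc]⟩
  have hPQ : ∀ (p : MvPolynomial (Fin n) R) (z : Q), p • z = hom p • z := fun p z => by
    rw [hPQ', hAQ, hψ]
  let J : MvPolynomial (Fin n) R →ₗ[R] (Fin n → Localization.Away a) :=
    LinearMap.pi fun k => ψ.toLinearMap ∘ₗ (pderiv k).toLinearMap
  have hJ : ∀ g k, J g k = ψ (pderiv k g) := fun _ _ => rfl
  let L₀ : MvPolynomial (Fin n) R →ₗ[R] Q :=
    ((LinearMap.range ρ).mkQ.restrictScalars R) ∘ₗ J
  have hL₀ : ∀ g, L₀ g = (LinearMap.range ρ).mkQ (J g) := fun _ => rfl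
  have hJmul : ∀ g h, J (g * h) = ψ g • J h + ψ h • J g := by
    intro g h
    ext k
    rw [hJ, Pi.add_apply, Pi.smul_apply, Pi.smul_apply, hJ, hJ, Derivation.leibniz, map_add,
      smul_eq_mul, smul_eq_mul, smul_eq_mul, smul_eq_mul, map_mul, map_mul]
  let δ₀ : Derivation R (MvPolynomial (Fin n) R) Q := Derivation.mk' L₀ (by
    intro g h
    rw [hL₀, hL₀, hL₀, hPQ', hPQ', hJmul, map_add, map_smul, map_smul])
  have hδ₀ : ∀ g, δ₀ g = (LinearMap.range ρ).mkQ (J g) := fun _ => rfl
  -- δ₀ kills the leading relations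
  have hlead : ∀ i : Fin c, δ₀ (f (Fin.castLE hcm i)) = 0 := by
    intro i
    rw [hδ₀, Submodule.mkQ_apply, Submodule.Quotient.mk_eq_zero]
    refine ⟨Pi.single i 1, ?_⟩
    rw [hρ]
    ext k
    rw [Matrix.single_one_vecMul, hJ]
    rfl
  -- δ₀ kills products with elements of the kernel acting trivially
  have hmul : ∀ x y : MvPolynomial (Fin n) R, ψ y = 0 → δ₀ y = 0 → δ₀ (x * y) = 0 := by
    intro x y hy hy'
    rw [Derivation.leibniz, hy', smul_zero, hPQ', hy, zero_smul, add_zero]
  have hsq : ∀ y ∈ Ideal.span (Set.range f) ^ 2, δ₀ y = 0 := by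
    intro y hy
    rw [pow_two] at hy
    refine Submodule.mul_induction_on hy ?_ ?_
    · intro u hu v hv
      rw [Derivation.leibniz, hPQ', hPQ', hψker u hu, hψker v hv, zero_smul, zero_smul, add_zero]
    · intro u v hu hv
      rw [map_add, hu, hv, add_zero]
  have hleadspan : ∀ y ∈ Ideal.span (f '' {j' : Fin m | (j' : ℕ) < c}), δ₀ y = 0 := by
    intro y hy
    induction hy using Submodule.span_induction with
    | mem y hy =>
      obtain ⟨j', hj', rfl⟩ := hy
      have : j' = Fin.castLE hcm ⟨j', hj'⟩ := Fin.ext rfl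
      rw [this]
      exact hlead _
    | zero => exact map_zero _
    | add y z _ _ hy hz => rw [map_add, hy, hz, add_zero]
    | smul x y hy hy' =>
      rw [smul_eq_mul]
      refine hmul x y (hψker y ?_) hy'
      exact Ideal.span_mono (Set.image_subset_range _ _) hy
  obtain ⟨a', ha'⟩ := hsurj a
  have hrel : ∀ j, δ₀ (f j) = 0 := by
    intro j
    by_cases hj : (j : ℕ) < c
    · have : j = Fin.castLE hcm ⟨j, hj⟩ := Fin.ext rfl
      rw [this]
      exact hlead _
    · have h1 := hKT a' ha' j (not_lt.1 hj)
      obtain ⟨y, hy, z, hz, hyz⟩ := Submodule.mem_sup.1 h1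
      have h2 : δ₀ (a' * f j) = 0 := by
        rw [← hyz, map_add, hleadspan y hy, hsq z hz, add_zero]
      rw [Derivation.leibniz, hPQ' (f j), hψ, hfker, map_zero, zero_smul, add_zero, hPQ', hψ,
        ha'] at h2
      have hunit : IsUnit (algebraMap A (Localization.Away a) a) :=
        IsLocalization.map_units (Localization.Away a) (⟨a, 1, pow_one a⟩ : Submonoid.powers a)
      obtain ⟨u, hu⟩ := hunit
      have h3 : δ₀ (f j) = (↑u⁻¹ : Localization.Away a) •
          (algebraMap A (Localization.Away a) a • δ₀ (f j)) := by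
        rw [← hu, smul_smul, Units.inv_mul, one_smul]
      rw [h3, h2, smul_zero]
  have hkill : ∀ x, hom x = 0 → δ₀ x = 0 := by
    intro x hx
    rw [hkerf] at hx
    induction hx using Submodule.span_induction with
    | mem y hy =>
      obtain ⟨j, rfl⟩ := hy
      exact hrel j
    | zero => exact map_zero _
    | add y z _ _ hy hz => rw [map_add, hy, hz, add_zero]
    | smul x y hy hy' =>
      rw [smul_eq_mul]
      exact hmul x y (hψker y hy) hy'
  obtain ⟨δA, hδA⟩ := exists_derivation_of_surjective hom hsurj hPQ δ₀ hkill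
  let lA : Ω[A⁄R] →ₗ[A] Q := δA.liftKaehlerDifferential
  haveI : Algebra.FormallyEtale A (Localization.Away a) :=
    Algebra.FormallyEtale.of_isLocalization (Submonoid.powers a)
  let e := KaehlerDifferential.tensorKaehlerEquivOfFormallyEtale R A (Localization.Away a)
  let lam : Ω[Localization.Away a⁄R] →ₗ[Localization.Away a] Q :=
    (lA.liftBaseChange (Localization.Away a)) ∘ₗ e.symm.toLinearMap
  have hlamD : ∀ k, lam (D R (Localization.Away a) (ψ (X k))) =
      (LinearMap.range ρ).mkQ (Pi.single k 1) := by
    intro k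
    change (lA.liftBaseChange (Localization.Away a)) (e.symm (D R (Localization.Away a)
      (algebraMap A (Localization.Away a) (hom (X k))))) = _
    rw [KaehlerDifferential.tensorKaehlerEquivOfFormallyEtale_symm_D_algebraMap,
      LinearMap.liftBaseChange_tmul, one_smul, Derivation.liftKaehlerDifferential_comp_D, hδA,
      hδ₀]
    congr 1
    ext k'
    rw [hJ, pderiv_X, Pi.single_apply, Pi.single_apply]
    by_cases h : k' = k
    · rw [if_pos h, if_pos h.symm, map_one]
    · rw [if_neg h, if_neg (Ne.symm h), map_zero]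
  have hlamθ : ∀ w, lam (θ w) = (LinearMap.range ρ).mkQ w := by
    intro w
    have hw : w = ∑ k, w k • (Pi.single k 1 : Fin n → Localization.Away a) := by
      ext k'
      rw [Finset.sum_apply]
      simp only [Pi.smul_apply, Pi.single_apply, smul_eq_mul, mul_ite, mul_one, mul_zero]
      rw [Finset.sum_ite_eq Finset.univ k', if_pos (Finset.mem_univ _)]
    rw [hθ, map_sum]
    conv_rhs => rw [hw, map_sum]
    refine Finset.sum_congr rfl fun k _ => ?_
    rw [map_smul, map_smul, hlamD]
  -- conclusion
  refine ⟨c, n, exists_equiv_of_split M N hMN θ hθsurj fun w => ⟨fun hw => ?_, ?_⟩⟩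
  · have h1 : (LinearMap.range ρ).mkQ w = 0 := by rw [← hlamθ, hw, map_zero]
    rw [Submodule.mkQ_apply, Submodule.Quotient.mk_eq_zero] at h1
    obtain ⟨v, hv⟩ := h1
    exact ⟨v, hv.symm⟩
  · rintro ⟨v, rfl⟩
    exact hθρ v

end Groth.Agent.H91.StdFree
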