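import Mathlib

/-!
# Exact differentials forming a basis near a section (helper91)

`exists_basis_away`: let `R → B₀ → A` with `B₀ → A` surjective with kernel `J`, `B₀` smooth over
`R`, `c : Fin n → B₀` such that `d c_i` generate `Ω[B₀/R]` modulo `J` and there are `R`-derivations
`d_j : B₀ → A` with `d_j (c_i) = δ_ij`.  Then there is `δ ∈ 1 + J` such that the `d (c_i)` form a
basis of `Ω[(B₀)_δ / R]`.
-/

set_option autoImplicit false
universe u
open KaehlerDifferential

namespace Groth.Agent.H91.StdRetract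

section L1

variable {R B₀ A : Type u} [CommRing R] [CommRing B₀] [CommRing A] [Algebra R B₀] [Algebra R A]
  [Algebra B₀ A] [IsScalarTower R B₀ A]

theorem exists_basis_away {n : ℕ} (c : Fin n → B₀)
    [Module.Projective B₀ Ω[B₀⁄R]] [Module.Finite B₀ Ω[B₀⁄R]]
    (hsurj : Function.Surjective (algebraMap B₀ A))
    (d : Fin n → Derivation R B₀ A) (hd : ∀ i j, d j (c i) = if i = j then 1 else 0)
    (hspan : (⊤ : Submodule B₀ Ω[B₀⁄R]) ≤
      Submodule.span B₀ (Set.range fun i => D R B₀ (c i)) ⊔
        (RingHom.ker (algebraMap B₀ A)) • (⊤ : Submodule B₀ Ω[B₀⁄R])) :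
    ∃ δ : B₀, algebraMap B₀ A δ = 1 ∧
      ∃ b : Module.Basis (Fin n) (Localization.Away δ) Ω[Localization.Away δ⁄R],
        ∀ i, b i = D R (Localization.Away δ) (algebraMap B₀ (Localization.Away δ) (c i)) := by
  classical
  -- the lift `Ψ`
  let p : (Fin n → B₀) →ₗ[B₀] (Fin n → A) := (Algebra.linearMap B₀ A).compLeft (Fin n)
  have hp : Function.Surjective p := by
    intro y
    choose x hx using fun j => hsurj (y j)
    exact ⟨x, funext hx⟩
  let Ψbar : Ω[B₀⁄R] →ₗ[B₀] (Fin n → A) := LinearMap.pi fun j => (d j).liftKaehlerDifferential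
  obtain ⟨Ψ, hΨ⟩ := Module.projective_lifting_property p Ψbar hp
  have hΨ' : ∀ (ω : Ω[B₀⁄R]) (j : Fin n),
      algebraMap B₀ A (Ψ ω j) = (d j).liftKaehlerDifferential ω := by
    intro ω j
    exact congrFun (LinearMap.congr_fun hΨ ω) j
  -- the matrix `G`
  let G : Matrix (Fin n) (Fin n) B₀ := fun j i => Ψ (D R B₀ (c i)) j
  have hG : (algebraMap B₀ A).mapMatrix G = 1 := by
    ext j i
    rw [RingHom.mapMatrix_apply, Matrix.map_apply, hΨ', Derivation.liftKaehlerDifferential_comp_D,
      hd, Matrix.one_apply]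
    simp only [eq_comm]
  have hδ₁ : algebraMap B₀ A G.det = 1 := by
    rw [RingHom.map_det, hG, Matrix.det_one]
  -- Nakayama
  obtain ⟨δ₂, hδ₂, hle⟩ := Submodule.exists_sub_one_mem_and_smul_le_of_fg_of_le_sup
    (I := RingHom.ker (algebraMap B₀ A))
    (N := Submodule.span B₀ (Set.range fun i => D R B₀ (c i)))
    (N' := ⊤) (P := ⊤) (Module.Finite.fg_top) le_rfl hspan
  have hδ₂' : algebraMap B₀ A δ₂ = 1 := by
    have := RingHom.mem_ker.mp hδ₂
    rwa [map_sub, map_one, sub_eq_zero] at this
  refine ⟨G.det * δ₂, by rw [map_mul, hδ₁, hδ₂', one_mul], ?_⟩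
  let δ := G.det * δ₂
  let B := Localization.Away (G.det * δ₂)
  -- units
  have hu : IsUnit (algebraMap B₀ B (G.det * δ₂)) :=
    IsLocalization.Away.algebraMap_isUnit (G.det * δ₂)
  have hu₁ : IsUnit (algebraMap B₀ B G.det) := by
    rw [map_mul] at hu; exact isUnit_of_mul_isUnit_left hu
  have hu₂ : IsUnit (algebraMap B₀ B δ₂) := by
    rw [map_mul] at hu; exact isUnit_of_mul_isUnit_right hu
  -- span
  have hsp : (⊤ : Submodule B Ω[B⁄R]) ≤
      Submodule.span B (Set.range fun i => D R B (algebraMap B₀ B (c i))) := by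
    rw [← KaehlerDifferential.span_range_map_derivation_of_isLocalization R B₀ B
      (Submonoid.powers δ), Submodule.span_le]
    rintro _ ⟨x, rfl⟩
    have h1 : δ₂ • D R B₀ x ∈ Submodule.span B₀ (Set.range fun i => D R B₀ (c i)) :=
      hle (Submodule.smul_mem_pointwise_smul _ _ _ Submodule.mem_top)
    have h2 : ∀ ω ∈ Submodule.span B₀ (Set.range fun i => D R B₀ (c i)),
        KaehlerDifferential.map R R B₀ B ω ∈
          Submodule.span B (Set.range fun i => D R B (algebraMap B₀ B (c i))) := by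
      intro ω hω
      induction hω using Submodule.span_induction with
      | mem y hy =>
        obtain ⟨i, rfl⟩ := hy
        rw [KaehlerDifferential.map_D]
        exact Submodule.subset_span ⟨i, rfl⟩
      | zero => rw [map_zero]; exact zero_mem _
      | add y z _ _ hy hz => rw [map_add]; exact add_mem hy hz
      | smul r y _ hy =>
        rw [map_smul, ← algebraMap_smul B r]
        exact Submodule.smul_mem _ _ hy
    have h3 := h2 _ h1
    rw [map_smul, ← algebraMap_smul B δ₂] at h3
    have h4 := Submodule.smul_mem _ (↑hu₂.unit⁻¹ : B) h3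
    rw [smul_smul, IsUnit.val_inv_mul, one_smul] at h4
    exact h4
  -- the extension of `Ψ`
  have hΨB : ∀ j : Fin n, ∃ Ψ' : Ω[B⁄R] →ₗ[B] B, ∀ ω : Ω[B₀⁄R],
      Ψ' (KaehlerDifferential.map R R B₀ B ω) = algebraMap B₀ B (Ψ ω j) := by
    intro j
    let f : Ω[B₀⁄R] →ₗ[B₀] B := (Algebra.linearMap B₀ B) ∘ₗ (LinearMap.proj j) ∘ₗ Ψ
    have hf : ∀ x : Submonoid.powers δ, IsUnit ((algebraMap B₀ (Module.End B₀ B)) x) :=
      IsLocalizedModule.map_units (Algebra.linearMap B₀ B)
    let g := IsLocalizedModule.lift (Submonoid.powers δ) (KaehlerDifferential.map R R B₀ B) f hf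
    refine ⟨LinearMap.extendScalarsOfIsLocalization (Submonoid.powers δ) B g, fun ω => ?_⟩
    change g (KaehlerDifferential.map R R B₀ B ω) = _
    rw [IsLocalizedModule.lift_apply]
    rfl
  choose Ψ' hΨ'B using hΨB
  -- linear independence
  have hli : LinearIndependent B (fun i => D R B (algebraMap B₀ B (c i))) := by
    rw [Fintype.linearIndependent_iff]
    intro β hβ
    have h1 : ∀ j, ∑ i, β i * algebraMap B₀ B (G j i) = 0 := by
      intro j
      have := congrArg (Ψ' j) hβ
      rw [map_sum, map_zero] at this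
      rw [← this]
      refine Finset.sum_congr rfl fun i _ => ?_
      rw [map_smul, smul_eq_mul, ← KaehlerDifferential.map_D R R B₀ B, hΨ'B]
    have h2 : ((algebraMap B₀ B).mapMatrix G).mulVec β = 0 := by
      ext j
      rw [Matrix.mulVec, dotProduct, Pi.zero_apply, ← h1 j]
      refine Finset.sum_congr rfl fun i _ => ?_
      rw [RingHom.mapMatrix_apply, Matrix.map_apply, mul_comm]
    have h3 : IsUnit ((algebraMap B₀ B).mapMatrix G) := by
      rw [Matrix.isUnit_iff_isUnit_det, ← RingHom.map_det]; exact hu₁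
    have h4 := Matrix.mulVec_injective_of_isUnit h3 (h2.trans (Matrix.mulVec_zero _).symm)
    intro i
    exact congrFun h4 i
  exact ⟨Module.Basis.mk hli hsp, fun i => Module.Basis.mk_apply hli hsp i⟩

end L1

end Groth.Agent.H91.StdRetract
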