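import Groth.Agent.H91.SymSmooth

/-!
# Symmetric algebras of retracts of finite free modules are smooth (helper91)
-/

set_option autoImplicit false
universe u

namespace Groth.Agent.H91.StdRetract

open MvPolynomial

section Ker

variable {A : Type u} [CommRing A] {B₀ : Type u} [CommRing B₀] [Algebra A B₀] {n : ℕ}

/-- The kernel of a split surjection from a polynomial ring is generated by `X_k - j (g X_k)`. -/
theorem ker_eq_span_of_section (g : MvPolynomial (Fin n) A →ₐ[A] B₀)
    (j : B₀ →ₐ[A] MvPolynomial (Fin n) A) (hgj : g.comp j = AlgHom.id A B₀) :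
    RingHom.ker g.toRingHom = Ideal.span (Set.range fun k : Fin n => X k - j (g (X k))) := by
  have hgj' : ∀ y, g (j y) = y := fun y => congr($hgj y)
  apply le_antisymm
  · intro x hx
    have hx' : g x = 0 := hx
    have key : ∀ x : MvPolynomial (Fin n) A,
        x - j (g x) ∈ Ideal.span (Set.range fun k : Fin n => X k - j (g (X k))) := by
      intro x
      induction x using MvPolynomial.induction_on with
      | C a =>
        have : j (g (C a)) = C a := by
          rw [← MvPolynomial.algebraMap_eq, AlgHom.commutes, AlgHom.commutes]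
        rw [this, sub_self]; exact zero_mem _
      | add p q hp hq =>
        have : p + q - j (g (p + q)) = (p - j (g p)) + (q - j (g q)) := by
          rw [map_add, map_add]; ring
        rw [this]; exact add_mem hp hq
      | mul_X p k hp =>
        have : p * X k - j (g (p * X k)) =
            (p - j (g p)) * X k + j (g p) * (X k - j (g (X k))) := by
          rw [map_mul, map_mul]; ring
        rw [this]
        exact add_mem (Ideal.mul_mem_right _ _ hp)
          (Ideal.mul_mem_left _ _ (Ideal.subset_span ⟨k, rfl⟩))
    have := key x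
    rwa [hx', map_zero, sub_zero] at this
  · rw [Ideal.span_le]
    rintro _ ⟨k, rfl⟩
    change g (X k - j (g (X k))) = 0
    rw [map_sub, hgj', sub_self]

end Ker

section Sym

variable {A : Type u} [CommRing A] {Q : Type u} [AddCommGroup Q] [Module A Q] {n : ℕ}

theorem finitePresentation_symmetricAlgebra (i : Q →ₗ[A] (Fin n → A)) (ρ : (Fin n → A) →ₗ[A] Q)
    (h : ρ ∘ₗ i = LinearMap.id) :
    Algebra.FinitePresentation A (SymmetricAlgebra A Q) := by
  classical
  let g : MvPolynomial (Fin n) A →ₐ[A] SymmetricAlgebra A Q :=
    MvPolynomial.aeval fun k => SymmetricAlgebra.ι A Q (ρ (Pi.single k 1))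
  let jl : Q →ₗ[A] MvPolynomial (Fin n) A :=
    { toFun := fun q => ∑ k, i q k • X k
      map_add' := fun q q' => by
        simp only [map_add, Pi.add_apply, add_smul, Finset.sum_add_distrib]
      map_smul' := fun a q => by
        simp only [map_smul, Pi.smul_apply, smul_eq_mul, RingHom.id_apply, Finset.smul_sum,
          mul_smul] }
  let j : SymmetricAlgebra A Q →ₐ[A] MvPolynomial (Fin n) A := SymmetricAlgebra.lift jl
  have hgj : g.comp j = AlgHom.id A _ := by
    apply SymmetricAlgebra.algHom_ext
    ext q
    change g (j (SymmetricAlgebra.ι A Q q)) = SymmetricAlgebra.ι A Q q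
    rw [SymmetricAlgebra.lift_ι_apply]
    change g (∑ k, i q k • X k) = _
    rw [map_sum]
    simp only [map_smul, g, MvPolynomial.aeval_X]
    have h1 : ∑ k, i q k • (Pi.single k 1 : Fin n → A) = i q := by
      ext l
      simp [Finset.sum_apply, Pi.single_apply]
    have h2 := LinearMap.congr_fun h q
    simp only [LinearMap.comp_apply, LinearMap.id_apply] at h2
    calc ∑ k, i q k • SymmetricAlgebra.ι A Q (ρ (Pi.single k 1))
        = SymmetricAlgebra.ι A Q (ρ (∑ k, i q k • (Pi.single k 1 : Fin n → A))) := by
          simp only [map_sum, map_smul]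
      _ = SymmetricAlgebra.ι A Q q := by rw [h1, h2]
  have hsurj : Function.Surjective g := fun y => ⟨j y, congr($hgj y)⟩
  refine Algebra.FinitePresentation.of_surjective hsurj ?_
  rw [ker_eq_span_of_section g j hgj]
  exact Submodule.fg_span (Set.finite_range _)

theorem smooth_symmetricAlgebra (i : Q →ₗ[A] (Fin n → A)) (ρ : (Fin n → A) →ₗ[A] Q)
    (h : ρ ∘ₗ i = LinearMap.id) :
    Algebra.Smooth A (SymmetricAlgebra A Q) := by
  have : Module.Projective A Q := Module.Projective.of_split i ρ h
  have := SymSmooth.formallySmooth (B := A) (Q := Q)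
  have := finitePresentation_symmetricAlgebra i ρ h
  exact ⟨inferInstance, inferInstance⟩

end Sym

end Groth.Agent.H91.StdRetract
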