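import Groth.Agent.H91.StdRetractA
import Groth.Agent.H91.StdRetractB

/-!
# Étale coordinates near the zero section of `Sym_A(Q)`, `Q = ker (Aⁿ → Ω[A/R])` (helper91)
-/

set_option autoImplicit false
universe u
open KaehlerDifferential

namespace Groth.Agent.H91.StdRetract

section Setup

variable {R A : Type u} [CommRing R] [CommRing A] [Algebra R A] {n : ℕ}
  (a : Fin n → A) (π : (Fin n → A) →ₗ[A] Ω[A⁄R])
  (s : Ω[A⁄R] →ₗ[A] (Fin n → A)) (hs : π ∘ₗ s = LinearMap.id)

/-- the module `Q = ker π` -/
noncomputable abbrev QQ : Submodule A (Fin n → A) := LinearMap.ker π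

include hs in
lemma pi_s (ω : Ω[A⁄R]) : π (s ω) = ω := LinearMap.congr_fun hs ω

/-- the projection onto `Q` -/
noncomputable def rho : (Fin n → A) →ₗ[A] QQ π :=
  LinearMap.codRestrict (LinearMap.ker π) (LinearMap.id - s ∘ₗ π) (by
    intro m
    rw [LinearMap.mem_ker, LinearMap.sub_apply, map_sub, LinearMap.id_apply, LinearMap.comp_apply,
      pi_s π s hs, sub_self])

lemma rho_coe (m : Fin n → A) : (rho π s hs m : Fin n → A) = m - s (π m) := rfl

lemma rho_of_mem (q : QQ π) : rho π s hs (q : Fin n → A) = q := by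
  apply Subtype.ext
  rw [rho_coe, LinearMap.mem_ker.mp q.2, map_zero, sub_zero]

lemma rho_comp_subtype : rho π s hs ∘ₗ (QQ π).subtype = LinearMap.id :=
  LinearMap.ext fun q => rho_of_mem π s hs q

/-- the algebra `B₀ = Sym_A(Q)` -/
abbrev BB := SymmetricAlgebra A (QQ π)

include hs in
theorem smooth_BB : Algebra.Smooth A (BB π) :=
  smooth_symmetricAlgebra (QQ π).subtype (rho π s hs) (rho_comp_subtype π s hs)

/-- the augmentation -/
noncomputable abbrev eps : BB π →ₐ[A] A := SymmetricAlgebra.algebraMapInv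

/-- `A` as a `B₀`-algebra via the augmentation -/
@[reducible] noncomputable def algBA : Algebra (BB π) A := (eps π).toRingHom.toAlgebra

attribute [local instance] algBA

lemma algebraMap_BA (x : BB π) : algebraMap (BB π) A x = eps π x := rfl

instance towerRBA : IsScalarTower R (BB π) A :=
  IsScalarTower.of_algebraMap_eq fun r => by
    rw [algebraMap_BA, IsScalarTower.algebraMap_apply R A (BB π), AlgHom.commutes]
    rfl

lemma surjective_BA : Function.Surjective (algebraMap (BB π) A) := fun x =>
  ⟨algebraMap A (BB π) x, by rw [algebraMap_BA, AlgHom.commutes]; rfl⟩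

/-- the coordinates -/
noncomputable def cc (i : Fin n) : BB π :=
  algebraMap A (BB π) (a i) + SymmetricAlgebra.ι A (QQ π) (rho π s hs (Pi.single i 1))

/-- the degree one part -/
noncomputable def theta : BB π →ₐ[A] TrivSqZeroExt A (QQ π) :=
  SymmetricAlgebra.lift (TrivSqZeroExt.inrHom A (QQ π))

lemma theta_ι (q : QQ π) : theta π (SymmetricAlgebra.ι A (QQ π) q) = TrivSqZeroExt.inr q :=
  SymmetricAlgebra.lift_ι_apply _ q

lemma fst_theta (x : BB π) : (theta π x).fst = eps π x := by
  have : (TrivSqZeroExt.fstHom A A (QQ π)).comp (theta π) = eps π := by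
    apply SymmetricAlgebra.algHom_ext
    ext q
    change (theta π (SymmetricAlgebra.ι A (QQ π) q)).fst = eps π (SymmetricAlgebra.ι A (QQ π) q)
    rw [theta_ι, TrivSqZeroExt.fst_inr, SymmetricAlgebra.algebraMapInv_ι]
  exact congr($this x)

/-- first part of the derivation -/
noncomputable def ell₁ (j : Fin n) : BB π →ₗ[R] A :=
  ((LinearMap.proj j ∘ₗ s).restrictScalars R) ∘ₗ (D R A).toLinearMap ∘ₗ
    ((eps π).toLinearMap.restrictScalars R)

/-- second part of the derivation -/
noncomputable def ell₂ (j : Fin n) : BB π →ₗ[R] A :=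
  ((LinearMap.proj j ∘ₗ (QQ π).subtype ∘ₗ (TrivSqZeroExt.sndHom A (QQ π))).restrictScalars R) ∘ₗ
    ((theta π).toLinearMap.restrictScalars R)

lemma ell₁_apply (j : Fin n) (x : BB π) : ell₁ π s j x = s (D R A (eps π x)) j := rfl

lemma ell₂_apply (j : Fin n) (x : BB π) :
    ell₂ (R := R) π j x = ((theta π x).snd : Fin n → A) j := rfl

/-- the derivations `B₀ → A` -/
noncomputable def der (j : Fin n) : Derivation R (BB π) A :=
  Derivation.mk' (ell₁ π s j + ell₂ π j) (by
    intro x y
    rw [LinearMap.add_apply, LinearMap.add_apply, LinearMap.add_apply, ell₁_apply, ell₁_apply,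
      ell₁_apply, ell₂_apply, ell₂_apply, ell₂_apply, Algebra.smul_def, Algebra.smul_def,
      algebraMap_BA, algebraMap_BA, map_mul (eps π), map_mul (theta π), Derivation.leibniz, map_add,
      map_smul, map_smul, TrivSqZeroExt.snd_mul, fst_theta, fst_theta, op_smul_eq_smul]
    simp only [Pi.add_apply, Pi.smul_apply, smul_eq_mul, Submodule.coe_add, Submodule.coe_smul]
    ring)

lemma der_apply (j : Fin n) (x : BB π) :
    der π s j x = s (D R A (eps π x)) j + ((theta π x).snd : Fin n → A) j := rfl

include hs in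
lemma der_cc (hπ : ∀ i, π (Pi.single i 1) = D R A (a i)) (i j : Fin n) :
    der π s j (cc a π s hs i) = if i = j then 1 else 0 := by
  have h0 : eps π (cc a π s hs i) = a i := by
    rw [cc, map_add, AlgHom.commutes, SymmetricAlgebra.algebraMapInv_ι, add_zero]
    rfl
  have h1 : (theta π (cc a π s hs i)).snd = rho π s hs (Pi.single i 1) := by
    rw [cc, map_add, AlgHom.commutes, theta_ι, TrivSqZeroExt.snd_add, TrivSqZeroExt.snd_inr]
    have : (algebraMap A (TrivSqZeroExt A (QQ π)) (a i)).snd = 0 := TrivSqZeroExt.snd_inl _ _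
    rw [this, zero_add]
  rw [der_apply, h0, h1, rho_coe, ← hπ, Pi.sub_apply, add_sub_cancel, Pi.single_apply]
  simp only [eq_comm]

end Setup

end Groth.Agent.H91.StdRetract
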