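import Groth.Agent.H91.StdRetractC

/-!
# The differentials `d c_i` generate `Ω[Sym_A(Q)/R]` modulo the augmentation ideal (helper91)
-/

set_option autoImplicit false
set_option backward.isDefEq.respectTransparency.types true
universe u
open KaehlerDifferential

namespace Groth.Agent.H91.StdRetract

section Span

variable {R A : Type u} [CommRing R] [CommRing A] [Algebra R A] {n : ℕ}
  (a : Fin n → A) (π : (Fin n → A) →ₗ[A] Ω[A⁄R])
  (s : Ω[A⁄R] →ₗ[A] (Fin n → A)) (hs : π ∘ₗ s = LinearMap.id)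
  (hπ : ∀ i, π (Pi.single i 1) = D R A (a i))

lemma instTowerABBΩ : IsScalarTower A (BB π) Ω[BB π⁄R] :=
  KaehlerDifferential.isScalarTower_of_tower R (BB π)

/-- `J • ⊤` -/
noncomputable def JT : Submodule (BB π) Ω[BB π⁄R] :=
  SMul.smul (RingHom.ker (eps π).toRingHom) (⊤ : Submodule (BB π) Ω[BB π⁄R])

lemma smul_mem_JT {x : BB π} (hx : x ∈ RingHom.ker (eps π).toRingHom) (ω : Ω[BB π⁄R]) :
    x • ω ∈ JT (R := R) π :=
  Submodule.smul_mem_smul hx Submodule.mem_top

/-- the target submodule -/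
noncomputable def SS : Submodule (BB π) Ω[BB π⁄R] :=
  Submodule.span (BB π) (Set.range fun i => D R (BB π) (cc a π s hs i)) ⊔ JT π

lemma mem_SS_left {ω : Ω[BB π⁄R]}
    (h : ω ∈ Submodule.span (BB π) (Set.range fun i => D R (BB π) (cc a π s hs i))) :
    ω ∈ SS a π s hs := Submodule.mem_sup_left h

lemma mem_SS_right {ω : Ω[BB π⁄R]} (h : ω ∈ JT (R := R) π) :
    ω ∈ SS a π s hs := Submodule.mem_sup_right h

lemma ι_mem_ker (q : QQ π) :
    SymmetricAlgebra.ι A (QQ π) q ∈ RingHom.ker (eps π).toRingHom := by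
  rw [RingHom.mem_ker]
  exact SymmetricAlgebra.algebraMapInv_ι q

lemma pi_eq_sum (m : Fin n → A) : m = ∑ j, m j • (Pi.single j 1 : Fin n → A) := by
  ext l
  simp [Finset.sum_apply, Pi.single_apply]

include hπ in
lemma pi_eq_sum_D (m : Fin n → A) : π m = ∑ j, m j • D R A (a j) := by
  conv_lhs => rw [pi_eq_sum m]
  rw [map_sum]
  refine Finset.sum_congr rfl fun j _ => ?_
  rw [map_smul, hπ]

lemma ι_rho_eq (j : Fin n) :
    SymmetricAlgebra.ι A (QQ π) (rho π s hs (Pi.single j 1)) =
      cc a π s hs j - algebraMap A (BB π) (a j) := by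
  rw [cc, add_sub_cancel_left]

include hπ in
lemma D_ι_mem (q : QQ π) : D R (BB π) (SymmetricAlgebra.ι A (QQ π) q) ∈ SS a π s hs := by
  have hq : q = ∑ j, (q : Fin n → A) j • rho π s hs (Pi.single j 1) := by
    conv_lhs => rw [← rho_of_mem π s hs q, pi_eq_sum (q : Fin n → A)]
    rw [map_sum]
    refine Finset.sum_congr rfl fun j _ => ?_
    rw [map_smul]
  have hι : SymmetricAlgebra.ι A (QQ π) q =
      ∑ j, algebraMap A (BB π) ((q : Fin n → A) j) *
        SymmetricAlgebra.ι A (QQ π) (rho π s hs (Pi.single j 1)) := by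
    conv_lhs => rw [hq]
    rw [map_sum]
    refine Finset.sum_congr rfl fun j _ => ?_
    rw [map_smul, Algebra.smul_def]
  have hD : D R (BB π) (SymmetricAlgebra.ι A (QQ π) q) =
      ∑ j, algebraMap A (BB π) ((q : Fin n → A) j) • D R (BB π) (cc a π s hs j) -
      ∑ j, algebraMap A (BB π) ((q : Fin n → A) j) • D R (BB π) (algebraMap A (BB π) (a j)) +
      ∑ j, SymmetricAlgebra.ι A (QQ π) (rho π s hs (Pi.single j 1)) •
        D R (BB π) (algebraMap A (BB π) ((q : Fin n → A) j)) := by
    rw [hι, map_sum, ← Finset.sum_sub_distrib, ← Finset.sum_add_distrib]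
    refine Finset.sum_congr rfl fun j _ => ?_
    rw [Derivation.leibniz, ι_rho_eq, map_sub, smul_sub]
  have h2 : ∑ j, algebraMap A (BB π) ((q : Fin n → A) j) •
      D R (BB π) (algebraMap A (BB π) (a j)) = 0 := by
    have : ∀ j, algebraMap A (BB π) ((q : Fin n → A) j) • D R (BB π) (algebraMap A (BB π) (a j)) =
        KaehlerDifferential.map R R A (BB π) ((q : Fin n → A) j • D R A (a j)) := by
      intro j
      rw [map_smul, KaehlerDifferential.map_D, algebraMap_smul]
    simp_rw [this]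
    rw [← map_sum, ← pi_eq_sum_D a π hπ, LinearMap.mem_ker.mp q.2, map_zero]
  rw [hD, h2, sub_zero]
  refine add_mem (mem_SS_left a π s hs ?_) (mem_SS_right a π s hs ?_)
  · exact Submodule.sum_mem _ fun j _ =>
      Submodule.smul_mem _ _ (Submodule.subset_span ⟨j, rfl⟩)
  · exact Submodule.sum_mem _ fun j _ => smul_mem_JT π (ι_mem_ker π _) _

include hπ in
lemma D_algebraMap_a_mem (i : Fin n) :
    D R (BB π) (algebraMap A (BB π) (a i)) ∈ SS a π s hs := by
  have : algebraMap A (BB π) (a i) =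
      cc a π s hs i - SymmetricAlgebra.ι A (QQ π) (rho π s hs (Pi.single i 1)) := by
    rw [cc, add_sub_cancel_right]
  rw [this, map_sub]
  exact sub_mem (mem_SS_left a π s hs (Submodule.subset_span ⟨i, rfl⟩))
    (D_ι_mem a π s hs hπ _)

include hπ in
theorem top_le_SS : (⊤ : Submodule (BB π) Ω[BB π⁄R]) ≤ SS a π s hs := by
  rw [← KaehlerDifferential.span_range_derivation, Submodule.span_le]
  rintro _ ⟨x, rfl⟩
  induction x using SymmetricAlgebra.induction with
  | algebraMap r =>
    obtain ⟨m, h1⟩ : ∃ m : Fin n → A, D R A r = ∑ j, m j • D R A (a j) :=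
      ⟨s (D R A r), by rw [← pi_eq_sum_D a π hπ, pi_s π s hs]⟩
    have h2 : D R (BB π) (algebraMap A (BB π) r) =
        ∑ j, algebraMap A (BB π) (m j) • D R (BB π) (algebraMap A (BB π) (a j)) := by
      rw [← KaehlerDifferential.map_D R R A (BB π), h1, map_sum]
      refine Finset.sum_congr rfl fun j _ => ?_
      rw [map_smul, KaehlerDifferential.map_D, algebraMap_smul]
    rw [SetLike.mem_coe, h2]
    exact Submodule.sum_mem _ fun j _ =>
      Submodule.smul_mem _ _ (D_algebraMap_a_mem a π s hs hπ j)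
  | ι q => exact D_ι_mem a π s hs hπ q
  | mul x y hx hy =>
    rw [SetLike.mem_coe, Derivation.leibniz]
    exact add_mem (Submodule.smul_mem _ _ hy) (Submodule.smul_mem _ _ hx)
  | add x y hx hy =>
    rw [SetLike.mem_coe, map_add]
    exact add_mem hx hy

end Span

end Groth.Agent.H91.StdRetract
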