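import Mathlib

/-!
# Linear algebra for "stably free differentials ⇒ powers are strictly standard" (helper91)

* `det_mul_eq_sum_fun`: Cauchy–Binet type expansion (copied from `Groth.Agent.H54.det_mul_eq_sum_fun`,
  renamed into this namespace).
* `exists_family`: a free localisation `S ⊗ M` (`S = A_a`) of a module `M` with a map `j : M → A^N`
  whose base change is split injective has a family `mm : Fin c → M` which generates `M` up to powers
  of `a` and whose `c × c` minors generate an ideal containing a power of `a`.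
-/

set_option autoImplicit false
universe u
open TensorProduct Matrix Equiv Finset

namespace Groth.Agent.H91.StdStab

section Det
variable {R : Type u} [CommRing R]

theorem det_mul_eq_sum_fun (e r : ℕ) (A : Matrix (Fin e) (Fin r) R) (B : Matrix (Fin r) (Fin e) R) :
    (A * B).det = ∑ p : Fin e → Fin r, (A.submatrix id p).det * ∏ i, B (p i) i := by
  calc (A * B).det
      = ∑ σ : Perm (Fin e), (Perm.sign σ : ℤ) * ∏ i, ∑ k, A (σ i) k * B k i := by
        rw [det_apply']
        rfl
    _ = ∑ σ : Perm (Fin e), (Perm.sign σ : ℤ) * ∑ p : Fin e → Fin r, ∏ i, A (σ i) (p i) * B (p i) i := by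
        apply Finset.sum_congr rfl
        intro σ _
        rw [Finset.prod_univ_sum, Fintype.piFinset_univ]
    _ = ∑ p : Fin e → Fin r, ∑ σ : Perm (Fin e),
          (Perm.sign σ : ℤ) * ((∏ i, A (σ i) (p i)) * ∏ i, B (p i) i) := by
        simp_rw [Finset.mul_sum, Finset.prod_mul_distrib]
        rw [Finset.sum_comm]
    _ = ∑ p : Fin e → Fin r, (A.submatrix id p).det * ∏ i, B (p i) i := by
        apply Finset.sum_congr rfl
        intro p _
        rw [det_apply', Finset.sum_mul]
        apply Finset.sum_congr rfl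
        intro σ _
        simp only [submatrix_apply, id_eq]
        ring

theorem det_mul_mem_span (e r : ℕ) (A : Matrix (Fin e) (Fin r) R) (B : Matrix (Fin r) (Fin e) R) :
    (A * B).det ∈ Ideal.span (Set.range fun p : Fin e → Fin r => (A.submatrix id p).det) := by
  rw [det_mul_eq_sum_fun]
  exact Ideal.sum_mem _ fun p _ => Ideal.mul_mem_right _ _ (Ideal.subset_span ⟨p, rfl⟩)

end Det

section Lin

variable {A : Type u} [CommRing A] (a : A) {M : Type u} [AddCommGroup M] [Module A M] {N c : ℕ}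
  (j : M →ₗ[A] (Fin N → A))

local notation "Sa" => Localization.Away a

theorem isLocalizedModule_mk :
    IsLocalizedModule (Submonoid.powers a) (TensorProduct.mk A Sa M 1) := by
  rw [isLocalizedModule_iff_isBaseChange (Submonoid.powers a) Sa]
  exact TensorProduct.isBaseChange A M Sa

theorem exists_family (b : Module.Basis (Fin c) Sa (Sa ⊗[A] M))
    (ρ : Sa ⊗[A] (Fin N → A) →ₗ[Sa] Sa ⊗[A] M) (hρ : ρ ∘ₗ j.baseChange Sa = LinearMap.id) :
    ∃ mm : Fin c → M,
      (∀ x : M, ∃ (e : ℕ) (w : Fin c → A), a ^ e • x = ∑ s, w s • mm s) ∧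
      ∃ e₂ : ℕ, a ^ e₂ ∈ Ideal.span (Set.range fun σ : Fin c → Fin N =>
        Matrix.det (Matrix.of fun s t => j (mm s) (σ t))) := by
  classical
  have hloc := isLocalizedModule_mk a (M := M)
  have h1 : ∀ s, ∃ (x : M) (k : ℕ), a ^ k • b s = (1 : Sa) ⊗ₜ[A] x := by
    intro s
    obtain ⟨⟨x, ⟨t, k, rfl⟩⟩, hx⟩ :=
      IsLocalizedModule.surj (Submonoid.powers a) (TensorProduct.mk A Sa M 1) (b s)
    exact ⟨x, k, hx⟩
  choose mm k hk using h1
  have hunit : ∀ s, IsUnit (algebraMap A Sa (a ^ k s)) := fun s =>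
    IsLocalization.map_units Sa (⟨a ^ k s, k s, rfl⟩ : Submonoid.powers a)
  let b' : Module.Basis (Fin c) Sa (Sa ⊗[A] M) := b.isUnitSMul hunit
  have hb' : ∀ s, b' s = (1 : Sa) ⊗ₜ[A] mm s := by
    intro s
    rw [Module.Basis.isUnitSMul_apply, ← hk s, algebraMap_smul]
  refine ⟨mm, ?_, ?_⟩
  · intro x
    obtain ⟨⟨t, k₁, rfl⟩, ht⟩ := IsLocalization.exist_integer_multiples (Submonoid.powers a)
      Finset.univ (fun s => b'.repr ((1 : Sa) ⊗ₜ[A] x) s)
    choose w hw using fun s => ht s (Finset.mem_univ s)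
    have heq : (TensorProduct.mk A Sa M 1) (a ^ k₁ • x) =
        (TensorProduct.mk A Sa M 1) (∑ s, w s • mm s) := by
      simp only [map_sum, map_smul, TensorProduct.mk_apply]
      conv_lhs => rw [← b'.sum_repr ((1 : Sa) ⊗ₜ[A] x)]
      rw [Finset.smul_sum]
      refine Finset.sum_congr rfl fun s _ => ?_
      rw [hb' s, ← algebraMap_smul Sa (w s), hw s, smul_assoc]
    obtain ⟨⟨t, k₂, rfl⟩, ht⟩ := IsLocalizedModule.exists_of_eq (S := Submonoid.powers a) heq
    refine ⟨k₂ + k₁, fun s => a ^ k₂ * w s, ?_⟩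
    have ht' : a ^ k₂ • a ^ k₁ • x = a ^ k₂ • ∑ s, w s • mm s := ht
    rw [pow_add, mul_smul, ht', Finset.smul_sum]
    refine Finset.sum_congr rfl fun s _ => ?_
    rw [mul_smul]
  · let J : Matrix (Fin c) (Fin N) A := Matrix.of fun s i => j (mm s) i
    let L : Matrix (Fin N) (Fin c) Sa := Matrix.of fun i s =>
      b'.repr (ρ ((1 : Sa) ⊗ₜ[A] (Pi.single i 1 : Fin N → A))) s
    have hJL : J.map (algebraMap A Sa) * L = 1 := by
      apply Matrix.ext
      intro s s'
      rw [Matrix.mul_apply]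
      have h2 : j (mm s) = ∑ i, j (mm s) i • (Pi.single i 1 : Fin N → A) := by
        ext l
        simp [Finset.sum_apply, Pi.single_apply]
      have h3 : ρ ((1 : Sa) ⊗ₜ[A] j (mm s)) = b' s := by
        have := LinearMap.congr_fun hρ ((1 : Sa) ⊗ₜ[A] mm s)
        rw [LinearMap.comp_apply, LinearMap.baseChange_tmul, LinearMap.id_apply] at this
        rw [this, hb' s]
      have h4 : ρ ((1 : Sa) ⊗ₜ[A] j (mm s)) =
          ∑ i, algebraMap A Sa (j (mm s) i) • ρ ((1 : Sa) ⊗ₜ[A] (Pi.single i 1 : Fin N → A)) := by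
        conv_lhs => rw [h2]
        rw [TensorProduct.tmul_sum, map_sum]
        refine Finset.sum_congr rfl fun i _ => ?_
        rw [TensorProduct.tmul_smul, ← algebraMap_smul Sa (j (mm s) i), map_smul]
      have h5 : b'.repr (b' s) s' = (1 : Matrix (Fin c) (Fin c) Sa) s s' := by
        rw [Module.Basis.repr_self, Finsupp.single_apply, Matrix.one_apply]
      rw [← h5, ← h3, h4, map_sum, Finsupp.coe_finsetSum, Finset.sum_apply]
      refine Finset.sum_congr rfl fun i _ => ?_
      rw [map_smul, Finsupp.smul_apply, smul_eq_mul]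
      rfl
    let I : Ideal A := Ideal.span (Set.range fun σ : Fin c → Fin N =>
        Matrix.det (Matrix.of fun s t => j (mm s) (σ t)))
    have h1I : (1 : Sa) ∈ Ideal.map (algebraMap A Sa) I := by
      have h6 : (1 : Sa) = (J.map (algebraMap A Sa) * L).det := by rw [hJL, Matrix.det_one]
      rw [h6, det_mul_eq_sum_fun]
      refine Ideal.sum_mem _ fun p _ => Ideal.mul_mem_right _ _ ?_
      have h7 : ((J.map (algebraMap A Sa)).submatrix id p).det =
          algebraMap A Sa (Matrix.det (Matrix.of fun s t => j (mm s) (p t))) := by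
        rw [RingHom.map_det]
        rfl
      rw [h7]
      exact Ideal.mem_map_of_mem _ (Ideal.subset_span ⟨p, rfl⟩)
    rw [IsLocalization.mem_map_algebraMap_iff (Submonoid.powers a)] at h1I
    obtain ⟨⟨⟨i, hi⟩, ⟨t, k₁, rfl⟩⟩, hx⟩ := h1I
    rw [one_mul] at hx
    obtain ⟨⟨t, k₂, rfl⟩, ht⟩ := (IsLocalization.eq_iff_exists (Submonoid.powers a) Sa).mp hx
    refine ⟨k₂ + k₁, ?_⟩
    rw [pow_add]
    change a ^ k₂ * a ^ k₁ = a ^ k₂ * i at ht
    rw [ht]
    exact Ideal.mul_mem_left _ _ hi

end Lin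

end Groth.Agent.H91.StdStab
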