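import Mathlib

/-!
# Conormal sequence facts for "stably free differentials ⇒ powers are strictly standard" (helper91)

For a surjection `aeval v : R[X₁..X_N] → A` with kernel `I`:
* `exists_rel_of_mem_ker`: every element of the kernel of `A^N → Ω[A/R]` is the Jacobian row of
  some `g ∈ I`.
* `row_mem_ker`: the Jacobian row of any `g ∈ I` lies in that kernel.
* `exists_pow_mul_mem_sq`: if `A_a` is formally smooth over `R` and `h ∈ I` has all its partial
  derivatives in `I`, then `ã ^ e * h ∈ I ^ 2` for some `e` (vanishing of `H¹(L_{A/R})_a`).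
-/

set_option autoImplicit false
universe u
open TensorProduct MvPolynomial KaehlerDifferential

namespace Groth.Agent.H91.StdStab

section H1

variable {R A : Type u} [CommRing R] [CommRing A] [Algebra R A] (a : A)
  [Algebra.FormallySmooth R (Localization.Away a)]

theorem exists_pow_smul_eq_zero (E : Algebra.Extension.{u} R A) [Algebra.FormallySmooth R E.Ring]
    (y : E.H1Cotangent) : ∃ e : ℕ, a ^ e • y = 0 := by
  let ε := E.equivH1CotangentOfFormallySmooth
  have hloc : IsLocalizedModule (Submonoid.powers a)
      (Algebra.H1Cotangent.map R R A (Localization.Away a)) :=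
    inferInstance
  have h0 : Algebra.H1Cotangent.map R R A (Localization.Away a) (ε y) =
      Algebra.H1Cotangent.map R R A (Localization.Away a) 0 := Subsingleton.elim _ _
  obtain ⟨⟨t, k, rfl⟩, ht⟩ := IsLocalizedModule.exists_of_eq (S := Submonoid.powers a) h0
  refine ⟨k, ?_⟩
  apply ε.injective
  rw [map_smul, map_zero]
  have ht' : a ^ k • ε y = a ^ k • 0 := ht
  rw [ht', smul_zero]

end H1

section Conormal

variable {R A : Type u} [CommRing R] [CommRing A] [Algebra R A] {N : ℕ} (v : Fin N → A)

/-- the map `A^N → Ω[A/R]`, `w ↦ ∑ wᵢ d(vᵢ)` -/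
noncomputable def piD : (Fin N → A) →ₗ[A] Ω[A⁄R] :=
  Fintype.linearCombination A (fun i => D R A (v i))

theorem piD_apply (w : Fin N → A) : piD (R := R) v w = ∑ i, w i • D R A (v i) := by
  rw [piD, Fintype.linearCombination_apply]

variable (hv : Function.Surjective (aeval (R := R) v))

include hv in
theorem piD_surjective : Function.Surjective (piD (R := R) v) := by
  classical
  rw [← LinearMap.range_eq_top, eq_top_iff, ← KaehlerDifferential.span_range_derivation,
    Submodule.span_le]
  rintro _ ⟨x, rfl⟩
  obtain ⟨p, rfl⟩ := hv x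
  induction p using MvPolynomial.induction_on with
  | C r =>
    rw [SetLike.mem_coe, aeval_C, Derivation.map_algebraMap]
    exact zero_mem _
  | add p q hp hq =>
    rw [SetLike.mem_coe, map_add, map_add]; exact add_mem hp hq
  | mul_X p i hp =>
    rw [SetLike.mem_coe, map_mul, Derivation.leibniz]
    refine add_mem (Submodule.smul_mem _ _ ?_) (Submodule.smul_mem _ _ hp)
    refine ⟨Pi.single i 1, ?_⟩
    rw [piD_apply, aeval_X, Finset.sum_eq_single i]
    · rw [Pi.single_eq_same, one_smul]
    · intro j _ hj
      rw [Pi.single_eq_of_ne hj, zero_smul]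
    · intro h; exact absurd (Finset.mem_univ i) h

/-- the generators structure attached to `v` -/
noncomputable def gens : Algebra.Generators R A (Fin N) := Algebra.Generators.ofSurjective v hv

theorem gens_val : (gens v hv).val = v := rfl

set_option backward.isDefEq.respectTransparency false in
theorem mem_ker_gens (g : MvPolynomial (Fin N) R) :
    g ∈ (gens v hv).toExtension.ker ↔ aeval (R := R) v g = 0 := by
  rw [Algebra.Extension.ker, RingHom.mem_ker]
  change algebraMap (gens v hv).Ring A g = 0 ↔ _
  rw [Algebra.Generators.algebraMap_apply]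
  rfl

theorem toKaehler_eq_piD (z : (gens v hv).toExtension.CotangentSpace) :
    (gens v hv).toExtension.toKaehler z =
      piD (R := R) v (fun i => (gens v hv).cotangentSpaceBasis.repr z i) := by
  conv_lhs => rw [← (gens v hv).cotangentSpaceBasis.sum_repr z]
  rw [map_sum, piD_apply]
  refine Finset.sum_congr rfl fun i _ => ?_
  rw [map_smul, Algebra.Generators.toKaehler_cotangentSpaceBasis]
  rfl

set_option backward.isDefEq.respectTransparency false in
theorem repr_cotangentComplex_mk (g : (gens v hv).toExtension.ker) (i : Fin N) :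
    (gens v hv).cotangentSpaceBasis.repr
      ((gens v hv).toExtension.cotangentComplex (Algebra.Extension.Cotangent.mk g)) i =
      aeval (R := R) v (pderiv i (g.1 : MvPolynomial (Fin N) R)) := by
  rw [Algebra.Extension.cotangentComplex_mk]
  exact (gens v hv).cotangentSpaceBasis_repr_one_tmul _ i

set_option backward.isDefEq.respectTransparency false in
include hv in
theorem exists_rel_of_mem_ker (w : Fin N → A) (hw : w ∈ LinearMap.ker (piD (R := R) v)) :
    ∃ g : MvPolynomial (Fin N) R, aeval (R := R) v g = 0 ∧ ∀ i, aeval (R := R) v (pderiv i g) = w i := by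
  classical
  let G := gens v hv
  let z : G.toExtension.CotangentSpace := ∑ i, w i • G.cotangentSpaceBasis i
  have hrepr : ∀ i, G.cotangentSpaceBasis.repr z i = w i := by
    intro i
    have := G.cotangentSpaceBasis.repr_sum_self w
    exact congrFun this i
  have hz : G.toExtension.toKaehler z = 0 := by
    rw [toKaehler_eq_piD]
    have : (fun i => G.cotangentSpaceBasis.repr z i) = w := funext hrepr
    rw [this]
    exact hw
  obtain ⟨y, hy⟩ := (G.toExtension.exact_cotangentComplex_toKaehler z).mp hz
  obtain ⟨g, rfl⟩ := Algebra.Extension.Cotangent.mk_surjective y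
  refine ⟨g.1, (mem_ker_gens v hv g.1).mp g.2, fun i => ?_⟩
  rw [← hrepr i, ← hy, repr_cotangentComplex_mk]

set_option backward.isDefEq.respectTransparency false in
include hv in
theorem row_mem_ker (g : MvPolynomial (Fin N) R) (hg : aeval (R := R) v g = 0) :
    (fun i => aeval (R := R) v (pderiv i g)) ∈ LinearMap.ker (piD (R := R) v) := by
  classical
  let G := gens v hv
  let g' : G.toExtension.ker := ⟨g, (mem_ker_gens v hv g).mpr hg⟩
  have h1 : G.toExtension.toKaehler (G.toExtension.cotangentComplex
      (Algebra.Extension.Cotangent.mk g')) = 0 :=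
    (G.toExtension.exact_cotangentComplex_toKaehler _).mpr ⟨_, rfl⟩
  rw [toKaehler_eq_piD] at h1
  rw [LinearMap.mem_ker, ← h1]
  congr 1
  funext i
  rw [repr_cotangentComplex_mk]

set_option backward.isDefEq.respectTransparency false in
include hv in
theorem exists_pow_mul_mem_sq (a : A) [Algebra.FormallySmooth R (Localization.Away a)]
    (ã : MvPolynomial (Fin N) R) (hã : aeval (R := R) v ã = a)
    (h : MvPolynomial (Fin N) R) (hh : aeval (R := R) v h = 0)
    (hd : ∀ i, aeval (R := R) v (pderiv i h) = 0) :
    ∃ e : ℕ, ã ^ e * h ∈ (RingHom.ker (aeval (R := R) v : MvPolynomial (Fin N) R →ₐ[R] A)) ^ 2 := by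
  classical
  let G := gens v hv
  have : Algebra.FormallySmooth R G.toExtension.Ring :=
    inferInstanceAs (Algebra.FormallySmooth R (MvPolynomial (Fin N) R))
  let h' : G.toExtension.ker := ⟨h, (mem_ker_gens v hv h).mpr hh⟩
  have h0 : G.toExtension.cotangentComplex (Algebra.Extension.Cotangent.mk h') = 0 := by
    apply G.cotangentSpaceBasis.ext_elem
    intro i
    rw [repr_cotangentComplex_mk, map_zero, Finsupp.zero_apply]
    exact hd i
  let y : G.toExtension.H1Cotangent := ⟨Algebra.Extension.Cotangent.mk h', h0⟩
  obtain ⟨e, he⟩ := exists_pow_smul_eq_zero a G.toExtension y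
  refine ⟨e, ?_⟩
  have h1 : a ^ e • Algebra.Extension.Cotangent.mk h' = 0 := by
    have := congrArg Subtype.val he
    simpa using this
  have h2 : algebraMap G.toExtension.Ring A (ã ^ e) = a ^ e := by
    rw [map_pow]
    congr 1
  rw [← h2, algebraMap_smul, ← map_smul, Algebra.Extension.Cotangent.mk_eq_zero_iff] at h1
  have h3 : G.toExtension.ker = RingHom.ker (aeval (R := R) v : MvPolynomial (Fin N) R →ₐ[R] A) := by
    ext x
    rw [mem_ker_gens, RingHom.mem_ker]
    rfl
  rw [← h3]
  exact h1

end Conormal

end Groth.Agent.H91.StdStab
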