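import Groth.Agent.H91.SymAwayC

/-!
# Splitting of `0 → K → Aⁿ → Ω[A/R] → 0` over a smooth localisation (helper91)
-/

set_option autoImplicit false
set_option backward.isDefEq.respectTransparency.types true
universe u
open KaehlerDifferential TensorProduct

namespace Groth.Agent.H91.SymAway

section Split

variable {R A : Type u} [CommRing R] [CommRing A] [Algebra R A] {n : ℕ}
  (π : (Fin n → A) →ₗ[A] Ω[A⁄R]) (hπ : Function.Surjective π) (a : A)
  [Module.Projective (Localization.Away a) Ω[Localization.Away a⁄R]]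

local notation "A'" => Localization.Away a

include hπ in
/-- the splitting `A' ⊗ Aⁿ ≃ (A' ⊗ K) × (A' ⊗ Ω)` -/
theorem exists_split :
    ∃ e : (A' ⊗[A] (Fin n → A)) ≃ₗ[A'] (A' ⊗[A] (LinearMap.ker π)) × (A' ⊗[A] Ω[A⁄R]),
      (LinearMap.ker π).subtype.baseChange A' =
        e.symm.toLinearMap ∘ₗ LinearMap.inl A' (A' ⊗[A] (LinearMap.ker π)) (A' ⊗[A] Ω[A⁄R]) := by
  have hfe : Algebra.FormallyEtale A A' := Algebra.FormallyEtale.of_isLocalization (Submonoid.powers a)
  have hproj : Module.Projective A' (A' ⊗[A] Ω[A⁄R]) :=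
    Module.Projective.of_equiv (KaehlerDifferential.tensorKaehlerEquivOfFormallyEtale R A A').symm
  have hflat : Module.Flat A A' := IsLocalization.flat A' (Submonoid.powers a)
  have hinj : Function.Injective ((LinearMap.ker π).subtype.baseChange A') := by
    rw [LinearMap.baseChange_eq_ltensor]
    exact Module.Flat.lTensor_preserves_injective_linearMap _ (Submodule.injective_subtype _)
  have hex : Function.Exact ((LinearMap.ker π).subtype.baseChange A') (π.baseChange A') := by
    rw [LinearMap.baseChange_eq_ltensor, LinearMap.baseChange_eq_ltensor]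
    exact lTensor_exact A' (LinearMap.exact_subtype_ker_map π) hπ
  have hsurj : Function.Surjective (π.baseChange A') := by
    rw [LinearMap.baseChange_eq_ltensor]
    exact LinearMap.lTensor_surjective A' hπ
  obtain ⟨σ, hσ⟩ := Module.projective_lifting_property (π.baseChange A') LinearMap.id hsurj
  obtain ⟨e, he, -⟩ := hex.splitSurjectiveEquiv hinj ⟨σ, hσ⟩
  exact ⟨e, he⟩

include hπ in
theorem projective_ker : Module.Projective A' (A' ⊗[A] (LinearMap.ker π)) := by
  obtain ⟨e, he⟩ := exists_split π hπ a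
  refine Module.Projective.of_split ((LinearMap.ker π).subtype.baseChange A')
    (LinearMap.fst A' _ _ ∘ₗ e.toLinearMap) ?_
  rw [he]
  ext x
  simp

include hπ in
theorem free_prod : Module.Free A' (A' ⊗[A] (Ω[A⁄R] × LinearMap.ker π)) := by
  obtain ⟨e, -⟩ := exists_split π hπ a
  let e' : (A' ⊗[A] (Ω[A⁄R] × LinearMap.ker π)) ≃ₗ[A'] (A' ⊗[A] (Fin n → A)) :=
    (TensorProduct.prodRight A A' A' Ω[A⁄R] (LinearMap.ker π)) ≪≫ₗ
      (LinearEquiv.prodComm A' _ _) ≪≫ₗ e.symm
  exact Module.Free.of_equiv e'.symm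

end Split

end Groth.Agent.H91.SymAway
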