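import Groth.Agent.H91.StdStabA
import Groth.Agent.H91.StdStabB
import Groth.Agent.H91.StdBC
import Groth.Agent.H91.SymAwayD

/-!
# Free localised conormal kernel ⇒ powers are strictly standard (helper91)

`partI`: for a presentation `aeval v : R[X₁..X_N] → A` with finitely generated kernel, if `A_a` is
formally smooth over `R` and `A_a ⊗ ker (A^N → Ω[A/R])` is free of finite rank, then `a ^ n` is
strictly standard for all large `n`.
-/

set_option autoImplicit false
universe u
open TensorProduct MvPolynomial KaehlerDifferential Smoothing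

namespace Groth.Agent.H91.StdStab

variable {R A : Type u} [CommRing R] [CommRing A] [Algebra R A]

theorem isStrictlyStandard_zero_of {N m₀ : ℕ} (v : Fin N → A)
    (hv : Function.Surjective (aeval (R := R) v)) (rel₀ : Fin m₀ → MvPolynomial (Fin N) R)
    (hker : RingHom.ker (aeval (R := R) v : MvPolynomial (Fin N) R →ₐ[R] A) =
      Ideal.span (Set.range rel₀)) :
    IsStrictlyStandard R A 0 := by
  let P : MarkedPresentation R A :=
    { n := N, m := m₀, c := 0, hcn := Nat.zero_le _, hcm := Nat.zero_le _, rel := rel₀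
      hom := aeval v, surj := hv
      ker_eq := by
        rw [← hker]
        ext x
        simp only [RingHom.mem_ker]
        rfl }
  refine ⟨P, zero_mem _, ?_⟩
  refine StdBC.killsTail_of_lift P 0 0 (map_zero _) fun j _ => ?_
  rw [zero_mul]
  exact zero_mem _

theorem aeval_pderiv_mul {N : ℕ} (v : Fin N → A) (i : Fin N) (p q : MvPolynomial (Fin N) R) :
    aeval (R := R) v (pderiv i (p * q)) =
      aeval (R := R) v p * aeval (R := R) v (pderiv i q) +
        aeval (R := R) v q * aeval (R := R) v (pderiv i p) := by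
  rw [Derivation.leibniz, smul_eq_mul, smul_eq_mul, map_add, map_mul, map_mul]

theorem partI (a : A) [Algebra.FormallySmooth R (Localization.Away a)] {N m₀ c : ℕ}
    (v : Fin N → A) (hv : Function.Surjective (aeval (R := R) v))
    (rel₀ : Fin m₀ → MvPolynomial (Fin N) R)
    (hker : RingHom.ker (aeval (R := R) v : MvPolynomial (Fin N) R →ₐ[R] A) =
      Ideal.span (Set.range rel₀))
    (b : Module.Basis (Fin c) (Localization.Away a)
      (Localization.Away a ⊗[A] LinearMap.ker (piD (R := R) v))) :
    ∃ e₀ : ℕ, ∀ n : ℕ, e₀ ≤ n → IsStrictlyStandard R A (a ^ n) := by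
  classical
  have hπ := piD_surjective (R := R) v hv
  obtain ⟨es, hes⟩ := SymAway.exists_split (piD (R := R) v) hπ a
  let j := (LinearMap.ker (piD (R := R) v)).subtype
  let ρ : Localization.Away a ⊗[A] (Fin N → A) →ₗ[Localization.Away a]
      Localization.Away a ⊗[A] LinearMap.ker (piD (R := R) v) :=
    LinearMap.fst _ _ _ ∘ₗ es.toLinearMap
  have hρ : ρ ∘ₗ j.baseChange (Localization.Away a) = LinearMap.id := by
    rw [hes]
    ext x
    simp [ρ]
  obtain ⟨mm, hL1, e₂, hL2⟩ := exists_family a j b ρ hρ
  have hf : ∀ s, ∃ g : MvPolynomial (Fin N) R, aeval (R := R) v g = 0 ∧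
      ∀ i, aeval (R := R) v (pderiv i g) = (mm s).1 i :=
    fun s => exists_rel_of_mem_ker v hv (mm s).1 (mm s).2
  choose f' hf'0 hf'd using hf
  obtain ⟨ã, hã⟩ := hv a
  have hrel₀ : ∀ j₀, aeval (R := R) v (rel₀ j₀) = 0 := by
    intro j₀
    have : rel₀ j₀ ∈ RingHom.ker (aeval (R := R) v : MvPolynomial (Fin N) R →ₐ[R] A) := by
      rw [hker]; exact Ideal.subset_span ⟨j₀, rfl⟩
    exact this
  have htail : ∀ g : MvPolynomial (Fin N) R, aeval (R := R) v g = 0 →
      ∃ E : ℕ, ã ^ E * g ∈ Ideal.span (Set.range f') ⊔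
        (RingHom.ker (aeval (R := R) v : MvPolynomial (Fin N) R →ₐ[R] A)) ^ 2 := by
    intro g hg
    let x : LinearMap.ker (piD (R := R) v) :=
      ⟨fun i => aeval (R := R) v (pderiv i g), row_mem_ker v hv g hg⟩
    obtain ⟨e, w, hw⟩ := hL1 x
    choose wt hwt using fun s => hv (w s)
    let h := ã ^ e * g - ∑ s, wt s * f' s
    have hh : aeval (R := R) v h = 0 := by
      simp only [h, map_sub, map_mul, map_sum, hg, hf'0, mul_zero, Finset.sum_const_zero, sub_zero]
    have hd : ∀ i, aeval (R := R) v (pderiv i h) = 0 := by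
      intro i
      have hwi := congrFun (congrArg Subtype.val hw) i
      have hwi' : a ^ e * aeval (R := R) v (pderiv i g) = ∑ s, w s * (mm s).1 i := by
        simpa [x, Finset.sum_apply] using hwi
      simp only [h, map_sub, map_sum, aeval_pderiv_mul, hg, hf'0, zero_mul, add_zero, map_pow, hã,
        hwt, hf'd, hwi', sub_self]
    obtain ⟨e', he'⟩ := exists_pow_mul_mem_sq v hv a ã hã h hh hd
    refine ⟨e' + e, ?_⟩
    have hdecomp : ã ^ (e' + e) * g = ã ^ e' * h + ∑ s, (ã ^ e' * wt s) * f' s := by
      simp only [h, pow_add, mul_sub, Finset.mul_sum, mul_assoc]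
      ring
    rw [hdecomp]
    exact Ideal.add_mem _ (Ideal.mem_sup_right he') (Ideal.mem_sup_left
      (Ideal.sum_mem _ fun s _ => Ideal.mul_mem_left _ _ (Ideal.subset_span ⟨s, rfl⟩)))
  choose E hE using fun j₀ => htail (rel₀ j₀) (hrel₀ j₀)
  by_cases hcN : c ≤ N
  · refine ⟨max e₂ (Finset.univ.sup E), fun n hn => ?_⟩
    have hker' : RingHom.ker (aeval (R := R) v : MvPolynomial (Fin N) R →ₐ[R] A).toRingHom =
        Ideal.span (Set.range (Fin.append f' rel₀)) := by
      apply le_antisymm
      · intro x hx
        have hx' : x ∈ RingHom.ker (aeval (R := R) v : MvPolynomial (Fin N) R →ₐ[R] A) := hx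
        rw [hker] at hx'
        refine Ideal.span_mono ?_ hx'
        rintro _ ⟨j₀, rfl⟩
        exact ⟨Fin.natAdd c j₀, Fin.append_right f' rel₀ j₀⟩
      · rw [Ideal.span_le]
        rintro _ ⟨j, rfl⟩
        induction j using Fin.addCases with
        | left s => rw [Fin.append_left]; exact hf'0 s
        | right j₀ => rw [Fin.append_right]; exact hrel₀ j₀
    let P : MarkedPresentation R A :=
      { n := N, m := c + m₀, c := c, hcn := hcN, hcm := Nat.le_add_right _ _
        rel := Fin.append f' rel₀
        hom := aeval v, surj := hv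
        ker_eq := hker' }
    have hlead : ∀ s : Fin c, P.rel (Fin.castLE P.hcm s) = f' s := by
      intro s
      have : Fin.castLE P.hcm s = Fin.castAdd m₀ s := Fin.ext rfl
      rw [this]
      exact Fin.append_left f' rel₀ s
    refine ⟨P, ?_, ?_⟩
    · have hn₂ : e₂ ≤ n := le_trans (le_max_left _ _) hn
      have hmem : a ^ n ∈ Ideal.span (Set.range fun σ : Fin c → Fin N =>
          Matrix.det (Matrix.of fun s t => j (mm s) (σ t))) := by
        rw [← Nat.sub_add_cancel hn₂, pow_add]
        exact Ideal.mul_mem_left _ _ hL2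
      refine Ideal.span_mono ?_ hmem
      rintro _ ⟨σ, rfl⟩
      refine ⟨σ, ?_⟩
      change (aeval (R := R) v) (jacobianMinor P.rel (Fin.castLE P.hcm) σ) = _
      rw [jacobianMinor, AlgHom.map_det]
      congr 1
      apply Matrix.ext
      intro s t
      rw [AlgHom.mapMatrix_apply, Matrix.map_apply, Matrix.of_apply, Matrix.of_apply, hlead s,
        hf'd s]
      rfl
    · refine StdBC.killsTail_of_lift P (a ^ n) (ã ^ n) (by rw [map_pow]; exact congrArg (· ^ n) hã)
        fun j hj => ?_
      have hspan : Ideal.span (Set.range P.rel) =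
          RingHom.ker (aeval (R := R) v : MvPolynomial (Fin N) R →ₐ[R] A) := by
        rw [← P.ker_eq]
        ext x
        simp only [RingHom.mem_ker]
        rfl
      rw [hspan]
      have hle : Ideal.span (Set.range f') ≤
          Ideal.span (P.rel '' {j' : Fin P.m | (j' : ℕ) < P.c}) := by
        rw [Ideal.span_le]
        rintro _ ⟨s, rfl⟩
        refine Ideal.subset_span ⟨Fin.castLE P.hcm s, ?_, hlead s⟩
        exact s.2
      revert hj
      induction j using Fin.addCases with
      | left s =>
        intro hj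
        exact absurd hj (not_le.mpr s.2)
      | right j₀ =>
        intro _
        have hrel : P.rel (Fin.natAdd c j₀) = rel₀ j₀ := Fin.append_right f' rel₀ j₀
        rw [hrel]
        have hEn : E j₀ ≤ n :=
          le_trans (Finset.le_sup (f := E) (Finset.mem_univ j₀)) (le_trans (le_max_right _ _) hn)
        have : ã ^ n * rel₀ j₀ = ã ^ (n - E j₀) * (ã ^ E j₀ * rel₀ j₀) := by
          rw [← mul_assoc, ← pow_add, Nat.sub_add_cancel hEn]
        rw [this]
        exact Ideal.mul_mem_left _ _ (sup_le_sup_right hle _ (hE j₀))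
  · -- `c > N`: all minors vanish, so `a` is nilpotent
    have hzero : a ^ e₂ = 0 := by
      have hbot : Ideal.span (Set.range fun σ : Fin c → Fin N =>
          Matrix.det (Matrix.of fun s t => j (mm s) (σ t))) = ⊥ := by
        rw [Ideal.span_eq_bot]
        rintro _ ⟨σ, rfl⟩
        obtain ⟨t₁, t₂, hne, heq⟩ := Fintype.exists_ne_map_eq_of_card_lt σ (by simpa using hcN)
        refine Matrix.det_zero_of_column_eq hne fun s => ?_
        rw [Matrix.of_apply, Matrix.of_apply, heq]
      rw [hbot] at hL2
      exact hL2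
    refine ⟨e₂, fun n hn => ?_⟩
    have : a ^ n = 0 := by
      rw [← Nat.sub_add_cancel hn, pow_add, hzero, mul_zero]
    rw [this]
    exact isStrictlyStandard_zero_of v hv rel₀ hker

end Groth.Agent.H91.StdStab
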