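import Mathlib

/-!
# Localisations `Sym_A(K)[1/a]` of symmetric algebras: universal property and differentials
(helper91)

For an `A`-module `K` and `a : A` put `B = Sym_A(K)[1/a]`.

* `liftB`, `homB_ext`: `A`-algebra maps `B → T` (for `T` with `a` invertible) are `A`-linear maps
  `K → T`.
* `kaehlerEquiv : Ω[B/A] ≃ₗ[B] B ⊗[A] K`.
-/

set_option autoImplicit false
set_option backward.isDefEq.respectTransparency.types true
universe u
open KaehlerDifferential TensorProduct

namespace Groth.Agent.H91.SymAway

section Defs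

variable (A : Type u) [CommRing A] (K : Type u) [AddCommGroup K] [Module A K] (a : A)

/-- `Sym_A(K)` -/
abbrev CC := SymmetricAlgebra A K

/-- `Sym_A(K)[1/a]` -/
abbrev BB := Localization.Away (algebraMap A (CC A K) a)

/-- `K → B` -/
noncomputable def ιB : K →ₗ[A] BB A K a :=
  (Algebra.linearMap (CC A K) (BB A K a)).restrictScalars A ∘ₗ SymmetricAlgebra.ι A K

lemma ιB_apply (k : K) : ιB A K a k = algebraMap (CC A K) (BB A K a) (SymmetricAlgebra.ι A K k) := rfl

lemma isUnit_a : IsUnit (algebraMap A (BB A K a) a) := by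
  rw [IsScalarTower.algebraMap_apply A (CC A K) (BB A K a)]
  exact IsLocalization.Away.algebraMap_isUnit _

variable {A K a}
variable {T : Type u} [CommRing T] [Algebra A T]

/-- the universal property: existence -/
noncomputable def liftB (h : IsUnit (algebraMap A T a)) (f : K →ₗ[A] T) : BB A K a →ₐ[A] T :=
  IsLocalization.liftAlgHom (M := Submonoid.powers (algebraMap A (CC A K) a))
    (f := SymmetricAlgebra.lift f) (by
      rintro ⟨_, n, rfl⟩
      rw [map_pow, AlgHom.commutes]
      exact h.pow n)

lemma liftB_ι (h : IsUnit (algebraMap A T a)) (f : K →ₗ[A] T) (k : K) :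
    liftB h f (ιB A K a k) = f k := by
  rw [ιB_apply, liftB, IsLocalization.liftAlgHom_apply, IsLocalization.lift_eq]
  exact SymmetricAlgebra.lift_ι_apply f k

/-- the universal property: uniqueness -/
theorem homB_ext {g₁ g₂ : BB A K a →ₐ[A] T} (h : ∀ k, g₁ (ιB A K a k) = g₂ (ιB A K a k)) : g₁ = g₂ := by
  apply IsLocalization.algHom_ext (Submonoid.powers (algebraMap A (CC A K) a))
  apply SymmetricAlgebra.algHom_ext
  ext k
  exact h k

end Defs

end Groth.Agent.H91.SymAway
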