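import Groth.Agent.H91.SymAwayA

/-!
# Differentials of `Sym_A(K)[1/a]` over `A` (helper91)

`kaehlerEquiv : Ω[B/A] ≃ₗ[B] B ⊗[A] K` for `B = Sym_A(K)[1/a]`.
-/

set_option autoImplicit false
set_option backward.isDefEq.respectTransparency.types true
universe u
open KaehlerDifferential TensorProduct

namespace Groth.Agent.H91.SymAway

section Der

variable {A : Type u} [CommRing A] {B : Type u} [CommRing B] [Algebra A B]
  {N : Type u} [AddCommGroup N] [Module B N] [Module A N] [IsScalarTower A B N]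
  [Module Bᵐᵒᵖ N] [IsCentralScalar B N]

/-- the algebra map `x ↦ x + ε δ(x)` of a derivation -/
noncomputable def derToTsze (δ : Derivation A B N) : B →ₐ[A] TrivSqZeroExt B N :=
  AlgHom.ofLinearMap
    ((TrivSqZeroExt.inlAlgHom A B N).toLinearMap +
      ((TrivSqZeroExt.inrHom B N).restrictScalars A) ∘ₗ δ.toLinearMap)
    (by
      ext
      · simp
      · simp)
    (by
      intro x y
      ext
      · simp
      · simp [Derivation.leibniz, add_comm])

lemma snd_derToTsze (δ : Derivation A B N) (x : B) : (derToTsze δ x).snd = δ x := by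
  simp [derToTsze]

end Der

section Kaehler

variable {A : Type u} [CommRing A] {K : Type u} [AddCommGroup K] [Module A K] {a : A}

lemma isUnit_a_tsze (N : Type u) [AddCommGroup N] [Module (BB A K a) N] [Module A N]
    [IsScalarTower A (BB A K a) N] [Module (BB A K a)ᵐᵒᵖ N] [IsCentralScalar (BB A K a) N] :
    IsUnit (algebraMap A (TrivSqZeroExt (BB A K a) N) a) := by
  rw [TrivSqZeroExt.algebraMap_eq_inl']
  exact (isUnit_a A K a).map (TrivSqZeroExt.inlHom (BB A K a) N)

variable (A K a) in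
/-- the algebra map giving the universal derivation -/
noncomputable def toTsze : BB A K a →ₐ[A] TrivSqZeroExt (BB A K a) (BB A K a ⊗[A] K) :=
  liftB (isUnit_a_tsze (BB A K a ⊗[A] K))
    ((TrivSqZeroExt.inlAlgHom A (BB A K a) (BB A K a ⊗[A] K)).toLinearMap ∘ₗ ιB A K a +
      ((TrivSqZeroExt.inrHom (BB A K a) (BB A K a ⊗[A] K)).restrictScalars A) ∘ₗ
        (TensorProduct.mk A (BB A K a) K 1))

lemma toTsze_ι (k : K) : toTsze A K a (ιB A K a k) =
    TrivSqZeroExt.inl (ιB A K a k) + TrivSqZeroExt.inr ((1 : BB A K a) ⊗ₜ[A] k) := by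
  rw [toTsze, liftB_ι]
  rfl

lemma fst_toTsze (x : BB A K a) : (toTsze A K a x).fst = x := by
  have : (TrivSqZeroExt.fstHom A (BB A K a) (BB A K a ⊗[A] K)).comp (toTsze A K a) =
      AlgHom.id A (BB A K a) := by
    apply homB_ext
    intro k
    change (toTsze A K a (ιB A K a k)).fst = ιB A K a k
    rw [toTsze_ι]
    simp
  exact congr($this x)

variable (A K a) in
/-- the universal derivation -/
noncomputable def dB : Derivation A (BB A K a) (BB A K a ⊗[A] K) :=
  Derivation.mk'
    (((TrivSqZeroExt.sndHom (BB A K a) (BB A K a ⊗[A] K)).restrictScalars A) ∘ₗ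
      (toTsze A K a).toLinearMap)
    (by
      intro x y
      change (toTsze A K a (x * y)).snd = x • (toTsze A K a y).snd + y • (toTsze A K a x).snd
      rw [map_mul, TrivSqZeroExt.snd_mul, fst_toTsze, fst_toTsze, op_smul_eq_smul])

lemma dB_apply (x : BB A K a) : dB A K a x = (toTsze A K a x).snd := rfl

lemma dB_ι (k : K) : dB A K a (ιB A K a k) = (1 : BB A K a) ⊗ₜ[A] k := by
  rw [dB_apply, toTsze_ι]
  simp

variable (A K a) in
/-- `Ω[B/A] → B ⊗ K` -/
noncomputable def Psi : Ω[BB A K a⁄A] →ₗ[BB A K a] BB A K a ⊗[A] K :=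
  (dB A K a).liftKaehlerDifferential

variable (A K a) in
/-- `B ⊗ K → Ω[B/A]` -/
noncomputable def Theta : BB A K a ⊗[A] K →ₗ[BB A K a] Ω[BB A K a⁄A] :=
  LinearMap.liftBaseChange (BB A K a) ((D A (BB A K a)).toLinearMap ∘ₗ ιB A K a)

lemma Theta_tmul (b : BB A K a) (k : K) :
    Theta A K a (b ⊗ₜ k) = b • D A (BB A K a) (ιB A K a k) := by
  rw [Theta, LinearMap.liftBaseChange_tmul]
  rfl

lemma Psi_D (x : BB A K a) : Psi A K a (D A (BB A K a) x) = dB A K a x :=
  Derivation.liftKaehlerDifferential_comp_D _ x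

lemma Psi_Theta : Psi A K a ∘ₗ Theta A K a = LinearMap.id := by
  apply TensorProduct.AlgebraTensorModule.curry_injective
  ext k
  change Psi A K a (Theta A K a (1 ⊗ₜ k)) = 1 ⊗ₜ k
  rw [Theta_tmul, one_smul, Psi_D, dB_ι]

lemma Theta_dB (x : BB A K a) : Theta A K a (dB A K a x) = D A (BB A K a) x := by
  letI : Module (BB A K a)ᵐᵒᵖ Ω[BB A K a⁄A] :=
    Module.compHom _ ((RingHom.id (BB A K a)).fromOpposite fun _ _ => mul_comm _ _)
  haveI : IsCentralScalar (BB A K a) Ω[BB A K a⁄A] := ⟨fun _ _ => rfl⟩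
  have : derToTsze ((Theta A K a).compDer (dB A K a)) = derToTsze (D A (BB A K a)) := by
    apply homB_ext
    intro k
    apply TrivSqZeroExt.ext
    · rfl
    · rw [snd_derToTsze, snd_derToTsze]
      change Theta A K a (dB A K a (ιB A K a k)) = _
      rw [dB_ι, Theta_tmul, one_smul]
  have h : (derToTsze ((Theta A K a).compDer (dB A K a)) x).snd =
      (derToTsze (D A (BB A K a)) x).snd := by rw [this]
  rwa [snd_derToTsze, snd_derToTsze] at h

lemma Theta_Psi : Theta A K a ∘ₗ Psi A K a = LinearMap.id := by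
  apply Derivation.liftKaehlerDifferential_unique
  ext x
  change Theta A K a (Psi A K a (D A (BB A K a) x)) = D A (BB A K a) x
  rw [Psi_D, Theta_dB]

variable (A K a) in
/-- `Ω[Sym_A(K)[1/a] / A] ≃ Sym_A(K)[1/a] ⊗ K`. -/
noncomputable def kaehlerEquiv : Ω[BB A K a⁄A] ≃ₗ[BB A K a] BB A K a ⊗[A] K :=
  LinearEquiv.ofLinearMap (Psi A K a) (Theta A K a) Psi_Theta Theta_Psi

end Kaehler

end Groth.Agent.H91.SymAway
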