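import Groth.Agent.H91.SymAwayB

/-!
# `Sym_A(K)[1/a]` is formally smooth over `A` when `K[1/a]` is projective (helper91)
-/

set_option autoImplicit false
set_option backward.isDefEq.respectTransparency.types true
universe u
open KaehlerDifferential TensorProduct

namespace Groth.Agent.H91.SymAway

section Smooth

variable {A : Type u} [CommRing A] {K : Type u} [AddCommGroup K] [Module A K] {a : A}

theorem formallySmooth_BB
    (hK : Module.Projective (Localization.Away a) (Localization.Away a ⊗[A] K)) :
    Algebra.FormallySmooth A (BB A K a) := by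
  apply Algebra.FormallySmooth.of_comp_surjective
  intro T _ _ N hN g
  -- `a` is a unit in `T`
  have hu' : IsUnit (Ideal.Quotient.mk N (algebraMap A T a)) := by
    have h1 : g (algebraMap A (BB A K a) a) = Ideal.Quotient.mk N (algebraMap A T a) := by
      rw [AlgHom.commutes]; rfl
    rw [← h1]
    exact (isUnit_a A K a).map g
  have hu : IsUnit (algebraMap A T a) := (IsNilpotent.isUnit_quotient_mk_iff ⟨2, hN⟩).mp hu'
  -- `T` as an algebra over `A' = A[1/a]`
  letI : Algebra (Localization.Away a) T := (IsLocalization.Away.lift a hu).toAlgebra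
  haveI : IsScalarTower A (Localization.Away a) T :=
    IsScalarTower.of_algebraMap_eq fun x => (IsLocalization.Away.lift_eq a hu x).symm
  let f : K →ₗ[A] T ⧸ N := g.toLinearMap ∘ₗ ιB A K a
  let f' : Localization.Away a ⊗[A] K →ₗ[Localization.Away a] T ⧸ N :=
    LinearMap.liftBaseChange (Localization.Away a) f
  let q : T →ₗ[Localization.Away a] T ⧸ N := (Ideal.Quotient.mkₐ (Localization.Away a) N).toLinearMap
  have hq : Function.Surjective q := Ideal.Quotient.mk_surjective
  obtain ⟨h', hh'⟩ := Module.projective_lifting_property q f' hq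
  let h : K →ₗ[A] T := (h'.restrictScalars A) ∘ₗ (TensorProduct.mk A (Localization.Away a) K 1)
  have hh : ∀ k, Ideal.Quotient.mk N (h k) = g (ιB A K a k) := by
    intro k
    have := LinearMap.congr_fun hh' ((1 : Localization.Away a) ⊗ₜ[A] k)
    change Ideal.Quotient.mk N (h' (1 ⊗ₜ k)) = f' (1 ⊗ₜ k) at this
    rw [LinearMap.liftBaseChange_tmul, one_smul] at this
    exact this
  refine ⟨liftB hu h, ?_⟩
  apply homB_ext
  intro k
  change Ideal.Quotient.mk N (liftB hu h (ιB A K a k)) = g (ιB A K a k)
  rw [liftB_ι, hh]

end Smooth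

end Groth.Agent.H91.SymAway
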