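import Groth.Agent.H91.SymAwayD

/-!
# `Ω[Sym_A(K)[1/a] / R]` is free when `A[1/a]` is smooth over `R`, `K = ker (Aⁿ → Ω[A/R])`
(helper91)
-/

set_option autoImplicit false
set_option backward.isDefEq.respectTransparency.types true
universe u
open KaehlerDifferential TensorProduct

namespace Groth.Agent.H91.SymAway

section Split

variable {R A : Type u} [CommRing R] [CommRing A] [Algebra R A]
  {B : Type u} [CommRing B] [Algebra R B] [Algebra A B] [IsScalarTower R A B]

/-- For `B` formally smooth over `A`: `Ω[B/R] ≃ (B ⊗ Ω[A/R]) × Ω[B/A]`. -/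
theorem exists_kaehler_split [Algebra.FormallySmooth A B] :
    Nonempty (Ω[B⁄R] ≃ₗ[B] (B ⊗[A] Ω[A⁄R]) × Ω[B⁄A]) := by
  have hinj : Function.Injective (mapBaseChange R A B) := by
    rw [injective_iff_map_eq_zero]
    intro x hx
    obtain ⟨y, rfl⟩ := (Algebra.H1Cotangent.exact_δ_mapBaseChange R A B x).mp hx
    rw [Subsingleton.elim y 0, map_zero]
  have hex := KaehlerDifferential.exact_mapBaseChange_map R A B
  have hsurj := KaehlerDifferential.map_surjective R A B
  obtain ⟨σ, hσ⟩ := Module.projective_lifting_property (KaehlerDifferential.map R A B B)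
    LinearMap.id hsurj
  exact ⟨(hex.splitSurjectiveEquiv hinj ⟨σ, hσ⟩).1⟩

end Split

section Main

variable {R A : Type u} [CommRing R] [CommRing A] [Algebra R A] {n : ℕ}
  (π : (Fin n → A) →ₗ[A] Ω[A⁄R]) (hπ : Function.Surjective π) (a : A)
  [Module.Projective (Localization.Away a) Ω[Localization.Away a⁄R]]

local notation "A'" => Localization.Away a

/-- `B` as an `A'`-algebra -/
@[reducible] noncomputable def algA'B : Algebra A' (BB A (LinearMap.ker π) a) :=
  (IsLocalization.Away.lift a (isUnit_a A (LinearMap.ker π) a)).toAlgebra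

attribute [local instance] algA'B

instance towerAA'B : IsScalarTower A A' (BB A (LinearMap.ker π) a) :=
  IsScalarTower.of_algebraMap_eq fun x =>
    (IsLocalization.Away.lift_eq a (isUnit_a A (LinearMap.ker π) a) x).symm

include hπ in
theorem free_kaehler : Module.Free (BB A (LinearMap.ker π) a) Ω[BB A (LinearMap.ker π) a⁄R] := by
  have hprojK := projective_ker π hπ a
  have hfs : Algebra.FormallySmooth A (BB A (LinearMap.ker π) a) := formallySmooth_BB hprojK
  obtain ⟨e₁⟩ := exists_kaehler_split (R := R) (A := A) (B := BB A (LinearMap.ker π) a)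
  let e₂ : ((BB A (LinearMap.ker π) a ⊗[A] Ω[A⁄R]) × Ω[BB A (LinearMap.ker π) a⁄A]) ≃ₗ[BB A (LinearMap.ker π) a]
      ((BB A (LinearMap.ker π) a ⊗[A] Ω[A⁄R]) × (BB A (LinearMap.ker π) a ⊗[A] (LinearMap.ker π))) :=
    LinearEquiv.prodCongr (LinearEquiv.refl _ _) (kaehlerEquiv A (LinearMap.ker π) a)
  let e₃ : ((BB A (LinearMap.ker π) a ⊗[A] Ω[A⁄R]) × (BB A (LinearMap.ker π) a ⊗[A] (LinearMap.ker π))) ≃ₗ[BB A (LinearMap.ker π) a]
      (BB A (LinearMap.ker π) a ⊗[A] (Ω[A⁄R] × (LinearMap.ker π))) :=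
    (TensorProduct.prodRight A (BB A (LinearMap.ker π) a) (BB A (LinearMap.ker π) a) Ω[A⁄R] (LinearMap.ker π)).symm
  let e₄ : (BB A (LinearMap.ker π) a ⊗[A] (Ω[A⁄R] × (LinearMap.ker π))) ≃ₗ[BB A (LinearMap.ker π) a]
      (BB A (LinearMap.ker π) a ⊗[A'] (A' ⊗[A] (Ω[A⁄R] × (LinearMap.ker π)))) :=
    (TensorProduct.AlgebraTensorModule.cancelBaseChange A A' (BB A (LinearMap.ker π) a) (BB A (LinearMap.ker π) a)
      (Ω[A⁄R] × (LinearMap.ker π))).symm
  have hfree : Module.Free A' (A' ⊗[A] (Ω[A⁄R] × (LinearMap.ker π))) := free_prod π hπ a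
  exact Module.Free.of_equiv (e₁ ≪≫ₗ e₂ ≪≫ₗ e₃ ≪≫ₗ e₄).symm

end Main

end Groth.Agent.H91.SymAway
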