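import Groth.Agent.H91.SymAwayE
import Groth.Agent.H91.StdRetractE

/-!
# A finitely presented algebra has a retract-cover with free differentials on the smooth locus
(helper91)
-/

set_option autoImplicit false
set_option backward.isDefEq.respectTransparency.types true
universe u
open KaehlerDifferential TensorProduct

namespace Groth.Agent.H91.SymAway

section FT

variable {A : Type u} [CommRing A] {K : Type u} [AddCommGroup K] [Module A K]

theorem finiteType_symmetricAlgebra [Module.Finite A K] :
    Algebra.FiniteType A (SymmetricAlgebra A K) := by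
  classical
  obtain ⟨m, g, hg⟩ := Module.Finite.exists_fin' A K
  let φ : MvPolynomial (Fin m) A →ₐ[A] SymmetricAlgebra A K :=
    MvPolynomial.aeval fun j => SymmetricAlgebra.ι A K (g (Pi.single j 1))
  refine Algebra.FiniteType.of_surjective φ ?_
  intro x
  induction x using SymmetricAlgebra.induction with
  | algebraMap r => exact ⟨MvPolynomial.C r, by simp [φ]⟩
  | ι k =>
    obtain ⟨v, rfl⟩ := hg k
    refine ⟨∑ j, MvPolynomial.C (v j) * MvPolynomial.X j, ?_⟩
    have hv : v = ∑ j, v j • (Pi.single j 1 : Fin m → A) := by
      ext l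
      simp [Finset.sum_apply, Pi.single_apply]
    conv_rhs => rw [hv]
    rw [map_sum, map_sum, map_sum]
    refine Finset.sum_congr rfl fun j _ => ?_
    rw [map_mul, map_smul, map_smul, Algebra.smul_def]
    simp only [φ, MvPolynomial.aeval_X, MvPolynomial.aeval_C]
  | mul x y hx hy =>
    obtain ⟨p, rfl⟩ := hx
    obtain ⟨q, rfl⟩ := hy
    exact ⟨p * q, map_mul _ _ _⟩
  | add x y hx hy =>
    obtain ⟨p, rfl⟩ := hx
    obtain ⟨q, rfl⟩ := hy
    exact ⟨p + q, map_add _ _ _⟩

end FT

section Main

variable {R A : Type u} [CommRing R] [CommRing A] [Algebra R A]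

theorem exists_retract_free_kaehler [Algebra.FinitePresentation R A] :
    ∃ (C : Type u) (_ : CommRing C) (_ : Algebra A C) (_ : Algebra R C) (_ : IsScalarTower R A C),
      Algebra.FiniteType A C ∧ Nonempty (C →ₐ[A] A) ∧
      ∀ a : A, Algebra.Smooth R (Localization.Away a) →
        Module.Free (Localization.Away (algebraMap A C a)) Ω[Localization.Away (algebraMap A C a)⁄R] := by
  classical
  obtain ⟨n, f, hf⟩ := Algebra.FiniteType.iff_quotient_mvPolynomial''.mp
    (inferInstance : Algebra.FiniteType R A)
  let π : (Fin n → A) →ₗ[A] Ω[A⁄R] :=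
    (Pi.basisFun A (Fin n)).constr A fun i => D R A (f (MvPolynomial.X i))
  have hπ : ∀ i, π (Pi.single i 1) = D R A (f (MvPolynomial.X i)) := by
    intro i
    have := (Pi.basisFun A (Fin n)).constr_basis A (fun i => D R A (f (MvPolynomial.X i))) i
    rwa [Pi.basisFun_apply] at this
  have hπsurj : Function.Surjective π := by
    rw [← LinearMap.range_eq_top, eq_top_iff, ← StdRetract.span_D_generators f hf,
      Submodule.span_le]
    rintro _ ⟨i, rfl⟩
    exact ⟨Pi.single i 1, hπ i⟩
  have hKfg : (LinearMap.ker π).FG := Module.FinitePresentation.fg_ker π hπsurj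
  have hKfin : Module.Finite A (LinearMap.ker π) := Module.Finite.iff_fg.mpr hKfg
  refine ⟨SymmetricAlgebra A (LinearMap.ker π), inferInstance, inferInstance, inferInstance,
    inferInstance, finiteType_symmetricAlgebra, ⟨SymmetricAlgebra.algebraMapInv⟩, ?_⟩
  intro a ha
  have : Algebra.FormallySmooth R (Localization.Away a) := ha.formallySmooth
  exact free_kaehler π hπsurj a

end Main

end Groth.Agent.H91.SymAway
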