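import Mathlib

/-!
In `Over S` (for a category with pullbacks) with the over-topology of a Grothendieck topology:
`tensorLeft C` is continuous, hence `T ↦ Hom (C ⊗ T, X)` is a sheaf for subcanonical topologies.
-/

set_option autoImplicit false
universe u
open CategoryTheory Limits AlgebraicGeometry MonoidalCategory CartesianMonoidalCategory Opposite

namespace Groth.Agent.H91

variable {S : Scheme.{u}}

/-- `C ⊗ -` on `Over S` is base change to `C` followed by forgetting back to `S`. -/
noncomputable def tensorLeftIso (C : Over S) :
    tensorLeft C ≅ Over.pullback C.hom ⋙ Over.map C.hom :=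
  NatIso.ofComponents
    (fun T => Over.isoMk (pullbackSymmetry C.hom T.hom) (by
      change (pullbackSymmetry C.hom T.hom).hom ≫ pullback.snd T.hom C.hom ≫ C.hom =
        pullback.fst C.hom T.hom ≫ C.hom
      rw [← Category.assoc, pullbackSymmetry_hom_comp_snd]))
    (by
      intro T T' t
      ext
      change (C ◁ t).left ≫ (pullbackSymmetry C.hom T'.hom).hom =
        (pullbackSymmetry C.hom T.hom).hom ≫
          pullback.lift (pullback.fst T.hom C.hom ≫ t.left) (pullback.snd T.hom C.hom) _
      apply pullback.hom_ext
      · rw [Category.assoc, pullbackSymmetry_hom_comp_fst, Category.assoc, pullback.lift_fst,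
          ← Category.assoc, pullbackSymmetry_hom_comp_fst]
        exact Over.whiskerLeft_left_snd t
      · rw [Category.assoc, pullbackSymmetry_hom_comp_snd, Category.assoc, pullback.lift_snd,
          pullbackSymmetry_hom_comp_snd]
        exact Over.whiskerLeft_left_fst t)

instance tensorLeft_isContinuous (J : GrothendieckTopology Scheme.{u}) (C : Over S) :
    (tensorLeft C).IsContinuous (J.over S) (J.over S) := by
  have : (Over.pullback C.hom ⋙ Over.map C.hom).IsContinuous (J.over S) (J.over S) :=
    Functor.isContinuous_comp _ _ _ (J.over C.left) _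
  exact Functor.isContinuous_of_iso (tensorLeftIso C).symm _ _

/-- `T ↦ Hom (C ⊗ T, X)` is a sheaf for a subcanonical topology. -/
theorem isSheaf_tensorLeft_yoneda (J : GrothendieckTopology Scheme.{u}) [J.Subcanonical]
    (C X : Over S) :
    Presieve.IsSheaf (J.over S) ((tensorLeft C).op ⋙ yoneda.obj X) :=
  Functor.op_comp_isSheaf_of_isSheaf_type _ _
    (GrothendieckTopology.Subcanonical.isSheaf_of_isRepresentable (J := J.over S) (yoneda.obj X))

/-- `T ↦ Hom (A ⊗ (B ⊗ T), X)` is a sheaf for a subcanonical topology. -/
theorem isSheaf_tensorLeft_tensorLeft_yoneda (J : GrothendieckTopology Scheme.{u}) [J.Subcanonical]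
    (A B X : Over S) :
    Presieve.IsSheaf (J.over S) ((tensorLeft B ⋙ tensorLeft A).op ⋙ yoneda.obj X) := by
  have : (tensorLeft B ⋙ tensorLeft A).IsContinuous (J.over S) (J.over S) :=
    Functor.isContinuous_comp _ _ _ (J.over S) _
  exact Functor.op_comp_isSheaf_of_isSheaf_type _ _
    (GrothendieckTopology.Subcanonical.isSheaf_of_isRepresentable (J := J.over S) (yoneda.obj X))

end Groth.Agent.H91
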