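import Mathlib

/-!
Square-zero thickenings of affine schemes: nilpotency of the kernel of `Spec.map` of a surjection
with square-zero kernel, and uniqueness of lifts for formally unramified morphisms along the base
change of such a thickening to an affine scheme.
-/

set_option autoImplicit false
universe u
open CategoryTheory Limits AlgebraicGeometry

namespace Groth.Agent.H91

lemma isNilpotent_ker_SpecMap {B B' : CommRingCat.{u}} (φ : B ⟶ B')
    (h : RingHom.ker φ.hom ^ 2 = ⊥) : IsNilpotent (Spec.map φ).ker := by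
  refine ⟨2, ?_⟩
  rw [Scheme.ker_of_isAffine]
  have hnat := Scheme.ΓSpecIso_naturality φ
  have happ : (Spec.map φ).appTop = (Scheme.ΓSpecIso B).hom ≫ φ ≫ (Scheme.ΓSpecIso B').inv := by
    rw [← Category.assoc, ← hnat, Category.assoc, Iso.hom_inv_id, Category.comp_id]
  have hle : RingHom.ker (Spec.map φ).appTop.hom ≤
      (RingHom.ker φ.hom).comap (Scheme.ΓSpecIso B).hom.hom := by
    intro x hx
    rw [RingHom.mem_ker, happ] at hx
    simp only [CommRingCat.hom_comp, RingHom.comp_apply] at hx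
    rw [Ideal.mem_comap, RingHom.mem_ker]
    have hinj := (ConcreteCategory.bijective_of_isIso (Scheme.ΓSpecIso B').inv).1
    apply hinj
    rw [map_zero]
    exact hx
  have hK : RingHom.ker (Spec.map φ).appTop.hom ^ 2 = ⊥ := by
    rw [eq_bot_iff]
    refine (Ideal.pow_right_mono hle 2).trans ?_
    refine (Ideal.le_comap_pow _ 2).trans ?_
    rw [h]
    intro x hx
    rw [Ideal.mem_comap, Ideal.mem_bot] at hx
    have hinj := (ConcreteCategory.bijective_of_isIso (Scheme.ΓSpecIso B).hom).1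
    rw [Ideal.mem_bot]
    apply hinj
    rw [map_zero]
    exact hx
  have e : Scheme.IdealSheafData.ofIdealTop (RingHom.ker (Spec.map φ).appTop.hom) =
      Scheme.IdealSheafData.equivOfIsAffine.symm (RingHom.ker (Spec.map φ).appTop.hom) := rfl
  rw [e, ← map_pow, hK]
  exact map_zero _


/-- Uniqueness of lifts along the base change of a square-zero thickening of affine schemes to an
affine scheme, for formally unramified morphisms. -/
lemma hom_ext_of_formallyUnramified_of_isPullback {P P₀ X Y : Scheme.{u}} [IsAffine P]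
    (A : Type u) [CommRing A] (I : Ideal A) (hI : I ^ 2 = ⊥)
    (s : P ⟶ Spec (CommRingCat.of A)) (i₀ : P₀ ⟶ P) (s₀ : P₀ ⟶ Spec (CommRingCat.of (A ⧸ I)))
    (sq : IsPullback i₀ s₀ s (Spec.map (CommRingCat.ofHom (Ideal.Quotient.mk I))))
    (f : X ⟶ Y) [FormallyUnramified f] {g₁ g₂ : P ⟶ X} (hig : i₀ ≫ g₁ = i₀ ≫ g₂)
    (hgf : g₁ ≫ f = g₂ ≫ f) : g₁ = g₂ := by
  let e := P.isoSpec
  let β : CommRingCat.of A ⟶ Γ(P, ⊤) := Spec.preimage (e.inv ≫ s)
  have hβ : Spec.map β = e.inv ≫ s := Spec.map_preimage _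
  let J : Ideal Γ(P, ⊤) := I.map β.hom
  have hJ : J ^ 2 = ⊥ := by
    rw [← Ideal.map_pow, hI, Ideal.map_bot]
  let φ : Γ(P, ⊤) ⟶ CommRingCat.of (Γ(P, ⊤) ⧸ J) := CommRingCat.ofHom (Ideal.Quotient.mk J)
  have hker : RingHom.ker φ.hom ^ 2 = ⊥ := by
    have : RingHom.ker φ.hom = J := Ideal.mk_ker
    rw [this, hJ]
  have hnil := isNilpotent_ker_SpecMap φ hker
  have hsurj : Function.Surjective φ.hom := Ideal.Quotient.mk_surjective
  have : IsClosedImmersion (Spec.map φ) := IsClosedImmersion.spec_of_surjective φ hsurj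
  -- the map to the thickened-down fibre
  let κ : Spec (CommRingCat.of (Γ(P, ⊤) ⧸ J)) ⟶ Spec (CommRingCat.of (A ⧸ I)) :=
    Spec.map (CommRingCat.ofHom (Ideal.quotientMap J β.hom Ideal.le_comap_map))
  have hcompat : (Spec.map φ ≫ e.inv) ≫ s = κ ≫ Spec.map (CommRingCat.ofHom (Ideal.Quotient.mk I)) := by
    rw [Category.assoc, ← hβ, ← Spec.map_comp, ← Spec.map_comp]
    congr 1
  let k := sq.lift (Spec.map φ ≫ e.inv) κ hcompat
  have hk : k ≫ i₀ = Spec.map φ ≫ e.inv := sq.lift_fst _ _ _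
  have key := FormallyUnramified.hom_ext (Spec.map φ) hnil f
    (g₁ := e.inv ≫ g₁) (g₂ := e.inv ≫ g₂)
    (by rw [← Category.assoc, ← hk, Category.assoc, hig, ← Category.assoc, hk, Category.assoc])
    (by rw [Category.assoc, hgf, Category.assoc])
  exact (cancel_epi e.inv).mp key


/-- Version of `hom_ext_of_formallyUnramified_of_isPullback` for a general surjection with
square-zero kernel. -/
lemma hom_ext_of_formallyUnramified_of_isPullback' {P P₀ X Y : Scheme.{u}} [IsAffine P]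
    {A A' : CommRingCat.{u}} (ψ : A ⟶ A') (hψ : Function.Surjective ψ.hom)
    (hI : RingHom.ker ψ.hom ^ 2 = ⊥)
    (s : P ⟶ Spec A) (i₀ : P₀ ⟶ P) (s₀ : P₀ ⟶ Spec A')
    (sq : IsPullback i₀ s₀ s (Spec.map ψ))
    (f : X ⟶ Y) [FormallyUnramified f] {g₁ g₂ : P ⟶ X} (hig : i₀ ≫ g₁ = i₀ ≫ g₂)
    (hgf : g₁ ≫ f = g₂ ≫ f) : g₁ = g₂ := by
  let e := P.isoSpec
  let β : A ⟶ Γ(P, ⊤) := Spec.preimage (e.inv ≫ s)
  have hβ : Spec.map β = e.inv ≫ s := Spec.map_preimage _
  let J : Ideal Γ(P, ⊤) := (RingHom.ker ψ.hom).map β.hom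
  have hJ : J ^ 2 = ⊥ := by
    rw [← Ideal.map_pow, hI, Ideal.map_bot]
  let φ : Γ(P, ⊤) ⟶ CommRingCat.of (Γ(P, ⊤) ⧸ J) := CommRingCat.ofHom (Ideal.Quotient.mk J)
  have hker : RingHom.ker φ.hom ^ 2 = ⊥ := by
    have : RingHom.ker φ.hom = J := Ideal.mk_ker
    rw [this, hJ]
  have hnil := isNilpotent_ker_SpecMap φ hker
  have hsurj : Function.Surjective φ.hom := Ideal.Quotient.mk_surjective
  have : IsClosedImmersion (Spec.map φ) := IsClosedImmersion.spec_of_surjective φ hsurj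
  -- the induced ring map `A' → Γ(P) / J`
  have hle : RingHom.ker ψ.hom ≤ RingHom.ker ((Ideal.Quotient.mk J).comp β.hom) := by
    intro x hx
    rw [RingHom.mem_ker, RingHom.comp_apply, Ideal.Quotient.eq_zero_iff_mem]
    exact Ideal.mem_map_of_mem _ hx
  let θ : A'.carrier →+* (Γ(P, ⊤) ⧸ J) :=
    RingHom.liftOfSurjective ψ.hom hψ ⟨(Ideal.Quotient.mk J).comp β.hom, hle⟩
  have hθ : θ.comp ψ.hom = (Ideal.Quotient.mk J).comp β.hom :=
    RingHom.liftOfSurjective_comp ψ.hom hψ ⟨(Ideal.Quotient.mk J).comp β.hom, hle⟩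
  let κ : Spec (CommRingCat.of (Γ(P, ⊤) ⧸ J)) ⟶ Spec A' := Spec.map (CommRingCat.ofHom θ)
  have hcompat : (Spec.map φ ≫ e.inv) ≫ s = κ ≫ Spec.map ψ := by
    rw [Category.assoc, ← hβ, ← Spec.map_comp, ← Spec.map_comp]
    congr 1
    ext x
    exact (congrArg (fun h => h x) hθ).symm
  let k := sq.lift (Spec.map φ ≫ e.inv) κ hcompat
  have hk : k ≫ i₀ = Spec.map φ ≫ e.inv := sq.lift_fst _ _ _
  have key := FormallyUnramified.hom_ext (Spec.map φ) hnil f
    (g₁ := e.inv ≫ g₁) (g₂ := e.inv ≫ g₂)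
    (by rw [← Category.assoc, ← hk, Category.assoc, hig, ← Category.assoc, hk, Category.assoc])
    (by rw [Category.assoc, hgf, Category.assoc])
  exact (cancel_epi e.inv).mp key

end Groth.Agent.H91
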