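import Mathlib
import Groth.Prelude.Def_W4c5m1nsnscurvesC
import Groth.Prelude.Def_W4c5m1nsnscurvesI

/-!
The defining relations of `URing R m` and of the curve algebra `CurveAlg R m v`, as equations.
-/

set_option autoImplicit false
universe u
open W4c5m1nsnscurves MvPolynomial

namespace Groth.Agent.H91.URingRel

variable (R : Type u) [CommRing R] (m : ℕ)

lemma mk_eq_zero {p : MvPolynomial (UGen m) R} (hp : p ∈ URel R m) :
    Ideal.Quotient.mk (Ideal.span (URel R m)) p = 0 :=
  Ideal.Quotient.eq_zero_iff_mem.mpr (Ideal.subset_span hp)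

lemma urel_lin (i j : Fin m) (h : i ≠ j) :
    ugen R m (.cij i j h) + ugen R m (.cij j i h.symm) =
      ugen R m .a + ugen R m (.ci i) + ugen R m (.cbi i) + ugen R m (.ci j) + ugen R m (.cbi j) := by
  have := mk_eq_zero R m (p := X (.cij i j h) + X (.cij j i h.symm) -
      (X .a + X (.ci i) + X (.cbi i) + X (.ci j) + X (.cbi j))) (by
    simp only [URel, Set.mem_union, Set.mem_range]
    exact Or.inl (Or.inl (Or.inl ⟨⟨(i, j), h⟩, rfl⟩)))
  simp only [map_sub, map_add] at this
  exact sub_eq_zero.mp this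

lemma urel_c (i j : Fin m) (h : i ≠ j) :
    ugen R m (.cij j i h.symm) * ugen R m (.ci j) + ugen R m (.cij i j h) * ugen R m (.ci i) -
      ugen R m (.ci i) * ugen R m (.ci j) = ugen R m .c := by
  have := mk_eq_zero R m (p := X (.cij j i h.symm) * X (.ci j) + X (.cij i j h) * X (.ci i) -
      X (.ci i) * X (.ci j) - X .c) (by
    simp only [URel, Set.mem_union, Set.mem_range]
    exact Or.inl (Or.inl (Or.inr ⟨⟨(i, j), h⟩, rfl⟩)))
  simp only [map_sub, map_add, map_mul] at this
  exact sub_eq_zero.mp this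

lemma urel_cb (i j : Fin m) (h : i ≠ j) :
    ugen R m (.cij j i h.symm) * ugen R m (.cbi i) + ugen R m (.cij i j h) * ugen R m (.cbi j) -
      ugen R m (.cbi i) * ugen R m (.cbi j) = ugen R m .cb := by
  have := mk_eq_zero R m (p := X (.cij j i h.symm) * X (.cbi i) + X (.cij i j h) * X (.cbi j) -
      X (.cbi i) * X (.cbi j) - X .cb) (by
    simp only [URel, Set.mem_union, Set.mem_range]
    exact Or.inl (Or.inr ⟨⟨(i, j), h⟩, rfl⟩))
  simp only [map_sub, map_add, map_mul] at this
  exact sub_eq_zero.mp this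

lemma urel_t (i j k : Fin m) (hij : i ≠ j) (hjk : j ≠ k) (hik : i ≠ k) :
    ugen R m (.cij i j hij) * ugen R m (.cij j k hjk) +
      ugen R m (.cij j i hij.symm) * ugen R m (.cij i k hik) -
      ugen R m (.cij i k hik) * ugen R m (.cij j k hjk) +
      (ugen R m .a + ugen R m (.ci k) + ugen R m (.cbi k)) * ugen R m (.ci k) = ugen R m .c := by
  have := mk_eq_zero R m (p := X (.cij i j hij) * X (.cij j k hjk) +
      X (.cij j i hij.symm) * X (.cij i k hik) - X (.cij i k hik) * X (.cij j k hjk) +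
      (X .a + X (.ci k) + X (.cbi k)) * X (.ci k) - X .c) (by
    simp only [URel, Set.mem_union, Set.mem_range]
    exact Or.inr ⟨⟨(i, j, k), hij, hjk, hik⟩, rfl⟩)
  simp only [map_sub, map_add, map_mul] at this
  exact sub_eq_zero.mp this

section curve

variable {R m} (v : UGen m → R)

/-- class of a variable -/
noncomputable def cx (y : CVar m) : CurveAlg R m v :=
  Ideal.Quotient.mk (Ideal.span (CRel R m v)) (X y)

/-- class of a constant -/
noncomputable def ck (r : R) : CurveAlg R m v :=
  Ideal.Quotient.mk (Ideal.span (CRel R m v)) (C r)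

lemma ck_eq (r : R) : ck v r = algebraMap R (CurveAlg R m v) r := rfl

lemma cmk_eq_zero {p : MvPolynomial (CVar m) R} (hp : p ∈ CRel R m v) :
    Ideal.Quotient.mk (Ideal.span (CRel R m v)) p = 0 :=
  Ideal.Quotient.eq_zero_iff_mem.mpr (Ideal.subset_span hp)

lemma crel1 (i : Fin m) : cx v .x2 * cx v (.xi i) =
    cx v .x2 * cx v .x3 + ck v (v (.ci i)) * cx v (.xi i) + ck v (v (.cbi i)) * cx v .x2 -
      ck v (v .c) := by
  have := cmk_eq_zero v (p := X .x2 * X (.xi i) -
      (X .x2 * X .x3 + C (v (.ci i)) * X (.xi i) + C (v (.cbi i)) * X .x2 - C (v .c))) (by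
    simp only [CRel, Set.mem_union, Set.mem_range]
    exact Or.inl (Or.inl ⟨i, rfl⟩))
  simp only [map_sub, map_add, map_mul] at this
  exact sub_eq_zero.mp this

lemma crel2 (i : Fin m) : cx v .x3 * cx v (.xi i) =
    cx v .x2 * cx v .x3 + (ck v (v .a) + ck v (v (.ci i)) + ck v (v (.cbi i))) *
      (cx v (.xi i) - ck v (v (.cbi i))) + ck v (v .cb) - ck v (v .c) := by
  have := cmk_eq_zero v (p := X .x3 * X (.xi i) -
      (X .x2 * X .x3 + C (v .a + v (.ci i) + v (.cbi i)) * (X (.xi i) - C (v (.cbi i))) +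
        C (v .cb) - C (v .c))) (by
    simp only [CRel, Set.mem_union, Set.mem_range]
    exact Or.inl (Or.inr ⟨i, rfl⟩))
  simp only [map_sub, map_add, map_mul] at this
  exact sub_eq_zero.mp this

lemma crel3 (i j : Fin m) (h : i ≠ j) : cx v (.xi i) * cx v (.xi j) =
    cx v .x2 * cx v .x3 + ck v (v (.cij i j h)) * cx v (.xi j) +
      ck v (v (.cij j i h.symm)) * cx v (.xi i) - ck v (v .c) := by
  have := cmk_eq_zero v (p := X (.xi i) * X (.xi j) -
      (X .x2 * X .x3 + C (v (.cij i j h)) * X (.xi j) +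
        C (v (.cij j i h.symm)) * X (.xi i) - C (v .c))) (by
    simp only [CRel, Set.mem_union, Set.mem_range]
    exact Or.inr ⟨⟨(i, j), h⟩, rfl⟩)
  simp only [map_sub, map_add, map_mul] at this
  exact sub_eq_zero.mp this

end curve

end Groth.Agent.H91.URingRel
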