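import Mathlib

/-!
# Unramified over a polynomial ring at a point (helper91)

If `B` is a finite type `A`-algebra, `q` a prime of `B` and `r = dim_κ(q) κ(q) ⊗ Ω_{B/A}`, then there
are `b₁, …, b_r ∈ B` such that `B` is unramified over `A[x₁, …, x_r]` (via `x_i ↦ b_i`) at `q`.
-/

set_option autoImplicit false
universe u v
open scoped TensorProduct

namespace Groth.Agent.H91.UnramPoly

section

variable (A : Type u) (B : Type v) [CommRing A] [CommRing B] [Algebra A B]

/-- The elements `1 ⊗ d b` span `κ ⊗ Ω_{B/A}`. -/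
theorem span_one_tmul_D (κ : Type*) [Field κ] [Algebra B κ] :
    Submodule.span κ (Set.range fun b : B => (1 : κ) ⊗ₜ[B] KaehlerDifferential.D A B b) = ⊤ := by
  have h := Submodule.baseChange_span (R := B) (M := Ω[B⁄A]) κ (Set.range (KaehlerDifferential.D A B))
  rw [KaehlerDifferential.span_range_derivation, Submodule.baseChange_top] at h
  rw [h, ← Set.range_comp]
  rfl

/-- Choice of `r` elements whose differentials form a spanning family of the fibre. -/
theorem exists_fin_span (κ : Type*) [Field κ] [Algebra B κ] [Module.Finite κ (κ ⊗[B] Ω[B⁄A])] (r : ℕ)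
    (hr : Module.finrank κ (κ ⊗[B] Ω[B⁄A]) = r) :
    ∃ b : Fin r → B,
      Submodule.span κ (Set.range fun i => (1 : κ) ⊗ₜ[B] KaehlerDifferential.D A B (b i)) = ⊤ := by
  have hS_top := span_one_tmul_D A B κ
  obtain ⟨f, hf, hspan, -⟩ := Submodule.exists_fun_fin_finrank_span_eq κ
    (Set.range fun b : B => (1 : κ) ⊗ₜ[B] KaehlerDifferential.D A B b)
  have hcard : Module.finrank κ (Submodule.span κ
      (Set.range fun b : B => (1 : κ) ⊗ₜ[B] KaehlerDifferential.D A B b)) = r := by
    rw [hS_top, finrank_top, hr]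
  choose g hg using hf
  refine ⟨fun i => g (Fin.cast hcard.symm i), ?_⟩
  have : (fun i => (1 : κ) ⊗ₜ[B] KaehlerDifferential.D A B (g (Fin.cast hcard.symm i))) =
      f ∘ (Fin.cast hcard.symm) := by
    funext i; exact hg _
  have hsurj : Function.Surjective (Fin.cast hcard.symm) := (finCongr hcard.symm).surjective
  rw [this, hsurj.range_comp, hspan, hS_top]

end

section

variable {A : Type u} {B : Type v} [CommRing A] [CommRing B] [Algebra A B] [Algebra.FiniteType A B]

/-- If the `1 ⊗ d (b i)` span the fibre `κ(q) ⊗ Ω_{B/A}`, then `B` is unramified at `q` over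
`A[x_i]` mapping to `B` by `x_i ↦ b i`. -/
theorem isUnramifiedAt_of_span {ι : Type*} (b : ι → B) (q : Ideal B) [q.IsPrime]
    (hb : Submodule.span q.ResidueField
      (Set.range fun i => (1 : q.ResidueField) ⊗ₜ[B] KaehlerDifferential.D A B (b i)) = ⊤) :
    letI := (MvPolynomial.aeval b : MvPolynomial ι A →ₐ[A] B).toRingHom.toAlgebra
    Algebra.IsUnramifiedAt (MvPolynomial ι A) q := by
  let _ : Algebra (MvPolynomial ι A) B :=
    (MvPolynomial.aeval b : MvPolynomial ι A →ₐ[A] B).toRingHom.toAlgebra
  have : IsScalarTower A (MvPolynomial ι A) B :=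
    IsScalarTower.of_algebraMap_eq' (MvPolynomial.aeval b : MvPolynomial ι A →ₐ[A] B).comp_algebraMap.symm
  have : Algebra.FiniteType (MvPolynomial ι A) B := Algebra.FiniteType.of_restrictScalars_finiteType A _ _
  change (⟨q, inferInstance⟩ : PrimeSpectrum B) ∈ Algebra.unramifiedLocus (MvPolynomial ι A) B
  rw [Algebra.unramifiedLocus_eq_compl_support, Set.mem_compl_iff,
    Module.mem_support_iff_nontrivial_residueField_tensorProduct, not_nontrivial_iff_subsingleton]
  -- the surjection κ ⊗ Ω[B/A] → κ ⊗ Ω[B/A[x]]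
  let g : Ω[B⁄A] →ₗ[B] Ω[B⁄MvPolynomial ι A] := KaehlerDifferential.map A (MvPolynomial ι A) B B
  have hg : Function.Surjective g := KaehlerDifferential.map_surjective A (MvPolynomial ι A) B
  let G : q.ResidueField ⊗[B] Ω[B⁄A] →ₗ[q.ResidueField] q.ResidueField ⊗[B] Ω[B⁄MvPolynomial ι A] :=
    g.baseChange q.ResidueField
  have hG : Function.Surjective G := by
    have : Function.Surjective (g.lTensor q.ResidueField) := LinearMap.lTensor_surjective _ hg
    exact this
  have hG0 : G = 0 := by
    apply LinearMap.ext_on hb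
    rintro _ ⟨i, rfl⟩
    change G ((1 : q.ResidueField) ⊗ₜ[B] KaehlerDifferential.D A B (b i)) = 0
    rw [LinearMap.baseChange_tmul]
    have : g (KaehlerDifferential.D A B (b i)) =
        KaehlerDifferential.D (MvPolynomial ι A) B (b i) := by
      simp [g]
    rw [this]
    have hbi : b i = algebraMap (MvPolynomial ι A) B (MvPolynomial.X i) := by
      change b i = MvPolynomial.aeval b (MvPolynomial.X i)
      simp
    rw [hbi, Derivation.map_algebraMap, TensorProduct.tmul_zero]
  refine ⟨fun x y => ?_⟩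
  obtain ⟨x', rfl⟩ := hG x
  obtain ⟨y', rfl⟩ := hG y
  simp [hG0]

end

end Groth.Agent.H91.UnramPoly
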